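import Groth.Agent.AlgStLib.Diag
import Groth.Agent.FibBase.Repr

/-!
# The diagonal of a functor representable by algebraic spaces
-/

set_option backward.isDefEq.respectTransparency false
set_option backward.isDefEq.respectTransparency.types false

universe u

open CategoryTheory CategoryTheory.Functor CategoryTheory.Limits AlgebraicGeometry Opposite AlgSp

namespace Groth.Agent.AlgStLib

open Groth.Agent.FibBase Groth.Agent.AlgSpLib

variable {S : Scheme.{u}} {𝒳 𝒴 : AlgSt.Cat S} {P : MorphismProperty (Sp S)}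

theorem locallyQuasiFinite_of_unr {X Y : Scheme.{u}} (f : X ⟶ Y) [LocallyOfFiniteType f] [FormallyUnramified f] :
    LocallyQuasiFinite f := by
  rw [HasRingHomProperty.iff_appLE (P := @LocallyQuasiFinite)]
  intro U V e
  have h1 : (f.appLE U V e).hom.FiniteType := HasRingHomProperty.appLE (P := @LocallyOfFiniteType) f ‹_› U V e
  have h2 : (f.appLE U V e).hom.FormallyUnramified :=
    HasRingHomProperty.appLE (P := @FormallyUnramified) f ‹_› U V e
  algebraize [(f.appLE U V e).hom]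
  rw [RingHom.QuasiFinite]
  infer_instance

theorem unr_le_lqf : unr (S := S) ≤ lqf := fun F G a ha => locP_mono (fun X Y g hg => by
  obtain ⟨_, _⟩ := hg
  exact ⟨locallyQuasiFinite_of_unr g, inferInstance⟩) ha

/-- Compatibility of diagonals with a square. -/
def diagMapIso {𝒳' 𝒴' : AlgSt.Cat S} {f : 𝒳 ⥤ᵇ 𝒴} {f' : 𝒳' ⥤ᵇ 𝒴'} (a : 𝒳' ⥤ᵇ 𝒳) (c : 𝒴' ⥤ᵇ 𝒴)
    (i : BasedFunctor.comp a f ≅ BasedFunctor.comp f' c) :
    BasedFunctor.comp (FibCat.diag f') (fpMap (F := f) (G := f) (F' := f') (G' := f') i i.symm) ≅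
      BasedFunctor.comp a (FibCat.diag f) :=
  BasedNatIso.mkNatIso
    (NatIso.ofComponents
      (fun x => fpIsoMk
        (x := (BasedFunctor.comp (FibCat.diag f') (fpMap (F := f) (G := f) (F' := f') (G' := f') i i.symm)).obj x)
        (y := (BasedFunctor.comp a (FibCat.diag f)).obj x) (Iso.refl _) (Iso.refl _) (by
          show f.map (𝟙 (a.obj x)) ≫ 𝟙 _ =
            ((isoApp i x).hom ≫ c.map (𝟙 (f'.obj x)) ≫ (isoApp i x).inv) ≫ f.map (𝟙 (a.obj x))
          rw [c.toFunctor.map_id]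
          refine Eq.trans ?_ (congrArg (fun m => m ≫ f.map (𝟙 (a.obj x)))
            ((congrArg (fun m => (isoApp i x).hom ≫ m) (Category.id_comp _)).trans (isoApp i x).hom_inv_id).symm)
          exact (Category.comp_id _).trans (Category.id_comp _).symm))
      (fun {x z} φ => by
        refine ObjectProperty.hom_ext _ (CategoricalPullback.hom_ext ?_ ?_)
        · show a.map φ ≫ 𝟙 _ = 𝟙 _ ≫ a.map φ
          simp
        · show a.map φ ≫ 𝟙 _ = 𝟙 _ ≫ a.map φ
          simp))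
    (fun x => fp_isHomLift (F := f) (G := f) (𝟙 (𝒳'.p.obj x)) _
      (h := IsHomLift.id (p := 𝒳.p) (a.w_obj x)))

theorem repByAlgSpWith_diag_ofSpMap (hPb : StableBC P) {F G : Sp S} (hF : IsAlgSpace F) (hG : IsAlgSpace G)
    (a : F ⟶ G) (h : P (pullback.diagonal a)) : AlgSt.RepByAlgSpWith P (FibCat.diag (AlgSt.ofSpMap a)) := by
  have hH := isAlgSpace_pullback hF hF hG a a
  have hd : RepBySpWith P (pullback.diagonal a).hom := (repBySpWith_hom_iff P _).2 fun V ξ H fst snd sq =>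
    have hH' := isAlgSpace_of_isPullback sq hF (IsAlgSpace.yon_obj V) hH
    ⟨hH', hPb hF hH hH' (IsAlgSpace.yon_obj V) _ ξ snd fst sq h⟩
  let sq := (IsPullback.of_hasPullback a a).map (sheafToPresheaf (J S) (Type (u + 1)))
  let c : AlgSt.ofSp (pullback a a) ⥤ᵇ FibCat.fp (AlgSt.ofSpMap a) (AlgSt.ofSpMap a) := pshCone sq.w
  refine (repByAlgSpWith_iff_of_square (f := FibCat.diag (AlgSt.ofSpMap a))
    (f' := AlgSt.ofSpMap (pullback.diagonal a)) (a := BasedFunctor.id _) (b := c) isEquivOver_id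
    (pshCone_isEquivOver sq) ?_).2 (repByAlgSpWith_of_repBySpWith hd)
  refine BasedNatIso.mkNatIso (NatIso.ofComponents (fun x => fpIsoMk
      (x := (BasedFunctor.comp (AlgSt.ofSpMap (pullback.diagonal a)) c).obj x)
      (y := (FibCat.diag (AlgSt.ofSpMap a)).obj x) (eltIso (Iso.refl _) ?_) (eltIso (Iso.refl _) ?_) ?_)
      (fun {x z} φ => ?_)) (fun x => ?_)
  · exact (res_id F.obj (𝟙 x.base) rfl _).trans
      (congrArg (fun m : F ⟶ F => m.hom.app (op x.base) x.sec) (pullback.diagonal_fst a)).symm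
  · exact (res_id F.obj (𝟙 x.base) rfl _).trans
      (congrArg (fun m : F ⟶ F => m.hom.app (op x.base) x.sec) (pullback.diagonal_snd a)).symm
  · refine Stk.EltObj.hom_ext ?_
    show 𝟙 x.base ≫ 𝟙 x.base = eqToHom (rfl : x.base = x.base) ≫ 𝟙 x.base
    simp
  · refine ObjectProperty.hom_ext _ (CategoricalPullback.hom_ext ?_ ?_)
    · refine Stk.EltObj.hom_ext ?_
      show φ.hom ≫ 𝟙 _ = 𝟙 _ ≫ φ.hom
      simp
    · refine Stk.EltObj.hom_ext ?_
      show φ.hom ≫ 𝟙 _ = 𝟙 _ ≫ φ.hom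
      simp
  · refine fp_isHomLift (F := AlgSt.ofSpMap a) (G := AlgSt.ofSpMap a) (𝟙 x.base) _ (h := ?_)
    refine isHomLift_id_of_map_eq (p := (AlgSt.ofSp F).p) ?_ ?_ ?_
    · rfl
    · rfl
    · rfl

/-- A property of all diagonals of morphisms of algebraic spaces holds for the diagonal of every functor
representable by algebraic spaces. -/
theorem repByAlgSpWith_diag_of_repByAlgSp1 (hPb : StableBC P) {f : 𝒳 ⥤ᵇ 𝒴} (hf : AlgSt.RepByAlgSp1 f)
    (hd : ∀ {F : Sp S} {U : Over S} (a : F ⟶ (yon S).obj U), IsAlgSpace F →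
      (∀ y : FibCat.overCat U ⥤ᵇ 𝒴, ∀ e : AlgSt.ofSp F ⥤ᵇ FibCat.fp y f, FibCat.IsEquivOver e →
        AlgSt.spMapOfOver (BasedFunctor.comp e (FibCat.fpFst y f)) = a → P (pullback.diagonal a))) :
    AlgSt.RepByAlgSpWith P (FibCat.diag f) := by
  intro U y
  let y₀ : FibCat.overCat U ⥤ᵇ 𝒴 := BasedFunctor.comp (BasedFunctor.comp y (FibCat.fpFst f f)) f
  obtain ⟨F, e, he⟩ := hf U y₀
  let q := FibCat.fpFst y₀ f
  let a := AlgSt.spMapOfOver (BasedFunctor.comp e q)
  let i : BasedFunctor.comp e q ≅ BasedFunctor.comp (AlgSt.ofSpMap a) (AlgSt.toOverCat U) := isoSpMapOfOver _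
  have h₀ := repByAlgSpWith_diag_ofSpMap hPb F.property (IsAlgSpace.yon_obj U) a
    (hd a F.property y₀ e he rfl)
  have := full_of_isEquivOver (isEquivOver_toOverCat U)
  have := faithful_of_isEquivOver (isEquivOver_toOverCat U)
  have hq : AlgSt.RepByAlgSpWith P (FibCat.diag q) :=
    (repByAlgSpWith_iff_of_square (f := FibCat.diag q) (f' := FibCat.diag (AlgSt.ofSpMap a)) (a := e)
      (b := fpMap (F := q) (G := q) (F' := AlgSt.ofSpMap a) (G' := AlgSt.ofSpMap a) i i.symm) he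
      (fpMap_isEquivOver _ _ he he) (diagMapIso e (AlgSt.toOverCat U) i)).2 h₀
  let G := FibCat.fpSnd (FibCat.fpSnd y₀ f) (FibCat.fpFst f f)
  have hG : AlgSt.RepByAlgSpWith P (FibCat.fpFst G (FibCat.diag f)) :=
    (repByAlgSpWith_iff_of_square (f' := FibCat.diag q) (f := FibCat.fpFst G (FibCat.diag f))
      (diagPullback_isEquivOver f y₀) (sqLift_isEquivOver f y₀) (diagLiftIso f y₀)).2 hq
  let p₁ : FibCat.overCat U ⥤ᵇ FibCat.fp y₀ f :=
    FibCat.fpLift (BasedFunctor.id _) (BasedFunctor.comp y (FibCat.fpFst f f)) (Iso.refl y₀)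
  let σ : FibCat.overCat U ⥤ᵇ FibCat.fp (FibCat.fpSnd y₀ f) (FibCat.fpFst f f) :=
    FibCat.fpLift p₁ y (Iso.refl _)
  exact RepOver.of_equiv (hG U σ) (pasteVert σ G (FibCat.diag f)) (pasteVert_isEquivOver σ G _) (Iso.refl _)

end Groth.Agent.AlgStLib
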