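import Groth.Prelude.Def_AlgSt
import Groth.Agent.AlgSpLib.Sheaf

/-!
# Gluing sheaves over a scheme along a covering sieve
-/

set_option backward.isDefEq.respectTransparency false
set_option backward.isDefEq.respectTransparency.types false

universe u

open CategoryTheory CategoryTheory.Limits Opposite AlgebraicGeometry AlgSp Groth.Agent.AlgSpLib

namespace Groth.Agent.AlgStLib.SheafGlue

variable {S : Scheme.{u}}

/-- A natural assignment on points is a morphism of sheaves. -/
def homOfPoints {P Z : Sp S} (Φ : ∀ W, ((yon S).obj W ⟶ P) → ((yon S).obj W ⟶ Z))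
    (hΦ : ∀ ⦃V W : Over S⦄ (k : V ⟶ W) (x : (yon S).obj W ⟶ P),
      Φ V ((yon S).map k ≫ x) = (yon S).map k ≫ Φ W x) : P ⟶ Z where
  hom :=
    { app := fun W => TypeCat.ofHom fun s => (J S).uliftYonedaEquiv (Φ W.unop ((J S).uliftYonedaEquiv.symm s))
      naturality := fun W V k => by
        ext s
        show (J S).uliftYonedaEquiv (Φ V.unop ((J S).uliftYonedaEquiv.symm (P.obj.map k s))) =
          Z.obj.map k.unop.op ((J S).uliftYonedaEquiv (Φ W.unop ((J S).uliftYonedaEquiv.symm s)))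
        rw [uliftYonedaEquiv_precomp, ← hΦ,
          show (yon S).map k.unop ≫ (J S).uliftYonedaEquiv.symm s =
            (J S).uliftYonedaEquiv.symm (P.obj.map k s) from GrothendieckTopology.uliftYonedaEquiv_symm_naturality_left ..] }

theorem comp_homOfPoints {P Z : Sp S} (Φ : ∀ W, ((yon S).obj W ⟶ P) → ((yon S).obj W ⟶ Z)) (hΦ) {W : Over S}
    (x : (yon S).obj W ⟶ P) : x ≫ homOfPoints Φ hΦ = Φ W x := by
  apply (J S).uliftYonedaEquiv.injective
  rw [GrothendieckTopology.uliftYonedaEquiv_comp]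
  show (J S).uliftYonedaEquiv (Φ W ((J S).uliftYonedaEquiv.symm ((J S).uliftYonedaEquiv x))) = _
  rw [Equiv.symm_apply_apply]

theorem hom_ext_points {P Z : Sp S} {φ ψ : P ⟶ Z} (h : ∀ W (x : (yon S).obj W ⟶ P), x ≫ φ = x ≫ ψ) : φ = ψ := by
  refine ObjectProperty.hom_ext _ (NatTrans.ext (funext fun W => ?_))
  ext s
  have := congrArg (J S).uliftYonedaEquiv (h W.unop ((J S).uliftYonedaEquiv.symm s))
  rwa [GrothendieckTopology.uliftYonedaEquiv_comp, GrothendieckTopology.uliftYonedaEquiv_comp,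
    Equiv.apply_symm_apply] at this

/-- A compatible family of points on a covering sieve glues. -/
theorem existsUnique_glue {Z : Sp S} {W : Over S} {T : Sieve W} (hT : T ∈ J S W)
    (m : ∀ ⦃V : Over S⦄ (k : V ⟶ W), T k → ((yon S).obj V ⟶ Z))
    (hm : ∀ ⦃V' V : Over S⦄ (g : V' ⟶ V) (k : V ⟶ W) (hk : T k),
      m (g ≫ k) (T.downward_closed hk g) = (yon S).map g ≫ m k hk) :
    ∃! x : (yon S).obj W ⟶ Z, ∀ ⦃V : Over S⦄ (k : V ⟶ W) (hk : T k), (yon S).map k ≫ x = m k hk := by
  let fam : Presieve.FamilyOfElements Z.obj T.arrows := fun V k hk => (J S).uliftYonedaEquiv (m k hk)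
  have hfam : fam.Compatible := by
    rw [Presieve.compatible_iff_sieveCompatible]
    intro V V' k g hk
    show (J S).uliftYonedaEquiv (m (g ≫ k) _) = Z.obj.map g.op ((J S).uliftYonedaEquiv (m k hk))
    rw [uliftYonedaEquiv_precomp, hm]
  obtain ⟨s, hs, hu⟩ := (((isSheaf_iff_isSheaf_of_type _ _).1 Z.property) T hT) fam hfam
  refine ⟨(J S).uliftYonedaEquiv.symm s, fun V k hk => (J S).uliftYonedaEquiv.injective ?_, fun x hx => ?_⟩
  · rw [← uliftYonedaEquiv_precomp, Equiv.apply_symm_apply]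
    exact hs k hk
  · rw [Equiv.eq_symm_apply]
    refine hu _ fun V k hk => ?_
    rw [uliftYonedaEquiv_precomp, hx k hk]

variable {U : Over S} {R : Sieve U}

/-- An object of a sieve. -/
abbrev ob {V : Over S} (f : V ⟶ U) (hf : R f) : (Stk.sieveCat R).obj := ⟨Over.mk f, hf⟩

/-- The arrow of objects of a sieve given by a factorisation. -/
abbrev arr {a b : (Stk.sieveCat R).obj} (k : a.obj.left ⟶ b.obj.left) (w : k ≫ b.obj.hom = a.obj.hom) : a ⟶ b :=
  ObjectProperty.homMk (Over.homMk k w)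

variable (D : (Stk.sieveCat R).obj ⥤ Sp S) (πD : ∀ a, D.obj a ⟶ (yon S).obj a.obj.left)

/-- A diagram of sheaves over the arrows of a sieve whose transition squares are cartesian. -/
def IsCartesianDiagram : Prop :=
  ∀ ⦃a b : (Stk.sieveCat R).obj⦄ (φ : a ⟶ b), IsPullback (D.map φ) (πD a) (πD b) ((yon S).map φ.hom.left)

/-- A sheaf over the base restricting to a given diagram. -/
structure IsGlued (P : Sp S) (π : P ⟶ (yon S).obj U) (e : ∀ a, D.obj a ⟶ P) : Prop where
  nat : ∀ ⦃a b : (Stk.sieveCat R).obj⦄ (φ : a ⟶ b), D.map φ ≫ e b = e a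
  sq : ∀ a, IsPullback (e a) (πD a) π ((yon S).map a.obj.hom)

variable {D πD}

theorem IsGlued.exists_desc {P : Sp S} {π : P ⟶ (yon S).obj U} {e : ∀ a, D.obj a ⟶ P}
    (hg : IsGlued D πD P π e) (hR : R ∈ J S U) (hD : IsCartesianDiagram D πD) {Z : Sp S} (f : ∀ a, D.obj a ⟶ Z)
    (hf : ∀ ⦃a b : (Stk.sieveCat R).obj⦄ (φ : a ⟶ b), D.map φ ≫ f b = f a) :
    ∃! ψ : P ⟶ Z, ∀ a, e a ≫ ψ = f a := by
  choose t ht using fun (W : Over S) (x : (yon S).obj W ⟶ P) => (yon S).map_surjective (x ≫ π)
  let y : ∀ (W : Over S) (x : (yon S).obj W ⟶ P) (V : Over S) (k : V ⟶ W) (hk : R (k ≫ t W x)),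
      (yon S).obj V ⟶ D.obj (ob _ hk) := fun W x V k hk => (hg.sq _).lift ((yon S).map k ≫ x) (𝟙 _)
    (by rw [Category.assoc, ← ht, Category.id_comp, ← Functor.map_comp]; rfl)
  have hy : ∀ W x V k hk, y W x V k hk ≫ e _ = (yon S).map k ≫ x := fun W x V k hk => (hg.sq _).lift_fst _ _ _
  have hy' : ∀ W x V k hk, y W x V k hk ≫ πD _ = 𝟙 _ := fun W x V k hk => (hg.sq _).lift_snd _ _ _
  have key : ∀ {W : Over S} (x : (yon S).obj W ⟶ P) (a : (Stk.sieveCat R).obj) (k : a.obj.left ⟶ W)
      (w : k ≫ t W x = a.obj.hom) (z : (yon S).obj a.obj.left ⟶ D.obj a), z ≫ e a = (yon S).map k ≫ x →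
      z ≫ πD a = 𝟙 _ → y W x a.obj.left k (w ▸ a.property) ≫ f _ = z ≫ f a := fun {W} x a k w z h1 h2 => by
    let j : a ⟶ ob (k ≫ t W x) (w ▸ a.property) := arr (𝟙 _) ((Category.id_comp _).trans w)
    have : z ≫ D.map j = y W x a.obj.left k (w ▸ a.property) := by
      refine (hg.sq _).hom_ext ?_ ?_
      · rw [Category.assoc, hg.nat, h1, hy]
      · rw [Category.assoc, (hD j).w, hy', reassoc_of% h2]
        exact (yon S).map_id _
    rw [← this, Category.assoc, hf]
  have hglue : ∀ (W : Over S) (x : (yon S).obj W ⟶ P), ∃! r : (yon S).obj W ⟶ Z, ∀ ⦃V : Over S⦄ (k : V ⟶ W)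
      (hk : (R.pullback (t W x)) k), (yon S).map k ≫ r = y W x V k hk ≫ f _ := fun W x => by
    refine existsUnique_glue ((J S).pullback_stable (t W x) hR) _ fun V' V g k hk => ?_
    let b := ob (k ≫ t W x) hk
    let a : (Stk.sieveCat R).obj := ob (g ≫ k ≫ t W x) (R.downward_closed hk g)
    let φ : a ⟶ b := arr g rfl
    let z : (yon S).obj V' ⟶ D.obj a := (hD φ).lift ((yon S).map g ≫ y W x V k hk) (𝟙 _)
      (by rw [Category.assoc, hy', Category.comp_id, Category.id_comp]; rfl)
    have hz : z ≫ D.map φ = (yon S).map g ≫ y W x V k hk := (hD φ).lift_fst _ _ _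
    refine (key x a (g ≫ k) (Category.assoc _ _ _) z
      (by rw [← hg.nat φ, reassoc_of% hz, hy, Functor.map_comp_assoc]) ((hD φ).lift_snd _ _ _)).trans ?_
    rw [← hf φ, reassoc_of% hz]
  choose r hr hru using hglue
  let ψ : P ⟶ Z := homOfPoints r fun V W k x => by
    refine hom_ext_of_covering _ _ ((J S).pullback_stable (t V ((yon S).map k ≫ x)) hR) fun V' g hgm => ?_
    have htk : t V ((yon S).map k ≫ x) = k ≫ t W x :=
      (yon S).map_injective (by rw [ht, Category.assoc, ← ht, Functor.map_comp])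
    have hgm' : (R.pullback (t W x)) (g ≫ k) := by
      show R ((g ≫ k) ≫ t W x)
      rw [Category.assoc, ← htk]; exact hgm
    rw [hr V _ g hgm, ← Functor.map_comp_assoc, hr W x (g ≫ k) hgm']
    exact (key x (ob _ hgm) (g ≫ k) (by simp [htk]) _ (by rw [hy, Functor.map_comp_assoc]) (hy' _ _ _ _ _)).symm
  refine ⟨ψ, fun a => hom_ext_points fun W x => ?_, fun ψ' h' => hom_ext_points fun W x => ?_⟩
  · rw [← Category.assoc, comp_homOfPoints]
    refine hom_ext_of_covering _ _ ((J S).pullback_stable (t W (x ≫ e a)) hR) fun V g hgm => ?_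
    rw [hr W _ g hgm]
    obtain ⟨v, hv⟩ := (yon S).map_surjective (x ≫ πD a)
    have htv : t W (x ≫ e a) = v ≫ a.obj.hom :=
      (yon S).map_injective (by rw [ht, Category.assoc, (hg.sq a).w, ← Category.assoc, ← hv, Functor.map_comp])
    let φ : ob (g ≫ t W (x ≫ e a)) hgm ⟶ a := arr (g ≫ v) (by simp [htv])
    have hφy : y W _ V g hgm ≫ D.map φ = (yon S).map g ≫ x := by
      refine (hg.sq a).hom_ext ?_ ?_
      · rw [Category.assoc, hg.nat, hy, Category.assoc]
      · rw [Category.assoc, (hD φ).w, reassoc_of% (hy' W (x ≫ e a) V g hgm), Category.assoc, ← hv,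
          ← Functor.map_comp]
        rfl
    rw [← hf φ, reassoc_of% hφy]
  · rw [comp_homOfPoints]
    refine hru W x (x ≫ ψ') fun V k hk => ?_
    rw [← Category.assoc, ← hy W x V k hk, Category.assoc, h']

/-- The unique morphism out of a glued sheaf with given restrictions. -/
theorem IsGlued.hom_ext {P : Sp S} {π : P ⟶ (yon S).obj U} {e : ∀ a, D.obj a ⟶ P}
    (hg : IsGlued D πD P π e) (hR : R ∈ J S U) (hD : IsCartesianDiagram D πD) {Z : Sp S} {φ ψ : P ⟶ Z}
    (h : ∀ a, e a ≫ φ = e a ≫ ψ) : φ = ψ :=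
  (hg.exists_desc hR hD (fun a => e a ≫ ψ) fun a b j => by rw [← Category.assoc, hg.nat]).unique h fun _ => rfl

/-- A morphism of glued sheaves compatible with the restrictions is invertible. -/
theorem IsGlued.isIso_of_comp {P P' : Sp S} {π : P ⟶ (yon S).obj U} {e : ∀ a, D.obj a ⟶ P}
    {π' : P' ⟶ (yon S).obj U} {e' : ∀ a, D.obj a ⟶ P'}
    (hg : IsGlued D πD P π e) (hg' : IsGlued D πD P' π' e') (hR : R ∈ J S U) (hD : IsCartesianDiagram D πD)
    (ψ : P ⟶ P') (h : ∀ a, e a ≫ ψ = e' a) : IsIso ψ := by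
  obtain ⟨χ, hχ, -⟩ := hg'.exists_desc hR hD e hg.nat
  exact ⟨χ, hg.hom_ext hR hD fun a => by rw [reassoc_of% (h a), hχ, Category.comp_id],
    hg'.hom_ext hR hD fun a => by rw [reassoc_of% (hχ a), h, Category.comp_id]⟩

section Object

variable (D πD)

/-- A section of the glued sheaf. -/
structure Sec (W : Over S) : Type (u + 1) where
  t : W ⟶ U
  s : ∀ (a : (Stk.sieveCat R).obj) (g : a.obj.left ⟶ W), g ≫ t = a.obj.hom → ((yon S).obj a.obj.left ⟶ D.obj a)
  sec : ∀ a g h, s a g h ≫ πD a = 𝟙 _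
  comp : ∀ ⦃a b : (Stk.sieveCat R).obj⦄ (φ : a ⟶ b) (g : b.obj.left ⟶ W) (hb : g ≫ t = b.obj.hom)
    (ha : (φ.hom.left ≫ g) ≫ t = a.obj.hom), (yon S).map φ.hom.left ≫ s b g hb = s a (φ.hom.left ≫ g) ha ≫ D.map φ

variable {D πD}

theorem Sec.ext' {W : Over S} {x y : Sec D πD W} (ht : x.t = y.t)
    (hs : ∀ a g (h : g ≫ x.t = a.obj.hom) (h' : g ≫ y.t = a.obj.hom), x.s a g h = y.s a g h') : x = y := by
  obtain ⟨t, s, _, _⟩ := x
  obtain ⟨t', s', _, _⟩ := y
  obtain rfl : t = t' := ht
  obtain rfl : s = s' := funext fun a => funext fun g => funext fun h => hs a g h h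
  rfl

theorem Sec.s_congr {W : Over S} (x : Sec D πD W) {a : (Stk.sieveCat R).obj} {g g' : a.obj.left ⟶ W} (e : g = g')
    (h : g ≫ x.t = a.obj.hom) (h' : g' ≫ x.t = a.obj.hom) : x.s a g h = x.s a g' h' := by
  subst e; rfl

theorem Sec.comp' {W : Over S} (x : Sec D πD W) {a b : (Stk.sieveCat R).obj} (φ : a ⟶ b) {g : b.obj.left ⟶ W}
    (hb : g ≫ x.t = b.obj.hom) {g' : a.obj.left ⟶ W} (ha : g' ≫ x.t = a.obj.hom) (e : g' = φ.hom.left ≫ g) :
    (yon S).map φ.hom.left ≫ x.s b g hb = x.s a g' ha ≫ D.map φ := by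
  subst e; exact x.comp φ g hb ha

/-- Restriction of sections. -/
def Sec.res {W W' : Over S} (h : W' ⟶ W) (x : Sec D πD W) : Sec D πD W' where
  t := h ≫ x.t
  s a g w := x.s a (g ≫ h) ((Category.assoc _ _ _).trans w)
  sec a g w := x.sec _ _ _
  comp a b φ g hb ha := x.comp' φ _ _ (Category.assoc _ _ _)

variable (D πD) in
/-- The presheaf of sections. -/
def presheaf : (Over S)ᵒᵖ ⥤ Type (u + 1) where
  obj W := Sec D πD W.unop
  map h := TypeCat.ofHom (Sec.res h.unop)
  map_id W := by
    ext x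
    exact Sec.ext' (Category.id_comp _) fun a g h h' => Sec.s_congr x (Category.comp_id g) _ _
  map_comp h k := by
    ext x
    exact Sec.ext' (Category.assoc _ _ _) fun a g _ _ => Sec.s_congr x (Category.assoc g _ _).symm _ _

theorem res_s {W W' : Over S} (h : W' ⟶ W) (x : Sec D πD W) (a : (Stk.sieveCat R).obj) (g : a.obj.left ⟶ W')
    (w : g ≫ (Sec.res h x).t = a.obj.hom) (w' : (g ≫ h) ≫ x.t = a.obj.hom) :
    (Sec.res h x).s a g w = x.s a (g ≫ h) w' := rfl

variable (hD : IsCartesianDiagram D πD)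

include hD in
theorem isSheaf_presheaf : Presheaf.IsSheaf (J S) (presheaf D πD) := by
  rw [isSheaf_iff_isSheaf_of_type]
  intro W T hT
  rw [← Presieve.isSeparatedFor_and_exists_isAmalgamation_iff_isSheafFor]
  refine ⟨fun fam x y hx hy => ?_, fun fam hfam => ?_⟩
  · have hxy : ∀ ⦃V : Over S⦄ (k : V ⟶ W), T k → Sec.res k x = Sec.res k y :=
      fun V k hk => (hx k hk).trans (hy k hk).symm
    have ht : x.t = y.t := (yon S).map_injective (hom_ext_of_covering _ _ hT fun V k hk => by
      rw [← Functor.map_comp, ← Functor.map_comp]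
      exact congrArg (yon S).map (congrArg Sec.t (hxy k hk)))
    refine Sec.ext' ht fun a g h h' => hom_ext_of_covering _ _ ((J S).pullback_stable g hT) fun V k hk => ?_
    let b : (Stk.sieveCat R).obj := ob (k ≫ a.obj.hom) (R.downward_closed a.property k)
    let φ : b ⟶ a := arr k rfl
    have e : ∀ z : Sec D πD W, ∀ hz : g ≫ z.t = a.obj.hom, ∀ hz' : 𝟙 V ≫ (Sec.res (k ≫ g) z).t = b.obj.hom,
        (yon S).map k ≫ z.s a g hz = (Sec.res (k ≫ g) z).s b (𝟙 V) hz' ≫ D.map φ := fun z hz hz' =>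
      z.comp' φ hz ((Category.assoc _ _ _).trans hz') (Category.id_comp _)
    rw [e x h ((Category.id_comp _).trans ((Category.assoc k g x.t).trans (congrArg (k ≫ ·) h))),
      e y h' ((Category.id_comp _).trans ((Category.assoc k g y.t).trans (congrArg (k ≫ ·) h')))]
    have hsc : ∀ z z' : Sec D πD V, z = z' → ∀ h1 h2, z.s b (𝟙 V) h1 = z'.s b (𝟙 V) h2 := by
      rintro z _ rfl h1 h2; rfl
    rw [hsc _ _ (hxy (k ≫ g) hk)]
  · have hc : ∀ ⦃V' V : Over S⦄ (g : V' ⟶ V) (k : V ⟶ W) (hk : T k),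
        fam (g ≫ k) (T.downward_closed hk g) = Sec.res g (fam k hk) :=
      fun V' V g k hk => (Presieve.compatible_iff_sieveCompatible fam).1 hfam k g hk
    have hc' : ∀ ⦃V' V : Over S⦄ (g : V' ⟶ V) (k : V ⟶ W) (hk : T k) (m : V' ⟶ W) (hm : T m), m = g ≫ k →
        fam m hm = Sec.res g (fam k hk) := by
      rintro V' V g k hk m hm rfl
      exact hc g k hk
    have hsc : ∀ {V : Over S} {z z' : Sec D πD V}, z = z' → ∀ (b : (Stk.sieveCat R).obj) g h1 h2,
        z.s b g h1 = z'.s b g h2 := by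
      rintro V z _ rfl b g h1 h2; rfl
    obtain ⟨tm, htm, -⟩ := existsUnique_glue (Z := (yon S).obj U) hT (fun V k hk => (yon S).map (fam k hk).t)
      fun V' V g k hk => by
        rw [← Functor.map_comp]
        exact congrArg (yon S).map (congrArg Sec.t (hc g k hk))
    obtain ⟨t, rfl⟩ := (yon S).map_surjective tm
    have ht : ∀ ⦃V : Over S⦄ (k : V ⟶ W) (hk : T k), (fam k hk).t = k ≫ t := fun V k hk =>
      (yon S).map_injective (by rw [Functor.map_comp]; exact (htm k hk).symm)
    have hw : ∀ (a : (Stk.sieveCat R).obj) (g : a.obj.left ⟶ W) (w : g ≫ t = a.obj.hom) ⦃V : Over S⦄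
        (k : V ⟶ a.obj.left) (hk : T.pullback g k), (fam (k ≫ g) hk).t = k ≫ a.obj.hom := fun a g w V k hk =>
      (ht _ hk).trans ((Category.assoc _ _ _).trans (congrArg (k ≫ ·) w))
    -- sections over an object of the sieve
    let z : ∀ (a : (Stk.sieveCat R).obj) (g : a.obj.left ⟶ W) (w : g ≫ t = a.obj.hom) ⦃V : Over S⦄
        (k : V ⟶ a.obj.left), T.pullback g k → ((yon S).obj V ⟶ D.obj a) := fun a g w V k hk =>
      (fam (k ≫ g) hk).s (ob (k ≫ a.obj.hom) (R.downward_closed a.property k)) (𝟙 V)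
        ((Category.id_comp _).trans (hw a g w k hk)) ≫ D.map (arr k rfl)
    -- sections do not depend on the presentation
    have hz : ∀ (a : (Stk.sieveCat R).obj) (g : a.obj.left ⟶ W) (w : g ≫ t = a.obj.hom) ⦃V V' : Over S⦄
        (k : V ⟶ a.obj.left) (hk : T.pullback g k) (b : (Stk.sieveCat R).obj) (φ : b ⟶ a) (l : b.obj.left ⟶ V)
        (_ : l ≫ k = φ.hom.left) (hb : l ≫ (fam (k ≫ g) hk).t = b.obj.hom),
        (yon S).map l ≫ z a g w k hk = (fam (k ≫ g) hk).s b l hb ≫ D.map φ := fun a g w V V' k hk b φ l e hb => by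
      let j : b ⟶ ob (k ≫ a.obj.hom) (R.downward_closed a.property k) :=
        arr l (by rw [← Over.w φ.hom, ← e]; exact (Category.assoc _ _ _).symm)
      have : φ = j ≫ (arr k rfl : _ ⟶ a) := ObjectProperty.hom_ext _ (Over.OverMorphism.ext e.symm)
      rw [this, D.map_comp, ← Category.assoc, ← Category.assoc]
      exact congrArg (· ≫ D.map (arr k rfl)) ((fam (k ≫ g) hk).comp' j _ hb (Category.comp_id _).symm)
    have hex : ∀ (a : (Stk.sieveCat R).obj) (g : a.obj.left ⟶ W) (w : g ≫ t = a.obj.hom),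
        ∃! r : (yon S).obj a.obj.left ⟶ D.obj a, ∀ ⦃V : Over S⦄ (k : V ⟶ a.obj.left) (hk : T.pullback g k),
          (yon S).map k ≫ r = z a g w k hk := fun a g w => by
      refine existsUnique_glue ((J S).pullback_stable g hT) _ fun V' V l k hk => ?_
      let b : (Stk.sieveCat R).obj := ob ((l ≫ k) ≫ a.obj.hom) (R.downward_closed a.property _)
      have hb : l ≫ (fam (k ≫ g) hk).t = b.obj.hom :=
        (congrArg (l ≫ ·) (hw a g w k hk)).trans (Category.assoc _ _ _).symm
      refine Eq.trans ?_ (hz a g w k hk (V' := V') b (arr (l ≫ k) rfl) l rfl hb).symm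
      refine congrArg (· ≫ D.map (arr (l ≫ k) rfl : b ⟶ a)) ?_
      have hb' : 𝟙 V' ≫ (Sec.res l (fam (k ≫ g) hk)).t = b.obj.hom := (Category.id_comp _).trans hb
      exact (hsc (hc' l (k ≫ g) hk ((l ≫ k) ≫ g) _ (Category.assoc _ _ _)) b (𝟙 V') _ hb').trans
        (Sec.s_congr (fam (k ≫ g) hk) (Category.id_comp l) _ _)
    choose s hs hsu using hex
    have hzπ : ∀ a g w ⦃V : Over S⦄ (k : V ⟶ a.obj.left) hk, z a g w (V := V) k hk ≫ πD a = (yon S).map k :=
      fun a g w V k hk => by
        refine (Category.assoc _ _ _).trans ((congrArg (_ ≫ ·) (hD _).w).trans ?_)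
        exact (Category.assoc _ _ _).symm.trans ((congrArg (· ≫ _) ((fam (k ≫ g) hk).sec _ _ _)).trans
          (Category.id_comp _))
    let x : Sec D πD W :=
      { t := t
        s := s
        sec := fun a g w => hom_ext_of_covering _ _ ((J S).pullback_stable g hT) fun V k hk => by
          rw [← Category.assoc, hs a g w k hk, hzπ _ _ w]
          exact (Category.comp_id _).symm
        comp := fun a b φ g hb ha => by
          refine hom_ext_of_covering _ _ ((J S).pullback_stable (φ.hom.left ≫ g) hT) fun V k hk => ?_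
          have hk' : T.pullback g (k ≫ φ.hom.left) := by
            show T ((k ≫ φ.hom.left) ≫ g)
            rw [Category.assoc]; exact hk
          rw [← Functor.map_comp_assoc, hs b g hb _ hk', ← Category.assoc, hs a _ ha k hk]
          let c : (Stk.sieveCat R).obj := ob (k ≫ a.obj.hom) (R.downward_closed a.property k)
          let α : c ⟶ a := arr k rfl
          have h1 : (fam (k ≫ φ.hom.left ≫ g) hk).t = k ≫ a.obj.hom := hw a (φ.hom.left ≫ g) ha k hk
          have h2 : 𝟙 V ≫ (fam ((k ≫ φ.hom.left) ≫ g) hk').t = c.obj.hom := (Category.id_comp _).trans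
            ((hw b g hb _ hk').trans ((Category.assoc _ _ _).trans (congrArg (k ≫ ·) (Over.w φ.hom))))
          refine ((Category.id_comp _).symm.trans ((congrArg (· ≫ _) ((yon S).map_id V).symm).trans
            (hz b g hb (V' := V) _ hk' c (α ≫ φ) (𝟙 V) (Category.id_comp _) h2))).trans ?_
          rw [D.map_comp, ← Category.assoc]
          refine congrArg (· ≫ D.map φ) (congrArg (· ≫ D.map α) ?_)
          refine (hsc ((hc' (𝟙 V) _ hk ((k ≫ φ.hom.left) ≫ g) hk' (by simp)).trans
            (hc' (𝟙 V) _ hk _ hk (Category.id_comp _).symm).symm) c (𝟙 V) _ _) }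
    refine ⟨x, fun V h hh => Sec.ext' (ht h hh).symm fun a g w w' =>
      hom_ext_of_covering (T := a.obj.left) _ _ ((J S).pullback_stable (g ≫ h) hT) fun V' k hk => ?_⟩
    refine (hs a (g ≫ h) _ k hk).trans ?_
    let c : (Stk.sieveCat R).obj := ob (k ≫ a.obj.hom) (R.downward_closed a.property k)
    let α : c ⟶ a := arr k rfl
    have h3 : (k ≫ g) ≫ (fam h hh).t = c.obj.hom := (Category.assoc _ _ _).trans (congrArg (k ≫ ·) w')
    refine Eq.trans ?_ ((fam h hh).comp' α w' h3 rfl).symm
    refine congrArg (· ≫ D.map α) ?_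
    exact (hsc (hc' (k ≫ g) h hh _ hk (Category.assoc _ _ _).symm) c (𝟙 V') _
      (((Category.id_comp _).trans rfl).trans ((Category.assoc _ _ _).symm.trans h3))).trans
      (Sec.s_congr (fam h hh) (Category.id_comp _) _ _)

variable (D πD) in
/-- The glued sheaf. -/
def gluedSheaf : Sp S := ⟨presheaf D πD, isSheaf_presheaf hD⟩

theorem gluedSheaf_map {W V : Over S} (k : V ⟶ W) (x : Sec D πD W) :
    (gluedSheaf D πD hD).obj.map k.op x = Sec.res k x := rfl

/-- The projection of the glued sheaf. -/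
def gluedπ : gluedSheaf D πD hD ⟶ (yon S).obj U where
  hom :=
    { app := fun W => TypeCat.ofHom fun x : Sec D πD W.unop => ⟨x.t⟩
      naturality := fun W V k => rfl }

/-- The section of the glued sheaf given by a point of a member. -/
noncomputable def secOf (b : (Stk.sieveCat R).obj) {W : Over S} (q : (yon S).obj W ⟶ D.obj b) : Sec D πD W where
  t := (yon S).preimage (q ≫ πD b) ≫ b.obj.hom
  s a g w := (hD (arr (g ≫ (yon S).preimage (q ≫ πD b)) ((Category.assoc _ _ _).trans w) : a ⟶ b)).lift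
    ((yon S).map g ≫ q) (𝟙 _) ((Category.assoc _ _ _).trans ((congrArg (_ ≫ ·) (Functor.map_preimage (yon S) _).symm).trans
      (((yon S).map_comp _ _).symm.trans (Category.id_comp _).symm)))
  sec a g w := (hD _).lift_snd _ _ _
  comp a a' φ g hb ha := by
    refine (hD (arr (g ≫ (yon S).preimage (q ≫ πD b)) ((Category.assoc _ _ _).trans hb) : a' ⟶ b)).hom_ext ?_ ?_
    · rw [Category.assoc, IsPullback.lift_fst, Category.assoc, ← D.map_comp, ← Functor.map_comp_assoc]
      refine Eq.symm (Eq.trans (congrArg (_ ≫ D.map ·) ?_) (IsPullback.lift_fst _ _ _ _))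
      exact ObjectProperty.hom_ext _ (Over.OverMorphism.ext (Category.assoc _ _ _).symm)
    · rw [Category.assoc, IsPullback.lift_snd, Category.assoc, (hD φ).w, IsPullback.lift_snd_assoc,
        Category.comp_id, Category.id_comp]

/-- The comparison maps into the glued sheaf. -/
noncomputable def gluedE (b : (Stk.sieveCat R).obj) : D.obj b ⟶ gluedSheaf D πD hD :=
  homOfPoints (fun W q => (J S).uliftYonedaEquiv.symm (secOf hD b q : Sec D πD W))
    fun V W k q => by
      apply (J S).uliftYonedaEquiv.injective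
      rw [Equiv.apply_symm_apply, ← uliftYonedaEquiv_precomp, Equiv.apply_symm_apply, gluedSheaf_map]
      have hp : (yon S).preimage (((yon S).map k ≫ q) ≫ πD b) = k ≫ (yon S).preimage (q ≫ πD b) :=
        (yon S).map_injective (by simp)
      refine Sec.ext' ((congrArg (· ≫ b.obj.hom) hp).trans (Category.assoc _ _ _)) fun a g w w' => ?_
      refine (hD (arr ((g ≫ k) ≫ (yon S).preimage (q ≫ πD b))
        ((Category.assoc _ _ _).trans ((Category.assoc _ _ _).trans w')) : a ⟶ b)).hom_ext ?_ ?_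
      · refine Eq.trans ?_ (IsPullback.lift_fst _ _ _ _).symm
        refine (congrArg (_ ≫ D.map ·) ?_).trans ((IsPullback.lift_fst _ _ _ _).trans ?_)
        · exact ObjectProperty.hom_ext _ (Over.OverMorphism.ext
            ((Category.assoc _ _ _).trans (congrArg (g ≫ ·) hp.symm)))
        · rw [Functor.map_comp, Category.assoc]
      · exact (IsPullback.lift_snd _ _ _ _).trans (IsPullback.lift_snd _ _ _ _).symm

theorem uliftYonedaEquiv_gluedE (b : (Stk.sieveCat R).obj) {W : Over S} (q : (yon S).obj W ⟶ D.obj b) :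
    (J S).uliftYonedaEquiv (q ≫ gluedE hD b) = secOf hD b q := by
  rw [gluedE, comp_homOfPoints, Equiv.apply_symm_apply]

include hD in
/-- Every cartesian diagram over a sieve glues. -/
theorem exists_glued : ∃ (P : Sp S) (π : P ⟶ (yon S).obj U) (e : ∀ a, D.obj a ⟶ P), IsGlued D πD P π e := by
  let E : ∀ (b : (Stk.sieveCat R).obj) (W : Over S) (q : (yon S).obj W ⟶ D.obj b), Sec D πD W :=
    fun b W q => secOf hD b q
  have hEt : ∀ b W q, (E b W q).t = (yon S).preimage (q ≫ πD b) ≫ b.obj.hom := fun b W q => rfl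
  have hEs : ∀ b W q a g h, (E b W q).s a g h ≫ D.map (arr (g ≫ (yon S).preimage (q ≫ πD b))
      ((Category.assoc _ _ _).trans h) : a ⟶ b) = (yon S).map g ≫ q :=
    fun b W q a g h => IsPullback.lift_fst _ _ _ _
  have hπ : ∀ (W : Over S) (x : (yon S).obj W ⟶ gluedSheaf D πD hD),
      x ≫ gluedπ hD = (yon S).map ((J S).uliftYonedaEquiv x : Sec D πD W).t := fun W x => by
    apply (J S).uliftYonedaEquiv.injective
    rw [GrothendieckTopology.uliftYonedaEquiv_comp, GrothendieckTopology.uliftYonedaEquiv_uliftYoneda_map]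
    rfl
  refine ⟨gluedSheaf D πD hD, gluedπ hD, gluedE hD, ⟨fun a b φ => hom_ext_points fun W q => ?_, fun b => ?_⟩⟩
  · apply (J S).uliftYonedaEquiv.injective
    rw [← Category.assoc, uliftYonedaEquiv_gluedE, uliftYonedaEquiv_gluedE]
    show E b W (q ≫ D.map φ) = E a W q
    have hp : (yon S).preimage ((q ≫ D.map φ) ≫ πD b) = (yon S).preimage (q ≫ πD a) ≫ φ.hom.left :=
      (yon S).map_injective (by simp [(hD φ).w])
    refine Sec.ext' ((hEt b W _).trans (((congrArg (· ≫ b.obj.hom) hp).trans ((Category.assoc _ _ _).trans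
      (congrArg (_ ≫ ·) (Over.w φ.hom)))).trans (hEt a W q).symm)) fun c g h h' => ?_
    refine (hD (arr (g ≫ (yon S).preimage ((q ≫ D.map φ) ≫ πD b))
      ((Category.assoc _ _ _).trans ((congrArg (g ≫ ·) (hEt b W _).symm).trans h)) : c ⟶ b)).hom_ext ?_ ?_
    · refine (hEs b W _ c g h).trans (Eq.trans ?_ (congrArg (_ ≫ D.map ·)
        (show (arr (g ≫ (yon S).preimage (q ≫ πD a))
          ((Category.assoc _ _ _).trans ((congrArg (g ≫ ·) (hEt a W q).symm).trans h')) : c ⟶ a) ≫ φ = _ from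
          ObjectProperty.hom_ext _ (Over.OverMorphism.ext
            ((Category.assoc _ _ _).trans (congrArg (g ≫ ·) hp.symm))))))
      rw [D.map_comp, ← Category.assoc, ← Category.assoc]
      exact congrArg (· ≫ D.map φ) (hEs a W q c g h').symm
    · exact ((E b W _).sec c g h).trans ((E a W q).sec c g h').symm
  · have w : gluedE hD b ≫ gluedπ hD = πD b ≫ (yon S).map b.obj.hom := hom_ext_points fun W q => by
      rw [← Category.assoc, hπ, ← Category.assoc, uliftYonedaEquiv_gluedE]
      exact ((congrArg (yon S).map (hEt b W q)).trans ((yon S).map_comp _ _)).trans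
        (congrArg (· ≫ _) (Functor.map_preimage _ _))
    -- the inverse of the comparison on points
    let C := pullback (gluedπ hD) ((yon S).map b.obj.hom)
    have hC : ∀ (W : Over S) (c : (yon S).obj W ⟶ C),
        ((J S).uliftYonedaEquiv (c ≫ pullback.fst _ _) : Sec D πD W).t =
          (yon S).preimage (c ≫ pullback.snd _ _) ≫ b.obj.hom := fun W c => (yon S).map_injective (by
      rw [← hπ, Functor.map_comp, Functor.map_preimage, Category.assoc, Category.assoc, pullback.condition])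
    let ob' : ∀ (W : Over S) (c : (yon S).obj W ⟶ C), (Stk.sieveCat R).obj := fun W c =>
      ob ((yon S).preimage (c ≫ pullback.snd _ _) ≫ b.obj.hom) (R.downward_closed b.property _)
    let inv : ∀ (W : Over S), ((yon S).obj W ⟶ C) → ((yon S).obj W ⟶ D.obj b) := fun W c =>
      ((J S).uliftYonedaEquiv (c ≫ pullback.fst _ _) : Sec D πD W).s (ob' W c) (𝟙 W)
        ((Category.id_comp _).trans (hC W c)) ≫ D.map (arr ((yon S).preimage (c ≫ pullback.snd _ _)) rfl)
    have hinv : ∀ W c, inv W c ≫ πD b = c ≫ pullback.snd _ _ := fun W c => by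
      refine (Category.assoc _ _ _).trans ((congrArg (_ ≫ ·) (hD _).w).trans ?_)
      exact (Category.assoc _ _ _).symm.trans ((congrArg (· ≫ _) (Sec.sec _ _ _ _)).trans
        ((Category.id_comp _).trans (Functor.map_preimage _ _)))
    have huniq : ∀ W c (q : (yon S).obj W ⟶ D.obj b), q ≫ gluedE hD b = c ≫ pullback.fst _ _ →
        q ≫ πD b = c ≫ pullback.snd _ _ → q = inv W c := fun W c q h1 h2 => by
      have hE : E b W q = (J S).uliftYonedaEquiv (c ≫ pullback.fst _ _) :=
        (uliftYonedaEquiv_gluedE hD b q).symm.trans (congrArg _ h1)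
      have e := hEs b W q (ob' W c) (𝟙 W)
        ((Category.id_comp _).trans ((congrArg Sec.t hE).trans (hC W c)))
      refine ((Category.id_comp q).symm.trans ((congrArg (· ≫ q) ((yon S).map_id W).symm).trans e.symm)).trans ?_
      have : ∀ {z z' : Sec D πD W}, z = z' → ∀ h1 h2, z.s (ob' W c) (𝟙 W) h1 = z'.s (ob' W c) (𝟙 W) h2 := by
        rintro z _ rfl _ _; rfl
      exact (congrArg (· ≫ D.map _) (this hE _ _)).trans (congrArg (_ ≫ D.map ·)
        (ObjectProperty.hom_ext _ (Over.OverMorphism.ext ((Category.id_comp _).trans (congrArg _ h2)))))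
    have hfac : ∀ W c, inv W c ≫ gluedE hD b = c ≫ pullback.fst _ _ := fun W c => by
      apply (J S).uliftYonedaEquiv.injective
      rw [uliftYonedaEquiv_gluedE]
      show E b W (inv W c) = ((J S).uliftYonedaEquiv (c ≫ pullback.fst _ _) : Sec D πD W)
      have hp : (yon S).preimage (inv W c ≫ πD b) = (yon S).preimage (c ≫ pullback.snd _ _) := congrArg _ (hinv W c)
      refine Sec.ext' ((hEt b W _).trans ((congrArg (· ≫ b.obj.hom) hp).trans (hC W c).symm)) fun a g h h' => ?_
      refine (hD (arr (g ≫ (yon S).preimage (inv W c ≫ πD b))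
        ((Category.assoc _ _ _).trans ((congrArg (g ≫ ·) (hEt b W _).symm).trans h)) : a ⟶ b)).hom_ext ?_ ?_
      · refine (hEs b W _ a g h).trans ?_
        refine (Category.assoc _ _ _).symm.trans ?_
        let α : a ⟶ ob' W c := arr g ((congrArg (g ≫ ·) (hC W c).symm).trans h')
        refine (congrArg (· ≫ D.map _) (Sec.comp' _ α _ h' (Category.comp_id g).symm)).trans ?_
        rw [Category.assoc, ← D.map_comp]
        exact congrArg (_ ≫ D.map ·) (ObjectProperty.hom_ext _ (Over.OverMorphism.ext (congrArg (g ≫ ·) hp.symm)))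
      · exact ((E b W _).sec a g h).trans (Sec.sec _ a g h').symm
    let ν : C ⟶ D.obj b := homOfPoints inv fun V W k c => Eq.symm (huniq V _ _
      (by rw [Category.assoc, hfac, Category.assoc]) (by rw [Category.assoc, hinv, Category.assoc]))
    let μ : D.obj b ⟶ C := pullback.lift (gluedE hD b) (πD b) w
    have hμν : μ ≫ ν = 𝟙 _ := hom_ext_points fun W q => by
      rw [← Category.assoc, comp_homOfPoints, Category.comp_id]
      exact (huniq W _ q (by simp [μ]) (by simp [μ])).symm
    have hνμ : ν ≫ μ = 𝟙 _ := hom_ext_points fun W c => by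
      rw [← Category.assoc, comp_homOfPoints, Category.comp_id]
      apply pullback.hom_ext
      · rw [Category.assoc, pullback.lift_fst, hfac]
      · rw [Category.assoc, pullback.lift_snd, hinv]
    exact IsPullback.of_iso_pullback ⟨w⟩ ⟨μ, ν, hμν, hνμ⟩ (pullback.lift_fst _ _ _) (pullback.lift_snd _ _ _)

end Object

end Groth.Agent.AlgStLib.SheafGlue
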