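import Groth.Agent.AlgStLib.MonoFactor
import Groth.Agent.GrpSchLib.Core
import Groth.Agent.AlgSpPts.Descent

/-!
# Quotients of group schemes by flat stabilisers and flat kernels
-/

set_option backward.isDefEq.respectTransparency false
set_option backward.isDefEq.respectTransparency.types false

universe u

open CategoryTheory CategoryTheory.Limits AlgebraicGeometry MonoidalCategory CartesianMonoidalCategory MonObj

namespace Groth.Agent.AlgStLib.MonoFactor

theorem isPullback_of_mono {C : Type*} [Category C] {P A B D E : C} {a : P ⟶ A} {b : P ⟶ B}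
    {p : A ⟶ D} {q : B ⟶ D} {i : D ⟶ E} [Mono i] {p' : A ⟶ E} {q' : B ⟶ E} (hp : p ≫ i = p')
    (hq : q ≫ i = q') (sq : IsPullback a b p' q') : IsPullback a b p q :=
  ⟨⟨(cancel_mono i).1 (by rw [Category.assoc, Category.assoc, hp, hq, sq.w])⟩,
    ⟨PullbackCone.IsLimit.mk _ (fun c => sq.lift c.fst c.snd (by rw [← hp, ← hq, c.condition_assoc]))
      (fun _ => sq.lift_fst _ _ _) (fun _ => sq.lift_snd _ _ _)
      (fun c m h₁ h₂ => sq.hom_ext (by simpa using h₁) (by simpa using h₂))⟩⟩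

theorem flat_fst_of_flat_snd {X Y : Scheme.{u}} {f : X ⟶ Y} (h : Flat (pullback.snd f f)) :
    Flat (pullback.fst f f) := by
  rw [← pullbackSymmetry_hom_comp_snd]
  infer_instance

variable {X Y : Scheme.{u}}

theorem flat_fst_of_factor {X' : Scheme.{u}} (f' : X ⟶ X') (f'' : X' ⟶ Y) [Flat f'] [Mono f''] {f : X ⟶ Y}
    (hf : f' ≫ f'' = f) : Flat (pullback.fst f f) :=
  MorphismProperty.of_isPullback (isPullback_of_mono hf hf (IsPullback.of_hasPullback f f)).flip ‹Flat f'›

/-- Descent of a morphism with values in a subobject along an fppf surjection. -/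
theorem exists_lift_of_fppf {A B Q H : Scheme.{u}} (e : A ⟶ B) [Surjective e] [Flat e]
    [LocallyOfFinitePresentation e] (b : B ⟶ H) (l : A ⟶ Q) (i : Q ⟶ H) [Mono i] (w : l ≫ i = e ≫ b) :
    ∃ m : B ⟶ Q, e ≫ m = l ∧ m ≫ i = b := by
  have : EffectiveEpi e := inferInstance
  let m := EffectiveEpi.desc e l (fun g₁ g₂ h => (cancel_mono i).1 (by
    rw [Category.assoc, Category.assoc, w, reassoc_of% h]))
  refine ⟨m, EffectiveEpi.fac _ _ _, (cancel_epi e).1 ?_⟩
  rw [EffectiveEpi.fac_assoc, w]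

theorem exists_iso_factor {X₁ X₂ : Scheme.{u}} {f : X ⟶ Y} (g₁ : X ⟶ X₁) (h₁ : X₁ ⟶ Y) (g₂ : X ⟶ X₂)
    (h₂ : X₂ ⟶ Y) [Surjective g₁] [Flat g₁] [LocallyOfFinitePresentation g₁] [Mono h₁] [Surjective g₂] [Flat g₂]
    [LocallyOfFinitePresentation g₂] [Mono h₂] (e₁ : g₁ ≫ h₁ = f) (e₂ : g₂ ≫ h₂ = f) :
    ∃ φ : X₁ ≅ X₂, g₁ ≫ φ.hom = g₂ ∧ φ.hom ≫ h₂ = h₁ := by
  obtain ⟨m, hm, hm'⟩ := exists_lift_of_fppf g₁ h₁ g₂ h₂ (e₂.trans e₁.symm)
  obtain ⟨n, -, hn'⟩ := exists_lift_of_fppf g₂ h₂ g₁ h₁ (e₁.trans e₂.symm)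
  exact ⟨⟨m, n, (cancel_mono h₁).1 (by rw [Category.assoc, hn', hm', Category.id_comp]),
    (cancel_mono h₂).1 (by rw [Category.assoc, hm', hn', Category.id_comp])⟩, hm, hm'⟩

variable {S : Scheme.{u}}

theorem exists_lift_of_fppf_over {A B Q H : Over S} (e : A ⟶ B) [Surjective e.left] [Flat e.left]
    [LocallyOfFinitePresentation e.left] (b : B ⟶ H) (l : A ⟶ Q) (i : Q ⟶ H) [Mono i] (w : l ≫ i = e ≫ b) :
    ∃ m : B ⟶ Q, m ≫ i = b := by
  have : Mono i.left := inferInstanceAs (Mono ((Over.forget S).map i))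
  obtain ⟨m, hm, hm'⟩ := exists_lift_of_fppf e.left b.left l.left i.left (congrArg CommaMorphism.left w)
  refine ⟨CategoryTheory.Over.homMk m ?_, Over.OverMorphism.ext hm'⟩
  rw [← Over.w i, reassoc_of% hm', Over.w b]

theorem flat_fst_left (G F : Over S) (h : Flat F.hom) : Flat (fst G F).left :=
  MorphismProperty.pullback_fst G.hom F.hom h

variable {G : Over S} [GrpObj G]

open GrpSchLib in
/-- The kernel pair of an orbit map. -/
theorem isPullback_orbitMap {X : Over S} (a : AlgGrp.Action G X) (ξ : 𝟙_ (Over S) ⟶ X) :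
    IsPullback ((G ◁ pullback.fst (a.orbitMap ξ) ξ) ≫ μ[G]) (fst G (pullback (a.orbitMap ξ) ξ))
      (a.orbitMap ξ) (a.orbitMap ξ) := by
  set φ := a.orbitMap ξ
  have stab : ∀ {T : Over S} (h : T ⟶ pullback φ ξ),
      lift (h ≫ pullback.fst φ ξ) (toUnit T ≫ ξ) ≫ a.act = toUnit T ≫ ξ := fun {T} h => by
    rw [← comp_orbitMap, Category.assoc, pullback.condition, ← Category.assoc,
      toUnit_unique (h ≫ pullback.snd φ ξ) (toUnit T)]
  have hm : ∀ {T : Over S} (k : T ⟶ G ⊗ pullback φ ξ), k ≫ (G ◁ pullback.fst φ ξ) ≫ μ[G] =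
      (k ≫ fst _ _) * (k ≫ snd _ _ ≫ pullback.fst φ ξ) := fun {T} k => by
    have : k ≫ (G ◁ pullback.fst φ ξ) = lift (k ≫ fst _ _) (k ≫ snd _ _ ≫ pullback.fst φ ξ) := by
      apply CartesianMonoidalCategory.hom_ext <;> simp
    rw [Hom.mul_def, ← this, Category.assoc]
  refine ⟨⟨?_⟩, ⟨PullbackCone.IsLimit.mk _
    (fun c => lift c.snd (pullback.lift (c.snd⁻¹ * c.fst) (toUnit _) ?_)) (fun c => ?_) (fun c => by simp)
    (fun c m h₁ h₂ => ?_)⟩⟩
  · have e := hm (𝟙 (G ⊗ pullback φ ξ))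
    simp only [Category.id_comp] at e
    rw [e, comp_orbitMap, comp_orbitMap, ← act_mul, stab]
  · have h := c.condition
    rw [comp_orbitMap, comp_orbitMap] at h
    rw [comp_orbitMap, ← act_mul, h, act_mul, inv_mul_cancel, act_one]
  · rw [hm, lift_fst, lift_snd_assoc, pullback.lift_fst, mul_inv_cancel_left]
  · apply CartesianMonoidalCategory.hom_ext
    · simpa using h₂
    · have h₁' := h₁
      rw [hm, h₂] at h₁'
      rw [lift_snd]
      apply pullback.hom_ext
      · rw [pullback.lift_fst, Category.assoc, ← h₁', inv_mul_cancel_left]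
      · exact toUnit_unique _ _

/-- A scheme quotient of a group by a flat stabiliser. -/
theorem exists_quot_stab {X : Over S} [LocallyOfFinitePresentation G.hom] [LocallyOfFiniteType X.hom]
    (a : AlgGrp.Action G X) (ξ : 𝟙_ (Over S) ⟶ X) (hH : Flat (pullback (a.orbitMap ξ) ξ).hom) :
    ∃ (Q : Over S) (p : G ⟶ Q) (i : Q ⟶ X), p ≫ i = a.orbitMap ξ ∧
      Surjective p.left ∧ Flat p.left ∧ LocallyOfFinitePresentation p.left ∧ Mono i ∧
      LocallyOfFinitePresentation Q.hom ∧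
      IsPullback ((G ◁ pullback.fst (a.orbitMap ξ) ξ) ≫ μ[G]) (fst G (pullback (a.orbitMap ξ) ξ)) p p := by
  set φ := a.orbitMap ξ with hφ
  have hXφ : LocallyOfFinitePresentation (φ.left ≫ X.hom) := by rw [Over.w φ]; infer_instance
  have : LocallyOfFinitePresentation φ.left :=
    Groth.Agent.AlgSpPts.locallyOfFinitePresentation_of_comp φ.left X.hom
  have sq : IsPullback ((G ◁ pullback.fst φ ξ) ≫ μ[G]).left (fst G (pullback φ ξ)).left φ.left φ.left :=
    (isPullback_orbitMap a ξ).map (Over.forget S)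
  have : Flat (pullback.fst φ.left φ.left) := by
    refine flat_fst_of_flat_snd ?_
    rw [← MorphismProperty.cancel_left_of_respectsIso (P := @Flat) sq.isoPullback.hom,
      IsPullback.isoPullback_hom_snd]
    exact flat_fst_left G _ hH
  obtain ⟨X', f', f'', h₁, h₂, h₃, h₄, hf⟩ := exists_factor φ.left
  let Q : Over S := Over.mk (f'' ≫ X.hom)
  let p : G ⟶ Q := CategoryTheory.Over.homMk f' (by show f' ≫ f'' ≫ X.hom = _; rw [reassoc_of% hf, Over.w φ])
  let i : Q ⟶ X := CategoryTheory.Over.homMk f'' rfl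
  have : Mono i := Over.mono_of_mono_left i
  have hpi : p ≫ i = φ := Over.OverMorphism.ext hf
  refine ⟨Q, p, i, hpi, h₁, h₂, h₃, inferInstance, ?_, isPullback_of_mono hpi hpi (isPullback_orbitMap a ξ)⟩
  have : LocallyOfFinitePresentation (f' ≫ Q.hom) := by
    show LocallyOfFinitePresentation (f' ≫ f'' ≫ X.hom)
    rw [reassoc_of% hf]; exact hXφ
  exact Groth.Agent.SrcDescent.locallyOfFinitePresentation_of_fppf_comp f' Q.hom

theorem fppf_tensorHom {G Q : Over S} (p : G ⟶ Q) (h : AlgSpLib.fppf p.left) : AlgSpLib.fppf (p ⊗ₘ p).left := by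
  have e : p ⊗ₘ p = (p ▷ G) ≫ (Q ◁ p) := MonoidalCategory.tensorHom_def p p
  rw [e, Over.comp_left]
  refine MorphismProperty.comp_mem _ _ _ ?_ ?_
  · refine MorphismProperty.of_isPullback (g := p.left) (f' := (fst G G).left) (f := (fst Q G).left) ?_ h
    refine (IsPullback.of_right (v₁₁ := (fst G G).left) (v₁₂ := (fst Q G).left)
      (h₁₁ := (p ▷ G).left) (h₂₁ := p.left) (h₁₂ := (snd Q G).left) (h₂₂ := Q.hom) ?_ ?_
      (IsPullback.of_hasPullback Q.hom G.hom).flip).flip
    · rw [Over.w p, ← Over.comp_left, whiskerRight_snd]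
      exact (IsPullback.of_hasPullback G.hom G.hom).flip
    · rw [← Over.comp_left, ← Over.comp_left, whiskerRight_fst]
  · refine MorphismProperty.of_isPullback (g := p.left) (f' := (snd Q G).left) (f := (snd Q Q).left) ?_ h
    refine (IsPullback.of_right (v₁₁ := (snd Q G).left) (v₁₂ := (snd Q Q).left)
      (h₁₁ := (Q ◁ p).left) (h₂₁ := p.left) (h₁₂ := (fst Q Q).left) (h₂₂ := Q.hom) ?_ ?_
      (IsPullback.of_hasPullback Q.hom Q.hom)).flip
    · rw [Over.w p, ← Over.comp_left, whiskerLeft_fst]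
      exact IsPullback.of_hasPullback Q.hom G.hom
    · rw [← Over.comp_left, ← Over.comp_left, whiskerLeft_snd]

/-- A subscheme which is the fppf image of a homomorphism is a subgroup. -/
theorem exists_grpObj_of_image {H Q : Over S} [GrpObj H] (u : G ⟶ H) [IsMonHom u] (p : G ⟶ Q) (i : Q ⟶ H)
    [Mono i] [Surjective p.left] [Flat p.left] [LocallyOfFinitePresentation p.left] (hpi : p ≫ i = u) :
    ∃ _ : GrpObj Q, IsMonHom p ∧ IsMonHom i := by
  obtain ⟨⟨_, _⟩, _⟩ := fppf_tensorHom p (AlgSpLib.fppf_of p.left)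
  obtain ⟨mQ, hm⟩ := exists_lift_of_fppf_over (p ⊗ₘ p) ((i ⊗ₘ i) ≫ μ[H]) (μ[G] ≫ p) i (by
    rw [Category.assoc, hpi, IsMonHom.mul_hom, MonoidalCategory.tensorHom_comp_tensorHom_assoc, hpi])
  obtain ⟨nQ, hn⟩ := exists_lift_of_fppf_over p (i ≫ ι[H]) (ι[G] ≫ p) i (by
    rw [Category.assoc, hpi, GrpObj.inv_hom, ← Category.assoc, hpi])
  let eQ : 𝟙_ (Over S) ⟶ Q := η[G] ≫ p
  have he : eQ ≫ i = η[H] := by rw [Category.assoc, hpi, IsMonHom.one_hom]
  have star : ∀ {W : Over S} (x y : W ⟶ Q), lift x y ≫ mQ ≫ i = (x ≫ i) * (y ≫ i) := fun {W} x y => by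
    rw [hm, lift_map_assoc, Hom.mul_def]
  let M : MonObj Q :=
    { one := eQ
      mul := mQ
      one_mul := (cancel_mono i).1 (by
        rw [show eQ ▷ Q = lift (fst _ _ ≫ eQ) (snd _ _) from by apply CartesianMonoidalCategory.hom_ext <;> simp,
          Category.assoc, star, Category.assoc, he, toUnit_unique (fst (𝟙_ (Over S)) Q) (toUnit _), ← Hom.one_def,
          _root_.one_mul, leftUnitor_hom])
      mul_one := (cancel_mono i).1 (by
        rw [show Q ◁ eQ = lift (fst _ _) (snd _ _ ≫ eQ) from by apply CartesianMonoidalCategory.hom_ext <;> simp,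
          Category.assoc, star, Category.assoc, he, toUnit_unique (snd Q (𝟙_ (Over S))) (toUnit _), ← Hom.one_def,
          _root_.mul_one, rightUnitor_hom])
      mul_assoc := (cancel_mono i).1 (by
        rw [show mQ ▷ Q = lift (lift (fst _ _ ≫ fst _ _) (fst _ _ ≫ snd _ _) ≫ mQ) (snd _ _) from by
            apply CartesianMonoidalCategory.hom_ext <;> simp [← comp_lift],
          show (α_ Q Q Q).hom ≫ (Q ◁ mQ) ≫ mQ = lift (fst _ _ ≫ fst _ _)
              (lift (fst _ _ ≫ snd _ _) (snd _ _) ≫ mQ) ≫ mQ from by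
            rw [← Category.assoc]; congr 1
            apply CartesianMonoidalCategory.hom_ext
            · simp
            · rw [Category.assoc, whiskerLeft_snd, lift_snd, ← Category.assoc,
                show (α_ Q Q Q).hom ≫ snd Q (Q ⊗ Q) = lift (fst _ _ ≫ snd _ _) (snd _ _) from by
                  apply CartesianMonoidalCategory.hom_ext <;> simp],
          Category.assoc, Category.assoc]
        simp only [Category.assoc, star, _root_.mul_assoc]) }
  have : IsMonHom i := ⟨he, hm⟩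
  let inst : GrpObj Q :=
    { M with
      inv := nQ
      left_inv := (cancel_mono i).1 (by
        show (lift nQ (𝟙 Q) ≫ mQ) ≫ i = (toUnit Q ≫ eQ) ≫ i
        rw [Category.assoc, star, Category.id_comp, hn, Category.assoc, he, ← Hom.inv_def,
          inv_mul_cancel, ← Hom.one_def])
      right_inv := (cancel_mono i).1 (by
        show (lift (𝟙 Q) nQ ≫ mQ) ≫ i = (toUnit Q ≫ eQ) ≫ i
        rw [Category.assoc, star, Category.id_comp, hn, Category.assoc, he, ← Hom.inv_def,
          mul_inv_cancel, ← Hom.one_def]) }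
  refine ⟨inst, ⟨rfl, (cancel_mono i).1 ?_⟩, ⟨he, hm⟩⟩
  show (μ[G] ≫ p) ≫ i = ((p ⊗ₘ p) ≫ mQ) ≫ i
  rw [Category.assoc, Category.assoc, hm, hpi, IsMonHom.mul_hom, MonoidalCategory.tensorHom_comp_tensorHom_assoc, hpi]

end Groth.Agent.AlgStLib.MonoFactor
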