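import Groth.Agent.AlgStLib.LocQDescent
import Groth.Agent.AlgSpPts.Misc
import Groth.Agent.AlgSpPts.Sep

/-!
# Standard properties read on smooth charts
-/

set_option backward.isDefEq.respectTransparency false
set_option backward.isDefEq.respectTransparency.types false

universe u

open CategoryTheory CategoryTheory.Functor CategoryTheory.Limits AlgebraicGeometry Opposite AlgSp

namespace Groth.Agent.AlgStLib

open Groth.Agent.FibBase Groth.Agent.AlgSpLib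

variable {S : Scheme.{u}} {𝒳 𝒴 𝒵 : AlgSt.Cat S}

theorem locQ_of_repWith (R : MorphismProperty Scheme.{u}) [IsEtLocal R] [IsZariskiLocalAtTarget R]
    [R.DescendsAlong (@Surjective ⊓ @Flat ⊓ @QuasiCompact)] (hR : IsSmoothLocalST (S := S) (LocP R))
    {Q : MorphismProperty Scheme.{u}} (hQ : Q ≤ R) (h𝒳 : AlgSt.IsAlgStack Scheme.fppfPrecoverage 𝒳)
    (h𝒴 : AlgSt.IsAlgStack Scheme.fppfPrecoverage 𝒴) {f : 𝒳 ⥤ᵇ 𝒴} (hf : AlgSt.RepByAlgSpWith (RepWith Q) f) :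
    AlgSt.LocQ (LocP R) f :=
  (locQ_iff_repByAlgSpWith hR stableBC_locP (isLocalOnBase_fppf_locP R) h𝒳 h𝒴
    (repByAlgSp1_of_repByAlgSpWith hf)).2
    (repByAlgSpWith_mono (fun _ _ _ h => locP_of_repWith (repWith_mono hQ _ h)) hf)

/-- Flatness can be tested after a flat surjection. -/
theorem locP_flat_of_comp {X Y Z : Sp S} (hX : IsAlgSpace X) (hY : IsAlgSpace Y) (hZ : IsAlgSpace Z)
    (s : X ⟶ Y) (g : Y ⟶ Z) (hs : LocP @Flat s) (hs' : IsSurjectiveMor s) (h : LocP @Flat (s ≫ g)) :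
    LocP @Flat g :=
  have : MorphismProperty.ContainsIdentities (@Flat : MorphismProperty Scheme.{u}) :=
    ⟨fun X => inferInstanceAs (Flat (𝟙 X))⟩
  (isLocalOnSource_isCover (W := @Flat) (P := @Flat) (fun _ _ => inferInstance)
    (fun _ X Y g => IsCover (S := S) (X := X) (LocP @Flat) Y g) (fun _ _ _ _ hg i => hg.1 i)
    (fun _ _ _ _ hg => hg.2) (fun _ : PUnit.{u+1} => X) (fun _ => s) hY (fun _ => hX)
    ⟨fun _ => hs, fun y => ⟨⟨⟩, hs' y⟩⟩ g hZ).2 fun _ => h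

theorem locQ_lft_of_comp (h𝒳 : AlgSt.IsAlgStack Scheme.fppfPrecoverage 𝒳)
    (h𝒴 : AlgSt.IsAlgStack Scheme.fppfPrecoverage 𝒴) (h𝒵 : AlgSt.IsAlgStack Scheme.fppfPrecoverage 𝒵)
    {f : 𝒳 ⥤ᵇ 𝒴} {g : 𝒴 ⥤ᵇ 𝒵} (h : AlgSt.LocQ (LocP @LocallyOfFiniteType) (BasedFunctor.comp f g)) :
    AlgSt.LocQ (LocP @LocallyOfFiniteType) f := by
  obtain ⟨U, V, W, z, d, c, hz, hd, hc, hy⟩ := exists_charts_comp h𝒳 h𝒴 h𝒵 f g
  obtain ⟨c', e, hs, -⟩ := exists_chart_comp h𝒳.isStack.1 h𝒴.isStack.1 h𝒵.isStack.1 d c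
  refine locQ_of_chart isSmoothLocalST_lft h𝒳 h𝒴 hy.1 hy.2 hc.1 hc.2 ?_
  have := (locQ_iff_locQS isSmoothLocalST_lft h𝒳 h𝒵 _).1 h U W z c' hz.1 (hs hc.1 hd.1)
  rw [e] at this
  exact Groth.Agent.AlgSpPts.locP_of_comp (fun f g (_ : LocallyOfFiniteType (f ≫ g)) => locallyOfFiniteType_of_comp f g)
    W.property this

theorem locQ_flat_of_comp (h𝒳 : AlgSt.IsAlgStack Scheme.fppfPrecoverage 𝒳)
    (h𝒴 : AlgSt.IsAlgStack Scheme.fppfPrecoverage 𝒴) (h𝒵 : AlgSt.IsAlgStack Scheme.fppfPrecoverage 𝒵)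
    {f : 𝒳 ⥤ᵇ 𝒴} {g : 𝒴 ⥤ᵇ 𝒵} (hf : AlgSt.LocQ (LocP @Flat) f) (hf' : AlgSt.IsSurjective f)
    (h : AlgSt.LocQ (LocP @Flat) (BasedFunctor.comp f g)) : AlgSt.LocQ (LocP @Flat) g := by
  obtain ⟨U, V, W, z, d, c, hz, hd, hc, hy⟩ := exists_charts_comp h𝒳 h𝒴 h𝒵 f g
  obtain ⟨c', e, hs, -⟩ := exists_chart_comp h𝒳.isStack.1 h𝒴.isStack.1 h𝒵.isStack.1 d c
  refine locQ_of_chart isSmoothLocalST_flat h𝒴 h𝒵 hz.1 hz.2 hd.1 hd.2 ?_
  have := (locQ_iff_locQS isSmoothLocalST_flat h𝒳 h𝒵 _).1 h U W z c' hz.1 (hs hc.1 hd.1)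
  rw [e] at this
  exact locP_flat_of_comp U.property V.property W.property _ _
    ((locQ_iff_locQS isSmoothLocalST_flat h𝒳 h𝒴 f).1 hf U V _ c hy.1 hc.1) (surj_chart h𝒳 h𝒴 hf' hc.2) this

theorem locQ_flat_of_baseChange (h𝒳 : AlgSt.IsAlgStack Scheme.fppfPrecoverage 𝒳)
    (h𝒴 : AlgSt.IsAlgStack Scheme.fppfPrecoverage 𝒴) (h𝒵 : AlgSt.IsAlgStack Scheme.fppfPrecoverage 𝒵)
    {f : 𝒳 ⥤ᵇ 𝒴} {z : 𝒵 ⥤ᵇ 𝒴} (hz₁ : AlgSt.LocQ (LocP @Flat) z) (hz₃ : AlgSt.IsSurjective z)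
    (h : AlgSt.LocQ (LocP @Flat) (FibCat.fpFst z f)) : AlgSt.LocQ (LocP @Flat) f := by
  obtain ⟨V, y, hy, hy'⟩ := exists_space_atlas h𝒴
  obtain ⟨U, c, hc, hc'⟩ := exists_space_atlas_fp h𝒳 h𝒴 f y
  obtain ⟨W, d, hd, hd'⟩ := exists_space_atlas_fp h𝒵 h𝒴 z y
  have hg := fp_isFibGrpd (F := z) (G := y) h𝒵.isStack.1 (isFibGrpd_ofSp V.obj) h𝒴.isStack.1
  have hk := (locQ_iff_locQS isSmoothLocalST_flat h𝒵 h𝒴 z).1 hz₁ W V y d hy hd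
  have hk' := surj_chart h𝒵 h𝒴 hz₃ (y := y) hd'
  obtain ⟨D, p, q, c', sq, e, hs, -⟩ := exists_chart_baseChange (g := z)
    (y' := BasedFunctor.comp d (FibCat.fpFst z y)) (k := spHom (BasedFunctor.comp d (FibCat.fpSnd z y)))
    h𝒳.isStack.1 h𝒴.isStack.1 (whiskerLeftIso d (FibCat.fpIso z y) ≪≫
      whiskerRightIso (isoOfSpMap (BasedFunctor.comp d (FibCat.fpSnd z y))) y) c
  have hq : LocP @Flat q := e ▸
    (locQ_iff_locQS isSmoothLocalST_flat (isAlgStack_fp h𝒵 h𝒳 h𝒴.isStack h𝒴.diag z f) h𝒵 _).1 h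
      D W _ c' (repByAlgSpWith_locP_comp (isFibGrpd_ofSp W.obj) hg hd (repByAlgSpWith_fpFst z hy)) (hs hc)
  refine locQ_of_chart isSmoothLocalST_flat h𝒳 h𝒴 hy hy' hc hc' ?_
  refine locP_flat_of_comp D.property U.property V.property p _
    (stableBC_locP W.property V.property D.property U.property _ _ p q sq.flip hk)
    (surjective_map_of_isPullback sq.flip hk') ?_
  rw [sq.w]
  exact locP_comp D.property W.property V.property hq hk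

theorem isOpenMap_of_locP_flat_lfp {U V : Over S} (h : U ⟶ V) (h₁ : LocP @Flat ((yon S).map h))
    (h₂ : LocP @LocallyOfFinitePresentation ((yon S).map h)) : IsOpenMap h.left :=
  isOpenMap_of_flat_lfp _ (locP_yon_map h₁) (locP_yon_map h₂)

theorem isOpenMor_of_locQ_flat_lfp (h𝒳 : AlgSt.IsAlgStack Scheme.fppfPrecoverage 𝒳)
    (h𝒴 : AlgSt.IsAlgStack Scheme.fppfPrecoverage 𝒴) {f : 𝒳 ⥤ᵇ 𝒴} (h₁ : AlgSt.LocQ (LocP @Flat) f)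
    (h₂ : AlgSt.LocQ (LocP @LocallyOfFinitePresentation) f) : AlgSt.IsOpenMor f := by
  obtain ⟨V, y, hy, hy'⟩ := id h𝒴.atlas
  obtain ⟨U, c, hc, hc'⟩ := exists_atlas_fp h𝒳 (isAlgStack_overCat V) h𝒴 f y
  obtain ⟨h, ⟨i⟩⟩ := exists_mapB (BasedFunctor.comp c (FibCat.fpSnd f y))
  have hg := fp_isFibGrpd (F := f) (G := y) h𝒳.isStack.1 (isFibGrpd_overCat V) h𝒴.isStack.1
  exact isOpenMor_of_locQ h𝒳.isStack.1 h𝒴.isStack.1 h𝒳.atlas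
    (x := BasedFunctor.comp c (FibCat.fpFst f y)) (y := y) (h := h)
    (whiskerLeftIso c (FibCat.fpIso f y) ≪≫ whiskerRightIso i.symm y)
    (repByAlgSpWith_isSurjectiveMor_comp (isFibGrpd_overCat U) hg hc' (repByAlgSpWith_fpFst f hy')) hy
    (isOpenMap_of_locP_flat_lfp h
      (((locQ_iff_locQS isSmoothLocalST_flat h𝒳 h𝒴 f).1 h₁).scheme c hy hc i.symm)
      (((locQ_iff_locQS isSmoothLocalST_lfp h𝒳 h𝒴 f).1 h₂).scheme c hy hc i.symm))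

end Groth.Agent.AlgStLib

namespace Groth.Agent.AlgStLib

open Groth.Agent.FibBase Groth.Agent.AlgSpLib

variable {S : Scheme.{u}} {𝒳 𝒴 𝒵 : AlgSt.Cat S}

theorem locQ_lfp_of_comp (h𝒳 : AlgSt.IsAlgStack Scheme.fppfPrecoverage 𝒳)
    (h𝒴 : AlgSt.IsAlgStack Scheme.fppfPrecoverage 𝒴) (h𝒵 : AlgSt.IsAlgStack Scheme.fppfPrecoverage 𝒵)
    {f : 𝒳 ⥤ᵇ 𝒴} {g : 𝒴 ⥤ᵇ 𝒵} (h : AlgSt.LocQ (LocP @LocallyOfFinitePresentation) (BasedFunctor.comp f g))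
    (hg : AlgSt.LocQ (LocP @LocallyOfFiniteType) g) : AlgSt.LocQ (LocP @LocallyOfFinitePresentation) f := by
  obtain ⟨U, V, W, z, d, c, hz, hd, hc, hy⟩ := exists_charts_comp h𝒳 h𝒴 h𝒵 f g
  obtain ⟨c', e, hs, -⟩ := exists_chart_comp h𝒳.isStack.1 h𝒴.isStack.1 h𝒵.isStack.1 d c
  refine locQ_of_chart isSmoothLocalST_lfp h𝒳 h𝒴 hy.1 hy.2 hc.1 hc.2 ?_
  have := (locQ_iff_locQS isSmoothLocalST_lfp h𝒳 h𝒵 _).1 h U W z c' hz.1 (hs hc.1 hd.1)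
  rw [e] at this
  exact Groth.Agent.AlgSpPts.locP_of_comp' (Q := @LocallyOfFiniteType)
    (fun f g (_ : LocallyOfFinitePresentation (f ≫ g)) (_ : LocallyOfFiniteType g) =>
      Groth.Agent.AlgSpPts.locallyOfFinitePresentation_of_comp f g)
    W.property this ((locQ_iff_locQS isSmoothLocalST_lft h𝒴 h𝒵 g).1 hg V W z d hz.1 hd.1)

end Groth.Agent.AlgStLib
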