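import Groth.Agent.AlgStLib.SmoothLocally
import Groth.Agent.AlgStLib.LocQInst
import Mathlib.Topology.NoetherianSpace

/-!
# Locally Noetherian algebraic stacks
-/

set_option backward.isDefEq.respectTransparency false
set_option backward.isDefEq.respectTransparency.types false

universe u

open CategoryTheory CategoryTheory.Functor CategoryTheory.Limits AlgebraicGeometry Opposite AlgSp TopologicalSpace

namespace Groth.Agent.AlgStLib

open Groth.Agent.FibBase Groth.Agent.AlgSpLib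

variable {S : Scheme.{u}} {𝒳 𝒴 : AlgSt.Cat S}

/-- A square of schemes over smooth surjective charts. -/
theorem exists_scheme_square (h𝒳 : AlgSt.IsAlgStack Scheme.fppfPrecoverage 𝒳)
    (h𝒴 : AlgSt.IsAlgStack Scheme.fppfPrecoverage 𝒴) (f : 𝒳 ⥤ᵇ 𝒴) :
    ∃ (U V : Over S) (x : FibCat.overCat U ⥤ᵇ 𝒳) (y : FibCat.overCat V ⥤ᵇ 𝒴) (h : U ⟶ V)
      (_ : BasedFunctor.comp x f ≅ BasedFunctor.comp (AlgSt.overMap h) y),
      AlgSt.RepByAlgSpWith (LocP @Smooth) x ∧ AlgSt.RepByAlgSpWith IsSurjectiveMor x ∧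
      AlgSt.RepByAlgSpWith (LocP @Smooth) y ∧ AlgSt.RepByAlgSpWith IsSurjectiveMor y ∧
      ∀ P : MorphismProperty (Sp S), LocQS P f → P ((yon S).map h) := by
  obtain ⟨V, y, hy, hy'⟩ := id h𝒴.atlas
  obtain ⟨U, c, hc, hc'⟩ := exists_atlas_fp h𝒳 (isAlgStack_overCat V) h𝒴 f y
  obtain ⟨h, ⟨i⟩⟩ := exists_mapB (BasedFunctor.comp c (FibCat.fpSnd f y))
  have hg := fp_isFibGrpd (F := f) (G := y) h𝒳.isStack.1 (isFibGrpd_overCat V) h𝒴.isStack.1
  exact ⟨U, V, BasedFunctor.comp c (FibCat.fpFst f y), y, h,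
    whiskerLeftIso c (FibCat.fpIso f y) ≪≫ whiskerRightIso i.symm y,
    repByAlgSpWith_locP_comp (isFibGrpd_overCat U) hg hc (repByAlgSpWith_fpFst f hy),
    repByAlgSpWith_isSurjectiveMor_comp (isFibGrpd_overCat U) hg hc' (repByAlgSpWith_fpFst f hy'), hy, hy',
    fun P hP => hP.scheme c hy hc i.symm⟩

theorem locallyOfFinitePresentation_of_isLocallyNoetherian {X Y : Scheme.{u}} (f : X ⟶ Y) [IsLocallyNoetherian Y]
    (h : LocallyOfFiniteType f) : LocallyOfFinitePresentation f := by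
  rw [HasRingHomProperty.iff_appLE (P := @LocallyOfFinitePresentation)]
  intro U V e
  have hU : IsNoetherianRing Γ(Y, U) := IsLocallyNoetherian.component_noetherian U
  exact (RingHom.FinitePresentation.of_finiteType).1 (HasRingHomProperty.appLE @LocallyOfFiniteType f h U V e)

theorem smoothLocally_noetherian_of_lft (h𝒳 : AlgSt.IsAlgStack Scheme.fppfPrecoverage 𝒳)
    (h𝒴 : AlgSt.IsAlgStack Scheme.fppfPrecoverage 𝒴) {f : 𝒳 ⥤ᵇ 𝒴}
    (hf : AlgSt.LocQ (LocP @LocallyOfFiniteType) f)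
    (hN : AlgSt.SmoothLocally (fun T ↦ IsLocallyNoetherian T) 𝒴) :
    AlgSt.SmoothLocally (fun T ↦ IsLocallyNoetherian T) 𝒳 := by
  obtain ⟨U, V, x, y, h, -, hx, hx', hy, -, hall⟩ := exists_scheme_square h𝒳 h𝒴 f
  have : LocallyOfFiniteType h.left :=
    locP_yon_map (hall _ ((locQ_iff_locQS isSmoothLocalST_lft h𝒳 h𝒴 f).1 hf))
  have : IsLocallyNoetherian V.left := hN V y hy
  exact (smoothLocally_iff_exists smLocal_isLocallyNoetherian h𝒳).2
    ⟨U, x, hx, hx', LocallyOfFiniteType.isLocallyNoetherian h.left⟩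

theorem locQ_lfp_of_noetherian (h𝒳 : AlgSt.IsAlgStack Scheme.fppfPrecoverage 𝒳)
    (h𝒴 : AlgSt.IsAlgStack Scheme.fppfPrecoverage 𝒴) {f : 𝒳 ⥤ᵇ 𝒴}
    (hN : AlgSt.SmoothLocally (fun T ↦ IsLocallyNoetherian T) 𝒴)
    (hf : AlgSt.LocQ (LocP @LocallyOfFiniteType) f) : AlgSt.LocQ (LocP @LocallyOfFinitePresentation) f := by
  obtain ⟨U, V, x, y, h, α, hx, hx', hy, -, hall⟩ := exists_scheme_square h𝒳 h𝒴 f
  have : IsLocallyNoetherian V.left := hN V y hy
  exact ⟨U, V, x, y, h, α, hx, hx', hy, locP_of_repWith ((repWith_yon_map_iff _ h).2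
    (locallyOfFinitePresentation_of_isLocallyNoetherian h.left
      (locP_yon_map (hall _ ((locQ_iff_locQS isSmoothLocalST_lft h𝒳 h𝒴 f).1 hf)))))⟩

/-- A Noetherian open neighbourhood coming from a chart. -/
theorem exists_noetherian_chart (h𝒳 : AlgSt.IsAlgStack Scheme.fppfPrecoverage 𝒳)
    (hN : AlgSt.SmoothLocally (fun T ↦ IsLocallyNoetherian T) 𝒳) (p : AlgSt.Points 𝒳) :
    ∃ (A : Scheme.{u}) (g : ↥A → AlgSt.Points 𝒳),
      NoetherianSpace A ∧ Continuous g ∧ IsOpenMap g ∧ p ∈ Set.range g := by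
  obtain ⟨U, x, hx, hx'⟩ := id h𝒳.atlas
  have : IsLocallyNoetherian U.left := hN U x hx
  obtain ⟨t, rfl⟩ := ofChart_surjective h𝒳.isStack.1 hx' p
  obtain ⟨A, hA, ht, -⟩ := exists_isAffineOpen_mem_and_subset (X := U.left) (x := t) (U := ⊤) trivial
  have : IsAffine (A : Scheme.{u}) := hA
  have : IsNoetherian (A : Scheme.{u}) := { }
  exact ⟨A, AlgSt.Points.ofChart x ∘ A.ι, inferInstance,
    (continuous_ofChart h𝒳.isStack.1 h𝒳.atlas x).comp A.ι.continuous,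
    (isOpenMap_ofChart h𝒳.isStack.1 (repByAlgSpWith_flat_of_smooth hx) (repByAlgSpWith_lfp_of_smooth hx)).comp
      A.ι.isOpenEmbedding.isOpenMap, ⟨⟨t, ht⟩, rfl⟩⟩

theorem exists_noetherian_nhd (h𝒳 : AlgSt.IsAlgStack Scheme.fppfPrecoverage 𝒳)
    (hN : AlgSt.SmoothLocally (fun T ↦ IsLocallyNoetherian T) 𝒳) (p : AlgSt.Points 𝒳) :
    ∃ U : Set (AlgSt.Points 𝒳), IsOpen U ∧ p ∈ U ∧ NoetherianSpace U := by
  obtain ⟨A, g, hA, hg, ho, hp⟩ := exists_noetherian_chart h𝒳 hN p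
  exact ⟨_, ho.isOpen_range, hp, NoetherianSpace.range g hg⟩

theorem noetherianSpace_points (h𝒳 : AlgSt.IsAlgStack Scheme.fppfPrecoverage 𝒳) (hq : AlgSt.IsQuasiCompact 𝒳)
    (hN : AlgSt.SmoothLocally (fun T ↦ IsLocallyNoetherian T) 𝒳) : NoetherianSpace (AlgSt.Points 𝒳) := by
  obtain ⟨U, x, hU, hx, hx'⟩ := hq
  have : IsLocallyNoetherian U.left := hN U x hx
  have : IsNoetherian U.left := { }
  exact noetherianSpace_of_surjective _ (continuous_ofChart h𝒳.isStack.1 h𝒳.atlas x)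
    (ofChart_surjective h𝒳.isStack.1 hx')

theorem quasiSober_points (h𝒳 : AlgSt.IsAlgStack Scheme.fppfPrecoverage 𝒳)
    (hN : AlgSt.SmoothLocally (fun T ↦ IsLocallyNoetherian T) 𝒳) : QuasiSober (AlgSt.Points 𝒳) := by
  constructor
  intro Z hZ hZc
  obtain ⟨p, hp⟩ := hZ.nonempty
  obtain ⟨A, g, hA, hg, ho, hpg⟩ := exists_noetherian_chart h𝒳 hN p
  obtain ⟨T, hTf, hTc, hTi, hT⟩ :=
    NoetherianSpace.exists_finite_set_isClosed_irreducible (hZc.preimage hg)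
  have hcov : Z ⊆ ⋃₀ ((fun t : Set ↥A => closure (g '' t)) '' T) := by
    have hsub := subset_closure_inter_of_isPreirreducible_of_isOpen hZ.2 ho.isOpen_range ⟨p, hp, hpg⟩
    refine hsub.trans (closure_minimal ?_ ?_)
    · rintro _ ⟨hz, a, rfl⟩
      have ha : a ∈ g ⁻¹' Z := hz
      rw [hT] at ha
      obtain ⟨t, ht, hat⟩ := ha
      exact ⟨_, ⟨t, ht, rfl⟩, subset_closure ⟨a, hat, rfl⟩⟩
    · rw [Set.sUnion_image]; exact hTf.isClosed_biUnion fun t _ => isClosed_closure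
  classical
  obtain ⟨z, hz, hZz⟩ := isIrreducible_iff_sUnion_isClosed.1 hZ ((hTf.image (fun t => closure (g '' t))).toFinset)
    (fun z hz => by
      rw [Set.Finite.mem_toFinset] at hz
      obtain ⟨t, -, rfl⟩ := hz
      exact isClosed_closure) (by rwa [Set.Finite.coe_toFinset])
  rw [Set.Finite.mem_toFinset] at hz
  obtain ⟨t, ht, rfl⟩ := hz
  obtain ⟨η, hη⟩ := QuasiSober.sober (hTi t ht) (hTc t ht)
  have hηZ : g η ∈ Z := by
    have : η ∈ g ⁻¹' Z := hT ▸ ⟨t, ht, hη.mem⟩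
    exact this
  refine ⟨g η, Set.Subset.antisymm (hZc.closure_subset_iff.2 (Set.singleton_subset_iff.2 hηZ)) ?_⟩
  refine hZz.trans (closure_minimal ?_ isClosed_closure)
  rw [← show closure {η} = t from hη]
  exact (image_closure_subset_closure_image hg).trans (closure_mono (by simp))

end Groth.Agent.AlgStLib
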