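import Groth.Agent.AlgSpLib.Covers

/-!
# Covering sieves of the big fppf site and fppf coverings of representable sheaves
-/

set_option backward.isDefEq.respectTransparency false
set_option backward.isDefEq.respectTransparency.types false

universe u

open CategoryTheory CategoryTheory.Limits AlgebraicGeometry Opposite AlgSp

namespace Groth.Agent.AlgStLib

open Groth.Agent.AlgSpLib

variable {S : Scheme.{u}}

theorem isMultiplicative_lfp :
    MorphismProperty.IsMultiplicative (@LocallyOfFinitePresentation : MorphismProperty Scheme.{u}) :=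
  { id_mem := fun _ => inferInstance
    comp_mem := fun _ _ _ _ => inferInstance }

theorem isMultiplicative_flat_inf_lfp :
    MorphismProperty.IsMultiplicative (@Flat ⊓ @LocallyOfFinitePresentation : MorphismProperty Scheme.{u}) := by
  have := isMultiplicative_lfp.{u}
  exact
    { id_mem := fun X => ⟨MorphismProperty.id_mem _ X, MorphismProperty.id_mem _ X⟩
      comp_mem := fun f g hf hg => ⟨MorphismProperty.comp_mem _ f g hf.1 hg.1,
        MorphismProperty.comp_mem _ f g hf.2 hg.2⟩ }

/-- A covering sieve of the big fppf site contains a jointly surjective flat, locally finitely presented family. -/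
theorem exists_fppf_of_mem_J {U : Over S} {R : Sieve U} (hR : R ∈ J S U) :
    ∃ (ι : Type u) (V : ι → Over S) (v : ∀ i, V i ⟶ U),
      (∀ i, Flat (v i).left) ∧ (∀ i, LocallyOfFinitePresentation (v i).left) ∧
      (∀ x : U.left, ∃ i, x ∈ Set.range (v i).left) ∧ ∀ i, R.arrows (v i) := by
  rw [GrothendieckTopology.mem_over_iff] at hR
  have hR' : Sieve.overEquiv U R ∈ Scheme.grothendieckTopology (@Flat ⊓ @LocallyOfFinitePresentation) U.left := hR
  have := isMultiplicative_flat_inf_lfp.{u}
  obtain ⟨𝒰, hle⟩ := Scheme.exists_cover_of_mem_grothendieckTopology hR'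
  have hm : Presieve.ofArrows 𝒰.X 𝒰.f ∈ Scheme.precoverage (@Flat ⊓ @LocallyOfFinitePresentation) U.left := 𝒰.mem₀
  rw [Scheme.ofArrows_mem_precoverage_iff] at hm
  obtain ⟨hs, hfp⟩ := hm
  refine ⟨𝒰.I₀, fun i => Over.mk (𝒰.f i ≫ U.hom), fun i => Over.homMk (𝒰.f i) rfl, fun i => (hfp i).1,
    fun i => (hfp i).2, hs, fun i => ?_⟩
  have h := hle _ _ (Presieve.ofArrows.mk i)
  rwa [Sieve.overEquiv_iff] at h

/-- A jointly surjective flat, locally finitely presented family of schemes is an fppf covering. -/
theorem isFppfCover_yon_map {ι : Type u} {U : Over S} (V : ι → Over S) (v : ∀ i, V i ⟶ U)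
    (hf : ∀ i, Flat (v i).left) (hp : ∀ i, LocallyOfFinitePresentation (v i).left)
    (hs : ∀ x : U.left, ∃ i, x ∈ Set.range (v i).left) :
    IsFppfCover (fun i => (yon S).obj (V i)) (fun i => (yon S).map (v i)) := by
  refine ⟨fun i => ⟨locP_of_repWith ((repWith_yon_map_iff _ _).2 (hf i)),
    locP_of_repWith ((repWith_yon_map_iff _ _).2 (hp i))⟩, fun x => ?_⟩
  obtain ⟨t, rfl⟩ := (Points.schemeHomeo U).surjective x
  obtain ⟨i, s, hs⟩ := hs t
  refine ⟨i, Points.schemeHomeo (V i) s, ?_⟩
  rw [Points.map_yon_map_eq]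
  simp [hs]

end Groth.Agent.AlgStLib
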