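import Groth.Agent.AlgStLib.Small

/-!
# Integral and finite morphisms representable by algebraic spaces
-/

set_option backward.isDefEq.respectTransparency false
set_option backward.isDefEq.respectTransparency.types false

universe u

open CategoryTheory CategoryTheory.Functor CategoryTheory.Limits AlgebraicGeometry Opposite AlgSp

namespace Groth.Agent.AlgStLib

open Groth.Agent.FibBase Groth.Agent.AlgSpLib

variable {S : Scheme.{u}} {𝒳 𝒴 𝒵 : AlgSt.Cat S}

/-- Base change to affine schemes is representable by an affine scheme with property `R` over the base. -/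
def AffineWith (R : MorphismProperty Scheme.{u}) : MorphismProperty (Sp S) := fun F G f =>
  ∀ ⦃Z : Over S⦄, IsAffine Z.left → ∀ (g : (yon S).obj Z ⟶ G),
    ∃ (W : Over S) (i : W ⟶ Z) (fst : (yon S).obj W ⟶ F),
      IsPullback fst ((yon S).map i) f g ∧ IsAffine W.left ∧ R i.left

theorem isIntegralMor_eq : (IsIntegralMor (S := S)) = AffineWith @IsIntegralHom := rfl

theorem isFiniteMor_eq : (IsFiniteMor (S := S)) = AffineWith @IsFinite := rfl

variable {R : MorphismProperty Scheme.{u}}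

theorem stableBC_affineWith : StableBC (AffineWith (S := S) R) := by
  intro X₁ Y₁ X₂ Y₂ _ _ _ _ a b a' b' sq h Z hZ g
  obtain ⟨W, i, fst, sq', hW⟩ := h hZ (g ≫ b)
  have w : fst ≫ a = ((yon S).map i ≫ g) ≫ b := sq'.w.trans (Category.assoc _ _ _).symm
  refine ⟨W, i, sq.lift fst ((yon S).map i ≫ g) w, IsPullback.of_right ?_ (sq.lift_snd _ _ _) sq, hW⟩
  rw [sq.lift_fst]
  exact sq'

theorem stableComp_affineWith [R.IsStableUnderComposition] : StableComp (AffineWith (S := S) R) := by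
  intro X Y Z _ _ _ a b ha hb T hT g
  obtain ⟨W, i, fst, sq, hW, hi⟩ := hb hT g
  obtain ⟨W', i', fst', sq', hW', hi'⟩ := ha hW fst
  refine ⟨W', i' ≫ i, fst', ?_, hW', R.comp_mem _ _ hi' hi⟩
  rw [Functor.map_comp]
  exact (sq'.flip.paste_horiz sq.flip).flip

theorem affineWith_of_repBySpWith {F G : Sp S} (a : F ⟶ G) (h : RepBySpWith (AffineWith R) a.hom) :
    AffineWith R a := fun Z hZ g => by
  obtain ⟨-, hs⟩ := (repBySpWith_hom_iff (AffineWith R) a).1 h g _ _ (IsPullback.of_hasPullback a g)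
  obtain ⟨W, i, fst, sq, hW⟩ := hs hZ (𝟙 _)
  exact ⟨W, i, fst ≫ pullback.fst a g, by simpa using sq.paste_horiz (IsPullback.of_hasPullback a g), hW⟩

theorem repByAlgSpWith_affineWith_comp [R.IsStableUnderComposition] (h𝒳 : FibCat.IsFibGrpd 𝒳.p)
    (h𝒴 : FibCat.IsFibGrpd 𝒴.p) {f : 𝒳 ⥤ᵇ 𝒴} {g : 𝒴 ⥤ᵇ 𝒵} (hf : AlgSt.RepByAlgSpWith (AffineWith R) f)
    (hg : AlgSt.RepByAlgSpWith (AffineWith R) g) :
    AlgSt.RepByAlgSpWith (AffineWith R) (BasedFunctor.comp f g) :=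
  repByAlgSpWith_comp' stableBC_affineWith stableComp_affineWith
    (fun _ _ a ha => affineWith_of_repBySpWith a ha) h𝒳 h𝒴 hf hg

/-- A morphism over a base whose diagonal has `P` inherits `P`, for `P` stable under base change and composition. -/
theorem repByAlgSpWith_of_diag {P : MorphismProperty (Sp S)} (hPb : StableBC P) (hPc : StableComp P)
    (hsp : ∀ {F G : Sp S}, IsAlgSpace F → IsAlgSpace G → ∀ (a : F ⟶ G), RepBySpWith P a.hom → P a)
    (h𝒳 : FibCat.IsFibGrpd 𝒳.p) (h𝒴 : FibCat.IsFibGrpd 𝒴.p) (h𝒵 : FibCat.IsFibGrpd 𝒵.p)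
    {f : 𝒳 ⥤ᵇ 𝒴} {a : 𝒳 ⥤ᵇ 𝒵} {b : 𝒴 ⥤ᵇ 𝒵} (e : BasedFunctor.comp f b ≅ a)
    (ha : AlgSt.RepByAlgSpWith P a) (hb : AlgSt.RepByAlgSpWith P (FibCat.diag b)) :
    AlgSt.RepByAlgSpWith P f := by
  let e' : BasedFunctor.comp (BasedFunctor.id 𝒳) a ≅ BasedFunctor.comp f b := e.symm
  exact repByAlgSpWith_comp' (f := FibCat.fpLift (BasedFunctor.id 𝒳) f e') (g := FibCat.fpSnd a b)
    hPb hPc hsp h𝒳 (fp_isFibGrpd h𝒳 h𝒴 h𝒵) (repByAlgSpWith_graph e' hb) (repByAlgSpWith_fpSnd b ha)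

end Groth.Agent.AlgStLib
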