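import Groth.Prelude.Def_AlgSt
import Groth.Agent.FibBase.Setoid
import Groth.Agent.FibBase.FpMaps
import Mathlib.CategoryTheory.Limits.Types.Pullbacks
import Mathlib.CategoryTheory.Limits.Shapes.Pullback.IsPullback.Basic

/-!
# The category over the base of a presheaf of sets

Functors into it are sections, natural in the source; equivalences correspond to isomorphisms of presheaves;
2-fibre products correspond to fibre products of presheaves.
-/

set_option backward.isDefEq.respectTransparency false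
set_option backward.isDefEq.respectTransparency.types false

universe w v₂ u₂ v u

open CategoryTheory CategoryTheory.Limits Opposite

namespace Groth.Agent.AlgStLib

open Groth.Agent.FibBase

variable {C : Type u} [Category.{v} C] {P Q R : Cᵒᵖ ⥤ Type w}
variable {𝒳 : BasedCategory.{v₂, u₂} C}

theorem faithful_forget (P : Cᵒᵖ ⥤ Type w) : (Stk.EltObj.forget P).Faithful :=
  ⟨fun h => Stk.EltObj.hom_ext h⟩

theorem isFibSetoid_ofPsh (P : Cᵒᵖ ⥤ Type w) : FibCat.IsFibSetoid (Stk.ofPsh P).p :=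
  isFibSetoid_iff.2 ⟨Stk.isFibGrpd_ofPsh P, faithful_forget P⟩

/-- An isomorphism in the category of a presheaf. -/
def eltIso {a b : Stk.EltObj P} (e : a.base ≅ b.base) (h : P.map e.hom.op b.sec = a.sec) : a ≅ b where
  hom := ⟨e.hom, h⟩
  inv := ⟨e.inv, by rw [← h, ← Functor.map_comp_apply, ← op_comp, e.inv_hom_id, op_id, P.map_id]; rfl⟩
  hom_inv_id := Stk.EltObj.hom_ext e.hom_inv_id
  inv_hom_id := Stk.EltObj.hom_ext e.inv_hom_id

theorem res_res (Q : Cᵒᵖ ⥤ Type w) {T T' T'' : C} (g : T' ⟶ T) (h : T'' ⟶ T') (s : Q.obj (op T)) :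
    Q.map h.op (Q.map g.op s) = Q.map (h ≫ g).op s := by
  simp

theorem res_congr (Q : Cᵒᵖ ⥤ Type w) {T T' : C} {g g' : T' ⟶ T} (h : g = g') (s : Q.obj (op T)) :
    Q.map g.op s = Q.map g'.op s := h ▸ rfl

theorem res_id (Q : Cᵒᵖ ⥤ Type w) {T : C} (g : T ⟶ T) (h : g = 𝟙 T) (s : Q.obj (op T)) : Q.map g.op s = s := by
  subst h; simp

/-- The section attached to an object by a functor into the category of a presheaf. -/
def secAt (Φ : 𝒳 ⥤ᵇ Stk.ofPsh Q) (x : 𝒳.obj) : Q.obj (op (𝒳.p.obj x)) :=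
  Q.map (eqToHom (Φ.w_obj x).symm).op (Φ.obj x).sec

theorem secAt_map (Φ : 𝒳 ⥤ᵇ Stk.ofPsh Q) {x y : 𝒳.obj} (φ : x ⟶ y) :
    Q.map (𝒳.p.map φ).op (secAt Φ y) = secAt Φ x := by
  have h1 : (Φ.map φ).hom = eqToHom (Φ.w_obj x) ≫ 𝒳.p.map φ ≫ eqToHom (Φ.w_obj y).symm :=
    Functor.congr_hom Φ.w φ
  have h3 : eqToHom (Φ.w_obj x).symm ≫ (Φ.map φ).hom = 𝒳.p.map φ ≫ eqToHom (Φ.w_obj y).symm :=
    (congrArg (fun g => eqToHom (Φ.w_obj x).symm ≫ g) h1).trans (by simp)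
  refine (res_res Q _ _ _).trans ((res_congr Q h3.symm _).trans ((res_res Q _ _ _).symm.trans ?_))
  exact congrArg (Q.map (eqToHom (Φ.w_obj x).symm).op) (Φ.map φ).map_sec

/-- Functors into the category of a presheaf with the same sections are isomorphic. -/
def pshIso (Φ Ψ : 𝒳 ⥤ᵇ Stk.ofPsh Q) (h : ∀ x, secAt Φ x = secAt Ψ x) : Φ ≅ Ψ :=
  BasedNatIso.mkNatIso
    (NatIso.ofComponents
      (fun x => eltIso (eqToIso ((Φ.w_obj x).trans (Ψ.w_obj x).symm : (Φ.obj x).base = (Ψ.obj x).base)) (by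
        refine (res_congr Q (eqToHom_trans (Φ.w_obj x) (Ψ.w_obj x).symm).symm _).trans ?_
        refine (res_res Q _ _ _).symm.trans ?_
        refine (congrArg (Q.map (eqToHom (Φ.w_obj x)).op) (h x).symm).trans ?_
        exact (res_res Q _ _ _).trans (res_id Q _ (eqToHom_trans _ _) _)))
      (fun {x y} φ => by
        refine Stk.EltObj.hom_ext ?_
        have hx : (Φ.map φ).hom = eqToHom (Φ.w_obj x) ≫ 𝒳.p.map φ ≫ eqToHom (Φ.w_obj y).symm :=
          Functor.congr_hom Φ.w φ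
        have hy : (Ψ.map φ).hom = eqToHom (Ψ.w_obj x) ≫ 𝒳.p.map φ ≫ eqToHom (Ψ.w_obj y).symm :=
          Functor.congr_hom Ψ.w φ
        have ex : (Φ.obj x).base = (Ψ.obj x).base := (Φ.w_obj x).trans (Ψ.w_obj x).symm
        have ey : (Φ.obj y).base = (Ψ.obj y).base := (Φ.w_obj y).trans (Ψ.w_obj y).symm
        show (Φ.map φ).hom ≫ eqToHom ey = eqToHom ex ≫ (Ψ.map φ).hom
        refine (congrArg (fun g => g ≫ eqToHom ey) hx).trans (Eq.trans ?_
          (congrArg (fun g => eqToHom ex ≫ g) hy).symm)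
        simp))
    (fun x => isHomLift_id_of_map_eq (Φ.w_obj x) (Ψ.w_obj x) rfl)

theorem secAt_eq_of_iso {Φ Ψ : 𝒳 ⥤ᵇ Stk.ofPsh Q} (e : Φ ≅ Ψ) (x : 𝒳.obj) : secAt Φ x = secAt Ψ x := by
  have h := map_eq_of_isHomLift_id (p := (Stk.ofPsh Q).p) (isoApp_lift e (a := x) rfl)
  have h' : (isoApp e x).hom.hom = eqToHom ((Φ.w_obj x).trans (Ψ.w_obj x).symm) := h
  refine (congrArg (Q.map (eqToHom (Φ.w_obj x).symm).op) (isoApp e x).hom.map_sec).symm.trans ?_
  refine (res_res Q _ _ _).trans (res_congr Q ?_ _)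
  exact (congrArg (eqToHom _ ≫ ·) h').trans (eqToHom_trans _ _)

/-- The map of presheaves attached to a functor between their categories. -/
def pshMap (Φ : Stk.ofPsh P ⥤ᵇ Stk.ofPsh Q) : P ⟶ Q where
  app T := ↾fun x => secAt Φ (⟨T.unop, x⟩ : Stk.EltObj P)
  naturality T T' g := by
    ext x
    exact (secAt_map Φ (x := (⟨T'.unop, P.map g x⟩ : Stk.EltObj P))
      (y := (⟨T.unop, x⟩ : Stk.EltObj P)) ⟨g.unop, rfl⟩).symm

theorem secAt_ofPshMap (a : P ⟶ Q) (x : Stk.EltObj P) :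
    secAt (Stk.ofPshMap a) x = a.app (op x.base) x.sec := by
  show Q.map (eqToHom (rfl : x.base = x.base)).op (a.app _ x.sec) = _
  simp

theorem secAt_comp_ofPshMap (G : 𝒳 ⥤ᵇ Stk.ofPsh P) (a : P ⟶ Q) (x : 𝒳.obj) :
    secAt (BasedFunctor.comp G (Stk.ofPshMap a)) x = a.app _ (secAt G x) := by
  rw [secAt, secAt]
  exact (NatTrans.naturality_apply a (eqToHom (G.w_obj x).symm).op (G.obj x).sec).symm

theorem pshMap_ofPshMap (a : P ⟶ Q) : pshMap (Stk.ofPshMap a) = a := by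
  ext T x
  exact secAt_ofPshMap a ⟨T.unop, x⟩

theorem pshMap_congr {Φ Ψ : Stk.ofPsh P ⥤ᵇ Stk.ofPsh Q} (e : Φ ≅ Ψ) : pshMap Φ = pshMap Ψ := by
  ext T x
  exact secAt_eq_of_iso e _

/-- Every functor between categories of presheaves comes from a map of presheaves. -/
def isoOfPshMap (Φ : Stk.ofPsh P ⥤ᵇ Stk.ofPsh Q) : Φ ≅ Stk.ofPshMap (pshMap Φ) :=
  pshIso _ _ fun x => (secAt_ofPshMap (pshMap Φ) x).symm

theorem pshMap_comp (Φ : Stk.ofPsh P ⥤ᵇ Stk.ofPsh Q) (Ψ : Stk.ofPsh Q ⥤ᵇ Stk.ofPsh R) :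
    pshMap (BasedFunctor.comp Φ Ψ) = pshMap Φ ≫ pshMap Ψ := by
  rw [pshMap_congr (whiskerLeftIso Φ (isoOfPshMap Ψ))]
  ext T x
  exact secAt_comp_ofPshMap Φ (pshMap Ψ) _

theorem pshMap_id : pshMap (BasedFunctor.id (Stk.ofPsh P)) = 𝟙 P := by
  ext T x
  show P.map (eqToHom (rfl : T.unop = T.unop)).op x = x
  simp

theorem isIso_pshMap {Φ : Stk.ofPsh P ⥤ᵇ Stk.ofPsh Q} (h : FibCat.IsEquivOver Φ) : IsIso (pshMap Φ) := by
  obtain ⟨G, ⟨e₁⟩, ⟨e₂⟩⟩ := h
  exact ⟨⟨pshMap G, by rw [← pshMap_comp, pshMap_congr e₁, pshMap_id],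
    by rw [← pshMap_comp, pshMap_congr e₂, pshMap_id]⟩⟩

theorem isEquivOver_ofPshMap (a : P ⟶ Q) [IsIso a] : FibCat.IsEquivOver (Stk.ofPshMap a) := by
  refine ⟨Stk.ofPshMap (inv a), ⟨pshIso _ _ fun x => ?_⟩, ⟨pshIso _ _ fun x => ?_⟩⟩
  · rw [secAt_comp_ofPshMap, secAt_ofPshMap]
    show _ = P.map (eqToHom (rfl : x.base = x.base)).op x.sec
    simp
  · rw [secAt_comp_ofPshMap, secAt_ofPshMap]
    show _ = Q.map (eqToHom (rfl : x.base = x.base)).op x.sec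
    simp

/-- A square of presheaves gives a functor to the 2-fibre product. -/
def pshCone {A : Cᵒᵖ ⥤ Type w} {a : P ⟶ R} {b : Q ⟶ R} {fst : A ⟶ P} {snd : A ⟶ Q} (w : fst ≫ a = snd ≫ b) :
    Stk.ofPsh A ⥤ᵇ FibCat.fp (Stk.ofPshMap a) (Stk.ofPshMap b) :=
  FibCat.fpLift (Stk.ofPshMap fst) (Stk.ofPshMap snd) (pshIso _ _ fun x => by
    rw [secAt_comp_ofPshMap, secAt_comp_ofPshMap, secAt_ofPshMap, secAt_ofPshMap]
    exact congrArg (fun m : A ⟶ R => m.app (op x.base) x.sec) w)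

theorem pshCone_isEquivOver {A : Cᵒᵖ ⥤ Type w} {a : P ⟶ R} {b : Q ⟶ R} {fst : A ⟶ P} {snd : A ⟶ Q}
    (sq : IsPullback fst snd a b) : FibCat.IsEquivOver (pshCone sq.w) := by
  have hT : ∀ T : Cᵒᵖ, IsPullback (fst.app T) (snd.app T) (a.app T) (b.app T) := fun T =>
    sq.map ((evaluation _ _).obj T)
  refine isEquivOver_of_exists_iso _ ⟨fun {x y} t => ?_⟩ ⟨fun {x y} t t' h => ?_⟩ fun η => ?_
  · have h₁ : t.hom.snd.hom = t.hom.fst.hom := by
      have h := fp_isHomLift_snd' (F := Stk.ofPshMap a) (G := Stk.ofPshMap b) t.hom.fst.hom t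
        (h := IsHomLift.map _ _)
      have h' := IsHomLift.fac' (Stk.ofPsh Q).p t.hom.fst.hom t.hom.snd
      exact h'.trans (by simp)
    refine ⟨⟨t.hom.fst.hom, ?_⟩, ObjectProperty.hom_ext _ (CategoricalPullback.hom_ext
      (Stk.EltObj.hom_ext rfl) (Stk.EltObj.hom_ext h₁.symm))⟩
    refine Types.ext_of_isPullback (hT (op x.base)) ?_ ?_
    · exact (NatTrans.naturality_apply fst t.hom.fst.hom.op y.sec).trans t.hom.fst.map_sec
    · have hs : Q.map t.hom.snd.hom.op (snd.app _ y.sec) = snd.app _ x.sec := t.hom.snd.map_sec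
      rw [h₁] at hs
      exact (NatTrans.naturality_apply snd t.hom.fst.hom.op y.sec).trans hs
  · exact Stk.EltObj.hom_ext (congrArg (fun s => s.hom.fst.hom) h)
  · have hi := map_eq_of_isHomLift_id (p := (Stk.ofPsh R).p) η.property
    have hb : η.obj.snd.base = η.obj.fst.base := snd_proj η
    have hi' : η.obj.iso.hom.hom = eqToHom hb.symm := hi
    have hs : R.map η.obj.iso.hom.hom.op (b.app _ η.obj.snd.sec) = a.app _ η.obj.fst.sec :=
      η.obj.iso.hom.map_sec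
    rw [hi', ← NatTrans.naturality_apply] at hs
    obtain ⟨z, hz₁, hz₂⟩ := Types.exists_of_isPullback (hT (op η.obj.fst.base)) _ _ hs.symm
    refine ⟨⟨η.obj.fst.base, z⟩, fpIsoMk (eltIso (Iso.refl _) ?_) (eltIso (eqToIso hb.symm) ?_) ?_, ?_⟩
    · show P.map (𝟙 η.obj.fst.base).op η.obj.fst.sec = fst.app _ z
      simp [hz₁]
    · show Q.map (eqToHom hb.symm).op η.obj.snd.sec = snd.app _ z
      exact hz₂.symm
    · refine Stk.EltObj.hom_ext ?_
      show 𝟙 η.obj.fst.base ≫ η.obj.iso.hom.hom = 𝟙 _ ≫ eqToHom hb.symm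
      simp [hi']
    · refine fp_isHomLift (F := Stk.ofPshMap a) (G := Stk.ofPshMap b) (𝟙 _) _ (h := ?_)
      refine isHomLift_id_of_map_eq (p := (Stk.ofPsh P).p) ?_ ?_ ?_
      · rfl
      · rfl
      · rfl

end Groth.Agent.AlgStLib
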