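import Groth.Prelude.Def_AlgSt2
import Groth.Agent.AlgStLib.OfPsh
import Groth.Agent.FibBase.Slices

/-!
# Categories of sheaves and slices over a base scheme
-/

set_option backward.isDefEq.respectTransparency false
set_option backward.isDefEq.respectTransparency.types false

universe v₂ u₂ u

open CategoryTheory CategoryTheory.Limits AlgebraicGeometry Opposite AlgSp

namespace Groth.Agent.AlgStLib

open Groth.Agent.FibBase

variable {S : Scheme.{u}} {F G H : Sp S} {U V : Over S}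

theorem secAt_comp_ofOverCat {𝒳 : BasedCategory.{v₂, u₂} (Over S)} (Φ : 𝒳 ⥤ᵇ FibCat.overCat U) (x : 𝒳.obj) :
    secAt (BasedFunctor.comp Φ (AlgSt.ofOverCat U)) x = ⟨eqToHom (Φ.w_obj x).symm ≫ (Φ.obj x).hom⟩ :=
  rfl

theorem isEquivOver_ofOverCat (U : Over S) : FibCat.IsEquivOver (AlgSt.ofOverCat U) := by
  refine ⟨AlgSt.toOverCat U, ⟨overIso _ _ fun x => ?_⟩, ⟨pshIso _ _ fun x => ?_⟩⟩
  · show 𝟙 x.left ≫ x.hom = x.hom
    simp
  · rfl

theorem isEquivOver_toOverCat (U : Over S) : FibCat.IsEquivOver (AlgSt.toOverCat U) := by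
  refine ⟨AlgSt.ofOverCat U, ⟨pshIso _ _ fun x => ?_⟩, ⟨overIso _ _ fun x => ?_⟩⟩
  · rfl
  · show 𝟙 x.left ≫ x.hom = x.hom
    simp

/-- `toOverCat` followed by `ofOverCat` is the identity. -/
def toOverCatIso (U : Over S) :
    BasedFunctor.comp (AlgSt.toOverCat U) (AlgSt.ofOverCat U) ≅ BasedFunctor.id (AlgSt.ofSch U) :=
  pshIso _ _ fun _ => rfl

/-- `ofOverCat` followed by `toOverCat` is the identity. -/
def ofOverCatIso (U : Over S) :
    BasedFunctor.comp (AlgSt.ofOverCat U) (AlgSt.toOverCat U) ≅ BasedFunctor.id (FibCat.overCat U) :=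
  overIso _ _ fun x => by
    show 𝟙 x.left ≫ x.hom = x.hom
    simp

/-- The map of sheaves attached to a functor between their categories. -/
def spHom (Φ : AlgSt.ofSp F ⥤ᵇ AlgSt.ofSp G) : F ⟶ G :=
  ObjectProperty.homMk (pshMap Φ)

theorem spHom_hom (Φ : AlgSt.ofSp F ⥤ᵇ AlgSt.ofSp G) : (spHom Φ).hom = pshMap Φ := rfl

theorem spHom_ofSpMap (a : F ⟶ G) : spHom (AlgSt.ofSpMap a) = a :=
  ObjectProperty.hom_ext _ (pshMap_ofPshMap a.hom)

theorem spHom_congr {Φ Ψ : AlgSt.ofSp F ⥤ᵇ AlgSt.ofSp G} (e : Φ ≅ Ψ) : spHom Φ = spHom Ψ :=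
  ObjectProperty.hom_ext _ (pshMap_congr e)

theorem spHom_comp (Φ : AlgSt.ofSp F ⥤ᵇ AlgSt.ofSp G) (Ψ : AlgSt.ofSp G ⥤ᵇ AlgSt.ofSp H) :
    spHom (BasedFunctor.comp Φ Ψ) = spHom Φ ≫ spHom Ψ :=
  ObjectProperty.hom_ext _ (pshMap_comp Φ Ψ)

/-- Every functor between categories of sheaves comes from a map of sheaves. -/
def isoOfSpMap (Φ : AlgSt.ofSp F ⥤ᵇ AlgSt.ofSp G) : Φ ≅ AlgSt.ofSpMap (spHom Φ) :=
  isoOfPshMap Φ

theorem isIso_spHom {Φ : AlgSt.ofSp F ⥤ᵇ AlgSt.ofSp G} (h : FibCat.IsEquivOver Φ) : IsIso (spHom Φ) :=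
  have := isIso_pshMap h
  (ObjectProperty.isIso_hom_iff (spHom Φ)).1 this

theorem isEquivOver_ofSpMap (a : F ⟶ G) [IsIso a] : FibCat.IsEquivOver (AlgSt.ofSpMap a) :=
  have : IsIso a.hom := (ObjectProperty.isIso_hom_iff a).2 ‹_›
  isEquivOver_ofPshMap a.hom

theorem spMapOfOver_eq (Φ : AlgSt.ofSp F ⥤ᵇ FibCat.overCat U) :
    AlgSt.spMapOfOver Φ = spHom (BasedFunctor.comp Φ (AlgSt.ofOverCat U)) := by
  apply ObjectProperty.hom_ext
  ext T x
  rfl

theorem spMapOfOver_congr {Φ Ψ : AlgSt.ofSp F ⥤ᵇ FibCat.overCat U} (e : Φ ≅ Ψ) :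
    AlgSt.spMapOfOver Φ = AlgSt.spMapOfOver Ψ := by
  rw [spMapOfOver_eq, spMapOfOver_eq]
  exact spHom_congr (whiskerRightIso e _)

theorem spMapOfOver_comp (Φ : AlgSt.ofSp F ⥤ᵇ AlgSt.ofSp G) (Ψ : AlgSt.ofSp G ⥤ᵇ FibCat.overCat U) :
    AlgSt.spMapOfOver (BasedFunctor.comp Φ Ψ) = spHom Φ ≫ AlgSt.spMapOfOver Ψ := by
  rw [spMapOfOver_eq, spMapOfOver_eq, ← spHom_comp]
  rfl

theorem spMapOfOver_ofSpMap_toOverCat (a : F ⟶ (yon S).obj U) :
    AlgSt.spMapOfOver (BasedFunctor.comp (AlgSt.ofSpMap a) (AlgSt.toOverCat U)) = a := by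
  rw [spMapOfOver_eq]
  exact (spHom_congr (whiskerLeftIso (AlgSt.ofSpMap a) (toOverCatIso U))).trans (spHom_ofSpMap a)

/-- Every functor from the category of a sheaf to a slice comes from a map of sheaves. -/
def isoSpMapOfOver (Φ : AlgSt.ofSp F ⥤ᵇ FibCat.overCat U) :
    Φ ≅ BasedFunctor.comp (AlgSt.ofSpMap (AlgSt.spMapOfOver Φ)) (AlgSt.toOverCat U) :=
  (whiskerLeftIso Φ (ofOverCatIso U)).symm ≪≫
    whiskerRightIso (isoOfSpMap (BasedFunctor.comp Φ (AlgSt.ofOverCat U)) ≪≫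
      eqToIso (congrArg (fun m => AlgSt.ofSpMap m) (spMapOfOver_eq Φ).symm)) (AlgSt.toOverCat U)

/-- The object of `ofSp F` of a map from a representable sheaf. -/
abbrev eltOfMap (g : (yon S).obj U ⟶ F) : (AlgSt.ofSp F).obj := ⟨U, (J S).uliftYonedaEquiv g⟩

theorem app_eq_uliftYonedaEquiv (g : (yon S).obj U ⟶ F) (t : V ⟶ U) :
    g.hom.app (op V) ⟨t⟩ = F.obj.map t.op ((J S).uliftYonedaEquiv g) := by
  have h := NatTrans.naturality_apply g.hom t.op (⟨𝟙 U⟩ : ((yon S).obj U).obj.obj (op U))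
  refine Eq.trans ?_ h
  refine congrArg (g.hom.app (op V)) (ULift.ext _ _ ?_)
  exact (Category.comp_id t).symm

/-- The functor from a slice attached to a map from a representable sheaf. -/
def overOfMap (g : (yon S).obj U ⟶ F) : FibCat.overCat U ⥤ᵇ AlgSt.ofSp F :=
  BasedFunctor.comp (AlgSt.ofOverCat U) (AlgSt.ofSpMap g)

/-- The map from a representable sheaf attached to a functor from a slice. -/
def mapOfOver (Φ : FibCat.overCat U ⥤ᵇ AlgSt.ofSp F) : (yon S).obj U ⟶ F :=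
  spHom (BasedFunctor.comp (AlgSt.toOverCat U) Φ)

/-- Every functor from a slice into the category of a sheaf comes from a map of sheaves. -/
def isoOverOfMap (Φ : FibCat.overCat U ⥤ᵇ AlgSt.ofSp F) : Φ ≅ overOfMap (mapOfOver Φ) :=
  (whiskerRightIso (ofOverCatIso U) Φ).symm ≪≫
    whiskerLeftIso (AlgSt.ofOverCat U) (isoOfSpMap (BasedFunctor.comp (AlgSt.toOverCat U) Φ))

theorem mapOfOver_overOfMap (g : (yon S).obj U ⟶ F) : mapOfOver (overOfMap g) = g :=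
  (spHom_congr (whiskerRightIso (toOverCatIso U) (AlgSt.ofSpMap g))).trans (spHom_ofSpMap g)

end Groth.Agent.AlgStLib
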