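import Groth.Prelude.Def_AlgSt3
import Groth.Agent.AlgStLib.OfSp
import Groth.Agent.FibBase.Repr
import Groth.Agent.AlgSpLib.Rep

/-!
# Functors representable by algebraic spaces: formal calculus
-/

set_option backward.isDefEq.respectTransparency false
set_option backward.isDefEq.respectTransparency.types false

universe u

open CategoryTheory CategoryTheory.Limits AlgebraicGeometry Opposite AlgSp

namespace Groth.Agent.AlgStLib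

open Groth.Agent.FibBase

variable {S : Scheme.{u}} {𝒳 𝒴 𝒵 : AlgSt.Cat S}

instance full_id (𝒳 : AlgSt.Cat S) : (BasedFunctor.id 𝒳).toFunctor.Full := inferInstanceAs (𝟭 _).Full
instance faithful_id (𝒳 : AlgSt.Cat S) : (BasedFunctor.id 𝒳).toFunctor.Faithful :=
  inferInstanceAs (𝟭 _).Faithful

theorem isEquivOver_inv {f : 𝒳 ⥤ᵇ 𝒴} (h : FibCat.IsEquivOver f) :
    ∃ g : 𝒴 ⥤ᵇ 𝒳, FibCat.IsEquivOver g ∧ Nonempty (BasedFunctor.comp f g ≅ BasedFunctor.id 𝒳) ∧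
      Nonempty (BasedFunctor.comp g f ≅ BasedFunctor.id 𝒴) := by
  obtain ⟨g, h₁, h₂⟩ := h
  exact ⟨g, ⟨f, h₂, h₁⟩, h₁, h₂⟩

/-! ## Representability of categories -/

theorem repByAlgSp_of_equiv (e : 𝒳 ⥤ᵇ 𝒴) (he : FibCat.IsEquivOver e) (h : AlgSt.RepByAlgSp 𝒳) :
    AlgSt.RepByAlgSp 𝒴 := by
  obtain ⟨F, e', he'⟩ := h
  exact ⟨F, BasedFunctor.comp e' e, isEquivOver_comp he' he⟩

theorem repByAlgSp_iff_of_equiv (e : 𝒳 ⥤ᵇ 𝒴) (he : FibCat.IsEquivOver e) :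
    AlgSt.RepByAlgSp 𝒳 ↔ AlgSt.RepByAlgSp 𝒴 := by
  refine ⟨repByAlgSp_of_equiv e he, ?_⟩
  obtain ⟨g, hg, -⟩ := isEquivOver_inv he
  exact repByAlgSp_of_equiv g hg

theorem repByAlgSp_ofSp {F : Sp S} (hF : IsAlgSpace F) : AlgSt.RepByAlgSp (AlgSt.ofSp F) :=
  ⟨⟨F, hF⟩, BasedFunctor.id _, isEquivOver_id⟩

theorem repByAlgSp_overCat (U : Over S) : AlgSt.RepByAlgSp (FibCat.overCat U : AlgSt.Cat S) :=
  repByAlgSp_of_equiv _ (isEquivOver_toOverCat U) (repByAlgSp_ofSp (IsAlgSpace.yon_obj U))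

theorem isFibSetoid_of_repByAlgSp (h : AlgSt.RepByAlgSp 𝒳) : FibCat.IsFibSetoid 𝒳.p := by
  obtain ⟨F, e, he⟩ := h
  exact (isFibSetoid_iff_of_isEquivOver he).1 (isFibSetoid_ofPsh _)

/-! ## Representable data of a single base change -/

/-- A representation of a category over a slice by an algebraic space whose map to the scheme has `P`. -/
def RepOver (P : MorphismProperty (Sp S)) {U : Over S} (p : 𝒳 ⥤ᵇ FibCat.overCat U) : Prop :=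
  ∃ (F : AlgSp.Space S) (e : AlgSt.ofSp F.obj ⥤ᵇ 𝒳),
    FibCat.IsEquivOver e ∧ P (AlgSt.spMapOfOver (BasedFunctor.comp e p))

theorem repByAlgSpWith_iff (P : MorphismProperty (Sp S)) (f : 𝒳 ⥤ᵇ 𝒴) :
    AlgSt.RepByAlgSpWith P f ↔ ∀ (U : Over S) (y : FibCat.overCat U ⥤ᵇ 𝒴), RepOver P (FibCat.fpFst y f) :=
  Iff.rfl

variable {P Q : MorphismProperty (Sp S)}

theorem RepOver.of_equiv {U : Over S} {p : 𝒳 ⥤ᵇ FibCat.overCat U} (h : RepOver P p) (k : 𝒳 ⥤ᵇ 𝒴)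
    (hk : FibCat.IsEquivOver k) {p' : 𝒴 ⥤ᵇ FibCat.overCat U} (e : BasedFunctor.comp k p' ≅ p) :
    RepOver P p' := by
  obtain ⟨F, e', he', hP⟩ := h
  refine ⟨F, BasedFunctor.comp e' k, isEquivOver_comp he' hk, ?_⟩
  rwa [spMapOfOver_congr (show BasedFunctor.comp (BasedFunctor.comp e' k) p' ≅ BasedFunctor.comp e' p from
    whiskerLeftIso e' e)]

theorem RepOver.mono {U : Over S} {p : 𝒳 ⥤ᵇ FibCat.overCat U} (h : RepOver P p) (hPQ : P ≤ Q) :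
    RepOver Q p := by
  obtain ⟨F, e, he, hP⟩ := h
  exact ⟨F, e, he, hPQ _ hP⟩

theorem RepOver.repByAlgSp {U : Over S} {p : 𝒳 ⥤ᵇ FibCat.overCat U} (h : RepOver P p) :
    AlgSt.RepByAlgSp 𝒳 := by
  obtain ⟨F, e, he, -⟩ := h
  exact ⟨F, e, he⟩

/-- For a property respecting isomorphisms, any representation may be used. -/
theorem RepOver.property [P.RespectsIso] {U : Over S} {p : 𝒳 ⥤ᵇ FibCat.overCat U} (h : RepOver P p)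
    {F : Sp S} (e : AlgSt.ofSp F ⥤ᵇ 𝒳) (he : FibCat.IsEquivOver e) :
    P (AlgSt.spMapOfOver (BasedFunctor.comp e p)) := by
  obtain ⟨F', e', he', hP⟩ := h
  obtain ⟨g, hg, -, ⟨i⟩⟩ := isEquivOver_inv he'
  let k : AlgSt.ofSp F ⥤ᵇ AlgSt.ofSp F'.obj := BasedFunctor.comp e g
  have : IsIso (spHom k) := isIso_spHom (Φ := k) (isEquivOver_comp he hg)
  let j : BasedFunctor.comp k e' ≅ e := whiskerLeftIso e i
  have hj : AlgSt.spMapOfOver (BasedFunctor.comp e p) =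
      AlgSt.spMapOfOver (BasedFunctor.comp k (BasedFunctor.comp e' p)) :=
    spMapOfOver_congr (whiskerRightIso j p).symm
  rw [hj, spMapOfOver_comp]
  exact MorphismProperty.RespectsIso.precomp P _ _ hP

/-! ## The classes -/

theorem repByAlgSpWith_mono (h : P ≤ Q) {f : 𝒳 ⥤ᵇ 𝒴} (hf : AlgSt.RepByAlgSpWith P f) :
    AlgSt.RepByAlgSpWith Q f :=
  fun U y => (show RepOver P (FibCat.fpFst y f) from hf U y).mono h

theorem repByAlgSp1_of_repByAlgSpWith {f : 𝒳 ⥤ᵇ 𝒴} (hf : AlgSt.RepByAlgSpWith P f) : AlgSt.RepByAlgSp1 f :=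
  fun U y => (show RepOver P (FibCat.fpFst y f) from hf U y).repByAlgSp

theorem repByAlgSp1_iff_top {f : 𝒳 ⥤ᵇ 𝒴} : AlgSt.RepByAlgSp1 f ↔ AlgSt.RepByAlgSpWith ⊤ f :=
  ⟨fun h U y => by obtain ⟨F, e, he⟩ := h U y; exact ⟨F, e, he, trivial⟩, repByAlgSp1_of_repByAlgSpWith⟩

theorem repByAlgSpWith_inf_iff [P.RespectsIso] {f : 𝒳 ⥤ᵇ 𝒴} :
    AlgSt.RepByAlgSpWith (P ⊓ Q) f ↔ AlgSt.RepByAlgSpWith P f ∧ AlgSt.RepByAlgSpWith Q f := by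
  refine ⟨fun h => ⟨repByAlgSpWith_mono inf_le_left h, repByAlgSpWith_mono inf_le_right h⟩, fun h U y => ?_⟩
  obtain ⟨F, e, he, hQ⟩ := h.2 U y
  exact ⟨F, e, he, (show RepOver P (FibCat.fpFst y f) from h.1 U y).property e he, hQ⟩

theorem repByAlgSpWith_of_iso {f f' : 𝒳 ⥤ᵇ 𝒴} (i : f ≅ f') (hf : AlgSt.RepByAlgSpWith P f) :
    AlgSt.RepByAlgSpWith P f' := fun U y =>
  RepOver.of_equiv (hf U y)
    (fpMap (F := y) (G := f') (F' := y) (G' := f) (a := BasedFunctor.id _) (b := BasedFunctor.id _)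
      (c := BasedFunctor.id _) (Iso.refl _) i)
    (fpMap_isEquivOver _ _ isEquivOver_id isEquivOver_id) (Iso.refl _)

theorem repOver_congr {f : 𝒳 ⥤ᵇ 𝒴} {U : Over S} {y y' : FibCat.overCat U ⥤ᵇ 𝒴} (i : y ≅ y')
    (h : RepOver P (FibCat.fpFst y f)) : RepOver P (FibCat.fpFst y' f) :=
  h.of_equiv
    (fpMap (F := y') (G := f) (F' := y) (G' := f) (a := BasedFunctor.id _) (b := BasedFunctor.id _)
      (c := BasedFunctor.id _) i.symm (Iso.refl _))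
    (fpMap_isEquivOver _ _ isEquivOver_id isEquivOver_id) (Iso.refl _)

theorem repByAlgSpWith_iff_of_square {𝒳' 𝒴' : AlgSt.Cat S} {f : 𝒳 ⥤ᵇ 𝒴} {f' : 𝒳' ⥤ᵇ 𝒴'} {a : 𝒳' ⥤ᵇ 𝒳}
    {b : 𝒴' ⥤ᵇ 𝒴} (ha : FibCat.IsEquivOver a) (hb : FibCat.IsEquivOver b)
    (e : BasedFunctor.comp f' b ≅ BasedFunctor.comp a f) :
    AlgSt.RepByAlgSpWith P f ↔ AlgSt.RepByAlgSpWith P f' := by
  have := full_of_isEquivOver hb
  have := faithful_of_isEquivOver hb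
  have key : ∀ (U : Over S) (y : FibCat.overCat U ⥤ᵇ 𝒴'),
      RepOver P (FibCat.fpFst (BasedFunctor.comp y b) f) ↔ RepOver P (FibCat.fpFst y f') := by
    intro U y
    let k := fpMap (F := BasedFunctor.comp y b) (G := f) (F' := y) (G' := f')
      (a := BasedFunctor.id _) (b := a) (c := b) (Iso.refl _) e
    have hk : FibCat.IsEquivOver k := fpMap_isEquivOver _ _ isEquivOver_id ha
    refine ⟨fun h => ?_, fun h => h.of_equiv k hk (Iso.refl _)⟩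
    obtain ⟨g, hg, -, ⟨i⟩⟩ := isEquivOver_inv hk
    exact h.of_equiv g hg (whiskerRightIso i (FibCat.fpFst (BasedFunctor.comp y b) f))
  refine ⟨fun h U y => (key U y).1 (h U _), fun h U y => ?_⟩
  obtain ⟨b', -, -, ⟨i⟩⟩ := isEquivOver_inv hb
  exact repOver_congr (whiskerLeftIso y i) ((key U (BasedFunctor.comp y b')).2 (h U _))

theorem repByAlgSpWith_fpFst {f : 𝒳 ⥤ᵇ 𝒴} (g : 𝒵 ⥤ᵇ 𝒴) (hf : AlgSt.RepByAlgSpWith P f) :
    AlgSt.RepByAlgSpWith P (FibCat.fpFst g f) := fun U y => by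
  obtain ⟨k, hk, -, ⟨i⟩⟩ := isEquivOver_inv (pasteVert_isEquivOver y g f)
  exact RepOver.of_equiv (hf U (BasedFunctor.comp y g)) k hk
    (whiskerRightIso i (FibCat.fpFst (BasedFunctor.comp y g) f))

theorem repByAlgSp1_fpFst {f : 𝒳 ⥤ᵇ 𝒴} (g : 𝒵 ⥤ᵇ 𝒴) (hf : AlgSt.RepByAlgSp1 f) :
    AlgSt.RepByAlgSp1 (FibCat.fpFst g f) :=
  repByAlgSp1_of_repByAlgSpWith (repByAlgSpWith_fpFst g (repByAlgSp1_iff_top.1 hf))

/-- The symmetry of a 2-fibre product. -/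
def fpSwap (f : 𝒳 ⥤ᵇ 𝒵) (g : 𝒴 ⥤ᵇ 𝒵) : FibCat.fp f g ⥤ᵇ FibCat.fp g f :=
  FibCat.fpLift (FibCat.fpSnd f g) (FibCat.fpFst f g) (FibCat.fpIso f g).symm

theorem fpSwap_isEquivOver (f : 𝒳 ⥤ᵇ 𝒵) (g : 𝒴 ⥤ᵇ 𝒵) : FibCat.IsEquivOver (fpSwap f g) := by
  refine ⟨fpSwap g f, ⟨?_⟩, ⟨?_⟩⟩
  all_goals exact Iso.refl _

theorem repByAlgSpWith_fpSnd {f : 𝒳 ⥤ᵇ 𝒴} (g : 𝒵 ⥤ᵇ 𝒴) (hf : AlgSt.RepByAlgSpWith P f) :
    AlgSt.RepByAlgSpWith P (FibCat.fpSnd f g) := by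
  refine (repByAlgSpWith_iff_of_square (f' := FibCat.fpSnd f g) (a := fpSwap f g) (b := BasedFunctor.id _)
    (fpSwap_isEquivOver f g) isEquivOver_id ?_).1 (repByAlgSpWith_fpFst g hf)
  exact Iso.refl _

theorem repByAlgSp1_fpSnd {f : 𝒳 ⥤ᵇ 𝒴} (g : 𝒵 ⥤ᵇ 𝒴) (hf : AlgSt.RepByAlgSp1 f) :
    AlgSt.RepByAlgSp1 (FibCat.fpSnd f g) :=
  repByAlgSp1_of_repByAlgSpWith (repByAlgSpWith_fpSnd g (repByAlgSp1_iff_top.1 hf))

theorem repByAlgSp1_iff_of_square {𝒳' 𝒴' : AlgSt.Cat S} {f : 𝒳 ⥤ᵇ 𝒴} {f' : 𝒳' ⥤ᵇ 𝒴'} {a : 𝒳' ⥤ᵇ 𝒳}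
    {b : 𝒴' ⥤ᵇ 𝒴} (ha : FibCat.IsEquivOver a) (hb : FibCat.IsEquivOver b)
    (e : BasedFunctor.comp f' b ≅ BasedFunctor.comp a f) :
    AlgSt.RepByAlgSp1 f ↔ AlgSt.RepByAlgSp1 f' := by
  rw [repByAlgSp1_iff_top, repByAlgSp1_iff_top]
  exact repByAlgSpWith_iff_of_square ha hb e

theorem repByAlgSp1_of_iso {f f' : 𝒳 ⥤ᵇ 𝒴} (i : f ≅ f') (hf : AlgSt.RepByAlgSp1 f) : AlgSt.RepByAlgSp1 f' :=
  repByAlgSp1_of_repByAlgSpWith (repByAlgSpWith_of_iso i (repByAlgSp1_iff_top.1 hf))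

/-- Base change along a functor equivalent to a slice. -/
theorem repByAlgSp_fp_overCat {f : 𝒳 ⥤ᵇ 𝒴} (hf : AlgSt.RepByAlgSp1 f) {U : Over S}
    (y : FibCat.overCat U ⥤ᵇ 𝒴) : AlgSt.RepByAlgSp (FibCat.fp f y) :=
  repByAlgSp_of_equiv (fpSwap y f) (fpSwap_isEquivOver y f) (hf U y)

end Groth.Agent.AlgStLib
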