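import Groth.Agent.AlgStLib.OfPsh

/-!
# A category fibred in setoids is the category of its presheaf of isomorphism classes
-/

set_option backward.isDefEq.respectTransparency false
set_option backward.isDefEq.respectTransparency.types false

universe v₂ u₂ v u

open CategoryTheory CategoryTheory.Functor CategoryTheory.Limits Opposite

namespace Groth.Agent.AlgStLib

open Groth.Agent.FibBase

variable {C : Type u} [Category.{v} C] (𝒳 : BasedCategory.{v₂, u₂} C)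

/-- Objects over `T` up to isomorphism over the identity. -/
def fibreSetoid (T : C) : Setoid {z : 𝒳.obj // 𝒳.p.obj z = T} where
  r a b := ∃ e : a.1 ≅ b.1, 𝒳.p.IsHomLift (𝟙 T) e.hom
  iseqv :=
    { refl := fun a => ⟨Iso.refl _, IsHomLift.id a.2⟩
      symm := fun ⟨e, he⟩ => ⟨e.symm, IsHomLift.lift_id_inv 𝒳.p _ e⟩
      trans := fun ⟨e, he⟩ ⟨e', he'⟩ => ⟨e ≪≫ e', by rw [Iso.trans_hom]; infer_instance⟩ }

variable {𝒳}

theorem rel_of_lifts [FibCat.IsFibGrpd 𝒳.p] {T T' : C} (g : T' ⟶ T)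
    {a b : {z : 𝒳.obj // 𝒳.p.obj z = T}} (hab : (fibreSetoid 𝒳 T).r a b)
    {a' b' : {z : 𝒳.obj // 𝒳.p.obj z = T'}} (φ : a'.1 ⟶ a.1) (ψ : b'.1 ⟶ b.1)
    [𝒳.p.IsHomLift g φ] [𝒳.p.IsHomLift g ψ] : (fibreSetoid 𝒳 T').r a' b' := by
  obtain ⟨e, he⟩ := hab
  have : 𝒳.p.IsHomLift g (φ ≫ e.hom) := by
    simpa using IsHomLift.comp 𝒳.p g (𝟙 T) φ e.hom
  obtain ⟨i, hi, -⟩ := exists_iso_of_lifts (p := 𝒳.p) g ψ (φ ≫ e.hom)
  exact ⟨i, hi⟩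

variable (𝒳) (h : FibCat.IsFibGrpd 𝒳.p)

/-- The source of a chosen lift. -/
noncomputable def liftSrc {T T' : C} (g : T' ⟶ T) (a : {z : 𝒳.obj // 𝒳.p.obj z = T}) :
    {z : 𝒳.obj // 𝒳.p.obj z = T'} :=
  ⟨(exists_lift_of_eq h a.2 g).choose, by
    have := (exists_lift_of_eq h a.2 g).choose_spec.choose_spec
    exact IsHomLift.domain_eq 𝒳.p g (exists_lift_of_eq h a.2 g).choose_spec.choose⟩

theorem exists_liftSrc {T T' : C} (g : T' ⟶ T) (a : {z : 𝒳.obj // 𝒳.p.obj z = T}) :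
    ∃ φ : (liftSrc 𝒳 h g a).1 ⟶ a.1, 𝒳.p.IsHomLift g φ :=
  (exists_lift_of_eq h a.2 g).choose_spec

/-- The presheaf of isomorphism classes of objects. -/
noncomputable def clsPsh : Cᵒᵖ ⥤ Type u₂ where
  obj T := Quotient (fibreSetoid 𝒳 T.unop)
  map {T T'} g := ↾(Quotient.map' (liftSrc 𝒳 h g.unop) (fun a b hab => by
    obtain ⟨φ, hφ⟩ := exists_liftSrc 𝒳 h g.unop a
    obtain ⟨ψ, hψ⟩ := exists_liftSrc 𝒳 h g.unop b
    exact rel_of_lifts g.unop hab φ ψ))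
  map_id T := by
    ext x
    induction x using Quotient.inductionOn' with
    | h a =>
      obtain ⟨φ, hφ⟩ := exists_liftSrc 𝒳 h (𝟙 T.unop) a
      have := IsHomLift.id (p := 𝒳.p) a.2
      exact Quotient.sound (rel_of_lifts (𝟙 _) ((fibreSetoid 𝒳 _).refl a) φ (𝟙 a.1))
  map_comp {T T' T''} f g := by
    ext x
    induction x using Quotient.inductionOn' with
    | h a =>
      obtain ⟨φ, hφ⟩ := exists_liftSrc 𝒳 h f.unop a
      obtain ⟨ψ, hψ⟩ := exists_liftSrc 𝒳 h g.unop (liftSrc 𝒳 h f.unop a)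
      obtain ⟨χ, hχ⟩ := exists_liftSrc 𝒳 h (g.unop ≫ f.unop) a
      have := IsHomLift.comp 𝒳.p g.unop f.unop ψ φ
      exact Quotient.sound (rel_of_lifts (g.unop ≫ f.unop) ((fibreSetoid 𝒳 _).refl a) χ (ψ ≫ φ))

/-- The class of an object. -/
noncomputable def cls {T : C} (a : {z : 𝒳.obj // 𝒳.p.obj z = T}) : (clsPsh 𝒳 h).obj (op T) :=
  Quotient.mk (fibreSetoid 𝒳 T) a

theorem map_cls {T T' : C} (g : T' ⟶ T) (a : {z : 𝒳.obj // 𝒳.p.obj z = T})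
    {b : {z : 𝒳.obj // 𝒳.p.obj z = T'}} (φ : b.1 ⟶ a.1) [𝒳.p.IsHomLift g φ] :
    (clsPsh 𝒳 h).map g.op (cls 𝒳 h a) = cls 𝒳 h b := by
  obtain ⟨ψ, hψ⟩ := exists_liftSrc 𝒳 h g a
  exact Quotient.sound (rel_of_lifts g ((fibreSetoid 𝒳 _).refl a) ψ φ)

/-- The functor to the category of the presheaf of classes. -/
noncomputable def toCls : 𝒳 ⥤ᵇ Stk.ofPsh (clsPsh 𝒳 h) where
  toFunctor :=
    { obj := fun x => ⟨𝒳.p.obj x, cls 𝒳 h ⟨x, rfl⟩⟩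
      map := fun {x y} φ => ⟨𝒳.p.map φ, map_cls 𝒳 h _ ⟨y, rfl⟩ (b := ⟨x, rfl⟩) φ⟩
      map_id := fun x => Stk.EltObj.hom_ext (𝒳.p.map_id x)
      map_comp := fun φ ψ => Stk.EltObj.hom_ext (𝒳.p.map_comp φ ψ) }
  w := rfl

theorem toCls_isEquivOver (hs : FibCat.IsFibSetoid 𝒳.p) : FibCat.IsEquivOver (toCls 𝒳 h) := by
  have hf := (isFibSetoid_iff.1 hs).2
  refine isEquivOver_of_exists_iso _ ⟨fun {x y} t => ?_⟩ ⟨fun {x y} t t' e => ?_⟩ fun η => ?_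
  · obtain ⟨g, hg⟩ := t
    obtain ⟨φ, hφ⟩ := exists_liftSrc 𝒳 h g ⟨y, rfl⟩
    have e := Quotient.exact ((map_cls 𝒳 h g ⟨y, rfl⟩ (b := liftSrc 𝒳 h g ⟨y, rfl⟩) φ).symm.trans hg)
    obtain ⟨i, hi⟩ := e
    have : 𝒳.p.IsHomLift (𝟙 (𝒳.p.obj x)) i.hom := hi
    have hi' : 𝒳.p.IsHomLift (𝟙 (𝒳.p.obj x)) i.inv := IsHomLift.lift_id_inv 𝒳.p _ i
    refine ⟨i.inv ≫ φ, Stk.EltObj.hom_ext ?_⟩
    have : 𝒳.p.IsHomLift g (i.inv ≫ φ) := by
      simpa using IsHomLift.comp 𝒳.p (𝟙 (𝒳.p.obj x)) g i.inv φ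
    exact (IsHomLift.eq_of_isHomLift 𝒳.p g (i.inv ≫ φ)).symm
  · exact hf.map_injective (congrArg Stk.EltObj.Hom.hom e)
  · obtain ⟨T, c⟩ := η
    induction c using Quotient.inductionOn' with
    | h a =>
      refine ⟨a.1, eltIso (eqToIso a.2) ?_, ?_⟩
      · have : 𝒳.p.IsHomLift (eqToHom a.2) (𝟙 a.1) := IsHomLift.of_fac' _ _ _ rfl a.2 (by simp)
        exact map_cls 𝒳 h (eqToHom a.2) a (b := ⟨a.1, rfl⟩) (𝟙 a.1)
      · refine isHomLift_id_of_map_eq (p := (Stk.ofPsh (clsPsh 𝒳 h)).p) ?_ rfl ?_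
        · exact a.2
        · rfl

end Groth.Agent.AlgStLib
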