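import Groth.Prelude.Def_AlgSpRep
import Groth.Agent.AlgStLib.Calculus
import Groth.Agent.AlgStLib.SetoidPsh
import Groth.Agent.AlgSpLib.RepBySp
import Groth.Agent.AlgSpLib.Covers

/-!
# Categories representable by algebraic spaces over an algebraic space; composition
-/

set_option backward.isDefEq.respectTransparency false
set_option backward.isDefEq.respectTransparency.types false

universe u

open CategoryTheory CategoryTheory.Limits AlgebraicGeometry Opposite AlgSp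

namespace Groth.Agent.AlgStLib

open Groth.Agent.FibBase Groth.Agent.AlgSpLib

variable {S : Scheme.{u}} {𝒳 𝒴 𝒵 : AlgSt.Cat S} {P : MorphismProperty (Sp S)}

/-- Stable under base change among algebraic spaces. -/
def StableBC (P : MorphismProperty (Sp S)) : Prop :=
  ∀ ⦃X₁ Y₁ X₂ Y₂ : Sp S⦄, IsAlgSpace X₁ → IsAlgSpace Y₁ → IsAlgSpace X₂ → IsAlgSpace Y₂ →
    ∀ (a : X₁ ⟶ Y₁) (b : Y₂ ⟶ Y₁) (a' : X₂ ⟶ Y₂) (b' : X₂ ⟶ X₁), IsPullback b' a' a b → P a → P a'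

/-- Stable under composition among algebraic spaces. -/
def StableComp (P : MorphismProperty (Sp S)) : Prop :=
  ∀ ⦃X Y Z : Sp S⦄, IsAlgSpace X → IsAlgSpace Y → IsAlgSpace Z → ∀ (a : X ⟶ Y) (b : Y ⟶ Z),
    P a → P b → P (a ≫ b)

theorem stableBC_of [P.IsStableUnderBaseChange] : StableBC P :=
  fun _ _ _ _ _ _ _ _ _ _ _ _ sq h => MorphismProperty.of_isPullback sq h

theorem stableComp_of [P.IsStableUnderComposition] : StableComp P :=
  fun _ _ _ _ _ _ a b ha hb => P.comp_mem a b ha hb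

theorem StableBC.precomp (h : StableBC P) {F F' G : Sp S} (hF : IsAlgSpace F) (hG : IsAlgSpace G) (φ : F' ⟶ F)
    [IsIso φ] {a : F ⟶ G} (ha : P a) : P (φ ≫ a) :=
  h hF hG (hF.of_iso (asIso φ).symm) hG a (𝟙 G) (φ ≫ a) φ
    (IsPullback.of_horiz_isIso ⟨(Category.comp_id _).symm⟩) ha

theorem StableBC.postcomp (h : StableBC P) {F G G' : Sp S} (hF : IsAlgSpace F) (hG : IsAlgSpace G) (φ : G ⟶ G')
    [IsIso φ] {a : F ⟶ G} (ha : P a) : P (a ≫ φ) :=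
  h hF hG hF (hG.of_iso (asIso φ)) a (inv φ) (a ≫ φ) (𝟙 F)
    (IsPullback.of_horiz_isIso ⟨by simp⟩) ha

/-- For a property stable under base change among algebraic spaces any representation may be used. -/
theorem RepOver.property_of_stableBC (hP : StableBC P) {U : Over S} {p : 𝒳 ⥤ᵇ FibCat.overCat U}
    (h : RepOver P p) {F : Sp S} (e : AlgSt.ofSp F ⥤ᵇ 𝒳) (he : FibCat.IsEquivOver e) :
    IsAlgSpace F ∧ P (AlgSt.spMapOfOver (BasedFunctor.comp e p)) := by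
  obtain ⟨F', e', he', hP'⟩ := h
  obtain ⟨g, hg, -, ⟨i⟩⟩ := isEquivOver_inv he'
  let k : AlgSt.ofSp F ⥤ᵇ AlgSt.ofSp F'.obj := BasedFunctor.comp e g
  have : IsIso (spHom k) := isIso_spHom (Φ := k) (isEquivOver_comp he hg)
  let j : BasedFunctor.comp k e' ≅ e := whiskerLeftIso e i
  have hj : AlgSt.spMapOfOver (BasedFunctor.comp e p) =
      AlgSt.spMapOfOver (BasedFunctor.comp k (BasedFunctor.comp e' p)) :=
    spMapOfOver_congr (whiskerRightIso j p).symm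
  refine ⟨F'.property.of_iso (asIso (spHom k)).symm, ?_⟩
  rw [hj, spMapOfOver_comp]
  exact hP.precomp F'.property (IsAlgSpace.yon_obj U) _ hP'

section Compare

variable {F G : PSp S} {a : F ⟶ G} (q : 𝒵 ⥤ᵇ Stk.ofPsh G) (e : Stk.ofPsh F ⥤ᵇ 𝒵)
  (i : BasedFunctor.comp e q ≅ Stk.ofPshMap a)

/-- The comparison from a fibre product of presheaves to a 2-fibre product. -/
def compare {U : Over S} {ξ : (pyon S).obj U ⟶ G} {F' : PSp S} {fst : F' ⟶ F} {snd : F' ⟶ (pyon S).obj U}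
    (sq : IsPullback fst snd a ξ) :
    Stk.ofPsh F' ⥤ᵇ FibCat.fp (BasedFunctor.comp (AlgSt.ofOverCat U) (Stk.ofPshMap ξ)) q :=
  BasedFunctor.comp (pshCone sq.flip.w)
    (fpMap (F := BasedFunctor.comp (AlgSt.ofOverCat U) (Stk.ofPshMap ξ)) (G := q) (F' := Stk.ofPshMap ξ)
      (G' := Stk.ofPshMap a) (a := AlgSt.toOverCat U) (b := e) (c := BasedFunctor.id _)
      (whiskerRightIso (toOverCatIso U) (Stk.ofPshMap ξ)) i.symm)

theorem compare_isEquivOver (he : FibCat.IsEquivOver e) {U : Over S} {ξ : (pyon S).obj U ⟶ G} {F' : PSp S}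
    {fst : F' ⟶ F} {snd : F' ⟶ (pyon S).obj U} (sq : IsPullback fst snd a ξ) :
    FibCat.IsEquivOver (compare q e i sq) :=
  have : (BasedFunctor.id (Stk.ofPsh G : AlgSt.Cat S)).toFunctor.Full := inferInstanceAs (𝟭 _).Full
  have : (BasedFunctor.id (Stk.ofPsh G : AlgSt.Cat S)).toFunctor.Faithful := inferInstanceAs (𝟭 _).Faithful
  isEquivOver_comp (pshCone_isEquivOver sq.flip) (fpMap_isEquivOver _ _ (isEquivOver_toOverCat U) he)

/-- The comparison is compatible with the projections to the scheme. -/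
def compareFst {U : Over S} {ξ : (pyon S).obj U ⟶ G} {F' : PSp S} {fst : F' ⟶ F}
    {snd : F' ⟶ (pyon S).obj U} (sq : IsPullback fst snd a ξ) :
    BasedFunctor.comp (compare q e i sq) (FibCat.fpFst _ q) ≅
      BasedFunctor.comp (Stk.ofPshMap snd) (AlgSt.toOverCat U) :=
  Iso.refl _

theorem repBySp_of_repByAlgSp1 (he : FibCat.IsEquivOver e) (hq : AlgSt.RepByAlgSp1 q)
    (i : BasedFunctor.comp e q ≅ Stk.ofPshMap a) : RepBySp a := by
  intro U ξ F' fst snd sq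
  obtain ⟨F₁, e₁, he₁⟩ := hq U (BasedFunctor.comp (AlgSt.ofOverCat U) (Stk.ofPshMap ξ))
  obtain ⟨g, hg, -⟩ := isEquivOver_inv (compare_isEquivOver q e i he sq)
  let k : Stk.ofPsh F₁.obj.obj ⥤ᵇ Stk.ofPsh F' := BasedFunctor.comp e₁ g
  have : IsIso (pshMap k) := isIso_pshMap (Φ := k) (isEquivOver_comp he₁ hg)
  exact ((isAlgSpaceP_obj_iff _).2 F₁.property).of_iso (asIso (pshMap k))

theorem repBySpWith_of_repByAlgSpWith (hP : StableBC P) (he : FibCat.IsEquivOver e)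
    (hq : AlgSt.RepByAlgSpWith P q) (i : BasedFunctor.comp e q ≅ Stk.ofPshMap a) : RepBySpWith P a := by
  intro U ξ F' fst snd sq
  obtain ⟨h, -⟩ := repBySp_of_repByAlgSp1 q e he (repByAlgSp1_of_repByAlgSpWith hq) i ξ fst snd sq
  have hy : RepOver P (FibCat.fpFst (BasedFunctor.comp (AlgSt.ofOverCat U) (Stk.ofPshMap ξ)) q) := hq U _
  obtain ⟨hF, hPF⟩ := hy.property_of_stableBC hP (F := (⟨F', h⟩ : Sp S)) (compare q e i sq)
    (compare_isEquivOver q e i he sq)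
  refine ⟨h, hF, ?_⟩
  have := spMapOfOver_congr (F := (⟨F', h⟩ : Sp S)) (compareFst q e i sq)
  rw [this] at hPF
  exact (spMapOfOver_ofSpMap_toOverCat
    (ObjectProperty.homMk snd : (⟨F', h⟩ : Sp S) ⟶ (yon S).obj U)) ▸ hPF

end Compare

/-- A functor from a slice into the category of a presheaf comes from a section. -/
def isoOverOfPsh {G : PSp S} {U : Over S} (y : FibCat.overCat U ⥤ᵇ Stk.ofPsh G) :
    y ≅ BasedFunctor.comp (AlgSt.ofOverCat U) (Stk.ofPshMap (pshMap (BasedFunctor.comp (AlgSt.toOverCat U) y))) :=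
  (whiskerRightIso (ofOverCatIso U) y).symm ≪≫
    whiskerLeftIso (AlgSt.ofOverCat U) (isoOfPshMap (BasedFunctor.comp (AlgSt.toOverCat U) y))

theorem repByAlgSpWith_of_repBySpWith {F G : PSp S} {a : F ⟶ G} (ha : RepBySpWith P a) :
    AlgSt.RepByAlgSpWith P (Stk.ofPshMap a) := by
  intro U y
  let ξ := pshMap (BasedFunctor.comp (AlgSt.toOverCat U) y)
  have sq := IsPullback.of_hasPullback a ξ
  obtain ⟨h, hA, hP⟩ := ha ξ _ _ sq
  refine repOver_congr (isoOverOfPsh y).symm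
    ⟨⟨⟨_, h⟩, hA⟩, compare (Stk.ofPshMap a) (BasedFunctor.id _) (Iso.refl _) sq,
      compare_isEquivOver _ _ _ isEquivOver_id sq, ?_⟩
  rw [spMapOfOver_congr (F := (⟨_, h⟩ : Sp S)) (compareFst (Stk.ofPshMap a) (BasedFunctor.id _) (Iso.refl _) sq)]
  exact (spMapOfOver_ofSpMap_toOverCat
    (ObjectProperty.homMk (pullback.snd a ξ) : (⟨_, h⟩ : Sp S) ⟶ (yon S).obj U)).symm ▸ hP

theorem repByAlgSp1_of_repBySp {F G : PSp S} {a : F ⟶ G} (ha : RepBySp a) :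
    AlgSt.RepByAlgSp1 (Stk.ofPshMap a) :=
  repByAlgSp1_of_repByAlgSpWith (P := ⊤) (repByAlgSpWith_of_repBySpWith fun _ ξ _ fst snd sq => by
    obtain ⟨h, hA⟩ := ha ξ fst snd sq
    exact ⟨h, hA, trivial⟩)

theorem faithful_of_overSpace {G : PSp S} (hZ : FibCat.IsFibGrpd 𝒵.p) (q : 𝒵 ⥤ᵇ Stk.ofPsh G)
    (hq : AlgSt.RepByAlgSp1 q) : 𝒵.p.Faithful := by
  refine ⟨fun {x z} φ φ' h => ?_⟩
  let U := 𝒵.p.obj z
  let y : FibCat.overCat U ⥤ᵇ Stk.ofPsh G :=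
    BasedFunctor.comp (AlgSt.ofOverCat U) (Stk.ofPshMap (uliftYonedaEquiv.symm (secAt q z)))
  have hf : (FibCat.fp y q).p.Faithful := (isFibSetoid_iff.1 (isFibSetoid_of_repByAlgSp (hq U y))).2
  let g : Over.mk (𝒵.p.map φ) ⟶ Over.mk (𝟙 U) := Over.homMk (𝒵.p.map φ) (Category.comp_id _)
  let iz : y.obj (Over.mk (𝟙 U)) ≅ q.obj z := eltIso (eqToIso (q.w_obj z).symm) (by
    show _ = G.map (𝟙 U).op (secAt q z)
    refine Eq.trans ?_ (res_id G (𝟙 U) rfl _).symm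
    rfl)
  let ix : y.obj (Over.mk (𝒵.p.map φ)) ≅ q.obj x := eltIso (eqToIso (q.w_obj x).symm) (by
    show _ = G.map (𝒵.p.map φ).op (secAt q z)
    rw [secAt_map q φ]
    rfl)
  let oz : (FibCat.fp y q).obj := ⟨⟨Over.mk (𝟙 U), z, iz⟩, isHomLift_id_of_map_eq rfl (q.w_obj z) rfl⟩
  let ox : (FibCat.fp y q).obj :=
    ⟨⟨Over.mk (𝒵.p.map φ), x, ix⟩, isHomLift_id_of_map_eq rfl (q.w_obj x) rfl⟩
  have w : ∀ ψ : x ⟶ z, 𝒵.p.map ψ = 𝒵.p.map φ → y.map g ≫ iz.hom = ix.hom ≫ q.map ψ := fun ψ hψ => by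
    refine Stk.EltObj.hom_ext ?_
    show 𝒵.p.map φ ≫ eqToHom (q.w_obj z).symm = eqToHom (q.w_obj x).symm ≫ (q.map ψ).hom
    rw [show (q.map ψ).hom = _ from Functor.congr_hom q.w ψ]
    show _ = eqToHom _ ≫ eqToHom _ ≫ 𝒵.p.map ψ ≫ eqToHom _
    simp [hψ]
  let m : ox ⟶ oz := ObjectProperty.homMk ⟨g, φ, w φ rfl⟩
  let m' : ox ⟶ oz := ObjectProperty.homMk ⟨g, φ', w φ' h.symm⟩
  exact congrArg (fun t => t.hom.snd) (hf.map_injective (show (FibCat.fp y q).p.map m = (FibCat.fp y q).p.map m' from rfl))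

theorem exists_repBySp_of_overSpace {G : PSp S} (hZ : FibCat.IsFibGrpd 𝒵.p) (q : 𝒵 ⥤ᵇ Stk.ofPsh G)
    (hq : AlgSt.RepByAlgSp1 q) :
    ∃ (F : PSp S) (a : F ⟶ G) (e : Stk.ofPsh F ⥤ᵇ 𝒵),
      FibCat.IsEquivOver e ∧ Nonempty (BasedFunctor.comp e q ≅ Stk.ofPshMap a) := by
  have hs : FibCat.IsFibSetoid 𝒵.p := isFibSetoid_iff.2 ⟨hZ, faithful_of_overSpace hZ q hq⟩
  obtain ⟨e, he, -⟩ := isEquivOver_inv (toCls_isEquivOver 𝒵 hZ hs)
  exact ⟨_, pshMap (BasedFunctor.comp e q), e, he, ⟨isoOfPshMap _⟩⟩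

/-- A category fibred in groupoids representable by algebraic spaces over the category of an algebraic space is
representable by an algebraic space, compatibly. -/
theorem exists_space_of_overSpace {G : Sp S} (hG : IsAlgSpace G) (hZ : FibCat.IsFibGrpd 𝒵.p)
    (q : 𝒵 ⥤ᵇ AlgSt.ofSp G) (hq : AlgSt.RepByAlgSp1 q) :
    ∃ (F : AlgSp.Space S) (a : F.obj ⟶ G) (e : AlgSt.ofSp F.obj ⥤ᵇ 𝒵),
      FibCat.IsEquivOver e ∧ Nonempty (BasedFunctor.comp e q ≅ AlgSt.ofSpMap a) := by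
  obtain ⟨F, a, e, he, ⟨i⟩⟩ := exists_repBySp_of_overSpace hZ q hq
  obtain ⟨h, hA⟩ := isAlgSpaceP_of_repBySp (repBySp_of_repByAlgSp1 q e he hq i) ((isAlgSpaceP_obj_iff G).2 hG)
  exact ⟨⟨⟨F, h⟩, hA⟩, ObjectProperty.homMk a, e, he, ⟨i⟩⟩

theorem repByAlgSp_fp (h𝒳 : FibCat.IsFibGrpd 𝒳.p) (h𝒴 : FibCat.IsFibGrpd 𝒴.p) (f : 𝒳 ⥤ᵇ 𝒴) (g : 𝒵 ⥤ᵇ 𝒴)
    (hf : AlgSt.RepByAlgSp1 f) (hZ : AlgSt.RepByAlgSp 𝒵) : AlgSt.RepByAlgSp (FibCat.fp g f) := by
  obtain ⟨F, e, he⟩ := hZ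
  have := fpMap_isEquivOver (F := g) (G := f) (F' := BasedFunctor.comp e g) (G' := f) (a := e)
    (b := BasedFunctor.id _) (c := BasedFunctor.id _) (Iso.refl _) (Iso.refl _) he isEquivOver_id
  refine repByAlgSp_of_equiv _ this ?_
  obtain ⟨F', -, e', he', -⟩ := exists_space_of_overSpace F.property
    (fp_isFibGrpd (Stk.isFibGrpd_ofPsh _) h𝒳 h𝒴) (FibCat.fpFst (BasedFunctor.comp e g) f)
    (repByAlgSp1_fpFst _ hf)
  exact ⟨F', e', he'⟩

theorem repByAlgSp1_comp (h𝒳 : FibCat.IsFibGrpd 𝒳.p) (h𝒴 : FibCat.IsFibGrpd 𝒴.p) {f : 𝒳 ⥤ᵇ 𝒴} {g : 𝒴 ⥤ᵇ 𝒵}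
    (hf : AlgSt.RepByAlgSp1 f) (hg : AlgSt.RepByAlgSp1 g) : AlgSt.RepByAlgSp1 (BasedFunctor.comp f g) :=
  fun U y => repByAlgSp_of_equiv (pasteHor y f g) (pasteHor_isEquivOver y f g)
    (repByAlgSp_fp h𝒳 h𝒴 f (FibCat.fpSnd y g) hf (hg U y))

/-- A property local on the base holds for a morphism of algebraic spaces once it holds for all base changes to
schemes. -/
theorem property_of_repBySpWith (hloc : IsLocalOnBase IsFppfCover P) {F G : Sp S}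
    (hF : IsAlgSpace F) (hG : IsAlgSpace G) {a : F ⟶ G} (ha : RepBySpWith P a.hom) : P a := by
  obtain ⟨U, p, hp, hp'⟩ := hG.atlas
  obtain ⟨h₁, h₂⟩ := (repBySpWith_hom_iff P a).1 ha p _ _ (IsPullback.of_hasPullback a p)
  exact (hloc _ _ hG (fun _ : PUnit.{u+1} => IsAlgSpace.yon_obj U) (isFppfCover_of_repWith_etale hp hp') a hF
    (fun _ => pullback a p) (fun _ => pullback.snd a p) (fun _ => pullback.fst a p) (fun _ => h₁)
    (fun _ => IsPullback.of_hasPullback a p)).2 fun _ => h₂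

theorem repByAlgSpWith_comp' (hPb : StableBC P) (hPc : StableComp P)
    (hsp : ∀ {F G : Sp S}, IsAlgSpace F → IsAlgSpace G → ∀ (a : F ⟶ G), RepBySpWith P a.hom → P a)
    (h𝒳 : FibCat.IsFibGrpd 𝒳.p) (h𝒴 : FibCat.IsFibGrpd 𝒴.p) {f : 𝒳 ⥤ᵇ 𝒴} {g : 𝒴 ⥤ᵇ 𝒵}
    (hf : AlgSt.RepByAlgSpWith P f) (hg : AlgSt.RepByAlgSpWith P g) :
    AlgSt.RepByAlgSpWith P (BasedFunctor.comp f g) := by
  intro U y
  obtain ⟨F, e, he, hPe⟩ := hg U y
  let K : AlgSt.ofSp F.obj ⥤ᵇ 𝒴 := BasedFunctor.comp e (FibCat.fpSnd y g)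
  have hq : AlgSt.RepByAlgSpWith P (FibCat.fpFst K f) := repByAlgSpWith_fpFst K hf
  obtain ⟨F', a, e', he', ⟨i⟩⟩ := exists_space_of_overSpace F.property
    (fp_isFibGrpd (Stk.isFibGrpd_ofPsh _) h𝒳 h𝒴) (FibCat.fpFst K f) (repByAlgSp1_of_repByAlgSpWith hq)
  have ha : P a := hsp F'.property F.property a
    (repBySpWith_of_repByAlgSpWith (FibCat.fpFst K f) e' hPb he' hq i)
  let k := fpMap (F := FibCat.fpSnd y g) (G := f) (F' := K) (G' := f) (a := e) (b := BasedFunctor.id _)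
    (c := BasedFunctor.id _) (Iso.refl _) (Iso.refl _)
  have hk : FibCat.IsEquivOver k := fpMap_isEquivOver _ _ he isEquivOver_id
  refine ⟨F', BasedFunctor.comp e' (BasedFunctor.comp k (pasteHor y f g)),
    isEquivOver_comp he' (isEquivOver_comp hk (pasteHor_isEquivOver y f g)), ?_⟩
  let j : BasedFunctor.comp (BasedFunctor.comp e' (BasedFunctor.comp k (pasteHor y f g)))
      (FibCat.fpFst y (BasedFunctor.comp f g)) ≅
      BasedFunctor.comp (AlgSt.ofSpMap a) (BasedFunctor.comp e (FibCat.fpFst y g)) :=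
    whiskerRightIso i (BasedFunctor.comp e (FibCat.fpFst y g))
  rw [spMapOfOver_congr j, spMapOfOver_comp, spHom_ofSpMap]
  exact hPc F'.property F.property (IsAlgSpace.yon_obj U) _ _ ha hPe

theorem repByAlgSpWith_comp (hPb : StableBC P) (hPc : StableComp P) (hloc : IsLocalOnBase IsFppfCover P)
    (h𝒳 : FibCat.IsFibGrpd 𝒳.p) (h𝒴 : FibCat.IsFibGrpd 𝒴.p) {f : 𝒳 ⥤ᵇ 𝒴} {g : 𝒴 ⥤ᵇ 𝒵}
    (hf : AlgSt.RepByAlgSpWith P f) (hg : AlgSt.RepByAlgSpWith P g) :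
    AlgSt.RepByAlgSpWith P (BasedFunctor.comp f g) :=
  repByAlgSpWith_comp' hPb hPc (fun hF hG _ ha => property_of_repBySpWith hloc hF hG ha) h𝒳 h𝒴 hf hg

/-- A representable property holds once it holds for all base changes to schemes. -/
theorem repWith_of_repBySpWith {R : MorphismProperty Scheme.{u}} [R.IsStableUnderBaseChange] {F G : Sp S}
    (a : F ⟶ G) (h : RepBySpWith (RepWith R) a.hom) : RepWith R a :=
  repWith_of_squares fun U g => by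
    obtain ⟨-, hs⟩ := (repBySpWith_hom_iff (RepWith R) a).1 h g _ _ (IsPullback.of_hasPullback a g)
    obtain ⟨V, snd, fst, sq⟩ := hs.rep (𝟙 _)
    exact ⟨V, fst ≫ pullback.fst a g, snd, by
      simpa using sq.paste_horiz (IsPullback.of_hasPullback a g), hs.2 (𝟙 _) fst snd sq⟩

end Groth.Agent.AlgStLib
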