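import Groth.Agent.AlgStLib.EtLocal
import Groth.Agent.AlgStLib.RepDiag

/-!
# Maps of fibre products induced by a pair of functors
-/

set_option backward.isDefEq.respectTransparency false
set_option backward.isDefEq.respectTransparency.types false

universe u

open CategoryTheory CategoryTheory.Functor CategoryTheory.Limits AlgebraicGeometry Opposite AlgSp

namespace Groth.Agent.AlgStLib

open Groth.Agent.FibBase Groth.Agent.AlgSpLib

variable {S : Scheme.{u}} {𝒳 𝒴 𝒳' 𝒴' 𝒵 : AlgSt.Cat S} {P : MorphismProperty (Sp S)}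
  (p' : 𝒳' ⥤ᵇ 𝒵) (q' : 𝒴' ⥤ᵇ 𝒵) (f : 𝒳 ⥤ᵇ 𝒳') (g : 𝒴 ⥤ᵇ 𝒴')

/-- The map of fibre products induced by `f` and `g`. -/
def fpPair : FibCat.fp (BasedFunctor.comp f p') (BasedFunctor.comp g q') ⥤ᵇ FibCat.fp p' q' :=
  FibCat.fpLift (BasedFunctor.comp (FibCat.fpFst _ _) f) (BasedFunctor.comp (FibCat.fpSnd _ _) g)
    (FibCat.fpIso (BasedFunctor.comp f p') (BasedFunctor.comp g q'))

/-- The first base change. -/
abbrev pairStep₁ : FibCat.fp (FibCat.fpFst p' q') f ⥤ᵇ FibCat.fp p' q' :=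
  FibCat.fpFst (FibCat.fpFst p' q') f

/-- The second base change. -/
abbrev pairStep₂ : FibCat.fp (BasedFunctor.comp (pairStep₁ p' q' f) (FibCat.fpSnd p' q')) g ⥤ᵇ
    FibCat.fp (FibCat.fpFst p' q') f :=
  FibCat.fpFst _ g

/-- The fibre product of two base changes is the fibre product of the composites. -/
def pairEquiv : FibCat.fp (BasedFunctor.comp (pairStep₁ p' q' f) (FibCat.fpSnd p' q')) g ⥤ᵇ
    FibCat.fp (BasedFunctor.comp f p') (BasedFunctor.comp g q') :=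
  FibCat.fpLift (BasedFunctor.comp (FibCat.fpFst _ g) (FibCat.fpSnd (FibCat.fpFst p' q') f))
    (FibCat.fpSnd _ g)
    ((whiskerLeftIso (FibCat.fpFst _ g) (whiskerRightIso (FibCat.fpIso (FibCat.fpFst p' q') f) p')).symm ≪≫
      whiskerLeftIso (BasedFunctor.comp (FibCat.fpFst _ g) (pairStep₁ p' q' f)) (FibCat.fpIso p' q') ≪≫
      whiskerRightIso (FibCat.fpIso _ g) q')

theorem pairEquiv_iso (x) : ((pairEquiv p' q' f g).obj x).obj.iso.hom =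
    p'.map x.obj.fst.obj.iso.inv ≫ x.obj.fst.obj.fst.obj.iso.hom ≫ q'.map x.obj.iso.hom := rfl

/-- The comparison of the composite of the base changes with the induced map. -/
def pairIso : BasedFunctor.comp (BasedFunctor.comp (pairStep₂ p' q' f g) (pairStep₁ p' q' f))
      (BasedFunctor.id _) ≅ BasedFunctor.comp (pairEquiv p' q' f g) (fpPair p' q' f g) :=
  BasedNatIso.mkNatIso
    (NatIso.ofComponents
      (fun x => fpIsoMk (x := x.obj.fst.obj.fst)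
        (y := (BasedFunctor.comp (pairEquiv p' q' f g) (fpPair p' q' f g)).obj x)
        x.obj.fst.obj.iso x.obj.iso (by
          show p'.map x.obj.fst.obj.iso.hom ≫
              (p'.map x.obj.fst.obj.iso.inv ≫ x.obj.fst.obj.fst.obj.iso.hom ≫ q'.map x.obj.iso.hom) = _
          rw [← Category.assoc, ← p'.toFunctor.map_comp, Iso.hom_inv_id, p'.toFunctor.map_id, Category.id_comp]))
      (fun {x z} φ => by
        refine ObjectProperty.hom_ext _ (CategoricalPullback.hom_ext ?_ ?_)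
        · exact φ.hom.fst.hom.w
        · exact φ.hom.w))
    (fun x => fp_isHomLift (F := p') (G := q') (𝟙 (𝒳'.p.obj x.obj.fst.obj.fst.obj.fst)) _
      (h := fp_iso_lift x.obj.fst))

theorem pairEquiv_isEquivOver : FibCat.IsEquivOver (pairEquiv p' q' f g) := by
  refine isEquivOver_of_exists_iso _ ⟨fun {x z} t => ?_⟩ ⟨fun {x z} t t' h => ?_⟩ fun η => ?_
  · let m₁ : x.obj.fst.obj.fst.obj.fst ⟶ z.obj.fst.obj.fst.obj.fst :=
      x.obj.fst.obj.iso.hom ≫ f.map t.hom.fst ≫ z.obj.fst.obj.iso.inv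
    let m₂ : x.obj.fst.obj.fst.obj.snd ⟶ z.obj.fst.obj.fst.obj.snd :=
      x.obj.iso.hom ≫ g.map t.hom.snd ≫ z.obj.iso.inv
    have w : p'.map (f.map t.hom.fst) ≫
        p'.map z.obj.fst.obj.iso.inv ≫ z.obj.fst.obj.fst.obj.iso.hom ≫ q'.map z.obj.iso.hom =
        (p'.map x.obj.fst.obj.iso.inv ≫ x.obj.fst.obj.fst.obj.iso.hom ≫ q'.map x.obj.iso.hom) ≫
          q'.map (g.map t.hom.snd) := t.hom.w
    have w₁ : p'.map m₁ ≫ z.obj.fst.obj.fst.obj.iso.hom = x.obj.fst.obj.fst.obj.iso.hom ≫ q'.map m₂ := by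
      rw [← cancel_mono (q'.map z.obj.iso.hom), ← cancel_epi (p'.map x.obj.fst.obj.iso.inv)]
      simp only [m₁, m₂, p'.toFunctor.map_comp, q'.toFunctor.map_comp, Category.assoc]
      simp only [← p'.toFunctor.map_comp_assoc, Iso.inv_hom_id_assoc, ← q'.toFunctor.map_comp,
        Iso.inv_hom_id, Category.comp_id]
      simp only [p'.toFunctor.map_comp_assoc, q'.toFunctor.map_comp, Category.assoc] at w ⊢
      exact w
    let s₁ : x.obj.fst.obj.fst ⟶ z.obj.fst.obj.fst := ObjectProperty.homMk ⟨m₁, m₂, w₁⟩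
    let s₂ : x.obj.fst ⟶ z.obj.fst := ObjectProperty.homMk ⟨s₁, t.hom.fst, by
      show m₁ ≫ z.obj.fst.obj.iso.hom = x.obj.fst.obj.iso.hom ≫ f.map t.hom.fst
      simp [m₁]⟩
    exact ⟨ObjectProperty.homMk ⟨s₂, t.hom.snd, by
      show m₂ ≫ z.obj.iso.hom = x.obj.iso.hom ≫ g.map t.hom.snd
      simp [m₂]⟩, ObjectProperty.hom_ext _ (CategoricalPullback.hom_ext rfl rfl)⟩
  · have h₁ : t.hom.fst.hom.snd = t'.hom.fst.hom.snd := congrArg (fun s => s.hom.fst) h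
    have h₂ : t.hom.snd = t'.hom.snd := congrArg (fun s => s.hom.snd) h
    refine ObjectProperty.hom_ext _ (CategoricalPullback.hom_ext
      (ObjectProperty.hom_ext _ (CategoricalPullback.hom_ext
        (ObjectProperty.hom_ext _ (CategoricalPullback.hom_ext ?_ ?_)) h₁)) h₂)
    · have a₁ : t.hom.fst.hom.fst.hom.fst ≫ z.obj.fst.obj.iso.hom =
          x.obj.fst.obj.iso.hom ≫ f.map t.hom.fst.hom.snd := t.hom.fst.hom.w
      have a₂ : t'.hom.fst.hom.fst.hom.fst ≫ z.obj.fst.obj.iso.hom =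
          x.obj.fst.obj.iso.hom ≫ f.map t'.hom.fst.hom.snd := t'.hom.fst.hom.w
      rw [← cancel_mono z.obj.fst.obj.iso.hom, a₁, a₂, h₁]
    · have a₁ : t.hom.fst.hom.fst.hom.snd ≫ z.obj.iso.hom = x.obj.iso.hom ≫ g.map t.hom.snd := t.hom.w
      have a₂ : t'.hom.fst.hom.fst.hom.snd ≫ z.obj.iso.hom = x.obj.iso.hom ≫ g.map t'.hom.snd := t'.hom.w
      rw [← cancel_mono z.obj.iso.hom, a₁, a₂, h₂]
  · let T := 𝒳.p.obj η.obj.fst
    have hη : 𝒵.p.IsHomLift (𝟙 T) η.obj.iso.hom := η.property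
    let ω : (FibCat.fp p' q').obj :=
      ⟨⟨f.obj η.obj.fst, g.obj η.obj.snd, η.obj.iso⟩, isHomLift_id_congr (f.w_obj _).symm hη⟩
    let ξ₁ : (FibCat.fp (FibCat.fpFst p' q') f).obj :=
      ⟨⟨ω, η.obj.fst, Iso.refl _⟩, IsHomLift.id (p := 𝒳'.p) rfl⟩
    let ξ : (FibCat.fp (BasedFunctor.comp (pairStep₁ p' q' f) (FibCat.fpSnd p' q')) g).obj :=
      ⟨⟨ξ₁, η.obj.snd, Iso.refl _⟩, IsHomLift.id (p := 𝒴'.p)
        ((snd_proj (F := p') (G := q') ω).trans rfl)⟩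
    refine ⟨ξ, fpIsoMk (Iso.refl _) (Iso.refl _) ?_, ?_⟩
    · show p'.map (f.map (𝟙 _)) ≫ η.obj.iso.hom =
        (p'.map (𝟙 _) ≫ η.obj.iso.hom ≫ q'.map (𝟙 _)) ≫ q'.map (g.map (𝟙 _))
      simp
      exact (Category.comp_id _).symm
    · exact fp_isHomLift (F := BasedFunctor.comp f p') (G := BasedFunctor.comp g q') (𝟙 T) _
        (h := IsHomLift.id (p := 𝒳.p) rfl)

variable {p' q' f g}

theorem repByAlgSpWith_fpPair (hPb : StableBC P) (hPc : StableComp P)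
    (hsp : ∀ {F G : Sp S}, IsAlgSpace F → IsAlgSpace G → ∀ (a : F ⟶ G), RepBySpWith P a.hom → P a)
    (h𝒳 : FibCat.IsFibGrpd 𝒳.p) (h𝒴 : FibCat.IsFibGrpd 𝒴.p) (h𝒳' : FibCat.IsFibGrpd 𝒳'.p)
    (h𝒴' : FibCat.IsFibGrpd 𝒴'.p) (h𝒵 : FibCat.IsFibGrpd 𝒵.p)
    (hf : AlgSt.RepByAlgSpWith P f) (hg : AlgSt.RepByAlgSpWith P g) :
    AlgSt.RepByAlgSpWith P (fpPair p' q' f g) :=
  (repByAlgSpWith_iff_of_square (a := pairEquiv p' q' f g) (b := BasedFunctor.id _)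
    (pairEquiv_isEquivOver p' q' f g) isEquivOver_id (pairIso p' q' f g)).2
    (repByAlgSpWith_comp' hPb hPc hsp (fp_isFibGrpd (fp_isFibGrpd (fp_isFibGrpd h𝒳' h𝒴' h𝒵) h𝒳 h𝒳') h𝒴 h𝒴')
      (fp_isFibGrpd (fp_isFibGrpd h𝒳' h𝒴' h𝒵) h𝒳 h𝒳') (repByAlgSpWith_fpFst _ hg) (repByAlgSpWith_fpFst _ hf))

theorem repByAlgSpWith_diag_fpPair (hPb : StableBC P) (hPc : StableComp P) (hloc : IsLocalOnBase IsEtCover P)
    (h𝒳 : FibCat.IsFibGrpd 𝒳.p) (h𝒴 : FibCat.IsFibGrpd 𝒴.p) (h𝒳' : FibCat.IsFibGrpd 𝒳'.p)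
    (h𝒴' : FibCat.IsFibGrpd 𝒴'.p) (h𝒵 : FibCat.IsFibGrpd 𝒵.p)
    (hf : AlgSt.RepByAlgSpWith P (FibCat.diag f)) (hg : AlgSt.RepByAlgSpWith P (FibCat.diag g)) :
    AlgSt.RepByAlgSpWith P (FibCat.diag (fpPair p' q' f g)) := by
  let E := pairEquiv p' q' f g
  let q := BasedFunctor.comp (pairStep₂ p' q' f g) (pairStep₁ p' q' f)
  let i : BasedFunctor.comp E (fpPair p' q' f g) ≅ BasedFunctor.comp q (BasedFunctor.id _) :=
    (pairIso p' q' f g).symm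
  have : (BasedFunctor.id (FibCat.fp p' q')).toFunctor.Full := inferInstanceAs (𝟭 _).Full
  have : (BasedFunctor.id (FibCat.fp p' q')).toFunctor.Faithful := inferInstanceAs (𝟭 _).Faithful
  exact (repByAlgSpWith_iff_of_square (f := FibCat.diag (fpPair p' q' f g)) (f' := FibCat.diag q) (a := E)
    (b := fpMap (F := fpPair p' q' f g) (G := fpPair p' q' f g) (F' := q) (G' := q) i i.symm)
    (pairEquiv_isEquivOver p' q' f g)
    (fpMap_isEquivOver _ _ (pairEquiv_isEquivOver p' q' f g) (pairEquiv_isEquivOver p' q' f g))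
    (diagMapIso E (BasedFunctor.id _) i)).2
    (repByAlgSpWith_diag_comp_et hPb hPc hloc
      (fp_isFibGrpd (fp_isFibGrpd (fp_isFibGrpd h𝒳' h𝒴' h𝒵) h𝒳 h𝒳') h𝒴 h𝒴')
      (fp_isFibGrpd (fp_isFibGrpd h𝒳' h𝒴' h𝒵) h𝒳 h𝒳') (repByAlgSpWith_diag_fpFst hg)
      (repByAlgSpWith_diag_fpFst hf))

theorem selfOver_iso_ext {𝒜 : AlgSt.Cat S} {F G : 𝒜 ⥤ᵇ FibCat.selfOver (Over S)} (e e' : F ≅ G) : e = e' :=
  Iso.ext (BasedNatTrans.ext _ _ (by
    ext x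
    exact (self_hom_eq (isoApp_lift e (a := x) rfl)).trans (self_hom_eq (isoApp_lift e' (a := x) rfl)).symm))

theorem repByAlgSpWith_pairLift (hPb : StableBC P) (hPc : StableComp P)
    (hsp : ∀ {F G : Sp S}, IsAlgSpace F → IsAlgSpace G → ∀ (a : F ⟶ G), RepBySpWith P a.hom → P a)
    (h𝒳 : FibCat.IsFibGrpd 𝒳.p) (h𝒴 : FibCat.IsFibGrpd 𝒴.p) (h𝒳' : FibCat.IsFibGrpd 𝒳'.p)
    (h𝒴' : FibCat.IsFibGrpd 𝒴'.p) (h𝒵 : FibCat.IsFibGrpd 𝒵.p)
    (hf : AlgSt.RepByAlgSpWith P f) (hg : AlgSt.RepByAlgSpWith P g) {p : 𝒳 ⥤ᵇ 𝒵} {q : 𝒴 ⥤ᵇ 𝒵}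
    (hp : BasedFunctor.comp f p' = p) (hq : BasedFunctor.comp g q' = q)
    (hu : ∀ {𝒜 : AlgSt.Cat S} {F G : 𝒜 ⥤ᵇ 𝒵} (e e' : F ≅ G), e = e')
    (e : BasedFunctor.comp (BasedFunctor.comp (FibCat.fpFst p q) f) p' ≅
      BasedFunctor.comp (BasedFunctor.comp (FibCat.fpSnd p q) g) q') :
    AlgSt.RepByAlgSpWith P (FibCat.fpLift (BasedFunctor.comp (FibCat.fpFst p q) f)
      (BasedFunctor.comp (FibCat.fpSnd p q) g) e) := by
  subst hp hq
  obtain rfl : e = FibCat.fpIso (BasedFunctor.comp f p') (BasedFunctor.comp g q') := hu _ _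
  exact repByAlgSpWith_fpPair hPb hPc hsp h𝒳 h𝒴 h𝒳' h𝒴' h𝒵 hf hg

end Groth.Agent.AlgStLib
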