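import Groth.Agent.AlgStLib.Small
import Groth.Agent.AlgStLib.ProdMap
import Groth.Agent.AlgSpLib.LocalSourceInst
import Groth.Agent.FibBase.Cartesian
import Groth.Agent.StkLib.OfPsh
import Groth.Agent.StkLib.Fp
import Groth.Agent.StkLib.BaseChange

/-!
# Stacks, algebraic stacks and Deligne–Mumford stacks: formal properties
-/

set_option backward.isDefEq.respectTransparency false
set_option backward.isDefEq.respectTransparency.types false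

universe u

open CategoryTheory CategoryTheory.Functor CategoryTheory.Limits AlgebraicGeometry Opposite AlgSp

namespace Groth.Agent.AlgStLib

open Groth.Agent.FibBase Groth.Agent.AlgSpLib

variable {S : Scheme.{u}} {𝒳 𝒴 𝒵 : AlgSt.Cat S} {P : MorphismProperty (Sp S)}

/-! ## Stacks -/

theorem isStack_ofSp (F : Sp S) : Stk.IsStack (J S) (AlgSt.ofSp F) :=
  (Groth.Agent.StkLib.isStack_ofPsh_iff F.obj (J S)).2 ((isSheaf_iff_isSheaf_of_type _ _).1 F.property)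

theorem isStack_of_repByAlgSp (h : AlgSt.RepByAlgSp 𝒳) : Stk.IsStack (J S) 𝒳 := by
  obtain ⟨F, e, he⟩ := h
  exact (Groth.Agent.StkLib.isStack_iff_of_isEquivOver (J S) he).1 (isStack_ofSp _)

theorem eq_toSelf {𝒜 : AlgSt.Cat S} (G : 𝒜 ⥤ᵇ FibCat.selfOver (Over S)) : G = FibCat.toSelf 𝒜 := by
  obtain ⟨F, w⟩ := G
  simp only [FibCat.toSelf, BasedFunctor.mk.injEq]
  exact (Functor.comp_id F).symm.trans w

theorem isStack_selfOver {K : Precoverage Scheme.{u}} :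
    Stk.IsStack (QuotSh.J K S) (FibCat.selfOver (Over S) : AlgSt.Cat S) := by
  have key : ∀ {𝒜 : AlgSt.Cat S} {G H : 𝒜 ⥤ᵇ FibCat.selfOver (Over S)} (α β : G ⟶ H), α = β :=
    fun {𝒜 G H} α β => BasedNatTrans.ext _ _ (by
      ext x
      exact (self_hom_eq (BasedNatTrans.isHomLift α (a := x) rfl)).trans
        (self_hom_eq (BasedNatTrans.isHomLift β (a := x) rfl)).symm)
  refine ⟨isFibGrpd_selfOver, fun U R _ => ?_⟩
  exact
    { faithful := ⟨fun _ => key _ _⟩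
      full := ⟨fun {G H} t => ⟨eqToHom ((eq_toSelf G).trans (eq_toSelf H).symm), key _ _⟩⟩
      essSurj := ⟨fun G => ⟨FibCat.toSelf _, ⟨eqToIso ((eq_toSelf _).trans (eq_toSelf G).symm)⟩⟩⟩ }

theorem isStack_of_repByAlgSp1 (h𝒳 : FibCat.IsFibGrpd 𝒳.p) (h𝒴 : Stk.IsStack (J S) 𝒴) {j : 𝒳 ⥤ᵇ 𝒴}
    (hj : AlgSt.RepByAlgSp1 j) : Stk.IsStack (J S) 𝒳 := by
  refine Groth.Agent.StkLib.isStack_of_fibres (J S) h𝒳 h𝒴 j fun U y => ?_
  have hs : Stk.IsStack (J S) (FibCat.fp y j) := isStack_of_repByAlgSp (hj U y)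
  have hU : Stk.IsStack (J S) (FibCat.overCat U : AlgSt.Cat S) := isStack_of_repByAlgSp (repByAlgSp_overCat U)
  have hG : FibCat.IsFibGrpd (FibCat.fpFst y j).toFunctor :=
    isFibGrpd_of_comp (isFibSet_overForget U) hs.1
  have h := Groth.Agent.StkLib.isStack_ofFunctor (J S) hs (Groth.Agent.StkLib.isPrestack_of_isStack hU)
    (FibCat.fpFst y j) hG
  exact ⟨h.1, fun x R hR => h.2 R ((Groth.Agent.StkLib.mem_restrictedTopology_iff hU.1 (J S) R).2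
    ((GrothendieckTopology.mem_over_iff _ _).1 hR))⟩

theorem isStack_fp_of_repByAlgSp1 (h𝒳 : FibCat.IsFibGrpd 𝒳.p) (h𝒵 : FibCat.IsFibGrpd 𝒵.p)
    (h𝒴 : Stk.IsStack (J S) 𝒴) {f : 𝒳 ⥤ᵇ 𝒵} (g : 𝒴 ⥤ᵇ 𝒵) (hf : AlgSt.RepByAlgSp1 f) :
    Stk.IsStack (J S) (FibCat.fp f g) :=
  isStack_of_repByAlgSp1 (fp_isFibGrpd h𝒳 h𝒴.1 h𝒵) h𝒴 (repByAlgSp1_fpSnd g hf)

/-! ## Diagonals -/

theorem stableBC_top : StableBC (⊤ : MorphismProperty (Sp S)) := fun _ _ _ _ _ _ _ _ _ _ _ _ _ _ => trivial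

theorem stableComp_top : StableComp (⊤ : MorphismProperty (Sp S)) := fun _ _ _ _ _ _ _ _ _ _ => trivial

theorem cancels_top : Cancels (⊤ : MorphismProperty (Sp S)) ⊤ := fun _ _ _ _ _ _ _ _ _ _ => trivial

theorem isLocalOnBase_top {τ : CovNotion S} : IsLocalOnBase τ (⊤ : MorphismProperty (Sp S)) :=
  fun _ _ _ _ _ _ _ _ _ _ _ _ _ _ _ => ⟨fun _ _ => trivial, fun _ => trivial⟩

theorem repByAlgSp1_diag_comp (h𝒳 : FibCat.IsFibGrpd 𝒳.p) (h𝒴 : FibCat.IsFibGrpd 𝒴.p) {f : 𝒳 ⥤ᵇ 𝒴}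
    {g : 𝒴 ⥤ᵇ 𝒵} (hf : AlgSt.RepByAlgSp1 (FibCat.diag f)) (hg : AlgSt.RepByAlgSp1 (FibCat.diag g)) :
    AlgSt.RepByAlgSp1 (FibCat.diag (BasedFunctor.comp f g)) :=
  repByAlgSp1_iff_top.2 (repByAlgSpWith_diag_comp stableBC_top stableComp_top isLocalOnBase_top h𝒳 h𝒴
    (repByAlgSp1_iff_top.1 hf) (repByAlgSp1_iff_top.1 hg))

theorem repByAlgSp1_diag_iff_of_isEquivOver {e : 𝒳 ⥤ᵇ 𝒴} (he : FibCat.IsEquivOver e) (g : 𝒴 ⥤ᵇ 𝒵) :
    AlgSt.RepByAlgSp1 (FibCat.diag g) ↔ AlgSt.RepByAlgSp1 (FibCat.diag (BasedFunctor.comp e g)) := by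
  have : (BasedFunctor.id 𝒵).toFunctor.Full := inferInstanceAs (𝟭 _).Full
  have : (BasedFunctor.id 𝒵).toFunctor.Faithful := inferInstanceAs (𝟭 _).Faithful
  let i : BasedFunctor.comp e g ≅ BasedFunctor.comp (BasedFunctor.comp e g) (BasedFunctor.id 𝒵) := Iso.refl _
  exact repByAlgSp1_iff_of_square (f := FibCat.diag g) (f' := FibCat.diag (BasedFunctor.comp e g)) (a := e)
    (b := fpMap (F := g) (G := g) (F' := BasedFunctor.comp e g) (G' := BasedFunctor.comp e g) i i.symm) he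
    (fpMap_isEquivOver _ _ he he) (diagMapIso e (BasedFunctor.id 𝒵) i)

theorem repByAlgSpWith_diag_toSelf_selfOver :
    AlgSt.RepByAlgSp1 (FibCat.diag (FibCat.toSelf (FibCat.selfOver (Over S) : AlgSt.Cat S))) := by
  refine repByAlgSp1_diag_toSelf_of_forall fun U x => ?_
  rw [eq_toSelf x]
  exact repByAlgSp1_toSelf_overCat U

/-! ## Charts -/

theorem repByAlgSpWith_ofSpMap (hPb : StableBC P) {F G : Sp S} (hF : IsAlgSpace F) (hG : IsAlgSpace G)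
    (a : F ⟶ G) (h : P a) : AlgSt.RepByAlgSpWith P (AlgSt.ofSpMap a) :=
  repByAlgSpWith_of_repBySpWith ((repBySpWith_hom_iff P a).2 fun V ξ H fst snd sq =>
    have hH := isAlgSpace_of_isPullback sq hF (IsAlgSpace.yon_obj V) hG
    ⟨hH, hPb hF hG hH (IsAlgSpace.yon_obj V) a ξ snd fst sq h⟩)

theorem locP_of_repBySpWith {R : MorphismProperty Scheme.{u}} [IsEtLocal R] {F G : Sp S}
    (hG : IsAlgSpace G) (a : F ⟶ G) (h : RepBySpWith (LocP R) a.hom) : LocP R a := by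
  obtain ⟨V, p, hp, hp'⟩ := hG.atlas
  obtain ⟨h₁, h₂⟩ := (repBySpWith_hom_iff (LocP R) a).1 h p _ _ (IsPullback.of_hasPullback a p)
  obtain ⟨W, c, hc, hc'⟩ := h₁.atlas
  obtain ⟨k, hk⟩ := (yon S).map_surjective (c ≫ pullback.snd a p)
  refine locP_of_chart (a := c ≫ pullback.fst a p) (b := p) (h := k) (repWith_comp hc (repWith_fst a hp))
    (repWith_comp hc' (repWith_fst a hp')) hp ?_ (h₂ c (𝟙 _) k hc (repWith_id _ V) ?_)
  · rw [Category.assoc, pullback.condition, ← Category.assoc, hk]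
  · rw [Category.comp_id, hk]

theorem isSurjectiveMor_of_repBySpWith {F G : Sp S} (hG : IsAlgSpace G) (a : F ⟶ G)
    (h : RepBySpWith IsSurjectiveMor a.hom) : IsSurjectiveMor a := fun x => by
  obtain ⟨V, p, hp, hp'⟩ := hG.atlas
  obtain ⟨-, h₂⟩ := (repBySpWith_hom_iff IsSurjectiveMor a).1 h p _ _ (IsPullback.of_hasPullback a p)
  obtain ⟨y, rfl⟩ := surjective_map_of_repWith hp' x
  obtain ⟨z, rfl⟩ := h₂ y
  exact ⟨Points.map (pullback.fst a p) z, by rw [← Points.map_comp, ← Points.map_comp, pullback.condition]⟩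

theorem stableComp_isSurjectiveMor : StableComp (IsSurjectiveMor (S := S)) := fun _ _ _ _ _ _ a b ha hb x => by
  obtain ⟨y, rfl⟩ := hb x
  obtain ⟨z, rfl⟩ := ha y
  exact ⟨z, Points.map_comp a b z⟩

theorem repByAlgSpWith_isEtaleMor {f : 𝒳 ⥤ᵇ 𝒴} (h : AlgSt.RepByAlgSpWith (LocP @Etale) f) :
    AlgSt.RepByAlgSpWith IsEtaleMor f := fun U y => by
  obtain ⟨F, e, he, hP⟩ := h U y
  exact ⟨F, e, he, (isEtaleMor_iff_locP F.property (IsAlgSpace.yon_obj U) _).2 hP⟩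

theorem repByAlgSpWith_locP_etale {f : 𝒳 ⥤ᵇ 𝒴} (h : AlgSt.RepByAlgSpWith IsEtaleMor f) :
    AlgSt.RepByAlgSpWith (LocP @Etale) f :=
  repByAlgSpWith_mono (fun _ _ _ h => locP_etale_of_isEtaleMor h) h

theorem hasAtlas_isEtaleMor (h : AlgSt.HasAtlas (LocP @Etale) 𝒳) : AlgSt.HasAtlas IsEtaleMor 𝒳 := by
  obtain ⟨U, x, hx, hx'⟩ := h
  exact ⟨U, x, repByAlgSpWith_isEtaleMor hx, hx'⟩

theorem hasAtlas_locP_etale (h : AlgSt.HasAtlas IsEtaleMor 𝒳) : AlgSt.HasAtlas (LocP @Etale) 𝒳 := by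
  obtain ⟨U, x, hx, hx'⟩ := h
  exact ⟨U, x, repByAlgSpWith_locP_etale hx, hx'⟩

theorem repByAlgSpWith_precomp {e : 𝒳 ⥤ᵇ 𝒴} (he : FibCat.IsEquivOver e) {f : 𝒴 ⥤ᵇ 𝒵}
    (hf : AlgSt.RepByAlgSpWith P f) : AlgSt.RepByAlgSpWith P (BasedFunctor.comp e f) :=
  (repByAlgSpWith_iff_of_square (f := f) (f' := BasedFunctor.comp e f) (a := e) (b := BasedFunctor.id _) he
    isEquivOver_id (Iso.refl _)).1 hf

variable {R : MorphismProperty Scheme.{u}} [IsEtLocal R] [R.IsStableUnderComposition]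

theorem repByAlgSpWith_locP_comp {g : 𝒴 ⥤ᵇ 𝒵} {f : 𝒳 ⥤ᵇ 𝒴} (h𝒳 : FibCat.IsFibGrpd 𝒳.p)
    (h𝒴 : FibCat.IsFibGrpd 𝒴.p) (hf : AlgSt.RepByAlgSpWith (LocP R) f) (hg : AlgSt.RepByAlgSpWith (LocP R) g) :
    AlgSt.RepByAlgSpWith (LocP R) (BasedFunctor.comp f g) :=
  repByAlgSpWith_comp' stableBC_locP stableComp_locP (fun _ hG a ha => locP_of_repBySpWith hG a ha) h𝒳 h𝒴 hf hg

theorem repByAlgSpWith_isSurjectiveMor_comp {g : 𝒴 ⥤ᵇ 𝒵} {f : 𝒳 ⥤ᵇ 𝒴} (h𝒳 : FibCat.IsFibGrpd 𝒳.p)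
    (h𝒴 : FibCat.IsFibGrpd 𝒴.p) (hf : AlgSt.RepByAlgSpWith IsSurjectiveMor f)
    (hg : AlgSt.RepByAlgSpWith IsSurjectiveMor g) :
    AlgSt.RepByAlgSpWith IsSurjectiveMor (BasedFunctor.comp f g) :=
  repByAlgSpWith_comp' stableBC_isSurjectiveMor stableComp_isSurjectiveMor
    (fun _ hG a ha => isSurjectiveMor_of_repBySpWith hG a ha) h𝒳 h𝒴 hf hg

/-- A category receiving a representable surjective `R`-map from an algebraic space has an atlas. -/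
theorem hasAtlas_of_space (hR : @Etale ≤ R) (W : AlgSp.Space S) (k : AlgSt.ofSp W.obj ⥤ᵇ 𝒳)
    (hk : AlgSt.RepByAlgSpWith (LocP R) k) (hk' : AlgSt.RepByAlgSpWith IsSurjectiveMor k) :
    AlgSt.HasAtlas (LocP R) 𝒳 := by
  obtain ⟨T, p, hp, hp'⟩ := W.property.atlas
  have hT := IsAlgSpace.yon_obj (S := S) T
  have sq : ∀ {Q : MorphismProperty (Sp S)}, AlgSt.RepByAlgSpWith Q (AlgSt.ofSpMap p) →
      AlgSt.RepByAlgSpWith Q (overOfMap p) := fun h =>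
    repByAlgSpWith_precomp (isEquivOver_ofOverCat T) h
  have hg : FibCat.IsFibGrpd (AlgSt.ofSp W.obj).p := Stk.isFibGrpd_ofPsh _
  exact ⟨T, BasedFunctor.comp (overOfMap p) k,
    repByAlgSpWith_locP_comp (isFibGrpd_overCat T) hg
      (sq (repByAlgSpWith_ofSpMap stableBC_locP hT W.property p (locP_mono hR (locP_of_repWith hp)))) hk,
    repByAlgSpWith_isSurjectiveMor_comp (isFibGrpd_overCat T) hg
      (sq (repByAlgSpWith_ofSpMap stableBC_isSurjectiveMor hT W.property p (surjective_map_of_repWith hp'))) hk'⟩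

theorem hasAtlas_fp (hR : @Etale ≤ R) (h𝒳 : FibCat.IsFibGrpd 𝒳.p) (h𝒴 : FibCat.IsFibGrpd 𝒴.p)
    (h𝒵 : FibCat.IsFibGrpd 𝒵.p) (hΔ : AlgSt.RepByAlgSp1 (FibCat.diag (FibCat.toSelf 𝒵)))
    (hA : AlgSt.HasAtlas (LocP R) 𝒳) (hB : AlgSt.HasAtlas (LocP R) 𝒴) (f : 𝒳 ⥤ᵇ 𝒵) (g : 𝒴 ⥤ᵇ 𝒵) :
    AlgSt.HasAtlas (LocP R) (FibCat.fp f g) := by
  obtain ⟨U, x, hx, hx'⟩ := hA
  obtain ⟨V, y, hy, hy'⟩ := hB
  obtain ⟨W, e, he⟩ : AlgSt.RepByAlgSp (FibCat.fp (BasedFunctor.comp x f) (BasedFunctor.comp y g)) :=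
    repByAlgSp_of_equiv _ (fpSwap_isEquivOver _ _)
      (repByAlgSp1_of_diag h𝒵 hΔ U (BasedFunctor.comp x f) V (BasedFunctor.comp y g))
  have hU := isFibGrpd_overCat (S := S) U
  have hV := isFibGrpd_overCat (S := S) V
  refine hasAtlas_of_space hR W (BasedFunctor.comp e (fpPair f g x y))
    (repByAlgSpWith_precomp he
      (repByAlgSpWith_fpPair stableBC_locP stableComp_locP (fun _ hG a ha => locP_of_repBySpWith hG a ha)
        hU hV h𝒳 h𝒴 h𝒵 hx hy))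
    (repByAlgSpWith_precomp he
      (repByAlgSpWith_fpPair stableBC_isSurjectiveMor stableComp_isSurjectiveMor
        (fun _ hG a ha => isSurjectiveMor_of_repBySpWith hG a ha) hU hV h𝒳 h𝒴 h𝒵 hx' hy'))

omit [IsEtLocal R] [R.IsStableUnderComposition] in
theorem hasAtlas_iff_of_isEquivOver {e : 𝒳 ⥤ᵇ 𝒴} (he : FibCat.IsEquivOver e) (P : MorphismProperty (Sp S)) :
    AlgSt.HasAtlas P 𝒳 ↔ AlgSt.HasAtlas P 𝒴 := by
  have key : ∀ {𝒜 ℬ : AlgSt.Cat S} {k : 𝒜 ⥤ᵇ ℬ}, FibCat.IsEquivOver k →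
      AlgSt.HasAtlas P 𝒜 → AlgSt.HasAtlas P ℬ := by
    rintro 𝒜 ℬ k hk ⟨U, x, hx, hx'⟩
    exact ⟨U, BasedFunctor.comp x k,
      (repByAlgSpWith_iff_of_square (f := BasedFunctor.comp x k) (f' := x) (a := BasedFunctor.id _) (b := k)
        isEquivOver_id hk (Iso.refl _)).2 hx,
      (repByAlgSpWith_iff_of_square (f := BasedFunctor.comp x k) (f' := x) (a := BasedFunctor.id _) (b := k)
        isEquivOver_id hk (Iso.refl _)).2 hx'⟩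
  obtain ⟨g, hg, -⟩ := isEquivOver_inv he
  exact ⟨key he, key hg⟩

/-! ## Algebraic stacks -/

omit [IsEtLocal R] [R.IsStableUnderComposition]

theorem etale_le_smooth : (@Etale : MorphismProperty Scheme.{u}) ≤ @Smooth :=
  fun _ _ f (_ : Etale f) => inferInstanceAs (Smooth f)

theorem isAlgStack_iff_of_isEquivOver {K : Precoverage Scheme.{u}} {e : 𝒳 ⥤ᵇ 𝒴} (he : FibCat.IsEquivOver e) :
    AlgSt.IsAlgStack K 𝒳 ↔ AlgSt.IsAlgStack K 𝒴 := by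
  have hd := repByAlgSp1_diag_iff_of_isEquivOver he (FibCat.toSelf 𝒴)
  exact
    ⟨fun h => ⟨(Groth.Agent.StkLib.isStack_iff_of_isEquivOver _ he).1 h.isStack,
      hd.2 (repByAlgSp1_diag_congr (comp_toSelf e) h.diag), (hasAtlas_iff_of_isEquivOver he _).1 h.atlas⟩,
    fun h => ⟨(Groth.Agent.StkLib.isStack_iff_of_isEquivOver _ he).2 h.isStack,
      repByAlgSp1_diag_congr (comp_toSelf e).symm (hd.1 h.diag), (hasAtlas_iff_of_isEquivOver he _).2 h.atlas⟩⟩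

theorem isDM_iff_of_isEquivOver {K : Precoverage Scheme.{u}} {e : 𝒳 ⥤ᵇ 𝒴} (he : FibCat.IsEquivOver e) :
    AlgSt.IsDM K 𝒳 ↔ AlgSt.IsDM K 𝒴 :=
  and_congr (isAlgStack_iff_of_isEquivOver he) (hasAtlas_iff_of_isEquivOver he _)

theorem isAlgStack_fp {K : Precoverage Scheme.{u}} (h𝒳 : AlgSt.IsAlgStack K 𝒳) (h𝒴 : AlgSt.IsAlgStack K 𝒴)
    (h𝒵 : Stk.IsStack (QuotSh.J K S) 𝒵) (hΔ : AlgSt.RepByAlgSp1 (FibCat.diag (FibCat.toSelf 𝒵)))
    (f : 𝒳 ⥤ᵇ 𝒵) (g : 𝒴 ⥤ᵇ 𝒵) : AlgSt.IsAlgStack K (FibCat.fp f g) where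
  isStack := Groth.Agent.StkLib.isStack_fp f g h𝒳.isStack h𝒴.isStack
    (Groth.Agent.StkLib.isPrestack_of_isStack h𝒵)
  diag := repByAlgSp1_diag_congr (comp_toSelf (FibCat.fpFst f g)).symm
    (repByAlgSp1_diag_comp (fp_isFibGrpd h𝒳.isStack.1 h𝒴.isStack.1 h𝒵.1) h𝒳.isStack.1
      (repByAlgSp1_iff_top.2 (repByAlgSpWith_diag_fpFst (repByAlgSp1_iff_top.1 (repByAlgSp1_diag h𝒴.diag hΔ g))))
      h𝒳.diag)
  atlas := hasAtlas_fp etale_le_smooth h𝒳.isStack.1 h𝒴.isStack.1 h𝒵.1 hΔ h𝒳.atlas h𝒴.atlas f g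

theorem isAlgStack_prod {K : Precoverage Scheme.{u}} (h𝒳 : AlgSt.IsAlgStack K 𝒳) (h𝒴 : AlgSt.IsAlgStack K 𝒴) :
    AlgSt.IsAlgStack K (FibCat.fp (FibCat.toSelf 𝒳) (FibCat.toSelf 𝒴)) :=
  isAlgStack_fp h𝒳 h𝒴 isStack_selfOver repByAlgSpWith_diag_toSelf_selfOver _ _

theorem isDM_fp {K : Precoverage Scheme.{u}} (h𝒳 : AlgSt.IsDM K 𝒳) (h𝒴 : AlgSt.IsDM K 𝒴)
    (h𝒵 : AlgSt.IsAlgStack K 𝒵) (f : 𝒳 ⥤ᵇ 𝒵) (g : 𝒴 ⥤ᵇ 𝒵) : AlgSt.IsDM K (FibCat.fp f g) :=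
  ⟨isAlgStack_fp h𝒳.1 h𝒴.1 h𝒵.isStack h𝒵.diag f g,
    hasAtlas_isEtaleMor (hasAtlas_fp le_rfl h𝒳.1.isStack.1 h𝒴.1.isStack.1 h𝒵.isStack.1 h𝒵.diag
      (hasAtlas_locP_etale h𝒳.2) (hasAtlas_locP_etale h𝒴.2) f g)⟩

theorem hasAtlas_of_repByAlgSp {R : MorphismProperty Scheme.{u}} [IsEtLocal R] [R.IsStableUnderComposition]
    (hR : @Etale ≤ R) (h : AlgSt.RepByAlgSp 𝒳) : AlgSt.HasAtlas (LocP R) 𝒳 := by
  obtain ⟨W, e, he⟩ := h
  have hW := IsAlgSpace.yon_obj (S := S)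
  refine (hasAtlas_iff_of_isEquivOver he _).1 ?_
  obtain ⟨T, p, hp, hp'⟩ := W.property.atlas
  have sq : ∀ {Q : MorphismProperty (Sp S)}, AlgSt.RepByAlgSpWith Q (AlgSt.ofSpMap p) →
      AlgSt.RepByAlgSpWith Q (overOfMap p) := fun h =>
    repByAlgSpWith_precomp (isEquivOver_ofOverCat T) h
  exact ⟨T, overOfMap p,
    sq (repByAlgSpWith_ofSpMap stableBC_locP (hW T) W.property p (locP_mono hR (locP_of_repWith hp))),
    sq (repByAlgSpWith_ofSpMap stableBC_isSurjectiveMor (hW T) W.property p (surjective_map_of_repWith hp'))⟩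

theorem isDM_of_repByAlgSp (h : AlgSt.RepByAlgSp 𝒳) : AlgSt.IsDM Scheme.fppfPrecoverage 𝒳 :=
  ⟨⟨isStack_of_repByAlgSp h,
    repByAlgSp1_diag_toSelf_of_forall fun U x => repByAlgSp1_of_repByAlgSp (repByAlgSp_overCat U) h x,
    hasAtlas_of_repByAlgSp etale_le_smooth h⟩, hasAtlas_isEtaleMor (hasAtlas_of_repByAlgSp le_rfl h)⟩

theorem isAlgStack_of_repByAlgSp1 (h𝒳 : FibCat.IsFibGrpd 𝒳.p)
    (h𝒴 : AlgSt.IsAlgStack Scheme.fppfPrecoverage 𝒴) {j : 𝒳 ⥤ᵇ 𝒴} (hj : AlgSt.RepByAlgSp1 j) :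
    AlgSt.IsAlgStack Scheme.fppfPrecoverage 𝒳 where
  isStack := isStack_of_repByAlgSp1 h𝒳 h𝒴.isStack hj
  diag := repByAlgSp1_diag_congr (comp_toSelf j).symm (repByAlgSp1_diag_comp h𝒳 h𝒴.isStack.1
    (repByAlgSp1_iff_top.2 (repByAlgSpWith_diag_of_repByAlgSp1 stableBC_top hj fun _ _ _ _ _ _ => trivial))
    h𝒴.diag)
  atlas := by
    obtain ⟨V, y, hy, hy'⟩ := h𝒴.atlas
    obtain ⟨W, e, he⟩ := hj V y
    exact hasAtlas_of_space etale_le_smooth W (BasedFunctor.comp e (FibCat.fpSnd y j))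
      (repByAlgSpWith_precomp he
        (repByAlgSpWith_fpSnd j hy))
      (repByAlgSpWith_precomp he
        (repByAlgSpWith_fpSnd j hy'))

end Groth.Agent.AlgStLib
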