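import Groth.Agent.SliceLib.Atlas
import Groth.Agent.AlgSpDec.FppfLqf
import Groth.Agent.AlgStLib.Stack
import Groth.Agent.AlgStLib.OverSpace
import Groth.Agent.AlgStLib.SetoidPsh
import Groth.Agent.StkLib.OfPsh
import Groth.Agent.AlgSpLib.EtLocalInst

/-! # Algebraic stacks fibred in setoids are algebraic spaces -/

set_option backward.isDefEq.respectTransparency false
set_option backward.isDefEq.respectTransparency.types false

universe u

open CategoryTheory CategoryTheory.Limits AlgebraicGeometry Opposite AlgSp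
open Groth.Agent.AlgSpLib Groth.Agent.AlgSpDec

namespace Groth.Agent.AlgStLib

variable {S : Scheme.{u}}

theorem locP_smooth_le {R : MorphismProperty Scheme.{u}} (h : (@Smooth : MorphismProperty Scheme.{u}) ≤ R)
    {F G : Sp S} {a : F ⟶ G} (ha : LocP @Smooth a) : LocP R a :=
  fun _ _ x y z hx hy w => h _ _ _ (ha x y z hx hy w)

/-- A sheaf with a smooth surjective cover by an algebraic space, representable by algebraic spaces, is
an algebraic space. -/
theorem isAlgSpace_of_smooth_space_cover {F U : Sp S} (hU : IsAlgSpace U) (p : U ⟶ F)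
    (hp : RepBySpWith (IsSurjectiveMor ⊓ LocP @Smooth) p.hom) : IsAlgSpace F := by
  have hp₃ : RepBySpWith (IsSurjectiveMor ⊓ LocP @Flat ⊓ LocP @LocallyOfFinitePresentation) p.hom :=
    fun T ξ F' fst snd sq => by
      obtain ⟨h, hA, hs, hl⟩ := hp ξ fst snd sq
      exact ⟨h, hA, ⟨hs, locP_smooth_le (fun _ _ f (_ : Smooth f) => inferInstanceAs (Flat f)) hl⟩,
        locP_smooth_le (fun _ _ f (_ : Smooth f) => inferInstanceAs (LocallyOfFinitePresentation f)) hl⟩
  have hdiag : Representable (Limits.diag F) := representable_diag_of_fppf_space_cover hU hp₃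
  obtain ⟨V, v, hv, hv'⟩ := hU.atlas
  have hrep : Representable (v ≫ p) := Functor.relativelyRepresentable.of_diag hdiag _
  have key : ∀ {T : Over S} (g : (yon S).obj T ⟶ F),
      Smooth (hrep.snd g).left ∧ Surjective (hrep.snd g).left := by
    intro T g
    obtain ⟨h, hA, hs, hl⟩ := hp g.hom (pullback.fst p.hom g.hom) (pullback.snd p.hom g.hom)
      (IsPullback.of_hasPullback p.hom g.hom)
    let P : Sp S := ⟨pullback p.hom g.hom, h⟩
    let fst : P ⟶ U := ObjectProperty.homMk (pullback.fst p.hom g.hom)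
    let snd : P ⟶ (yon S).obj T := ObjectProperty.homMk (pullback.snd p.hom g.hom)
    have sq : IsPullback fst snd p g := IsPullback.of_map_of_faithful (sheafToPresheaf (J S) (Type (u + 1)))
      (IsPullback.of_hasPullback p.hom g.hom)
    have sqV := hrep.isPullback g
    let a : (yon S).obj (hrep.pullback g) ⟶ P :=
      sq.lift (hrep.fst g ≫ v) ((yon S).map (hrep.snd g)) (by rw [Category.assoc, sqV.w])
    have sa : IsPullback (hrep.fst g) a v fst := by
      refine IsPullback.of_bot ?_ (sq.lift_fst _ _ _).symm sq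
      rw [sq.lift_snd]
      exact sqV
    have ha : RepWith @Etale a := repWith_of_isPullback sa hv
    have ha' : RepWith @Surjective a := repWith_of_isPullback sa hv'
    refine ⟨hl a (𝟙 _) (hrep.snd g) ha (repWith_id _ T) (by rw [sq.lift_snd, Category.comp_id]),
      ⟨fun t => ?_⟩⟩
    obtain ⟨z, hz⟩ := hs (Points.ofScheme T t)
    obtain ⟨x, rfl⟩ := surjective_ofPt ha' z
    rw [Points.ofPt_eq_map_ofScheme, ← Points.map_comp] at hz
    change Points.map (a ≫ snd) _ = _ at hz
    rw [sq.lift_snd] at hz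
    exact ⟨x, (Points.schemeHomeo T).injective
      ((Points.map_yon_map_apply (hrep.snd g) x).symm.trans hz)⟩
  exact SliceLib.isAlgSpace_of_smooth_atlas hdiag
    (repWith_of_squares fun T g =>
      ⟨hrep.pullback g, hrep.fst g, hrep.snd g, hrep.isPullback g, (key g).1⟩)
    (repWith_of_squares fun T g =>
      ⟨hrep.pullback g, hrep.fst g, hrep.snd g, hrep.isPullback g, (key g).2⟩)

/-- An algebraic stack fibred in setoids is representable by an algebraic space. -/
theorem repByAlgSp_of_isFibSetoid {𝒳 : AlgSt.Cat S} (h : AlgSt.IsAlgStack Scheme.fppfPrecoverage 𝒳)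
    (hs : FibCat.IsFibSetoid 𝒳.p) : AlgSt.RepByAlgSp 𝒳 := by
  let P := clsPsh 𝒳 hs.1
  have he : FibCat.IsEquivOver (toCls 𝒳 hs.1) := toCls_isEquivOver 𝒳 hs.1 hs
  have hP : Presheaf.IsSheaf (J S) P := (isSheaf_iff_isSheaf_of_type _ _).2
    ((StkLib.isStack_ofPsh_iff P (J S)).1 ((StkLib.isStack_iff_of_isEquivOver (J := J S) he).1 h.isStack))
  let F : Sp S := ⟨P, hP⟩
  have h' : AlgSt.IsAlgStack Scheme.fppfPrecoverage (AlgSt.ofSp F) := (isAlgStack_iff_of_isEquivOver he).1 h
  obtain ⟨U, x, hxs, hxj⟩ := h'.atlas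
  let Φ : AlgSt.ofSch U ⥤ᵇ AlgSt.ofSp F := BasedFunctor.comp (AlgSt.toOverCat U) x
  let p : (yon S).obj U ⟶ F := spHom Φ
  have i : BasedFunctor.comp (AlgSt.toOverCat U) x ≅ Stk.ofPshMap p.hom := isoOfSpMap Φ
  have hp : RepBySpWith (IsSurjectiveMor ⊓ LocP @Smooth) p.hom := fun T ξ F' fst snd sq => by
    obtain ⟨h₁, hA, hl⟩ := repBySpWith_of_repByAlgSpWith x (AlgSt.toOverCat U) stableBC_locP
      (isEquivOver_toOverCat U) hxs i ξ fst snd sq
    obtain ⟨h₂, hA₂, hj⟩ := repBySpWith_of_repByAlgSpWith x (AlgSt.toOverCat U) stableBC_isSurjectiveMor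
      (isEquivOver_toOverCat U) hxj i ξ fst snd sq
    exact ⟨h₁, hA, hj, hl⟩
  have hF : IsAlgSpace F := isAlgSpace_of_smooth_space_cover (IsAlgSpace.yon_obj U) p hp
  obtain ⟨g, hg, -⟩ := isEquivOver_inv he
  exact ⟨⟨F, hF⟩, g, hg⟩

end Groth.Agent.AlgStLib
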