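import Groth.Agent.AlgStLib.Diag
import Groth.Agent.AlgSpLib.EtLocalInst

/-!
# Étale-local properties; criteria for representability of diagonals
-/

set_option backward.isDefEq.respectTransparency false
set_option backward.isDefEq.respectTransparency.types false

universe u

open CategoryTheory CategoryTheory.Functor CategoryTheory.Limits AlgebraicGeometry Opposite AlgSp

namespace Groth.Agent.AlgStLib

open Groth.Agent.FibBase Groth.Agent.AlgSpLib

variable {S : Scheme.{u}} {𝒳 𝒴 𝒵 : AlgSt.Cat S} {P : MorphismProperty (Sp S)}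

theorem isEtCover_of_repWith_etale {U : Over S} {X : Sp S} {p : (yon S).obj U ⟶ X}
    (hp : RepWith @Etale p) (hp' : RepWith @Surjective p) :
    IsEtCover (fun _ : PUnit.{u+1} => (yon S).obj U) (fun _ => p) :=
  ⟨fun _ => isEtaleMor_of_repWith hp,
    fun x => ⟨⟨⟩, surjective_map_of_repWith hp' x⟩⟩

/-- A property étale local on the base holds for a morphism of algebraic spaces once it holds for all base changes
to schemes. -/
theorem property_of_repBySpWith_et (hloc : IsLocalOnBase IsEtCover P) {F G : Sp S}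
    (hF : IsAlgSpace F) (hG : IsAlgSpace G) {a : F ⟶ G} (ha : RepBySpWith P a.hom) : P a := by
  obtain ⟨U, p, hp, hp'⟩ := hG.atlas
  obtain ⟨h₁, h₂⟩ := (repBySpWith_hom_iff P a).1 ha p _ _ (IsPullback.of_hasPullback a p)
  exact (hloc _ _ hG (fun _ : PUnit.{u+1} => IsAlgSpace.yon_obj U) (isEtCover_of_repWith_etale hp hp') a hF
    (fun _ => pullback a p) (fun _ => pullback.snd a p) (fun _ => pullback.fst a p) (fun _ => h₁)
    (fun _ => IsPullback.of_hasPullback a p)).2 fun _ => h₂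

theorem repByAlgSpWith_diag_comp_et (hPb : StableBC P) (hPc : StableComp P) (hloc : IsLocalOnBase IsEtCover P)
    (h𝒳 : FibCat.IsFibGrpd 𝒳.p) (h𝒴 : FibCat.IsFibGrpd 𝒴.p) {f : 𝒳 ⥤ᵇ 𝒴} {g : 𝒴 ⥤ᵇ 𝒵}
    (hf : AlgSt.RepByAlgSpWith P (FibCat.diag f)) (hg : AlgSt.RepByAlgSpWith P (FibCat.diag g)) :
    AlgSt.RepByAlgSpWith P (FibCat.diag (BasedFunctor.comp f g)) :=
  repByAlgSpWith_of_iso (diagCompIso f g) (repByAlgSpWith_comp' hPb hPc
    (fun hF hG _ ha => property_of_repBySpWith_et hloc hF hG ha) h𝒳 (fp_isFibGrpd h𝒳 h𝒳 h𝒴) hf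
    (repByAlgSpWith_weaken f f g hg))

/-- A functor is representable by algebraic spaces when a composite and the second diagonal are. -/
theorem repByAlgSp1_of_comp_diag (h𝒴 : FibCat.IsFibGrpd 𝒴.p) (h𝒵 : FibCat.IsFibGrpd 𝒵.p)
    {f : 𝒳 ⥤ᵇ 𝒴} {g : 𝒴 ⥤ᵇ 𝒵} (hgf : AlgSt.RepByAlgSp1 (BasedFunctor.comp f g))
    (hΔ : AlgSt.RepByAlgSp1 (FibCat.diag g)) : AlgSt.RepByAlgSp1 f := fun U y => by
  obtain ⟨k, hk, -⟩ := isEquivOver_inv (diagComparison_isEquivOver y f g)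
  exact repByAlgSp_of_equiv k hk
    (repByAlgSp_fp h𝒴 (fp_isFibGrpd h𝒴 h𝒴 h𝒵) (FibCat.diag g) (pairMap y f g) hΔ (hgf U (BasedFunctor.comp y g)))

/-- A property of the diagonals of all base changes to schemes holds for the diagonal. -/
theorem repByAlgSpWith_diag_of_fpFst {f : 𝒳 ⥤ᵇ 𝒴}
    (h : ∀ (U : Over S) (y : FibCat.overCat U ⥤ᵇ 𝒴), AlgSt.RepByAlgSpWith P (FibCat.diag (FibCat.fpFst y f))) :
    AlgSt.RepByAlgSpWith P (FibCat.diag f) := by
  intro U y
  let y₀ : FibCat.overCat U ⥤ᵇ 𝒴 := BasedFunctor.comp (BasedFunctor.comp y (FibCat.fpFst f f)) f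
  let q := FibCat.fpFst y₀ f
  have hq : AlgSt.RepByAlgSpWith P (FibCat.diag q) := h U y₀
  let G := FibCat.fpSnd (FibCat.fpSnd y₀ f) (FibCat.fpFst f f)
  have hG : AlgSt.RepByAlgSpWith P (FibCat.fpFst G (FibCat.diag f)) :=
    (repByAlgSpWith_iff_of_square (f' := FibCat.diag q) (f := FibCat.fpFst G (FibCat.diag f))
      (diagPullback_isEquivOver f y₀) (sqLift_isEquivOver f y₀) (diagLiftIso f y₀)).2 hq
  let p₁ : FibCat.overCat U ⥤ᵇ FibCat.fp y₀ f :=
    FibCat.fpLift (BasedFunctor.id _) (BasedFunctor.comp y (FibCat.fpFst f f)) (Iso.refl y₀)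
  let σ : FibCat.overCat U ⥤ᵇ FibCat.fp (FibCat.fpSnd y₀ f) (FibCat.fpFst f f) :=
    FibCat.fpLift p₁ y (Iso.refl _)
  exact RepOver.of_equiv (hG U σ) (pasteVert σ G (FibCat.diag f)) (pasteVert_isEquivOver σ G _) (Iso.refl _)

end Groth.Agent.AlgStLib
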