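import Groth.Prelude.Def_StCoarse
import Groth.Agent.AlgStLib.OfSp
import Groth.Agent.AlgStLib.FppfSite
import Groth.Agent.AlgStLib.EtLocal
import Groth.Agent.FibBase.FpMaps

/-!
# Categorical moduli spaces are local for affine schemes flat over the base
-/

set_option backward.isDefEq.respectTransparency false
set_option backward.isDefEq.respectTransparency.types false

universe u

open CategoryTheory CategoryTheory.Functor CategoryTheory.Limits AlgebraicGeometry Opposite AlgSp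

namespace Groth.Agent.AlgStLib.CatModLocal

open Groth.Agent.FibBase Groth.Agent.AlgSpLib

variable {S : Scheme.{u}} {𝒵 : AlgSt.Cat S} {M N : Sp S}

/-- `h` is compatible with `φ` over the chart `t`. -/
def Comp (π : 𝒵 ⥤ᵇ AlgSt.ofSp M) (φ : 𝒵 ⥤ᵇ AlgSt.ofSp N) {T : Over S} (t : (yon S).obj T ⟶ M)
    (h : (yon S).obj T ⟶ N) : Prop :=
  ∀ (z : 𝒵.obj) (v : 𝒵.p.obj z ⟶ T), t.hom.app (op (𝒵.p.obj z)) ⟨v⟩ = secAt π z →
    h.hom.app (op (𝒵.p.obj z)) ⟨v⟩ = secAt φ z

theorem secAt_precomp {𝒴 : AlgSt.Cat S} (G : 𝒴 ⥤ᵇ 𝒵) (Φ : 𝒵 ⥤ᵇ AlgSt.ofSp M) (y : 𝒴.obj) :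
    secAt (BasedFunctor.comp G Φ) y = M.obj.map (eqToHom (G.w_obj y).symm).op (secAt Φ (G.obj y)) := by
  refine Eq.trans ?_ (res_res M.obj _ _ _).symm
  refine res_congr M.obj ?_ _
  simp

theorem comp_iff (π : 𝒵 ⥤ᵇ AlgSt.ofSp M) (φ : 𝒵 ⥤ᵇ AlgSt.ofSp N) {T : Over S} (t : (yon S).obj T ⟶ M)
    (h : (yon S).obj T ⟶ N) :
    Comp π φ t h ↔ Nonempty (BasedFunctor.comp (FibCat.fpFst (AlgSt.ofSpMap t) π) (AlgSt.ofSpMap h) ≅
      BasedFunctor.comp (FibCat.fpSnd (AlgSt.ofSpMap t) π) φ) := by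
  constructor
  · intro H
    refine ⟨pshIso _ _ fun o => ?_⟩
    have h₁ : secAt (BasedFunctor.comp (FibCat.fpFst (AlgSt.ofSpMap t) π) (AlgSt.ofSpMap t)) o =
        secAt (BasedFunctor.comp (FibCat.fpSnd (AlgSt.ofSpMap t) π) π) o :=
      secAt_eq_of_iso (FibCat.fpIso (AlgSt.ofSpMap t) π) o
    have e₁ : secAt (BasedFunctor.comp (FibCat.fpFst (AlgSt.ofSpMap t) π) (AlgSt.ofSpMap t)) o =
        t.hom.app _ (secAt (FibCat.fpFst (AlgSt.ofSpMap t) π) o) := secAt_comp_ofPshMap _ t.hom o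
    have e₂ : secAt (BasedFunctor.comp (FibCat.fpFst (AlgSt.ofSpMap t) π) (AlgSt.ofSpMap h)) o =
        h.hom.app _ (secAt (FibCat.fpFst (AlgSt.ofSpMap t) π) o) := secAt_comp_ofPshMap _ h.hom o
    rw [e₁, secAt_precomp] at h₁
    rw [e₂, secAt_precomp]
    have hw : 𝒵.p.obj ((FibCat.fpSnd (AlgSt.ofSpMap t) π).obj o) = (FibCat.fp (AlgSt.ofSpMap t) π).p.obj o :=
      (FibCat.fpSnd (AlgSt.ofSpMap t) π).w_obj o
    have H' := H ((FibCat.fpSnd (AlgSt.ofSpMap t) π).obj o)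
      (eqToHom hw ≫ (secAt (FibCat.fpFst (AlgSt.ofSpMap t) π) o).down) ?_
    · refine Eq.trans ?_ (congrArg (N.obj.map (eqToHom hw.symm).op) H')
      refine Eq.trans (congrArg (h.hom.app _) (ULift.ext _ _ ?_)) (NatTrans.naturality_apply h.hom _ _)
      show _ = eqToHom hw.symm ≫ eqToHom hw ≫ _
      simp
    · refine Eq.trans (congrArg (t.hom.app _) (ULift.ext _ _ ?_))
        ((NatTrans.naturality_apply t.hom (eqToHom hw).op (secAt (FibCat.fpFst (AlgSt.ofSpMap t) π) o)).trans ?_)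
      · rfl
      · refine (congrArg (M.obj.map (eqToHom hw).op) h₁).trans ((res_res M.obj _ _ _).trans (res_id M.obj _ ?_ _))
        simp
  · rintro ⟨i⟩ z v hv
    let o : (FibCat.fp (AlgSt.ofSpMap t) π).obj := ⟨⟨⟨𝒵.p.obj z, ⟨v⟩⟩, z, eltIso (eqToIso (π.w_obj z).symm) (by
      show M.obj.map (eqToHom (π.w_obj z).symm).op (π.obj z).sec = t.hom.app _ ⟨v⟩
      exact hv.symm)⟩, isHomLift_id_of_map_eq (p := (AlgSt.ofSp M).p) rfl (π.w_obj z) rfl⟩
    have h₁ := secAt_eq_of_iso i o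
    have e₂ : secAt (BasedFunctor.comp (FibCat.fpFst (AlgSt.ofSpMap t) π) (AlgSt.ofSpMap h)) o =
        h.hom.app _ (secAt (FibCat.fpFst (AlgSt.ofSpMap t) π) o) := secAt_comp_ofPshMap _ h.hom o
    rw [e₂, secAt_precomp] at h₁
    have e₃ : secAt (FibCat.fpFst (AlgSt.ofSpMap t) π) o = ⟨v⟩ := res_id ((yon S).obj T).obj _ rfl _
    rw [e₃] at h₁
    exact h₁.trans (res_id N.obj _ rfl _)

theorem comp_natural {π : 𝒵 ⥤ᵇ AlgSt.ofSp M} {φ : 𝒵 ⥤ᵇ AlgSt.ofSp N} {T T' : Over S} {t : (yon S).obj T ⟶ M}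
    {h : (yon S).obj T ⟶ N} (hc : Comp π φ t h) (k : T' ⟶ T) :
    Comp π φ ((yon S).map k ≫ t) ((yon S).map k ≫ h) := fun z v hv => hc z (v ≫ k) hv

/-- A jointly surjective family of open immersions covers. -/
theorem mem_J_of_openImm {ι : Type u} {U : Over S} (V : ι → Over S) (v : ∀ i, V i ⟶ U)
    (hv : ∀ i, IsOpenImmersion (v i).left) (hs : ∀ x : U.left, ∃ i, x ∈ Set.range (v i).left)
    (R : Sieve U) (hR : ∀ i, R (v i)) : R ∈ J S U := by
  rw [GrothendieckTopology.mem_over_iff]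
  have hm : Presieve.ofArrows (fun i => (V i).left) (fun i => (v i).left) ∈
      Scheme.precoverage (@Flat ⊓ @LocallyOfFinitePresentation) U.left :=
    (Scheme.ofArrows_mem_precoverage_iff _).2 ⟨hs, fun i => have := hv i; ⟨inferInstance, inferInstance⟩⟩
  refine GrothendieckTopology.superset_covering _ ?_ (Precoverage.generate_mem_toGrothendieck hm)
  rintro Z _ ⟨Y, a, _, ⟨i⟩, rfl⟩
  rw [Sieve.overEquiv_iff]
  convert R.downward_closed (hR i) (Over.homMk (U := Over.mk ((a ≫ (v i).left) ≫ U.hom)) (V := V i) a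
    (by simp)) using 1
  ext; simp

/-- The arrows through which a section factors via affine schemes flat over the sheaf. -/
def Fac {W : Over S} (m : M.obj.obj (op W)) : Sieve W where
  arrows V k := ∃ (T : Over S) (t : (yon S).obj T ⟶ M) (v : V ⟶ T),
    IsAffine T.left ∧ LocP @Flat t ∧ t.hom.app (op V) ⟨v⟩ = M.obj.map k.op m
  downward_closed := by
    rintro V V' k ⟨T, t, v, hT, ht, hv⟩ g
    refine ⟨T, t, g ≫ v, hT, ht, ?_⟩
    refine (NatTrans.naturality_apply t.hom g.op (⟨v⟩ : ((yon S).obj T).obj.obj (op V))).trans ?_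
    refine (congrArg (M.obj.map g.op) hv).trans ?_
    exact res_res M.obj _ _ _

theorem fac_mem (hM : IsAlgSpace M) {W : Over S} (m : M.obj.obj (op W)) : Fac m ∈ J S W := by
  obtain ⟨U, p, hp, hp'⟩ := hM.atlas
  have hps : Sheaf.IsLocallySurjective p := isLocallySurjective_of_etale_surjective hp hp'
  refine GrothendieckTopology.transitive _ (Presheaf.imageSieve_mem (J S) p.hom m) _ ?_
  rintro V k ⟨⟨u⟩, hu⟩
  let 𝒰 := U.left.affineCover
  let O : 𝒰.I₀ → V.left.Opens := fun i => u.left ⁻¹ᵁ (𝒰.f i).opensRange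
  refine mem_J_of_openImm (ι := 𝒰.I₀) (fun i => Over.mk ((O i).ι ≫ V.hom)) (fun i => Over.homMk (O i).ι rfl)
    (fun i => inferInstanceAs (IsOpenImmersion (O i).ι)) (fun x => ?_) _ fun i => ?_
  · obtain ⟨y, hy⟩ := 𝒰.covers (u.left x)
    exact ⟨𝒰.idx (u.left x), ⟨⟨x, ⟨y, hy⟩⟩, rfl⟩⟩
  · let T : Over S := Over.mk (𝒰.f i ≫ U.hom)
    let j : T ⟶ U := Over.homMk (𝒰.f i) rfl
    let v : (O i).toScheme ⟶ T.left := IsOpenImmersion.lift (𝒰.f i) ((O i).ι ≫ u.left) (by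
      rintro _ ⟨x, rfl⟩
      exact x.2)
    have hv : v ≫ 𝒰.f i = (O i).ι ≫ u.left := IsOpenImmersion.lift_fac _ _ _
    let v' : Over.mk ((O i).ι ≫ V.hom) ⟶ T := Over.homMk v (by
      show v ≫ 𝒰.f i ≫ U.hom = (O i).ι ≫ V.hom
      rw [← Category.assoc, hv, Category.assoc, Over.w u])
    refine ⟨T, (yon S).map j ≫ p, v', inferInstanceAs (IsAffine (𝒰.X i)), ?_, ?_⟩
    · exact locP_comp (IsAlgSpace.yon_obj T) (IsAlgSpace.yon_obj U) hM
        (locP_of_repWith ((repWith_yon_map_iff _ _).2 (inferInstanceAs (Flat (𝒰.f i)))))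
        (locP_mono (P := @Etale) (fun _ _ f (_ : Etale f) => inferInstanceAs (Flat f)) (locP_of_repWith hp))
    · have e : v' ≫ j = (Over.homMk (O i).ι rfl : Over.mk ((O i).ι ≫ V.hom) ⟶ V) ≫ u :=
        Over.OverMorphism.ext hv
      show p.hom.app _ ⟨v' ≫ j⟩ = _
      rw [e]
      refine (NatTrans.naturality_apply p.hom _ (⟨u⟩ : ((yon S).obj U).obj.obj (op V))).trans ?_
      refine (congrArg (M.obj.map _) hu).trans ?_
      exact res_res M.obj _ _ _

theorem ext_of_covering {W : Over S} {T : Sieve W} (hT : T ∈ J S W) {a b : N.obj.obj (op W)}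
    (h : ∀ ⦃V : Over S⦄ (k : V ⟶ W), T k → N.obj.map k.op a = N.obj.map k.op b) : a = b :=
  (((isSheaf_iff_isSheaf_of_type _ _).1 N.property) T hT).isSeparatedFor.ext fun _ k hk => h k hk

/-- A functor is a categorical moduli space if its base changes to affine schemes flat over the base are. -/
theorem isCatModuli_of_affine_flat (h𝒵 : FibCat.IsFibGrpd 𝒵.p) (hM : IsAlgSpace M) (π : 𝒵 ⥤ᵇ AlgSt.ofSp M)
    (hπ : ∀ (T : Over S), IsAffine T.left → ∀ t : (yon S).obj T ⟶ M, LocP @Flat t →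
      AlgSt.IsCatModuli (FibCat.fpFst (AlgSt.ofSpMap t) π)) : AlgSt.IsCatModuli π := by
  refine ⟨hM, fun N hN φ => ?_⟩
  have hu : ∀ (T : Over S), IsAffine T.left → ∀ t : (yon S).obj T ⟶ M, LocP @Flat t →
      ∃! h : (yon S).obj T ⟶ N, Comp π φ t h := fun T hT t ht => by
    obtain ⟨h, hh, hh'⟩ := (hπ T hT t ht).2 N hN (BasedFunctor.comp (FibCat.fpSnd (AlgSt.ofSpMap t) π) φ)
    exact ⟨h, (comp_iff π φ t h).2 hh, fun h' hc => hh' h' ((comp_iff π φ t h').1 hc)⟩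
  choose H hH hHu using hu
  -- independence of the chart
  have hind : ∀ {W : Over S} (T T' : Over S) (hT : IsAffine T.left) (hT' : IsAffine T'.left)
      (t : (yon S).obj T ⟶ M) (t' : (yon S).obj T' ⟶ M) (ht : LocP @Flat t) (ht' : LocP @Flat t')
      (v : W ⟶ T) (v' : W ⟶ T'), t.hom.app (op W) ⟨v⟩ = t'.hom.app (op W) ⟨v'⟩ →
      (H T hT t ht).hom.app (op W) ⟨v⟩ = (H T' hT' t' ht').hom.app (op W) ⟨v'⟩ := by
    intro W T T' hT hT' t t' ht ht' v v' hvv
    have hyT := IsAlgSpace.yon_obj (S := S) T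
    have hyT' := IsAlgSpace.yon_obj (S := S) T'
    let w : (yon S).obj W ⟶ pullback t t' := pullback.lift ((yon S).map v) ((yon S).map v') (by
      apply (J S).uliftYonedaEquiv.injective
      rw [GrothendieckTopology.uliftYonedaEquiv_comp, GrothendieckTopology.uliftYonedaEquiv_comp,
        GrothendieckTopology.uliftYonedaEquiv_uliftYoneda_map, GrothendieckTopology.uliftYonedaEquiv_uliftYoneda_map]
      exact hvv)
    let F := pullback t t'
    have hF : IsAlgSpace F := isAlgSpace_pullback hyT hyT' hM t t'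
    refine ext_of_covering (fac_mem hF ((J S).uliftYonedaEquiv w)) fun V k hk => ?_
    obtain ⟨T₂, q, v₂, hT₂, hq, hqv⟩ := hk
    obtain ⟨k₁, hk₁⟩ := (yon S).map_surjective (q ≫ pullback.fst t t')
    obtain ⟨k₂, hk₂⟩ := (yon S).map_surjective (q ≫ pullback.snd t t')
    have hfl : LocP @Flat ((yon S).map k₁ ≫ t) := by
      rw [hk₁]
      exact locP_comp (IsAlgSpace.yon_obj T₂) hyT hM (locP_comp (IsAlgSpace.yon_obj T₂) hF hyT hq
        (locP_of_isPullback (IsPullback.of_hasPullback t t').flip hyT' hM hyT ht')) ht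
    have e₁₂ : (yon S).map k₁ ≫ t = (yon S).map k₂ ≫ t' := by
      rw [hk₁, hk₂, Category.assoc, Category.assoc, pullback.condition]
    have u₁ := hHu T₂ hT₂ _ hfl _ (comp_natural (hH T hT t ht) k₁)
    have u₂ := hHu T₂ hT₂ _ hfl ((yon S).map k₂ ≫ H T' hT' t' ht') (by
      rw [e₁₂]; exact comp_natural (hH T' hT' t' ht') k₂)
    have hv₁ : v₂ ≫ k₁ = k ≫ v := (yon S).map_injective (by
      rw [Functor.map_comp, hk₁, Functor.map_comp]
      apply (J S).uliftYonedaEquiv.injective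
      simp only [GrothendieckTopology.uliftYonedaEquiv_comp, GrothendieckTopology.uliftYonedaEquiv_uliftYoneda_map]
      show (pullback.fst t t').hom.app _ (q.hom.app _ ⟨v₂⟩) = _
      rw [hqv, NatTrans.naturality_apply, ← GrothendieckTopology.uliftYonedaEquiv_comp, pullback.lift_fst]
      rfl)
    have hv₂ : v₂ ≫ k₂ = k ≫ v' := (yon S).map_injective (by
      rw [Functor.map_comp, hk₂, Functor.map_comp]
      apply (J S).uliftYonedaEquiv.injective
      simp only [GrothendieckTopology.uliftYonedaEquiv_comp, GrothendieckTopology.uliftYonedaEquiv_uliftYoneda_map]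
      show (pullback.snd t t').hom.app _ (q.hom.app _ ⟨v₂⟩) = _
      rw [hqv, NatTrans.naturality_apply, ← GrothendieckTopology.uliftYonedaEquiv_comp, pullback.lift_snd]
      rfl)
    rw [← NatTrans.naturality_apply, ← NatTrans.naturality_apply]
    show (H T hT t ht).hom.app _ ⟨k ≫ v⟩ = (H T' hT' t' ht').hom.app _ ⟨k ≫ v'⟩
    rw [← hv₁, ← hv₂]
    exact congrArg (fun f : (yon S).obj T₂ ⟶ N => f.hom.app (op V) ⟨v₂⟩) (u₁.trans u₂.symm)
  -- the glued sections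
  have hglue : ∀ (W : Over S) (m : M.obj.obj (op W)), ∃! n : N.obj.obj (op W), ∀ ⦃V : Over S⦄ (k : V ⟶ W)
      (T : Over S) (hT : IsAffine T.left) (t : (yon S).obj T ⟶ M) (ht : LocP @Flat t) (v : V ⟶ T),
      t.hom.app (op V) ⟨v⟩ = M.obj.map k.op m → N.obj.map k.op n = (H T hT t ht).hom.app (op V) ⟨v⟩ := by
    intro W m
    let fam : Presieve.FamilyOfElements N.obj (Fac m).arrows := fun V k hk =>
      (H _ hk.choose_spec.choose_spec.choose_spec.1 _ hk.choose_spec.choose_spec.choose_spec.2.1).hom.app (op V)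
        ⟨hk.choose_spec.choose_spec.choose⟩
    have hfam : ∀ ⦃V : Over S⦄ (k : V ⟶ W) (hk : Fac m k) (T : Over S) (hT : IsAffine T.left)
        (t : (yon S).obj T ⟶ M) (ht : LocP @Flat t) (v : V ⟶ T),
        t.hom.app (op V) ⟨v⟩ = M.obj.map k.op m → fam k hk = (H T hT t ht).hom.app (op V) ⟨v⟩ :=
      fun V k hk T hT t ht v hv => hind _ _ _ _ _ _ _ _ _ _
        (hk.choose_spec.choose_spec.choose_spec.2.2.trans hv.symm)
    have hc : fam.Compatible := by
      rw [Presieve.compatible_iff_sieveCompatible]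
      intro V V' k g hk
      obtain ⟨T, t, v, hT, ht, hv⟩ := hk
      refine (hfam (g ≫ k) _ T hT t ht (g ≫ v) ?_).trans ?_
      · refine (NatTrans.naturality_apply t.hom g.op (⟨v⟩ : ((yon S).obj T).obj.obj (op V))).trans ?_
        exact (congrArg (M.obj.map g.op) hv).trans (res_res M.obj _ _ _)
      · rw [hfam k ⟨T, t, v, hT, ht, hv⟩ T hT t ht v hv]
        exact NatTrans.naturality_apply (H T hT t ht).hom g.op (⟨v⟩ : ((yon S).obj T).obj.obj (op V))
    obtain ⟨n, hn, hn'⟩ := (((isSheaf_iff_isSheaf_of_type _ _).1 N.property) (Fac m) (fac_mem hM m)) fam hc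
    refine ⟨n, fun V k T hT t ht v hv => ?_, fun n' hn'' => hn' _ fun V k hk => ?_⟩
    · exact (hn k ⟨T, t, v, hT, ht, hv⟩).trans (hfam k _ T hT t ht v hv)
    · obtain ⟨T, t, v, hT, ht, hv⟩ := hk
      exact (hn'' k T hT t ht v hv).trans (hfam k _ T hT t ht v hv).symm
  choose nn hnn hnu using hglue
  let ψ : M ⟶ N := ObjectProperty.homMk
    { app := fun W => TypeCat.ofHom fun m => nn W.unop m
      naturality := fun W W' g => by
        ext m
        show nn W'.unop (M.obj.map g m) = N.obj.map g (nn W.unop m)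
        refine (hnu _ _ _ fun V k T hT t ht v hv => ?_).symm
        refine (res_res N.obj g.unop k _).trans (hnn _ _ (k ≫ g.unop) T hT t ht v ?_)
        exact hv.trans (res_res M.obj g.unop k _) }
  have hψ : ∀ (z : 𝒵.obj), ψ.hom.app (op (𝒵.p.obj z)) (secAt π z) = secAt φ z := fun z => by
    refine ext_of_covering (fac_mem hM (secAt π z)) fun V k hk => ?_
    obtain ⟨T, t, v, hT, ht, hv⟩ := hk
    show N.obj.map k.op (nn _ (secAt π z)) = _
    rw [hnn _ _ k T hT t ht v hv]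
    have := isFibered_of_isFibGrpd h𝒵
    obtain ⟨z', g, hg⟩ := IsPreFibered.exists_isCartesian (p := 𝒵.p) (a := z) rfl k
    obtain rfl : 𝒵.p.obj z' = V := IsHomLift.domain_eq 𝒵.p k g
    obtain rfl : k = 𝒵.p.map g := by
      have := IsHomLift.fac' 𝒵.p k g
      simpa using this.symm
    rw [secAt_map] at hv ⊢
    exact hH T hT t ht z' v hv
  refine ⟨ψ, ⟨pshIso _ _ fun z => (secAt_comp_ofPshMap π ψ.hom z).trans (hψ z)⟩, fun ψ' ⟨i⟩ => ?_⟩
  refine ObjectProperty.hom_ext _ (NatTrans.ext (funext fun W => ?_))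
  ext m
  refine hnu W.unop m _ fun V k T hT t ht v hv => ?_
  have hu' : Comp π φ t (t ≫ ψ') := fun z w hw => by
    show ψ'.hom.app _ (t.hom.app _ ⟨w⟩) = _
    rw [hw]
    exact (secAt_comp_ofPshMap π ψ'.hom z).symm.trans (secAt_eq_of_iso i z)
  rw [← hHu T hT t ht _ hu']
  show N.obj.map k.op (ψ'.hom.app _ m) = ψ'.hom.app _ (t.hom.app _ ⟨v⟩)
  rw [hv]
  exact (NatTrans.naturality_apply ψ'.hom k.op m).symm

/-- Categorical moduli spaces are invariant under equivalences of the source. -/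
theorem isCatModuli_of_equiv {𝒵' : AlgSt.Cat S} {π : 𝒵 ⥤ᵇ AlgSt.ofSp M} {π' : 𝒵' ⥤ᵇ AlgSt.ofSp M}
    {e : 𝒵' ⥤ᵇ 𝒵} (he : FibCat.IsEquivOver e) (i : BasedFunctor.comp e π ≅ π') (h : AlgSt.IsCatModuli π') :
    AlgSt.IsCatModuli π := by
  obtain ⟨g, -, -, ⟨j⟩⟩ := isEquivOver_inv he
  refine ⟨h.1, fun N hN φ => ?_⟩
  obtain ⟨a, ⟨ha⟩, hu⟩ := h.2 N hN (BasedFunctor.comp e φ)
  refine ⟨a, ⟨?_⟩, fun a' ⟨ha'⟩ => hu a' ⟨(whiskerRightIso i (AlgSt.ofSpMap a')).symm ≪≫ whiskerLeftIso e ha'⟩⟩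
  exact (whiskerRightIso j (BasedFunctor.comp π (AlgSt.ofSpMap a))).symm ≪≫
    whiskerLeftIso g (whiskerRightIso i (AlgSt.ofSpMap a) ≪≫ ha) ≪≫ whiskerRightIso j φ

end Groth.Agent.AlgStLib.CatModLocal
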