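import Groth.Agent.AlgStLib.Pts
import Mathlib.AlgebraicGeometry.Morphisms.Descent

/-!
# Charts and the topology on points
-/

set_option backward.isDefEq.respectTransparency false
set_option backward.isDefEq.respectTransparency.types false

universe u

open CategoryTheory CategoryTheory.Functor CategoryTheory.Limits AlgebraicGeometry Opposite AlgSp Topology

namespace Groth.Agent.AlgStLib

open Groth.Agent.FibBase Groth.Agent.AlgSpLib

variable {S : Scheme.{u}} {𝒳 𝒴 𝒵 : AlgSt.Cat S} {P : MorphismProperty (Sp S)}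

/-- A functor from a slice given by a map of representable sheaves. -/
def overMapPullIso {U T : Over S} {F : Sp S} (p : (yon S).obj T ⟶ F) (Φ : AlgSt.ofSp F ⥤ᵇ FibCat.overCat U)
    (k : T ⟶ U) (hk : (yon S).map k = p ≫ AlgSt.spMapOfOver Φ) :
    BasedFunctor.comp (overOfMap p) Φ ≅ AlgSt.overMap k :=
  whiskerLeftIso (overOfMap p) (isoSpMapOfOver Φ) ≪≫
    overIso _ _ (fun x => by
      let a := AlgSt.spMapOfOver Φ
      have : ((yon S).map k).hom.app (op x.left) ⟨x.hom⟩ =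
          a.hom.app (op x.left) (p.hom.app (op x.left) ⟨x.hom⟩) := by rw [hk]; rfl
      have h' : (⟨x.hom ≫ k⟩ : ULift (x.left ⟶ U)) = _ := this
      show 𝟙 x.left ≫ (x.hom ≫ k) = (a.hom.app (op x.left) (p.hom.app (op x.left) ⟨x.hom⟩)).down
      rw [← h', Category.id_comp])

theorem spPt_map_overOfMap {T : Over S} {F : Sp S} (p : (yon S).obj T ⟶ F) (s : ↥T.left) :
    spPt (AlgSt.Points.map (overOfMap p) (ptAt T s)) = AlgSp.Points.map p (AlgSp.Points.ofScheme T s) := by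
  rw [overOfMap, pts_map_comp, spPt_map_ofSpMap]
  congr 1

theorem surjective_overOfMap {T : Over S} {F : Sp S} {p : (yon S).obj T ⟶ F} (hp : RepWith @Surjective p) :
    Function.Surjective fun s => AlgSt.Points.map (overOfMap p) (ptAt T s) := fun x => by
  obtain ⟨y, hy⟩ := surjective_map_of_repWith hp (spPt x)
  obtain ⟨s, rfl⟩ := (AlgSp.Points.schemeEquiv T).surjective y
  exact ⟨s, spPt_bijective.1 ((spPt_map_overOfMap p s).trans hy)⟩

/-- Schemes mapping to the fibre product of two functors from slices. -/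
theorem exists_chart_fp (h𝒳 : FibCat.IsFibGrpd 𝒳.p) {U V : Over S} (z : FibCat.overCat U ⥤ᵇ 𝒳)
    {x : FibCat.overCat V ⥤ᵇ 𝒳} (hx : AlgSt.RepByAlgSp1 x) :
    ∃ (T : Over S) (k : T ⟶ U) (h : T ⟶ V),
      Nonempty (BasedFunctor.comp (AlgSt.overMap k) z ≅ BasedFunctor.comp (AlgSt.overMap h) x) ∧
      (∀ t v, AlgSt.Points.ofChart z t = AlgSt.Points.ofChart x v → ∃ s, k.left s = t ∧ h.left s = v) ∧
      (∀ (R : MorphismProperty Scheme.{u}) [IsEtLocal R] [R.IsStableUnderComposition], @Etale ≤ R →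
        AlgSt.RepByAlgSpWith (LocP R) x → R k.left) ∧
      (AlgSt.RepByAlgSpWith IsSurjectiveMor x → Function.Surjective k.left) := by
  obtain ⟨F, e, he⟩ := hx U z
  obtain ⟨T, p, hp, hp'⟩ := F.property.atlas
  let Φ := BasedFunctor.comp e (FibCat.fpFst z x)
  let Ψ := BasedFunctor.comp e (FibCat.fpSnd z x)
  obtain ⟨k, hk⟩ := (yon S).map_surjective (p ≫ AlgSt.spMapOfOver Φ)
  obtain ⟨h, hh⟩ := (yon S).map_surjective (p ≫ AlgSt.spMapOfOver Ψ)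
  let E := BasedFunctor.comp (overOfMap p) e
  let ik : BasedFunctor.comp E (FibCat.fpFst z x) ≅ AlgSt.overMap k := overMapPullIso p Φ k hk
  let ih : BasedFunctor.comp E (FibCat.fpSnd z x) ≅ AlgSt.overMap h := overMapPullIso p Ψ h hh
  have lift : ∀ w : AlgSt.Points (FibCat.fp z x), ∃ s,
      toSch U (AlgSt.Points.map (FibCat.fpFst z x) w) = k.left s ∧
      toSch V (AlgSt.Points.map (FibCat.fpSnd z x) w) = h.left s := fun w => by
    obtain ⟨w', rfl⟩ := (pts_bijective_of_isEquivOver he).2 w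
    obtain ⟨s, rfl⟩ := surjective_overOfMap hp' w'
    refine ⟨s, ?_, ?_⟩
    · rw [← pts_map_comp e, ← pts_map_comp (overOfMap p)]
      exact ((congrArg (toSch U) (pts_map_congr ik _)).trans (toSch_map_overMap k _)).trans
        (congrArg _ (toSch_ptAt T s))
    · rw [← pts_map_comp e, ← pts_map_comp (overOfMap p)]
      exact ((congrArg (toSch V) (pts_map_congr ih _)).trans (toSch_map_overMap h _)).trans
        (congrArg _ (toSch_ptAt T s))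
  refine ⟨T, k, h, ⟨(whiskerRightIso ik z).symm ≪≫ whiskerLeftIso E (FibCat.fpIso z x) ≪≫ whiskerRightIso ih x⟩,
    fun t v htv => ?_, ?_, fun hs t => ?_⟩
  · obtain ⟨w, h₁, h₂⟩ := exists_pts_fp (isFibGrpd_overCat V) h𝒳 (isFibGrpd_overCat U) x z (ptAt U t) (ptAt V v) htv
    obtain ⟨s, s₁, s₂⟩ := lift w
    refine ⟨s, ?_, ?_⟩
    · rw [← s₁, h₁, toSch_ptAt]
    · rw [← s₂, h₂, toSch_ptAt]
  · intro R _ _ hR hxR
    have hfl := (RepOver.property_of_stableBC stableBC_locP (hxR U z) e he).2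
    exact locP_yon_map (P := R) (hk ▸ locP_comp (IsAlgSpace.yon_obj T) F.property (IsAlgSpace.yon_obj U)
      (locP_mono hR (locP_of_repWith hp)) hfl)
  · obtain ⟨x₁, hx₁⟩ := (RepOver.property_of_stableBC stableBC_isSurjectiveMor (hs U z) e he).2
      (AlgSp.Points.ofScheme U t)
    obtain ⟨w', rfl⟩ := spPt_bijective.2 x₁
    obtain ⟨s, hs', -⟩ := lift (AlgSt.Points.map e w')
    refine ⟨s, ?_⟩
    rw [← hs', ← pts_map_comp, toSch_map, hx₁, AlgSp.Points.toScheme_ofScheme]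

theorem etale_le_flat : (@Etale : MorphismProperty Scheme.{u}) ≤ @Flat :=
  fun _ _ f (_ : Etale f) => inferInstanceAs (Flat f)

theorem etale_le_lfp : (@Etale : MorphismProperty Scheme.{u}) ≤ @LocallyOfFinitePresentation :=
  fun _ _ f (_ : Etale f) => inferInstanceAs (LocallyOfFinitePresentation f)

theorem isOpenMap_of_flat_lfp {X Y : Scheme.{u}} (f : X ⟶ Y) (hf : Flat f)
    (hp : LocallyOfFinitePresentation f) : IsOpenMap f := f.isOpenMap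

theorem repByAlgSpWith_flat_of_smooth {f : 𝒳 ⥤ᵇ 𝒴} (h : AlgSt.RepByAlgSpWith (LocP @Smooth) f) :
    AlgSt.RepByAlgSpWith (LocP @Flat) f :=
  repByAlgSpWith_mono (fun _ _ _ h => locP_mono (Q := @Flat)
    (fun _ _ g (_ : Smooth g) => inferInstanceAs (Flat g)) h) h

theorem repByAlgSpWith_lfp_of_smooth {f : 𝒳 ⥤ᵇ 𝒴} (h : AlgSt.RepByAlgSpWith (LocP @Smooth) f) :
    AlgSt.RepByAlgSpWith (LocP @LocallyOfFinitePresentation) f :=
  repByAlgSpWith_mono (fun _ _ _ h => locP_mono (Q := @LocallyOfFinitePresentation)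
    (fun _ _ g (_ : Smooth g) => inferInstanceAs (LocallyOfFinitePresentation g)) h) h

theorem isOpen_preimage_image (h𝒳 : FibCat.IsFibGrpd 𝒳.p) {U V : Over S} (z : FibCat.overCat U ⥤ᵇ 𝒳)
    {x : FibCat.overCat V ⥤ᵇ 𝒳} (h₁ : AlgSt.RepByAlgSpWith (LocP @Flat) x)
    (h₂ : AlgSt.RepByAlgSpWith (LocP @LocallyOfFinitePresentation) x) {O : Set ↥V.left} (hO : IsOpen O) :
    IsOpen (AlgSt.Points.ofChart z ⁻¹' (AlgSt.Points.ofChart x '' O)) := by
  obtain ⟨T, k, h, ⟨i⟩, hjoint, hR, -⟩ := exists_chart_fp h𝒳 z (repByAlgSp1_of_repByAlgSpWith h₁)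
  have hk : IsOpenMap k.left := isOpenMap_of_flat_lfp _ (hR _ etale_le_flat h₁) (hR _ etale_le_lfp h₂)
  have key : AlgSt.Points.ofChart z ⁻¹' (AlgSt.Points.ofChart x '' O) = k.left '' (h.left ⁻¹' O) := by
    refine Set.Subset.antisymm ?_ ?_
    · rintro t ⟨v, hv, hvt⟩
      obtain ⟨s, rfl, rfl⟩ := hjoint t v hvt.symm
      exact ⟨s, hv, rfl⟩
    · rintro _ ⟨s, hs, rfl⟩
      refine ⟨h.left s, hs, ?_⟩
      rw [← ofChart_overMap, ← ofChart_overMap]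
      exact (pts_map_congr i (ptAt T s)).symm
  rw [key]
  exact hk _ (hO.preimage h.left.continuous)

theorem exists_ofChart_eq (h𝒳 : FibCat.IsFibGrpd 𝒳.p) (p : AlgSt.FPt 𝒳) :
    ∃ z : FibCat.overCat (Over.mk p.str) ⥤ᵇ 𝒳, ∀ t, AlgSt.Points.ofChart z t = AlgSt.Points.mk p := by
  obtain ⟨G, e, -⟩ := exists_overCat_obj h𝒳 (U := Over.mk p.str) p.obj p.lies
  refine ⟨G, fun t => ?_⟩
  let q : AlgSt.FPt (FibCat.overCat (Over.mk p.str) : AlgSt.Cat S) :=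
    { K := p.K, str := p.str, obj := Over.mk (𝟙 (Over.mk p.str)), lies := rfl }
  obtain ⟨t', ht'⟩ := ptAt_surjective _ (AlgSt.Points.mk q)
  have : Subsingleton ↥(Over.mk p.str).left := inferInstanceAs (Subsingleton (PrimeSpectrum p.K))
  rw [ofChart_eq_map, Subsingleton.elim t t', ht']
  exact pts_eq_of_hom (p := q.map G) (q := p) e.hom

theorem ofChart_surjective (h𝒳 : FibCat.IsFibGrpd 𝒳.p) {V : Over S} {x : FibCat.overCat V ⥤ᵇ 𝒳}
    (hx : AlgSt.RepByAlgSpWith IsSurjectiveMor x) : Function.Surjective (AlgSt.Points.ofChart x) := fun y => by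
  obtain ⟨p, rfl⟩ := AlgSt.Points.mk_surjective y
  obtain ⟨z, hz⟩ := exists_ofChart_eq h𝒳 p
  obtain ⟨T, k, h, ⟨i⟩, -, -, hk⟩ := exists_chart_fp h𝒳 z (repByAlgSp1_of_repByAlgSpWith hx)
  obtain ⟨s, -⟩ := hk hx (IsLocalRing.closedPoint p.K)
  refine ⟨h.left s, ?_⟩
  rw [← ofChart_overMap, ← hz (k.left s), ← ofChart_overMap]
  exact (pts_map_congr i (ptAt T s)).symm

theorem isOpen_preimage_of_chart (h𝒳 : FibCat.IsFibGrpd 𝒳.p) {U V : Over S} (z : FibCat.overCat U ⥤ᵇ 𝒳)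
    {x : FibCat.overCat V ⥤ᵇ 𝒳} (h₁ : AlgSt.RepByAlgSpWith (LocP @Flat) x)
    (h₂ : AlgSt.RepByAlgSpWith (LocP @LocallyOfFinitePresentation) x)
    (h₃ : AlgSt.RepByAlgSpWith IsSurjectiveMor x) {W : Set (AlgSt.Points 𝒳)}
    (hW : IsOpen (AlgSt.Points.ofChart x ⁻¹' W)) : IsOpen (AlgSt.Points.ofChart z ⁻¹' W) := by
  have := isOpen_preimage_image h𝒳 z h₁ h₂ hW
  rwa [Set.image_preimage_eq W (ofChart_surjective h𝒳 h₃)] at this

theorem isOpen_of_chart (h𝒳 : FibCat.IsFibGrpd 𝒳.p) {V : Over S} {x : FibCat.overCat V ⥤ᵇ 𝒳}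
    (h₁ : AlgSt.RepByAlgSpWith (LocP @Flat) x) (h₂ : AlgSt.RepByAlgSpWith (LocP @LocallyOfFinitePresentation) x)
    (h₃ : AlgSt.RepByAlgSpWith IsSurjectiveMor x) {W : Set (AlgSt.Points 𝒳)}
    (hW : IsOpen (AlgSt.Points.ofChart x ⁻¹' W)) : IsOpen W :=
  fun _ z _ => isOpen_preimage_of_chart h𝒳 z h₁ h₂ h₃ hW

theorem continuous_ofChart (h𝒳 : FibCat.IsFibGrpd 𝒳.p) (hA : AlgSt.HasAtlas (LocP @Smooth) 𝒳) {U : Over S}
    (z : FibCat.overCat U ⥤ᵇ 𝒳) : Continuous (AlgSt.Points.ofChart z) := by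
  obtain ⟨V, x, hx, hx'⟩ := hA
  exact continuous_def.2 fun W hW => isOpen_preimage_of_chart h𝒳 z (repByAlgSpWith_flat_of_smooth hx)
    (repByAlgSpWith_lfp_of_smooth hx) hx' (hW V x hx)

theorem map_ofChart {U : Over S} (f : 𝒳 ⥤ᵇ 𝒴) (x : FibCat.overCat U ⥤ᵇ 𝒳) (t : ↥U.left) :
    AlgSt.Points.map f (AlgSt.Points.ofChart x t) = AlgSt.Points.ofChart (BasedFunctor.comp x f) t := by
  rw [ofChart_eq_map, ofChart_eq_map, pts_map_comp]

theorem continuous_pts_map (h𝒴 : FibCat.IsFibGrpd 𝒴.p) (hA : AlgSt.HasAtlas (LocP @Smooth) 𝒴) (f : 𝒳 ⥤ᵇ 𝒴) :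
    Continuous (AlgSt.Points.map f) := continuous_def.2 fun W hW U x _ => by
  have : AlgSt.Points.ofChart x ⁻¹' (AlgSt.Points.map f ⁻¹' W) =
      AlgSt.Points.ofChart (BasedFunctor.comp x f) ⁻¹' W := by
    ext t; simp only [Set.mem_preimage, map_ofChart]
  rw [this]
  exact hW.preimage (continuous_ofChart h𝒴 hA _)

theorem isOpenMap_ofChart (h𝒳 : FibCat.IsFibGrpd 𝒳.p) {V : Over S} {x : FibCat.overCat V ⥤ᵇ 𝒳}
    (h₁ : AlgSt.RepByAlgSpWith (LocP @Flat) x) (h₂ : AlgSt.RepByAlgSpWith (LocP @LocallyOfFinitePresentation) x) :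
    IsOpenMap (AlgSt.Points.ofChart x) :=
  fun _ hO _ z _ => isOpen_preimage_image h𝒳 z h₁ h₂ hO

theorem ofChart_overOfMap_comp {T : Over S} {F : Sp S} (p : (yon S).obj T ⟶ F) (u : AlgSt.ofSp F ⥤ᵇ 𝒳) (s : ↥T.left) :
    AlgSt.Points.ofChart (BasedFunctor.comp (overOfMap p) u) s =
      AlgSt.Points.map u (AlgSt.Points.ofChart (overOfMap p) s) := (map_ofChart u (overOfMap p) s).symm

/-- A scheme chart of an algebraic space. -/
theorem repByAlgSpWith_overOfMap (hPb : StableBC P) {T : Over S} {F : Sp S} (hF : IsAlgSpace F)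
    {p : (yon S).obj T ⟶ F} (hP : P p) : AlgSt.RepByAlgSpWith P (overOfMap p) :=
  repByAlgSpWith_precomp (isEquivOver_ofOverCat T) (repByAlgSpWith_ofSpMap hPb (IsAlgSpace.yon_obj T) hF p hP)

theorem isOpenMap_pts_map_ofSp (h𝒳 : FibCat.IsFibGrpd 𝒳.p) (U : AlgSp.Space S) {u : AlgSt.ofSp U.obj ⥤ᵇ 𝒳}
    (h₁ : AlgSt.RepByAlgSpWith (LocP @Flat) u) (h₂ : AlgSt.RepByAlgSpWith (LocP @LocallyOfFinitePresentation) u) :
    IsOpenMap (AlgSt.Points.map u) := by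
  intro O hO
  obtain ⟨T, p, hp, hp'⟩ := U.property.atlas
  have hg : FibCat.IsFibGrpd (AlgSt.ofSp U.obj).p := Stk.isFibGrpd_ofPsh _
  have hsp : AlgSt.RepByAlgSpWith (LocP @Smooth) (overOfMap p) :=
    repByAlgSpWith_overOfMap stableBC_locP U.property (locP_mono etale_le_smooth (locP_of_repWith hp))
  have hO' : IsOpen (AlgSt.Points.ofChart (overOfMap p) ⁻¹' O) := hO T _ hsp
  have key := isOpenMap_ofChart h𝒳 (x := BasedFunctor.comp (overOfMap p) u)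
    (repByAlgSpWith_locP_comp (isFibGrpd_overCat T) hg (repByAlgSpWith_flat_of_smooth hsp) h₁)
    (repByAlgSpWith_locP_comp (isFibGrpd_overCat T) hg (repByAlgSpWith_lfp_of_smooth hsp) h₂) _ hO'
  convert! key using 1
  ext y
  refine ⟨?_, ?_⟩
  · rintro ⟨w, hw, rfl⟩
    obtain ⟨s, rfl⟩ := surjective_overOfMap hp' w
    exact ⟨s, hw, ofChart_overOfMap_comp p u s⟩
  · rintro ⟨s, hs, rfl⟩
    exact ⟨_, hs, (ofChart_overOfMap_comp p u s).symm⟩

theorem pts_map_surjective_ofSp (h𝒳 : FibCat.IsFibGrpd 𝒳.p) (U : AlgSp.Space S) {u : AlgSt.ofSp U.obj ⥤ᵇ 𝒳}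
    (h₃ : AlgSt.RepByAlgSpWith IsSurjectiveMor u) : AlgSt.IsSurjective u := fun y => by
  obtain ⟨T, p, hp, hp'⟩ := U.property.atlas
  have hs : AlgSt.RepByAlgSpWith IsSurjectiveMor (overOfMap p) :=
    repByAlgSpWith_overOfMap stableBC_isSurjectiveMor U.property (surjective_map_of_repWith hp')
  obtain ⟨s, rfl⟩ := ofChart_surjective h𝒳 (x := BasedFunctor.comp (overOfMap p) u)
    (repByAlgSpWith_isSurjectiveMor_comp (isFibGrpd_overCat T) (Stk.isFibGrpd_ofPsh _) hs h₃) y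
  exact ⟨_, (ofChart_overOfMap_comp p u s).symm⟩

theorem isOpen_iff_preimage_ofSp (h𝒳 : FibCat.IsFibGrpd 𝒳.p) (hA : AlgSt.HasAtlas (LocP @Smooth) 𝒳)
    (U : AlgSp.Space S) {u : AlgSt.ofSp U.obj ⥤ᵇ 𝒳}
    (h₁ : AlgSt.RepByAlgSpWith (LocP @Flat) u) (h₂ : AlgSt.RepByAlgSpWith (LocP @LocallyOfFinitePresentation) u)
    (h₃ : AlgSt.RepByAlgSpWith IsSurjectiveMor u) (W : Set (AlgSt.Points 𝒳)) :
    IsOpen W ↔ IsOpen (AlgSt.Points.map u ⁻¹' W) := by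
  refine ⟨fun hW => hW.preimage (continuous_pts_map h𝒳 hA u), fun hW => ?_⟩
  have := isOpenMap_pts_map_ofSp h𝒳 U h₁ h₂ _ hW
  rwa [Set.image_preimage_eq W (pts_map_surjective_ofSp h𝒳 U h₃)] at this

theorem isSurjective_of_repByAlgSpWith (h𝒳 : FibCat.IsFibGrpd 𝒳.p) (h𝒴 : FibCat.IsFibGrpd 𝒴.p) {f : 𝒳 ⥤ᵇ 𝒴}
    (hA : AlgSt.HasAtlas (LocP @Smooth) 𝒳) (hf : AlgSt.RepByAlgSpWith IsSurjectiveMor f) :
    AlgSt.IsSurjective f := fun y => by
  obtain ⟨V, x, -, hx⟩ := hA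
  obtain ⟨v, rfl⟩ := ofChart_surjective h𝒴 (x := BasedFunctor.comp x f)
    (repByAlgSpWith_isSurjectiveMor_comp (isFibGrpd_overCat V) h𝒳 hx hf) y
  exact ⟨_, map_ofChart f x v⟩

theorem repByAlgSpWith_surjective_of_isSurjective (h𝒳 : FibCat.IsFibGrpd 𝒳.p) (h𝒴 : FibCat.IsFibGrpd 𝒴.p)
    {f : 𝒳 ⥤ᵇ 𝒴} (hf : AlgSt.RepByAlgSp1 f) (hs : AlgSt.IsSurjective f) :
    AlgSt.RepByAlgSpWith IsSurjectiveMor f := fun U y => by
  obtain ⟨F, e, he⟩ := hf U y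
  refine ⟨F, e, he, fun q => ?_⟩
  obtain ⟨w, hw⟩ := pts_surjective_fpFst h𝒳 h𝒴 (isFibGrpd_overCat U) y hs (ptAt U (AlgSp.Points.toScheme U q))
  obtain ⟨w', rfl⟩ := (pts_bijective_of_isEquivOver he).2 w
  refine ⟨spPt w', (AlgSp.Points.schemeEquiv U).symm.injective ?_⟩
  show AlgSp.Points.toScheme U _ = AlgSp.Points.toScheme U q
  rw [← toSch_map, pts_map_comp, hw, toSch_ptAt]

theorem isOpenMor_of_locQ (h𝒳 : FibCat.IsFibGrpd 𝒳.p) (h𝒴 : FibCat.IsFibGrpd 𝒴.p) (hA : AlgSt.HasAtlas (LocP @Smooth) 𝒳)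
    {f : 𝒳 ⥤ᵇ 𝒴} {U V : Over S} {x : FibCat.overCat U ⥤ᵇ 𝒳} {y : FibCat.overCat V ⥤ᵇ 𝒴} {h : U ⟶ V}
    (i : BasedFunctor.comp x f ≅ BasedFunctor.comp (AlgSt.overMap h) y)
    (hx : AlgSt.RepByAlgSpWith IsSurjectiveMor x) (hy : AlgSt.RepByAlgSpWith (LocP @Smooth) y)
    (hh : IsOpenMap h.left) : AlgSt.IsOpenMor f := by
  intro O hO
  have key := isOpenMap_ofChart h𝒴 (repByAlgSpWith_flat_of_smooth hy) (repByAlgSpWith_lfp_of_smooth hy) _
    (hh _ (hO.preimage (continuous_ofChart h𝒳 hA x)))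
  convert! key using 1
  ext w
  refine ⟨?_, ?_⟩
  · rintro ⟨a, ha, rfl⟩
    obtain ⟨s, rfl⟩ := ofChart_surjective h𝒳 hx a
    refine ⟨h.left s, ⟨s, ha, rfl⟩, ?_⟩
    rw [map_ofChart, ← ofChart_overMap]
    exact (pts_map_congr i (ptAt U s)).symm
  · rintro ⟨_, ⟨s, hs, rfl⟩, rfl⟩
    refine ⟨_, hs, ?_⟩
    rw [map_ofChart, ← ofChart_overMap]
    exact pts_map_congr i (ptAt U s)

theorem exists_isCompact_nhd (h𝒳 : FibCat.IsFibGrpd 𝒳.p) (hA : AlgSt.HasAtlas (LocP @Smooth) 𝒳)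
    (p : AlgSt.Points 𝒳) {W : Set (AlgSt.Points 𝒳)} (hW : IsOpen W) (hp : p ∈ W) :
    ∃ V : Set (AlgSt.Points 𝒳), IsOpen V ∧ IsCompact V ∧ p ∈ V ∧ V ⊆ W := by
  obtain ⟨U, x, hx, hx'⟩ := id hA
  obtain ⟨t, rfl⟩ := ofChart_surjective h𝒳 hx' p
  have hc := continuous_ofChart h𝒳 hA x
  obtain ⟨A, hA', ht, hsub⟩ := exists_isAffineOpen_mem_and_subset (X := U.left) (x := t)
    (U := ⟨_, hW.preimage hc⟩) hp
  exact ⟨_, isOpenMap_ofChart h𝒳 (repByAlgSpWith_flat_of_smooth hx) (repByAlgSpWith_lfp_of_smooth hx) _ A.2,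
    hA'.isCompact.image hc, ⟨t, ht, rfl⟩, Set.image_subset_iff.2 hsub⟩

/-! ## Quasi-compactness -/

/-- A map of schemes as a functor of slices. -/
theorem repByAlgSpWith_overMap (hPb : StableBC P) {U V : Over S} {k : V ⟶ U} (h : P ((yon S).map k)) :
    AlgSt.RepByAlgSpWith P (AlgSt.overMap k) :=
  repByAlgSpWith_of_iso (overMapIso k) (repByAlgSpWith_precomp (isEquivOver_ofOverCat V)
    ((repByAlgSpWith_iff_of_square (f := BasedFunctor.comp (AlgSt.ofSpMap ((yon S).map k)) (AlgSt.toOverCat U))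
      (f' := AlgSt.ofSpMap ((yon S).map k)) (a := BasedFunctor.id _) (b := AlgSt.toOverCat U) isEquivOver_id
      (isEquivOver_toOverCat U) (Iso.refl _)).2
      (repByAlgSpWith_ofSpMap hPb (IsAlgSpace.yon_obj V) (IsAlgSpace.yon_obj U) _ h)))

theorem isQuasiCompact_of_compactSpace_chart (h𝒳 : FibCat.IsFibGrpd 𝒳.p) {U : Over S}
    {x : FibCat.overCat U ⥤ᵇ 𝒳} (hU : CompactSpace U.left) (hx : AlgSt.RepByAlgSpWith (LocP @Smooth) x)
    (hx' : AlgSt.RepByAlgSpWith IsSurjectiveMor x) : AlgSt.IsQuasiCompact 𝒳 := by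
  obtain ⟨Y, q, hq, hqe, hY⟩ := Scheme.exists_hom_isAffine_of_isZariskiLocalAtSource @Etale U.left
  let k : Over.mk (q ≫ U.hom) ⟶ U := Over.homMk q rfl
  refine ⟨_, BasedFunctor.comp (AlgSt.overMap k) x, hY,
    repByAlgSpWith_locP_comp (isFibGrpd_overCat _) (isFibGrpd_overCat _) (repByAlgSpWith_overMap stableBC_locP
      (locP_mono etale_le_smooth (locP_of_repWith ((repWith_yon_map_iff _ _).2 (show Etale k.left from hqe))))) hx,
    repByAlgSpWith_isSurjectiveMor_comp (isFibGrpd_overCat _) (isFibGrpd_overCat _)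
      (repByAlgSpWith_overMap stableBC_isSurjectiveMor
        (surjective_map_of_repWith ((repWith_yon_map_iff _ _).2 (show Surjective k.left from hq)))) hx'⟩

theorem isQuasiCompact_iff_compactSpace_points (h𝒳 : FibCat.IsFibGrpd 𝒳.p)
    (hA : AlgSt.HasAtlas (LocP @Smooth) 𝒳) : AlgSt.IsQuasiCompact 𝒳 ↔ CompactSpace (AlgSt.Points 𝒳) := by
  refine ⟨fun ⟨U, x, hU, _, hx'⟩ => ⟨?_⟩, fun hc => ?_⟩
  · have := hU
    rw [← (ofChart_surjective h𝒳 hx').range_eq]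
    exact isCompact_range (continuous_ofChart h𝒳 hA x)
  obtain ⟨V, x, hx, hx'⟩ := id hA
  have ho := isOpenMap_ofChart h𝒳 (repByAlgSpWith_flat_of_smooth hx) (repByAlgSpWith_lfp_of_smooth hx)
  obtain ⟨s, hs⟩ := hc.isCompact_univ.elim_finite_subcover
    (fun A : V.left.affineOpens => AlgSt.Points.ofChart x '' (A.1 : Set ↥V.left)) (fun A => ho _ A.1.2) fun p _ => by
      obtain ⟨t, rfl⟩ := ofChart_surjective h𝒳 hx' p
      obtain ⟨A, hA', ht, -⟩ := exists_isAffineOpen_mem_and_subset (X := V.left) (x := t) (U := ⊤) trivial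
      exact Set.mem_iUnion.2 ⟨⟨A, hA'⟩, t, ht, rfl⟩
  let O : V.left.Opens := ⨆ A : s, (A.1.1 : V.left.Opens)
  have hOc : CompactSpace (O : Scheme.{u}) := isCompact_iff_compactSpace.1 (by
    simp only [O, TopologicalSpace.Opens.coe_iSup]
    exact isCompact_iUnion fun A => A.1.2.isCompact)
  let k : Over.mk (O.ι ≫ V.hom) ⟶ V := Over.homMk O.ι rfl
  have hsm : AlgSt.RepByAlgSpWith (LocP @Smooth) (BasedFunctor.comp (AlgSt.overMap k) x) :=
    repByAlgSpWith_locP_comp (isFibGrpd_overCat _) (isFibGrpd_overCat _) (repByAlgSpWith_overMap stableBC_locP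
      (locP_of_repWith ((repWith_yon_map_iff _ _).2 (inferInstanceAs (Smooth O.ι))))) hx
  refine isQuasiCompact_of_compactSpace_chart (U := Over.mk (O.ι ≫ V.hom)) h𝒳 hOc hsm
    (repByAlgSpWith_surjective_of_isSurjective (isFibGrpd_overCat _) h𝒳 (repByAlgSp1_of_repByAlgSpWith hsm)
      fun p => ?_)
  obtain ⟨A, hA', t, ht, rfl⟩ : ∃ A, A ∈ s ∧ ∃ t, t ∈ (A.1 : Set ↥V.left) ∧ AlgSt.Points.ofChart x t = p := by
    simpa using hs (Set.mem_univ p)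
  obtain ⟨t', rfl⟩ : t ∈ Set.range O.ι := by
    rw [Scheme.Opens.range_ι]
    exact TopologicalSpace.Opens.mem_iSup.2 ⟨⟨A, hA'⟩, ht⟩
  exact ⟨ptAt (Over.mk (O.ι ≫ V.hom)) t', (ofChart_eq_map _ _).symm.trans (ofChart_overMap k x t')⟩

end Groth.Agent.AlgStLib

namespace Groth.Agent.AlgStLib

open Groth.Agent.FibBase Groth.Agent.AlgSpLib

variable {S : Scheme.{u}} {𝒳 𝒴 𝒵 : AlgSt.Cat S}

theorem isUnivInjective_fpFst {K : Precoverage Scheme.{u}} {f : 𝒳 ⥤ᵇ 𝒴} (g : 𝒵 ⥤ᵇ 𝒴)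
    (hf : AlgSt.IsUnivInjective K f) : AlgSt.IsUnivInjective K (FibCat.fpFst g f) := by
  intro 𝒲 h𝒲 h a b hab
  refine (pts_bijective_of_isEquivOver (pasteVert_isEquivOver h g f)).1 (hf 𝒲 h𝒲 (BasedFunctor.comp h g) ?_)
  rw [← pts_map_comp, ← pts_map_comp]
  exact hab

theorem isUnivInjective_comp {K : Precoverage Scheme.{u}} (h𝒴 : AlgSt.IsAlgStack K 𝒴)
    (h𝒵 : AlgSt.IsAlgStack K 𝒵) {f : 𝒳 ⥤ᵇ 𝒴} {g : 𝒴 ⥤ᵇ 𝒵} (hf : AlgSt.IsUnivInjective K f)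
    (hg : AlgSt.IsUnivInjective K g) : AlgSt.IsUnivInjective K (BasedFunctor.comp f g) := by
  intro 𝒲 h𝒲 h a b hab
  have hbij := pts_bijective_of_isEquivOver (pasteHor_isEquivOver h f g)
  obtain ⟨a', rfl⟩ := hbij.2 a
  obtain ⟨b', rfl⟩ := hbij.2 b
  rw [← pts_map_comp, ← pts_map_comp] at hab
  have e : BasedFunctor.comp (pasteHor h f g) (FibCat.fpFst h (BasedFunctor.comp f g)) =
      BasedFunctor.comp (FibCat.fpFst (FibCat.fpSnd h g) f) (FibCat.fpFst h g) := rfl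
  rw [e, pts_map_comp, pts_map_comp] at hab
  exact congrArg _ (hf _ (isAlgStack_fp h𝒲 h𝒴 h𝒵.isStack h𝒵.diag h g) (FibCat.fpSnd h g) (hg 𝒲 h𝒲 h hab))

theorem exists_compactSpace_chart_of_space (h𝒳 : FibCat.IsFibGrpd 𝒳.p) (U : AlgSp.Space S)
    {x : AlgSt.ofSp U.obj ⥤ᵇ 𝒳} (hU : IsQuasiCompactSp U.obj) (hx : AlgSt.RepByAlgSpWith (LocP @Smooth) x)
    (hx' : AlgSt.RepByAlgSpWith IsSurjectiveMor x) : AlgSt.IsQuasiCompact 𝒳 := by
  obtain ⟨T, p, hp, hp', hT⟩ := hU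
  exact isQuasiCompact_of_compactSpace_chart h𝒳 hT
    (repByAlgSpWith_locP_comp (isFibGrpd_overCat T) (Stk.isFibGrpd_ofPsh _)
      (repByAlgSpWith_overOfMap stableBC_locP U.property (locP_mono etale_le_smooth (locP_of_repWith hp))) hx)
    (repByAlgSpWith_isSurjectiveMor_comp (isFibGrpd_overCat T) (Stk.isFibGrpd_ofPsh _)
      (repByAlgSpWith_overOfMap stableBC_isSurjectiveMor U.property (surjective_map_of_repWith hp')) hx')

theorem exists_quasiCompact_space_chart {K : AlgSt.Cat S} (h : AlgSt.IsQuasiCompact K) :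
    ∃ (U : AlgSp.Space S) (x : AlgSt.ofSp U.obj ⥤ᵇ K), IsQuasiCompactSp U.obj ∧
      AlgSt.RepByAlgSpWith (LocP @Smooth) x ∧ AlgSt.RepByAlgSpWith IsSurjectiveMor x := by
  obtain ⟨U, x, hU, hx, hx'⟩ := h
  exact ⟨⟨(yon S).obj U, IsAlgSpace.yon_obj U⟩, BasedFunctor.comp (AlgSt.toOverCat U) x,
    ⟨U, 𝟙 _, repWith_id _ U, repWith_id _ U, inferInstance⟩,
    repByAlgSpWith_precomp (isEquivOver_toOverCat U) hx, repByAlgSpWith_precomp (isEquivOver_toOverCat U) hx'⟩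

end Groth.Agent.AlgStLib
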