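import Groth.Agent.AlgStLib.LocEss
import Groth.Agent.FibBase.DiagRep

/-!
# Descent for diagonals; the diagonal of an algebraic stack is locally of finite type
-/

set_option backward.isDefEq.respectTransparency false
set_option backward.isDefEq.respectTransparency.types false

universe u

open CategoryTheory CategoryTheory.Functor CategoryTheory.Limits AlgebraicGeometry Opposite AlgSp

namespace Groth.Agent.AlgStLib

open Groth.Agent.FibBase Groth.Agent.AlgSpLib

variable {S : Scheme.{u}} {𝒳 𝒴 𝒵 : AlgSt.Cat S} {P : MorphismProperty (Sp S)}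

/-- Properties of diagonals descend along a locally essentially surjective base change. -/
theorem repByAlgSpWith_diag_of_locEssSurj (hPb : StableBC P) (hloc : IsLocalOnBase IsFppfCover P) {f : 𝒳 ⥤ᵇ 𝒴}
    (hf : AlgSt.RepByAlgSp1 (FibCat.diag f)) {w : 𝒵 ⥤ᵇ 𝒴} (hw : LocEssSurj w)
    (h : AlgSt.RepByAlgSpWith P (FibCat.diag (FibCat.fpFst w f))) : AlgSt.RepByAlgSpWith P (FibCat.diag f) :=
  repByAlgSpWith_of_locEssSurj hPb hloc hf (locEssSurj_fpSnd (locEssSurj_fpSnd hw f) (FibCat.fpFst f f))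
    ((repByAlgSpWith_iff_of_square (f' := FibCat.diag (FibCat.fpFst w f))
      (f := FibCat.fpFst (FibCat.fpSnd (FibCat.fpSnd w f) (FibCat.fpFst f f)) (FibCat.diag f))
      (diagPullback_isEquivOver f w) (sqLift_isEquivOver f w) (diagLiftIso f w)).2 h)

/-- Pairs of locally essentially surjective functors induce a locally essentially surjective functor of fibre
products. -/
theorem locEssSurj_pairMap {𝒜 ℬ : AlgSt.Cat S} {F₁ : 𝒜 ⥤ᵇ 𝒴} {F₂ : ℬ ⥤ᵇ 𝒴} (t : 𝒴 ⥤ᵇ 𝒵)
    (h₁ : LocEssSurj F₁) (h₂ : LocEssSurj F₂) : LocEssSurj (pairMap F₁ F₂ t) := fun U y => by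
  obtain ⟨R₁, hR₁, hz₁⟩ := h₁ U (BasedFunctor.comp y (FibCat.fpFst t t))
  obtain ⟨R₂, hR₂, hz₂⟩ := h₂ U (BasedFunctor.comp y (FibCat.fpSnd t t))
  refine ⟨R₁ ⊓ R₂, GrothendieckTopology.intersection_covering _ hR₁ hR₂, fun V h hh => ?_⟩
  obtain ⟨z₁, ⟨i₁⟩⟩ := hz₁ h hh.1
  obtain ⟨z₂, ⟨i₂⟩⟩ := hz₂ h hh.2
  let y' := BasedFunctor.comp (AlgSt.overMap h) y
  let j : BasedFunctor.comp z₁ (BasedFunctor.comp F₁ t) ≅ BasedFunctor.comp z₂ (BasedFunctor.comp F₂ t) :=
    whiskerRightIso i₁ t ≪≫ whiskerLeftIso y' (FibCat.fpIso t t) ≪≫ (whiskerRightIso i₂ t).symm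
  let z := FibCat.fpLift z₁ z₂ j
  have hc : ∀ x, t.map (isoApp i₁ x).hom ≫ (y'.obj x).obj.iso.hom =
      (isoApp j x).hom ≫ t.map (isoApp i₂ x).hom := fun x => by
    show _ = (t.map (isoApp i₁ x).hom ≫ (y'.obj x).obj.iso.hom ≫ t.map (isoApp i₂ x).inv) ≫ _
    simp only [Category.assoc]
    rw [← t.toFunctor.map_comp, Iso.inv_hom_id, t.toFunctor.map_id, Category.comp_id]
  exact ⟨z, ⟨BasedNatIso.mkNatIso
    (NatIso.ofComponents
      (fun x => fpIsoMk (x := (BasedFunctor.comp z (pairMap F₁ F₂ t)).obj x) (y := y'.obj x)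
        (isoApp i₁ x) (isoApp i₂ x) (hc x))
      (fun {x x'} φ => by
        refine ObjectProperty.hom_ext _ (CategoricalPullback.hom_ext ?_ ?_)
        · exact natural i₁ φ
        · exact natural i₂ φ))
    (fun x => fp_isHomLift (F := t) (G := t) (𝟙 ((FibCat.overCat V).p.obj x)) _
      (h := isoApp_lift i₁ (a := x) rfl))⟩⟩

/-- The category of a scheme is representable by algebraic spaces over the base. -/
theorem repByAlgSp1_toSelf_overCat (U : Over S) :
    AlgSt.RepByAlgSp1 (FibCat.toSelf (FibCat.overCat U : AlgSt.Cat S)) := fun T y => by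
  have hy : y = FibCat.toSelf (FibCat.overCat T) := by
    obtain ⟨F, w⟩ := y
    simp only [FibCat.toSelf, BasedFunctor.mk.injEq]
    exact (Functor.comp_id F).symm.trans w
  subst hy
  exact repByAlgSp_of_equiv _ (sliceProd_isEquivOver T U) (repByAlgSp_overCat _)

theorem cancels_lft : Cancels (LocP (S := S) @LocallyOfFiniteType) ⊤ :=
  cancels_locP fun f g h => by
    have := h
    exact locallyOfFiniteType_of_comp f g

theorem isLocalOnBase_lft : IsLocalOnBase (IsFppfCover (S := S)) (LocP @LocallyOfFiniteType) :=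
  isLocalOnBase_fppf_of_fpqc isLocalOnBase_fpqc_locP

theorem locEssSurj_of_atlas {p : 𝒵 ⥤ᵇ 𝒴} (hp : AlgSt.RepByAlgSpWith (LocP @Smooth) p)
    (hp' : AlgSt.RepByAlgSpWith IsSurjectiveMor p) : LocEssSurj p :=
  locEssSurj_of_repByAlgSp
    (repByAlgSpWith_mono (fun _ _ _ h => locP_mono (Q := @Flat)
      (fun _ _ f (_ : Smooth f) => inferInstanceAs (Flat f)) h) hp)
    (repByAlgSpWith_mono (fun _ _ _ h => locP_mono (Q := @LocallyOfFinitePresentation)
      (fun _ _ f (_ : Smooth f) => inferInstanceAs (LocallyOfFinitePresentation f)) h) hp) hp'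

theorem repByAlgSp1_congr {f f' : 𝒳 ⥤ᵇ 𝒴} (h : f = f') (hf : AlgSt.RepByAlgSp1 f') : AlgSt.RepByAlgSp1 f := by
  subst h; exact hf

/-- The diagonal of an algebraic stack is locally of finite type. -/
theorem repByAlgSpWith_lft_diag_toSelf (hΔ : AlgSt.RepByAlgSp1 (FibCat.diag (FibCat.toSelf 𝒳)))
    (hA : AlgSt.HasAtlas (LocP @Smooth) 𝒳) :
    AlgSt.RepByAlgSpWith (LocP @LocallyOfFiniteType) (FibCat.diag (FibCat.toSelf 𝒳)) := by
  obtain ⟨U, p, hp, hp'⟩ := hA
  let t := FibCat.toSelf 𝒳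
  have hlft : AlgSt.RepByAlgSpWith (LocP @LocallyOfFiniteType) p :=
    repByAlgSpWith_mono (fun _ _ _ h => locP_mono (Q := @LocallyOfFiniteType)
      (fun _ _ f (_ : Smooth f) => inferInstanceAs (LocallyOfFiniteType f)) h) hp
  have hfst : AlgSt.RepByAlgSp1 (FibCat.fpFst (BasedFunctor.comp p t) (BasedFunctor.comp p t)) :=
    repByAlgSp1_fpFst _ (repByAlgSp1_congr (comp_toSelf p) (repByAlgSp1_toSelf_overCat U))
  have hweak : AlgSt.RepByAlgSpWith (LocP @LocallyOfFiniteType) (weaken p p t) :=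
    repByAlgSpWith_of_comp stableBC_locP cancels_lft (repByAlgSp1_iff_top.1 hfst) (repByAlgSpWith_fpFst p hlft)
  have hes := locEssSurj_of_atlas hp hp'
  exact repByAlgSpWith_of_locEssSurj stableBC_locP isLocalOnBase_lft hΔ (locEssSurj_pairMap t hes hes)
    ((repByAlgSpWith_iff_of_square (f' := weaken p p t) (f := FibCat.fpFst (pairMap p p t) (FibCat.diag t))
      (a := diagComparison p p t) (b := BasedFunctor.id _) (diagComparison_isEquivOver p p t) isEquivOver_id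
      (Iso.refl _)).2 hweak)

theorem repByAlgSpWith_diag_congr {f f' : 𝒳 ⥤ᵇ 𝒴} (h : f = f') (hf : AlgSt.RepByAlgSpWith P (FibCat.diag f')) :
    AlgSt.RepByAlgSpWith P (FibCat.diag f) := by
  subst h; exact hf

/-- The diagonal of a morphism of algebraic stacks is locally of finite type. -/
theorem repByAlgSpWith_lft_diag {K K' : Precoverage Scheme.{u}} (h𝒳 : AlgSt.IsAlgStack K 𝒳)
    (h𝒴 : AlgSt.IsAlgStack K' 𝒴) (f : 𝒳 ⥤ᵇ 𝒴) :
    AlgSt.RepByAlgSpWith (LocP @LocallyOfFiniteType) (FibCat.diag f) :=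
  repByAlgSpWith_diag_of_comp stableBC_locP cancels_lft (repByAlgSp1_iff_top.1 h𝒴.diag)
    (repByAlgSpWith_diag_congr (comp_toSelf f) (repByAlgSpWith_lft_diag_toSelf h𝒳.diag h𝒳.atlas))

end Groth.Agent.AlgStLib
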