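import Groth.Agent.AlgStLib.LocQCalc
import Groth.Agent.AlgSpLib.Descent2

/-!
# Properties of algebraic stacks local for the smooth topology
-/

set_option backward.isDefEq.respectTransparency false
set_option backward.isDefEq.respectTransparency.types false

universe u

open CategoryTheory CategoryTheory.Functor CategoryTheory.Limits AlgebraicGeometry Opposite AlgSp

namespace Groth.Agent.AlgStLib

open Groth.Agent.FibBase Groth.Agent.AlgSpLib

variable {S : Scheme.{u}} {𝒳 : AlgSt.Cat S}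

theorem isSurjective_left_of_map {U V : Over S} (k : U ⟶ V) (h : IsSurjectiveMor ((yon S).map k)) :
    Function.Surjective k.left := fun x => by
  obtain ⟨y, hy⟩ := h (Points.schemeHomeo V x)
  obtain ⟨t, rfl⟩ := (Points.schemeHomeo U).surjective y
  refine ⟨t, (Points.schemeHomeo V).injective ?_⟩
  rw [← hy, Points.map_yon_map_eq]
  simp

theorem smooth_left_of_map {U V : Over S} (k : U ⟶ V) (h : LocP @Smooth ((yon S).map k)) : Smooth k.left :=
  locP_yon_map h

/-- A scheme over the fibre product of two smooth charts. -/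
theorem exists_scheme_between (h𝒳 : FibCat.IsFibGrpd 𝒳.p) {A B : AlgSp.Space S}
    {u : AlgSt.ofSp A.obj ⥤ᵇ 𝒳} {v : AlgSt.ofSp B.obj ⥤ᵇ 𝒳} (hu : AlgSt.RepByAlgSpWith (LocP @Smooth) u)
    (hv : AlgSt.RepByAlgSpWith (LocP @Smooth) v) :
    ∃ (T : Over S) (k : (yon S).obj T ⟶ A.obj) (h : (yon S).obj T ⟶ B.obj),
      LocP @Smooth k ∧ LocP @Smooth h ∧ (AlgSt.RepByAlgSpWith IsSurjectiveMor v → IsSurjectiveMor k) := by
  obtain ⟨W, e, he⟩ := exists_space_fp_equiv (isFibGrpd_ofSp B.obj) h𝒳 (repByAlgSp1_of_repByAlgSpWith hv) A u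
  obtain ⟨T, p, hp, hp'⟩ := W.property.atlas
  have hps : LocP @Smooth p := locP_mono (P := @Etale) etale_le_smooth (locP_of_repWith hp)
  have hT := IsAlgSpace.yon_obj (S := S) T
  exact ⟨T, p ≫ spHom (BasedFunctor.comp e (FibCat.fpFst u v)), p ≫ spHom (BasedFunctor.comp e (FibCat.fpSnd u v)),
    locP_comp hT W.property A.property hps (locP_spHom_fpFst A.property W.property hv e he),
    locP_comp hT W.property B.property hps (locP_spHom_fpSnd B.property W.property hu e he),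
    fun hv' => stableComp_isSurjectiveMor hT W.property A.property _ _ (surjective_map_of_repWith hp')
      (surj_spHom_fpFst A.property W.property hv' e he)⟩

/-- The property `P` of schemes is local for the smooth topology. -/
def SmLocal (P : Scheme.{u} → Prop) : Prop :=
  ∀ (U : Scheme.{u}) (R : Presieve U), R ∈ Scheme.precoverage @Smooth U →
    (P U ↔ ∀ ⦃V : Scheme.{u}⦄ (g : V ⟶ U), R g → P V)

variable {P : Scheme.{u} → Prop}

theorem SmLocal.pullback (hP : SmLocal P) {V U : Scheme.{u}} (g : V ⟶ U) (hg : Smooth g) (h : P U) : P V := by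
  obtain ⟨R, hR, hRg⟩ := exists_mem_precoverage_of_mem (W := @Smooth) g hg
  exact (hP U R hR).1 h g hRg

theorem SmLocal.descend (hP : SmLocal P) {V U : Scheme.{u}} (g : V ⟶ U) (hg : Smooth g)
    (hs : Function.Surjective g) (h : P V) : P U := by
  refine (hP U (Presieve.ofArrows (fun _ : PUnit.{u+1} => V) (fun _ => g)) ?_).2 ?_
  · rw [Scheme.ofArrows_mem_precoverage_iff]
    exact ⟨fun x => ⟨⟨⟩, hs x⟩, fun _ => hg⟩
  · rintro _ _ ⟨⟩
    exact h

theorem repByAlgSpWith_smooth_overOfMap_comp {A : AlgSp.Space S} {T : Over S}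
    {p : (yon S).obj T ⟶ A.obj} (hp : LocP @Smooth p) {x : AlgSt.ofSp A.obj ⥤ᵇ 𝒳}
    (hx : AlgSt.RepByAlgSpWith (LocP @Smooth) x) :
    AlgSt.RepByAlgSpWith (LocP @Smooth) (BasedFunctor.comp (overOfMap p) x) :=
  repByAlgSpWith_locP_comp (isFibGrpd_overCat T) (isFibGrpd_ofSp A.obj)
    (repByAlgSpWith_overOfMap stableBC_locP A.property hp) hx

theorem smoothLocally_of_space_chart (hP : SmLocal P) (h𝒳 : FibCat.IsFibGrpd 𝒳.p) {A : AlgSp.Space S}
    {a : AlgSt.ofSp A.obj ⥤ᵇ 𝒳} (ha : AlgSt.RepByAlgSpWith (LocP @Smooth) a)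
    (ha' : AlgSt.RepByAlgSpWith IsSurjectiveMor a) (hA : AlgSp.EtaleLocally P A.obj) :
    AlgSt.SmoothLocally P 𝒳 := fun U x hx => by
  obtain ⟨T, p, hp, hp', hT⟩ := hA
  have hsp : AlgSt.RepByAlgSpWith (LocP @Smooth) (BasedFunctor.comp (overOfMap p) a) :=
    repByAlgSpWith_smooth_overOfMap_comp (locP_mono (P := @Etale) etale_le_smooth (locP_of_repWith hp)) ha
  have hsp' : AlgSt.RepByAlgSpWith IsSurjectiveMor (BasedFunctor.comp (overOfMap p) a) :=
    repByAlgSpWith_isSurjectiveMor_comp (isFibGrpd_overCat T) (isFibGrpd_ofSp A.obj)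
      (repByAlgSpWith_overOfMap stableBC_isSurjectiveMor A.property (surjective_map_of_repWith hp')) ha'
  obtain ⟨T', k, h, hk, hh, hk'⟩ := exists_scheme_between h𝒳 (A := ⟨_, IsAlgSpace.yon_obj U⟩)
    (B := ⟨_, IsAlgSpace.yon_obj T⟩)
    (repByAlgSpWith_precomp (isEquivOver_toOverCat U) hx) (repByAlgSpWith_precomp (isEquivOver_toOverCat T) hsp)
  obtain ⟨k, rfl⟩ := (yon S).map_surjective k
  obtain ⟨h, rfl⟩ := (yon S).map_surjective h
  exact hP.descend k.left (smooth_left_of_map k hk)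
    (isSurjective_left_of_map k (hk' (repByAlgSpWith_precomp (isEquivOver_toOverCat T) hsp')))
    (hP.pullback h.left (smooth_left_of_map h hh) hT)

theorem etaleLocally_yon {U : Over S} (h : P U.left) : AlgSp.EtaleLocally P ((yon S).obj U) :=
  ⟨U, 𝟙 _, repWith_of_isIso _ _, repWith_of_isIso _ _, h⟩

theorem smoothLocally_iff_exists (hP : SmLocal P) (h𝒳 : AlgSt.IsAlgStack Scheme.fppfPrecoverage 𝒳) :
    AlgSt.SmoothLocally P 𝒳 ↔ ∃ (U : Over S) (x : FibCat.overCat U ⥤ᵇ 𝒳),
      AlgSt.RepByAlgSpWith (LocP @Smooth) x ∧ AlgSt.RepByAlgSpWith IsSurjectiveMor x ∧ P U.left := by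
  refine ⟨fun h => ?_, fun ⟨U, x, hx, hx', hU⟩ => ?_⟩
  · obtain ⟨U, x, hx, hx'⟩ := h𝒳.atlas
    exact ⟨U, x, hx, hx', h U x hx⟩
  · exact smoothLocally_of_space_chart hP h𝒳.isStack.1 (A := ⟨_, IsAlgSpace.yon_obj U⟩)
      (repByAlgSpWith_precomp (isEquivOver_toOverCat U) hx) (repByAlgSpWith_precomp (isEquivOver_toOverCat U) hx')
      (etaleLocally_yon hU)

theorem etaleLocally_of_smoothLocally (h : AlgSt.SmoothLocally P 𝒳) {A : AlgSp.Space S}
    {a : AlgSt.ofSp A.obj ⥤ᵇ 𝒳} (ha : AlgSt.RepByAlgSpWith (LocP @Smooth) a) : AlgSp.EtaleLocally P A.obj := by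
  obtain ⟨T, p, hp, hp'⟩ := A.property.atlas
  exact ⟨T, p, hp, hp', h T _
    (repByAlgSpWith_smooth_overOfMap_comp (locP_mono (P := @Etale) etale_le_smooth (locP_of_repWith hp)) ha)⟩

theorem smoothLocally_iff_forall_space (hP : SmLocal P) :
    AlgSt.SmoothLocally P 𝒳 ↔ ∀ (U : AlgSp.Space S) (x : AlgSt.ofSp U.obj ⥤ᵇ 𝒳),
      AlgSt.RepByAlgSpWith (LocP @Smooth) x → AlgSp.EtaleLocally P U.obj := by
  refine ⟨fun h U x hx => etaleLocally_of_smoothLocally h hx, fun h U x hx => ?_⟩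
  obtain ⟨T, p, hp, hp', hT⟩ :=
    h ⟨_, IsAlgSpace.yon_obj U⟩ _ (repByAlgSpWith_precomp (isEquivOver_toOverCat U) hx)
  obtain ⟨p, rfl⟩ := (yon S).map_surjective p
  have he : Etale p.left := (repWith_yon_map_iff _ p).1 hp
  exact hP.descend p.left inferInstance ((repWith_yon_map_iff _ p).1 hp').surj hT

theorem smoothLocally_iff_exists_space (hP : SmLocal P) (h𝒳 : AlgSt.IsAlgStack Scheme.fppfPrecoverage 𝒳) :
    AlgSt.SmoothLocally P 𝒳 ↔ ∃ (U : AlgSp.Space S) (x : AlgSt.ofSp U.obj ⥤ᵇ 𝒳),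
      AlgSt.RepByAlgSpWith (LocP @Smooth) x ∧ AlgSt.RepByAlgSpWith IsSurjectiveMor x ∧
        AlgSp.EtaleLocally P U.obj := by
  refine ⟨fun h => ?_, fun ⟨U, x, hx, hx', hU⟩ => smoothLocally_of_space_chart hP h𝒳.isStack.1 hx hx' hU⟩
  obtain ⟨U, x, hx, hx'⟩ := exists_space_atlas h𝒳
  exact ⟨U, x, hx, hx', etaleLocally_of_smoothLocally h hx⟩

theorem smoothLocally_ofSp_iff (hP : SmLocal P) (X : AlgSp.Space S) :
    AlgSt.SmoothLocally P (AlgSt.ofSp X.obj) ↔ AlgSp.EtaleLocally P X.obj :=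
  ⟨fun h => etaleLocally_of_smoothLocally h (repByAlgSpWith_smooth_of_isEquivOver isEquivOver_id),
    fun h => smoothLocally_of_space_chart hP (isFibGrpd_ofSp X.obj)
      (repByAlgSpWith_smooth_of_isEquivOver isEquivOver_id) (repByAlgSpWith_surj_of_isEquivOver isEquivOver_id) h⟩

theorem smoothLocally_ofSch_iff (hP : SmLocal P) (U : Over S) :
    AlgSt.SmoothLocally P (AlgSt.ofSch U) ↔ P U.left :=
  ⟨fun h => h U _ (repByAlgSpWith_smooth_of_isEquivOver (isEquivOver_ofOverCat U)),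
    fun h => (smoothLocally_ofSp_iff hP ⟨_, IsAlgSpace.yon_obj U⟩).2 (etaleLocally_yon h)⟩

/-- Being locally Noetherian is local for the smooth topology. -/
theorem smLocal_isLocallyNoetherian : SmLocal.{u} (fun T => IsLocallyNoetherian T) := by
  intro U R hR
  refine ⟨fun hU V g hg => ?_, fun h => ?_⟩
  · have : Smooth g := hR.2 hg
    exact LocallyOfFiniteType.isLocallyNoetherian g
  · choose Z g hRg hWg hx using fun x : U => Groth.Agent.SrcDescent.exists_family hR x
    have : Flat (Sigma.desc g) := by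
      rw [IsZariskiLocalAtSource.iff_of_openCover (P := @Flat) (sigmaOpenCover _)]
      intro x
      rw [sigmaOpenCover_f, Sigma.ι_desc]
      have : Smooth (g x) := hWg x
      infer_instance
    have : LocallyOfFinitePresentation (Sigma.desc g) := by
      rw [IsZariskiLocalAtSource.iff_of_openCover (P := @LocallyOfFinitePresentation) (sigmaOpenCover _)]
      intro x
      rw [sigmaOpenCover_f, Sigma.ι_desc]
      have : Smooth (g x) := hWg x
      infer_instance
    have : Surjective (Sigma.desc g) := ⟨fun x => by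
      obtain ⟨y, hy⟩ := hx x
      exact ⟨Sigma.ι Z x y, by rw [← Scheme.Hom.comp_apply, Sigma.ι_desc]; exact hy⟩⟩
    have : IsLocallyNoetherian (∐ Z) := by
      rw [isLocallyNoetherian_iff_openCover (sigmaOpenCover _)]
      exact fun x => h (g x) (hRg x)
    exact isLocallyNoetherian_of_flat (Sigma.desc g)

end Groth.Agent.AlgStLib
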