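import Groth.Agent.AlgStLib.OpenSub
import Groth.Agent.AlgStLib.DiagLFT
import Groth.Agent.AlgStLib.SmoothLocally
import Groth.Agent.AlgSpDec.SchImage

/-!
# A morphism from a reduced algebraic stack into the points of a closed substack factors through it
-/

set_option backward.isDefEq.respectTransparency false
set_option backward.isDefEq.respectTransparency.types false

universe u

open CategoryTheory CategoryTheory.Functor CategoryTheory.Limits AlgebraicGeometry Opposite AlgSp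

namespace Groth.Agent.AlgStLib

open Groth.Agent.FibBase Groth.Agent.AlgSpLib

variable {S : Scheme.{u}} {𝒳 𝒴 : AlgSt.Cat S} {Q : 𝒳.obj → Prop}

local notation "K₀" => Scheme.fppfPrecoverage

theorem isIso_of_closedImm_surjective {F : Sp S} {U : Over S} [IsReduced U.left] {a : F ⟶ (yon S).obj U}
    (ha : RepWith @IsClosedImmersion a) (hs : IsSurjectiveMor a) : IsIso a := by
  have sq := ha.rep.isPullback (𝟙 ((yon S).obj U))
  have : IsIso (ha.rep.fst (𝟙 ((yon S).obj U))) := sq.isIso_fst_of_isIso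
  have he : ha.rep.fst (𝟙 ((yon S).obj U)) ≫ a = (yon S).map (ha.rep.snd (𝟙 ((yon S).obj U))) := by
    rw [sq.w, Category.comp_id]
  let k := ha.rep.snd (𝟙 ((yon S).obj U))
  have : IsClosedImmersion k.left := ha.2 _ _ _ sq
  have : Surjective k.left := ⟨fun v => by
    obtain ⟨x, hx⟩ := hs (AlgSp.Points.schemeHomeo U v)
    obtain ⟨w, hw⟩ : ∃ w, AlgSp.Points.map (ha.rep.fst (𝟙 ((yon S).obj U))) w = x :=
      ⟨AlgSp.Points.map (inv (ha.rep.fst (𝟙 ((yon S).obj U)))) x, by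
        rw [← AlgSp.Points.map_comp, IsIso.inv_hom_id, AlgSp.Points.map_id]⟩
    obtain ⟨w, rfl⟩ := (AlgSp.Points.schemeHomeo _).surjective w
    refine ⟨w, (AlgSp.Points.schemeHomeo U).injective ?_⟩
    rw [← AlgSp.Points.map_yon_map_apply, ← he, AlgSp.Points.map_comp, hw, hx]⟩
  have : IsIso k.left := isIso_of_isClosedImmersion_of_surjective k.left
  have : IsIso ((Over.forget S).map k) := ‹IsIso k.left›
  have : IsIso k := isIso_of_reflects_iso k (Over.forget S)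
  have : IsIso (ha.rep.fst (𝟙 ((yon S).obj U)) ≫ a) := by rw [he]; infer_instance
  exact IsIso.of_isIso_comp_left (ha.rep.fst (𝟙 ((yon S).obj U))) a

/-- If the base change of a substack to a scheme is everything, the chart lands in the substack. -/
theorem mem_of_isIso_fp (hQ : ObjectProperty.IsClosedUnderIsomorphisms Q) {T : Over S}
    (z : FibCat.overCat T ⥤ᵇ 𝒳) {F : Sp S}
    {e : AlgSt.ofSp F ⥤ᵇ FibCat.fp z (AlgSt.subIncl 𝒳 Q)}
    (_ : IsIso (AlgSt.spMapOfOver (BasedFunctor.comp e (FibCat.fpFst z (AlgSt.subIncl 𝒳 Q)))))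
    (c : (FibCat.overCat T : AlgSt.Cat S).obj) : Q (z.obj c) := by
  have hq : FibCat.IsEquivOver (BasedFunctor.comp e (FibCat.fpFst z (AlgSt.subIncl 𝒳 Q))) :=
    isEquivOver_of_iso (isoSpMapOfOver _).symm
      (isEquivOver_comp (isEquivOver_ofSpMap _) (isEquivOver_toOverCat _))
  obtain ⟨g, -, -, ⟨j⟩⟩ := isEquivOver_inv hq
  let o := e.obj (g.obj c)
  exact hQ.of_iso (o.obj.iso.symm ≪≫ z.toFunctor.mapIso (isoApp j c)) o.obj.snd.property

theorem mem_of_range_subset (h𝒳 : AlgSt.IsAlgStack K₀ 𝒳) (h𝒴 : AlgSt.IsAlgStack K₀ 𝒴)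
    (hred : AlgSt.SmoothLocally (fun X => IsReduced X) 𝒴) (hQ : AlgSt.IsClosedSubstack 𝒳 Q K₀)
    (f : 𝒴 ⥤ᵇ 𝒳)
    (hf : Set.range (AlgSt.Points.map f) ⊆ Set.range (AlgSt.Points.map (AlgSt.subIncl 𝒳 Q))) (y : 𝒴.obj) :
    Q (f.obj y) := by
  let incl := AlgSt.subIncl 𝒳 Q
  obtain ⟨U, u, hu, hus⟩ := h𝒴.atlas
  have : IsReduced U.left := hred U u hu
  have hU : ∀ c, Q (f.obj (u.obj c)) := by
    intro c
    let z := BasedFunctor.comp u f
    have hsurj : AlgSt.IsSurjective (FibCat.fpFst z incl) := fun v => by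
      obtain ⟨t, rfl⟩ := ptAt_surjective U v
      obtain ⟨w, hw⟩ : AlgSt.Points.ofChart z t ∈ Set.range (AlgSt.Points.map incl) :=
        hf ⟨AlgSt.Points.ofChart u t, rfl⟩
      obtain ⟨o, ho, -⟩ := exists_pts_fp hQ.2.1.isStack.1 h𝒳.isStack.1 (isFibGrpd_overCat _) incl z
        (ptAt _ t) w (by rw [← ofChart_eq_map]; exact hw.symm)
      exact ⟨o, ho⟩
    obtain ⟨F, e, he, hP⟩ := hQ.2.2 U z
    have hs : IsSurjectiveMor (AlgSt.spMapOfOver (BasedFunctor.comp e (FibCat.fpFst z incl))) := fun q => by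
      obtain ⟨w, hw⟩ := hsurj (ptAt _ (AlgSp.Points.toScheme _ q))
      obtain ⟨w', rfl⟩ := (pts_bijective_of_isEquivOver he).2 w
      refine ⟨spPt w', (AlgSp.Points.schemeEquiv _).symm.injective ?_⟩
      show AlgSp.Points.toScheme _ _ = AlgSp.Points.toScheme _ q
      rw [← toSch_map, pts_map_comp, hw, toSch_ptAt]
    exact mem_of_isIso_fp hQ.1 z (isIso_of_closedImm_surjective hP hs) c
  obtain ⟨Y, i, -⟩ := exists_overCat_obj h𝒴.isStack.1 y rfl
  let z := BasedFunctor.comp Y f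
  obtain ⟨F, e, he, hP⟩ := hQ.2.2 (𝒴.p.obj y) z
  obtain ⟨g, -, -, ⟨j⟩⟩ := isEquivOver_inv he
  let a := AlgSt.spMapOfOver (BasedFunctor.comp e (FibCat.fpFst z incl))
  have : Mono a := Groth.Agent.AlgSpDec.mono_of_closedImmersion hP
  obtain ⟨R, hR, hz⟩ := locEssSurj_of_atlas hu hus (𝒴.p.obj y) Y
  have : Sheaf.IsLocallySurjective a := by
    refine ⟨fun {W} s => ?_⟩
    refine (J S).superset_covering (fun V k hk => ?_) ((J S).pullback_stable s.down hR)
    obtain ⟨z', ⟨i'⟩⟩ := hz (k ≫ s.down) hk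
    let v := BasedFunctor.comp (AlgSt.overMap (k ≫ s.down)) z
    have hv : ∀ c, Q (v.obj c) := fun c =>
      hQ.1.of_iso (f.toFunctor.mapIso (isoApp i' c)) (hU (z'.obj c))
    let v' : FibCat.overCat V ⥤ᵇ AlgSt.fullSub 𝒳 Q :=
      { toFunctor := ObjectProperty.lift _ v.toFunctor hv
        w := v.w }
    let E : FibCat.overCat V ⥤ᵇ FibCat.fp z incl :=
      FibCat.fpLift (AlgSt.overMap (k ≫ s.down)) v' (Iso.refl v)
    let l := spHom (BasedFunctor.comp (AlgSt.toOverCat V) (BasedFunctor.comp E g))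
    have hl : l ≫ a = (yon S).map (k ≫ s.down) := by
      rw [← spMapOfOver_comp, ← spMapOfOver_ofSpMap_toOverCat ((yon S).map (k ≫ s.down))]
      refine spMapOfOver_congr ?_
      exact whiskerLeftIso (BasedFunctor.comp (AlgSt.toOverCat V) E)
        (whiskerRightIso j (FibCat.fpFst z incl)) ≪≫ toOverCatMapIso (k ≫ s.down)
    refine ⟨(J S).uliftYonedaEquiv l, ?_⟩
    have h1 := congrArg (J S).uliftYonedaEquiv hl
    rw [GrothendieckTopology.uliftYonedaEquiv_comp] at h1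
    refine h1.trans ?_
    refine ULift.ext _ _ ?_
    show 𝟙 V ≫ (k ≫ s.down) = k ≫ s.down
    simp
  exact hQ.1.of_iso (f.toFunctor.mapIso i)
    (mem_of_isIso_fp hQ.1 z (isIso_of_mono_of_locallySurjective a) (Over.mk (𝟙 _)))

theorem forall_mem_iff_range_subset (h𝒳 : AlgSt.IsAlgStack K₀ 𝒳) (h𝒴 : AlgSt.IsAlgStack K₀ 𝒴)
    (hred : AlgSt.SmoothLocally (fun X => IsReduced X) 𝒴) (hQ : AlgSt.IsClosedSubstack 𝒳 Q K₀)
    (f : 𝒴 ⥤ᵇ 𝒳) :
    (∀ y : 𝒴.obj, Q (f.obj y)) ↔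
      Set.range (AlgSt.Points.map f) ⊆ Set.range (AlgSt.Points.map (AlgSt.subIncl 𝒳 Q)) := by
  refine ⟨fun h => ?_, fun h => mem_of_range_subset h𝒳 h𝒴 hred hQ f h⟩
  rintro _ ⟨w, rfl⟩
  obtain ⟨p, rfl⟩ := AlgSt.Points.mk_surjective w
  exact ⟨AlgSt.Points.mk { K := p.K, str := p.str, obj := ⟨f.obj p.obj, h _⟩, lies := (p.map f).lies }, rfl⟩

end Groth.Agent.AlgStLib
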