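import Groth.Agent.AlgStLib.FppfSite
import Groth.Agent.AlgStLib.EtLocal

/-!
# Descent of properties of functors along locally essentially surjective functors
-/

set_option backward.isDefEq.respectTransparency false
set_option backward.isDefEq.respectTransparency.types false

universe u

open CategoryTheory CategoryTheory.Functor CategoryTheory.Limits AlgebraicGeometry Opposite AlgSp

namespace Groth.Agent.AlgStLib

open Groth.Agent.FibBase Groth.Agent.AlgSpLib

variable {S : Scheme.{u}} {𝒳 𝒴 𝒵 : AlgSt.Cat S} {P : MorphismProperty (Sp S)}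

/-- Locally essentially surjective for the fppf topology, tested on functors from slices. -/
def LocEssSurj (g : 𝒵 ⥤ᵇ 𝒴) : Prop :=
  ∀ (U : Over S) (y : FibCat.overCat U ⥤ᵇ 𝒴), ∃ R ∈ (QuotSh.J Scheme.fppfPrecoverage S) U,
    ∀ ⦃V : Over S⦄ (h : V ⟶ U), R.arrows h →
      ∃ z : FibCat.overCat V ⥤ᵇ 𝒵, Nonempty (BasedFunctor.comp z g ≅ BasedFunctor.comp (AlgSt.overMap h) y)

/-- The slice map attached to a map of representable sheaves. -/
def overMapIso {U V : Over S} (v : V ⟶ U) :
    BasedFunctor.comp (BasedFunctor.comp (AlgSt.ofOverCat V) (Stk.ofPshMap ((yon S).map v).hom))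
      (AlgSt.toOverCat U) ≅ AlgSt.overMap v :=
  overIso _ _ fun x => by
    show 𝟙 x.left ≫ (x.hom ≫ v) = x.hom ≫ v
    simp

/-- A base change of a representation along a map of schemes. -/
theorem property_pullback_of_repOver (hPb : StableBC P) {f : 𝒳 ⥤ᵇ 𝒴} {U V : Over S} (v : V ⟶ U)
    (y : FibCat.overCat U ⥤ᵇ 𝒴) {F : Sp S} (hF : IsAlgSpace F) (e : AlgSt.ofSp F ⥤ᵇ FibCat.fp y f)
    (he : FibCat.IsEquivOver e) (h : RepOver P (FibCat.fpFst (BasedFunctor.comp (AlgSt.overMap v) y) f)) :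
    P (pullback.snd (AlgSt.spMapOfOver (BasedFunctor.comp e (FibCat.fpFst y f))) ((yon S).map v)) := by
  let a := AlgSt.spMapOfOver (BasedFunctor.comp e (FibCat.fpFst y f))
  let q : FibCat.fp y f ⥤ᵇ AlgSt.ofSch U := BasedFunctor.comp (FibCat.fpFst y f) (AlgSt.ofOverCat U)
  let i : BasedFunctor.comp e q ≅ AlgSt.ofSpMap a :=
    isoOfSpMap (BasedFunctor.comp e q) ≪≫
      eqToIso (congrArg (fun m => AlgSt.ofSpMap m) (spMapOfOver_eq (BasedFunctor.comp e (FibCat.fpFst y f))).symm)
  let sq := (IsPullback.of_hasPullback a ((yon S).map v)).map (sheafToPresheaf (J S) (Type (u + 1)))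
  have := full_of_isEquivOver (isEquivOver_toOverCat U)
  have := faithful_of_isEquivOver (isEquivOver_toOverCat U)
  let c := compare q e i sq
  let m := fpMap (F := AlgSt.overMap v) (G := FibCat.fpFst y f)
    (F' := BasedFunctor.comp (AlgSt.ofOverCat V) (Stk.ofPshMap ((yon S).map v).hom)) (G' := q)
    (a := BasedFunctor.id _) (b := BasedFunctor.id _) (c := AlgSt.toOverCat U)
    (overMapIso v).symm (whiskerLeftIso (FibCat.fpFst y f) (ofOverCatIso U))
  let E : AlgSt.ofSp (pullback a ((yon S).map v)) ⥤ᵇ FibCat.fp (BasedFunctor.comp (AlgSt.overMap v) y) f :=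
    BasedFunctor.comp c (BasedFunctor.comp m (pasteVert (AlgSt.overMap v) y f))
  have hE : FibCat.IsEquivOver E := isEquivOver_comp (compare_isEquivOver q e i he sq)
    (isEquivOver_comp (fpMap_isEquivOver _ _ isEquivOver_id isEquivOver_id)
      (pasteVert_isEquivOver (AlgSt.overMap v) y f))
  have hP := (h.property_of_stableBC hPb E hE).2
  let j : BasedFunctor.comp E (FibCat.fpFst (BasedFunctor.comp (AlgSt.overMap v) y) f) ≅
      BasedFunctor.comp (AlgSt.ofSpMap (pullback.snd a ((yon S).map v))) (AlgSt.toOverCat V) :=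
    compareFst q e i sq
  rw [spMapOfOver_congr j, spMapOfOver_ofSpMap_toOverCat] at hP
  exact hP

/-- Properties local on the base descend along locally essentially surjective functors. -/
theorem repByAlgSpWith_of_locEssSurj (hPb : StableBC P) (hloc : IsLocalOnBase IsFppfCover P) {f : 𝒳 ⥤ᵇ 𝒴}
    (hf : AlgSt.RepByAlgSp1 f) {g : 𝒵 ⥤ᵇ 𝒴} (hg : LocEssSurj g)
    (h' : AlgSt.RepByAlgSpWith P (FibCat.fpFst g f)) : AlgSt.RepByAlgSpWith P f := by
  intro U y
  obtain ⟨F, e, he⟩ := hf U y
  refine ⟨F, e, he, ?_⟩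
  obtain ⟨R, hR, hz⟩ := hg U y
  obtain ⟨ι, V, v, hvf, hvp, hvs, hvR⟩ := exists_fppf_of_mem_J (show R ∈ J S U from hR)
  have hV : ∀ k, IsAlgSpace ((yon S).obj (V k)) := fun k => IsAlgSpace.yon_obj (V k)
  have hFk : ∀ k, IsAlgSpace
      (pullback (AlgSt.spMapOfOver (BasedFunctor.comp e (FibCat.fpFst y f))) ((yon S).map (v k))) :=
    fun k => isAlgSpace_pullback F.property (hV k) (IsAlgSpace.yon_obj U) _ _
  refine (hloc _ _ (IsAlgSpace.yon_obj U) hV (isFppfCover_yon_map V v hvf hvp hvs) _ F.property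
    _ (fun k => pullback.snd _ _) (fun k => pullback.fst _ _) hFk
    (fun k => IsPullback.of_hasPullback _ _)).2 fun k => ?_
  obtain ⟨z, ⟨iz⟩⟩ := hz (v k) (hvR k)
  exact property_pullback_of_repOver hPb (v k) y F.property e he
    (repOver_congr iz (RepOver.of_equiv (h' _ z) (pasteVert z g f) (pasteVert_isEquivOver z g f) (Iso.refl _)))

end Groth.Agent.AlgStLib
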