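import Groth.Agent.AlgStLib.OverSpace
import Groth.Agent.AlgSpPts.Sep
import Groth.Agent.AlgSpLib.LocalBaseTop
import Groth.Agent.AlgSpLib.EtLocalInst

/-!
# Properties of morphisms of algebraic spaces used for stacks
-/

set_option backward.isDefEq.respectTransparency false
set_option backward.isDefEq.respectTransparency.types false

universe u

open CategoryTheory CategoryTheory.Limits AlgebraicGeometry Opposite AlgSp

namespace Groth.Agent.AlgStLib

open Groth.Agent.AlgSpLib Groth.Agent.AlgSpPts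

variable {S : Scheme.{u}} {P Q : MorphismProperty (Sp S)}

/-- Cancellation among algebraic spaces: if `a ≫ b` has `P` and `b` has `Q`, then `a` has `P`. -/
def Cancels (P Q : MorphismProperty (Sp S)) : Prop :=
  ∀ ⦃X Y Z : Sp S⦄, IsAlgSpace X → IsAlgSpace Y → IsAlgSpace Z → ∀ (a : X ⟶ Y) (b : Y ⟶ Z),
    P (a ≫ b) → Q b → P a

theorem isLocalOnBase_fppf_of_fpqc (h : IsLocalOnBase IsFpqcCover P) : IsLocalOnBase IsFppfCover P :=
  fun _ _ Yi g hY hYi hg => h Yi g hY hYi (isFpqcCover_of_isFppfCover hY hYi g hg)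

theorem stableBC_inf (hP : StableBC P) (hQ : StableBC Q) : StableBC (P ⊓ Q) :=
  fun _ _ _ _ h1 h2 h3 h4 a b a' b' sq h =>
    ⟨hP h1 h2 h3 h4 a b a' b' sq h.1, hQ h1 h2 h3 h4 a b a' b' sq h.2⟩

theorem stableComp_inf (hP : StableComp P) (hQ : StableComp Q) : StableComp (P ⊓ Q) :=
  fun _ _ _ h1 h2 h3 a b ha hb => ⟨hP h1 h2 h3 a b ha.1 hb.1, hQ h1 h2 h3 a b ha.2 hb.2⟩

theorem isLocalOnBase_inf {τ : CovNotion S} (hP : IsLocalOnBase τ P) (hQ : IsLocalOnBase τ Q) :
    IsLocalOnBase τ (P ⊓ Q) :=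
  isLocalOnBase_and hP hQ

section LocP

variable {R : MorphismProperty Scheme.{u}} [IsEtLocal R]

theorem stableBC_locP : StableBC (LocP (S := S) R) :=
  fun _ _ _ _ h1 h2 _ h4 _ _ _ _ sq h => Groth.Agent.AlgSpLib.locP_of_isPullback sq h1 h2 h4 h

theorem stableComp_locP [R.IsStableUnderComposition] : StableComp (LocP (S := S) R) :=
  fun _ _ _ h1 h2 h3 _ _ ha hb => Groth.Agent.AlgSpLib.locP_comp h1 h2 h3 ha hb

theorem cancels_locP (hR : ∀ {X Y Z : Scheme.{u}} (f : X ⟶ Y) (g : Y ⟶ Z), R (f ≫ g) → R f) :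
    Cancels (LocP (S := S) R) ⊤ :=
  fun _ _ _ _ _ h3 _ _ h _ => Groth.Agent.AlgSpPts.locP_of_comp hR h3 h

end LocP

/-- Unramified. -/
abbrev unr : MorphismProperty (Sp S) := LocP (@LocallyOfFiniteType ⊓ @FormallyUnramified)

/-- Locally quasi-finite. -/
abbrev lqf : MorphismProperty (Sp S) := LocP (@LocallyQuasiFinite ⊓ @LocallyOfFiniteType)

/-- Quasi-compact and quasi-separated. -/
abbrev qcqs : MorphismProperty (Sp S) := IsQuasiCompactMor ⊓ IsQuasiSeparatedMor

theorem cancels_unr : Cancels (unr (S := S)) ⊤ :=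
  cancels_locP fun f g h => by
    obtain ⟨_, _⟩ := h
    exact ⟨locallyOfFiniteType_of_comp f g, FormallyUnramified.of_comp f g⟩

theorem cancels_lqf : Cancels (lqf (S := S)) ⊤ :=
  cancels_locP fun f g h => by
    obtain ⟨_, _⟩ := h
    exact ⟨LocallyQuasiFinite.of_comp f g, locallyOfFiniteType_of_comp f g⟩

theorem isLocalOnBase_unr : IsLocalOnBase (IsFppfCover (S := S)) unr :=
  isLocalOnBase_fppf_of_fpqc isLocalOnBase_fpqc_locP

theorem isLocalOnBase_lqf : IsLocalOnBase (IsFppfCover (S := S)) lqf :=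
  isLocalOnBase_fppf_of_fpqc isLocalOnBase_fpqc_locP

theorem stableBC_isProperMor : StableBC (IsProperMor (S := S)) :=
  fun _ _ _ _ h1 h2 _ h4 _ _ _ _ sq h => isProperMor_of_isPullback sq h1 h2 h4 h

theorem stableComp_isProperMor : StableComp (IsProperMor (S := S)) :=
  fun _ _ _ h1 h2 h3 _ _ ha hb => isProperMor_comp h1 h2 h3 ha hb

theorem isLocalOnBase_isProperMor : IsLocalOnBase (IsFppfCover (S := S)) IsProperMor :=
  isLocalOnBase_fppf_of_fpqc isLocalOnBase_fpqc_isProperMor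

theorem stableBC_isSeparatedMor : StableBC (IsSeparatedMor (S := S)) :=
  fun _ _ _ _ _ _ _ _ _ _ _ _ sq h => isSeparatedMor_of_isPullback sq h

theorem stableComp_isSeparatedMor : StableComp (IsSeparatedMor (S := S)) :=
  fun _ _ _ _ _ _ _ _ ha hb => isSeparatedMor_comp ha hb

theorem isLocalOnBase_isSeparatedMor : IsLocalOnBase (IsFppfCover (S := S)) IsSeparatedMor :=
  isLocalOnBase_fppf_of_fpqc isLocalOnBase_fpqc_isSeparatedMor

theorem stableBC_isQuasiSeparatedMor : StableBC (IsQuasiSeparatedMor (S := S)) :=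
  fun _ _ _ _ _ _ _ _ _ _ _ _ sq h => isQuasiSeparatedMor_of_isPullback sq h

theorem stableComp_isQuasiSeparatedMor : StableComp (IsQuasiSeparatedMor (S := S)) :=
  fun _ _ _ _ _ _ _ _ ha hb => isQuasiSeparatedMor_comp ha hb

theorem stableBC_isQuasiCompactMor : StableBC (IsQuasiCompactMor (S := S)) :=
  fun _ _ _ _ _ _ _ _ _ _ _ _ sq h => isQuasiCompactMor_of_isPullback sq h

theorem stableComp_isQuasiCompactMor : StableComp (IsQuasiCompactMor (S := S)) :=
  fun _ _ _ _ h2 h3 _ _ ha hb => isQuasiCompactMor_comp h2 h3 ha hb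

theorem stableBC_qcqs : StableBC (qcqs (S := S)) :=
  stableBC_inf stableBC_isQuasiCompactMor stableBC_isQuasiSeparatedMor

theorem stableComp_qcqs : StableComp (qcqs (S := S)) :=
  stableComp_inf stableComp_isQuasiCompactMor stableComp_isQuasiSeparatedMor

theorem isLocalOnBase_qcqs : IsLocalOnBase (IsFppfCover (S := S)) qcqs :=
  isLocalOnBase_fppf_of_fpqc
    (isLocalOnBase_inf isLocalOnBase_fpqc_isQuasiCompactMor isLocalOnBase_fpqc_isQuasiSeparatedMor)

/-- Proper cancels along separated. -/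
theorem cancels_isProperMor : Cancels (IsProperMor (S := S)) IsSeparatedMor := by
  intro X Y Z hX hY hZ a b hab hb
  have h1 : (pullback.lift (𝟙 X) a (by simp) : X ⟶ pullback (a ≫ b) b) ≫ pullback.snd (a ≫ b) b = a :=
    pullback.lift_snd _ _ _
  rw [← h1]
  exact isProperMor_comp hX (isAlgSpace_pullback hX hY hZ (a ≫ b) b) hY
    (isProperMor_of_closedImmersion (graph_property hb))
    (isProperMor_of_isPullback (IsPullback.of_hasPullback (a ≫ b) b) hX hZ hY hab)

theorem isPullback_diagonal_of_comp {X Y Z : Sp S} (a : X ⟶ Y) (b : Y ⟶ Z) :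
    IsPullback (𝟙 X) (pullback.diagonal a) (pullback.diagonal (a ≫ b))
      (pullback.map a a (a ≫ b) (a ≫ b) (𝟙 _) (𝟙 _) b (by simp) (by simp)) := by
  let w : pullback a a ⟶ pullback (a ≫ b) (a ≫ b) :=
    pullback.map a a (a ≫ b) (a ≫ b) (𝟙 _) (𝟙 _) b (by simp) (by simp)
  have hw : pullback.diagonal (a ≫ b) = pullback.diagonal a ≫ w := by
    apply pullback.hom_ext <;> simp [w, pullback.map]
  have : Mono w := ⟨fun p q e => by
    apply pullback.hom_ext
    · simpa [w, pullback.map] using congrArg (fun t => t ≫ pullback.fst (a ≫ b) (a ≫ b)) e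
    · simpa [w, pullback.map] using congrArg (fun t => t ≫ pullback.snd (a ≫ b) (a ≫ b)) e⟩
  refine ⟨⟨by rw [Category.id_comp]; exact hw⟩, ⟨PullbackCone.IsLimit.mk _ (fun s => s.fst) (fun s => by simp) ?_ ?_⟩⟩
  · intro s
    rw [← cancel_mono w, Category.assoc, ← hw]
    exact s.condition
  · intro s m h1 _
    simpa using h1

theorem isQuasiSeparatedMor_of_comp {X Y Z : Sp S} {a : X ⟶ Y} {b : Y ⟶ Z}
    (h : IsQuasiSeparatedMor (a ≫ b)) : IsQuasiSeparatedMor a :=
  repWith_of_isPullback (isPullback_diagonal_of_comp a b) h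

theorem isSeparatedMor_of_comp {X Y Z : Sp S} {a : X ⟶ Y} {b : Y ⟶ Z}
    (h : IsSeparatedMor (a ≫ b)) : IsSeparatedMor a :=
  repWith_of_isPullback (isPullback_diagonal_of_comp a b) h

/-- Quasi-compact and quasi-separated cancels along quasi-separated. -/
theorem cancels_qcqs : Cancels (qcqs (S := S)) IsQuasiSeparatedMor := by
  intro X Y Z hX hY hZ a b hab hb
  refine ⟨?_, isQuasiSeparatedMor_of_comp hab.2⟩
  have h1 : (pullback.lift (𝟙 X) a (by simp) : X ⟶ pullback (a ≫ b) b) ≫ pullback.snd (a ≫ b) b = a :=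
    pullback.lift_snd _ _ _
  rw [← h1]
  exact isQuasiCompactMor_comp (isAlgSpace_pullback hX hY hZ (a ≫ b) b) hY
    (isQuasiCompactMor_of_repWith (graph_property hb))
    (isQuasiCompactMor_of_isPullback (IsPullback.of_hasPullback (a ≫ b) b) hab.1)

theorem cancels_isSeparatedMor : Cancels (IsSeparatedMor (S := S)) ⊤ :=
  fun _ _ _ _ _ _ _ _ h _ => isSeparatedMor_of_comp h

end Groth.Agent.AlgStLib
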