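import Groth.Agent.AlgStLib.Yoneda
import Groth.Agent.AlgStLib.SpProps

/-!
# Diagonals of functors over the base
-/

set_option backward.isDefEq.respectTransparency false
set_option backward.isDefEq.respectTransparency.types false

universe u

open CategoryTheory CategoryTheory.Functor CategoryTheory.Limits AlgebraicGeometry Opposite AlgSp

namespace Groth.Agent.AlgStLib

open Groth.Agent.FibBase

variable {S : Scheme.{u}} {𝒳 𝒴 𝒵 : AlgSt.Cat S} {P Q : MorphismProperty (Sp S)}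

theorem repByAlgSpWith_weaken {𝒜 ℬ : AlgSt.Cat S} (F₁ : 𝒜 ⥤ᵇ 𝒴) (F₂ : ℬ ⥤ᵇ 𝒴) (g : 𝒴 ⥤ᵇ 𝒵)
    (hg : AlgSt.RepByAlgSpWith P (FibCat.diag g)) : AlgSt.RepByAlgSpWith P (weaken F₁ F₂ g) :=
  (repByAlgSpWith_iff_of_square (f' := weaken F₁ F₂ g) (f := FibCat.fpFst (pairMap F₁ F₂ g) (FibCat.diag g))
    (a := diagComparison F₁ F₂ g) (b := BasedFunctor.id _)
    (diagComparison_isEquivOver F₁ F₂ g) isEquivOver_id (Iso.refl _)).1
    (repByAlgSpWith_fpFst (pairMap F₁ F₂ g) hg)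

/-- The diagonal of a composite factors through the diagonal of the first functor. -/
def diagCompIso (f : 𝒳 ⥤ᵇ 𝒴) (g : 𝒴 ⥤ᵇ 𝒵) :
    BasedFunctor.comp (FibCat.diag f) (weaken f f g) ≅ FibCat.diag (BasedFunctor.comp f g) :=
  BasedNatIso.mkNatIso
    (NatIso.ofComponents
      (fun x => fpIsoMk (x := (BasedFunctor.comp (FibCat.diag f) (weaken f f g)).obj x)
        (y := (FibCat.diag (BasedFunctor.comp f g)).obj x) (Iso.refl _) (Iso.refl _) (by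
          show g.map (f.map (𝟙 x)) ≫ 𝟙 _ = g.map (𝟙 _) ≫ g.map (f.map (𝟙 x))
          simp))
      (fun {x y} φ => by
        refine ObjectProperty.hom_ext _ (CategoricalPullback.hom_ext ?_ ?_)
        · show φ ≫ 𝟙 _ = 𝟙 _ ≫ φ
          simp
        · show φ ≫ 𝟙 _ = 𝟙 _ ≫ φ
          simp))
    (fun x => fp_isHomLift (F := BasedFunctor.comp f g) (G := BasedFunctor.comp f g) (𝟙 (𝒳.p.obj x)) _
      (h := IsHomLift.id (p := 𝒳.p) (rfl : 𝒳.p.obj x = 𝒳.p.obj x)))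

theorem repByAlgSpWith_diag_comp (hPb : StableBC P) (hPc : StableComp P) (hloc : IsLocalOnBase IsFppfCover P)
    (h𝒳 : FibCat.IsFibGrpd 𝒳.p) (h𝒴 : FibCat.IsFibGrpd 𝒴.p) {f : 𝒳 ⥤ᵇ 𝒴} {g : 𝒴 ⥤ᵇ 𝒵}
    (hf : AlgSt.RepByAlgSpWith P (FibCat.diag f)) (hg : AlgSt.RepByAlgSpWith P (FibCat.diag g)) :
    AlgSt.RepByAlgSpWith P (FibCat.diag (BasedFunctor.comp f g)) :=
  repByAlgSpWith_of_iso (diagCompIso f g)
    (repByAlgSpWith_comp hPb hPc hloc h𝒳 (fp_isFibGrpd h𝒳 h𝒳 h𝒴) hf (repByAlgSpWith_weaken f f g hg))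

/-- Cancellation for functors representable by algebraic spaces. -/
theorem repByAlgSpWith_of_comp (hPb : StableBC P) (hc : Cancels P Q)
    {𝒲 𝒱 : AlgSt.Cat S} {f : 𝒳 ⥤ᵇ 𝒲} {w : 𝒲 ⥤ᵇ 𝒱} (hw : AlgSt.RepByAlgSpWith Q w)
    (hfw : AlgSt.RepByAlgSpWith P (BasedFunctor.comp f w)) : AlgSt.RepByAlgSpWith P f := by
  intro U y
  let y' : FibCat.overCat U ⥤ᵇ 𝒱 := BasedFunctor.comp y w
  have hwy : RepOver Q (FibCat.fpFst y' w) := hw U y'
  have hfwy : RepOver P (FibCat.fpFst y' (BasedFunctor.comp f w)) := hfw U y'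
  obtain ⟨F, e, he, hQe⟩ := id hwy
  let K : AlgSt.ofSp F.obj ⥤ᵇ 𝒲 := BasedFunctor.comp e (FibCat.fpSnd y' w)
  let q := FibCat.fpFst K f
  let k := fpMap (F := FibCat.fpSnd y' w) (G := f) (F' := K) (G' := f) (a := e) (b := BasedFunctor.id _)
    (c := BasedFunctor.id _) (Iso.refl _) (Iso.refl _)
  have hk : FibCat.IsEquivOver k := fpMap_isEquivOver _ _ he isEquivOver_id
  obtain ⟨F', e₁, he₁⟩ := hfwy.repByAlgSp
  obtain ⟨g₁, hg₁, -⟩ := isEquivOver_inv (isEquivOver_comp hk (pasteHor_isEquivOver y' f w))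
  let e' : AlgSt.ofSp F'.obj ⥤ᵇ FibCat.fp K f := BasedFunctor.comp e₁ g₁
  have he' : FibCat.IsEquivOver e' := isEquivOver_comp he₁ hg₁
  let a : F'.obj ⟶ F.obj := spHom (BasedFunctor.comp e' q)
  let i : BasedFunctor.comp e' q ≅ AlgSt.ofSpMap a := isoOfSpMap _
  let E : AlgSt.ofSp F'.obj ⥤ᵇ FibCat.fp y' (BasedFunctor.comp f w) :=
    BasedFunctor.comp e' (BasedFunctor.comp k (pasteHor y' f w))
  have hE := (hfwy.property_of_stableBC hPb E
    (isEquivOver_comp he' (isEquivOver_comp hk (pasteHor_isEquivOver y' f w)))).2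
  let j : BasedFunctor.comp E (FibCat.fpFst y' (BasedFunctor.comp f w)) ≅
      BasedFunctor.comp (AlgSt.ofSpMap a) (BasedFunctor.comp e (FibCat.fpFst y' w)) :=
    whiskerRightIso i (BasedFunctor.comp e (FibCat.fpFst y' w))
  rw [spMapOfOver_congr j, spMapOfOver_comp, spHom_ofSpMap] at hE
  have ha : P a := hc F'.property F.property (IsAlgSpace.yon_obj U) _ _ hE hQe
  have hra : RepBySpWith P a.hom := (repBySpWith_hom_iff P a).2 fun V ξ G fst snd sq =>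
    have hG := Groth.Agent.AlgSpLib.isAlgSpace_of_isPullback sq F'.property (IsAlgSpace.yon_obj V) F.property
    ⟨hG, hPb F'.property F.property hG (IsAlgSpace.yon_obj V) a ξ snd fst sq ha⟩
  have hq : AlgSt.RepByAlgSpWith P q :=
    (repByAlgSpWith_iff_of_square (f := q) (f' := AlgSt.ofSpMap a) (a := e') (b := BasedFunctor.id _) he'
      isEquivOver_id i.symm).2 (repByAlgSpWith_of_repBySpWith hra)
  obtain ⟨g, hg, -, ⟨ig⟩⟩ := isEquivOver_inv he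
  let σ : FibCat.overCat U ⥤ᵇ FibCat.fp y' w :=
    FibCat.fpLift (BasedFunctor.id _) y (Iso.refl y')
  let σ' : FibCat.overCat U ⥤ᵇ AlgSt.ofSp F.obj := BasedFunctor.comp σ g
  have hσ : RepOver P (FibCat.fpFst (BasedFunctor.comp σ' K) f) :=
    RepOver.of_equiv (hq U σ') (pasteVert σ' K f) (pasteVert_isEquivOver σ' K f) (Iso.refl _)
  let jy : BasedFunctor.comp σ' K ≅ y := whiskerLeftIso σ (whiskerRightIso ig (FibCat.fpSnd y' w))
  exact repOver_congr jy hσ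

theorem repByAlgSp1_of_comp {𝒲 𝒱 : AlgSt.Cat S} {f : 𝒳 ⥤ᵇ 𝒲} {w : 𝒲 ⥤ᵇ 𝒱} (hw : AlgSt.RepByAlgSp1 w)
    (hfw : AlgSt.RepByAlgSp1 (BasedFunctor.comp f w)) : AlgSt.RepByAlgSp1 f :=
  repByAlgSp1_iff_top.2 (repByAlgSpWith_of_comp (P := ⊤) (Q := ⊤) (fun _ _ _ _ _ _ _ _ _ _ _ _ _ _ => trivial)
    (fun _ _ _ _ _ _ _ _ _ _ => trivial) (repByAlgSp1_iff_top.1 hw) (repByAlgSp1_iff_top.1 hfw))

/-- Cancellation for diagonals. -/
theorem repByAlgSpWith_diag_of_comp (hPb : StableBC P) (hc : Cancels P Q) {f : 𝒳 ⥤ᵇ 𝒴} {g : 𝒴 ⥤ᵇ 𝒵}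
    (hg : AlgSt.RepByAlgSpWith Q (FibCat.diag g))
    (hfg : AlgSt.RepByAlgSpWith P (FibCat.diag (BasedFunctor.comp f g))) :
    AlgSt.RepByAlgSpWith P (FibCat.diag f) :=
  repByAlgSpWith_of_comp hPb hc (repByAlgSpWith_weaken f f g hg)
    (repByAlgSpWith_of_iso (diagCompIso f g).symm hfg)

theorem comp_toSelf (f : 𝒳 ⥤ᵇ 𝒴) : BasedFunctor.comp f (FibCat.toSelf 𝒴) = FibCat.toSelf 𝒳 := by
  obtain ⟨F, w⟩ := f
  simp only [BasedFunctor.comp, FibCat.toSelf, BasedFunctor.mk.injEq]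
  exact w

theorem repByAlgSp1_diag_congr {f f' : 𝒳 ⥤ᵇ 𝒴} (h : f = f') (hf : AlgSt.RepByAlgSp1 (FibCat.diag f')) :
    AlgSt.RepByAlgSp1 (FibCat.diag f) := by
  subst h; exact hf

/-- A functor between categories with representable diagonals has representable diagonal. -/
theorem repByAlgSp1_diag (h𝒳 : AlgSt.RepByAlgSp1 (FibCat.diag (FibCat.toSelf 𝒳)))
    (h𝒴 : AlgSt.RepByAlgSp1 (FibCat.diag (FibCat.toSelf 𝒴))) (f : 𝒳 ⥤ᵇ 𝒴) :
    AlgSt.RepByAlgSp1 (FibCat.diag f) :=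
  repByAlgSp1_iff_top.2 (repByAlgSpWith_diag_of_comp (P := ⊤) (Q := ⊤)
    (fun _ _ _ _ _ _ _ _ _ _ _ _ _ _ => trivial) (fun _ _ _ _ _ _ _ _ _ _ => trivial) (repByAlgSp1_iff_top.1 h𝒴)
    (repByAlgSp1_iff_top.1 (repByAlgSp1_diag_congr (comp_toSelf f) h𝒳)))

section FpFst

variable (f : 𝒳 ⥤ᵇ 𝒴) (g : 𝒵 ⥤ᵇ 𝒴)

/-- The map of the self products induced by a base change. -/
def sqMap : FibCat.fp (FibCat.fpFst g f) (FibCat.fpFst g f) ⥤ᵇ FibCat.fp f f :=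
  FibCat.fpLift (BasedFunctor.comp (FibCat.fpFst _ _) (FibCat.fpSnd g f))
    (BasedFunctor.comp (FibCat.fpSnd _ _) (FibCat.fpSnd g f))
    (whiskerLeftIso (FibCat.fpFst (FibCat.fpFst g f) (FibCat.fpFst g f)) (FibCat.fpIso g f).symm ≪≫
      whiskerRightIso (FibCat.fpIso (FibCat.fpFst g f) (FibCat.fpFst g f)) g ≪≫
      whiskerLeftIso (FibCat.fpSnd (FibCat.fpFst g f) (FibCat.fpFst g f)) (FibCat.fpIso g f))

variable {f g}

theorem sqMap_iso (p : (FibCat.fp (FibCat.fpFst g f) (FibCat.fpFst g f)).obj) :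
    ((sqMap f g).obj p).obj.iso.hom =
      p.obj.fst.obj.iso.inv ≫ g.map p.obj.iso.hom ≫ p.obj.snd.obj.iso.hom := rfl

/-- The square of diagonals of a base change commutes. -/
def diagSqIso : BasedFunctor.comp (FibCat.diag (FibCat.fpFst g f)) (sqMap f g) ≅
    BasedFunctor.comp (FibCat.fpSnd g f) (FibCat.diag f) :=
  BasedNatIso.mkNatIso
    (NatIso.ofComponents
      (fun x => fpIsoMk (x := (BasedFunctor.comp (FibCat.diag (FibCat.fpFst g f)) (sqMap f g)).obj x)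
        (y := (BasedFunctor.comp (FibCat.fpSnd g f) (FibCat.diag f)).obj x) (Iso.refl _) (Iso.refl _) (by
          show f.map (𝟙 x.obj.snd) ≫ 𝟙 _ = (x.obj.iso.inv ≫ g.map (𝟙 x.obj.fst) ≫ x.obj.iso.hom) ≫ f.map (𝟙 x.obj.snd)
          simp))
      (fun {x y} φ => by
        refine ObjectProperty.hom_ext _ (CategoricalPullback.hom_ext ?_ ?_)
        · show φ.hom.snd ≫ 𝟙 _ = 𝟙 _ ≫ φ.hom.snd
          simp
        · show φ.hom.snd ≫ 𝟙 _ = 𝟙 _ ≫ φ.hom.snd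
          simp))
    (fun x => fp_isHomLift (F := f) (G := f) (𝟙 (𝒵.p.obj x.obj.fst)) _
      (h := IsHomLift.id (p := 𝒳.p) (snd_proj x)))

theorem isEquivOver_of_comp_right {𝒲 : AlgSt.Cat S} {F : 𝒳 ⥤ᵇ 𝒴} {G : 𝒴 ⥤ᵇ 𝒲} (hG : FibCat.IsEquivOver G)
    (h : FibCat.IsEquivOver (BasedFunctor.comp F G)) : FibCat.IsEquivOver F := by
  obtain ⟨G', hG', ⟨i⟩, -⟩ := isEquivOver_inv hG
  have h2 : FibCat.IsEquivOver (BasedFunctor.comp (BasedFunctor.comp F G) G') := isEquivOver_comp h hG'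
  exact isEquivOver_of_iso (whiskerLeftIso F i) h2

theorem fpFst_id_isEquivOver (H : 𝒳 ⥤ᵇ 𝒴) :
    FibCat.IsEquivOver (FibCat.fpFst H (BasedFunctor.id 𝒴)) := by
  refine ⟨FibCat.fpLift (BasedFunctor.id 𝒳) H (Iso.refl _), ⟨BasedNatIso.mkNatIso
    (NatIso.ofComponents (fun x => fpIsoMk (Iso.refl _) x.obj.iso ?_) fun {x z} φ => ?_) fun x => ?_⟩, ⟨Iso.refl _⟩⟩
  · show H.map (𝟙 x.obj.fst) ≫ x.obj.iso.hom = 𝟙 _ ≫ x.obj.iso.hom
    simp
  · refine ObjectProperty.hom_ext _ (CategoricalPullback.hom_ext ?_ ?_)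
    · show φ.hom.fst ≫ 𝟙 _ = 𝟙 _ ≫ φ.hom.fst
      simp
    · exact φ.hom.w
  · exact fp_isHomLift (F := H) (G := BasedFunctor.id 𝒴) (𝟙 (𝒳.p.obj x.obj.fst)) _
      (h := IsHomLift.id (p := 𝒳.p) rfl)

variable (f g)

/-- `P ×_Z P ⟶ P ×_X (X ×_Y X)`. -/
def sqLift : FibCat.fp (FibCat.fpFst g f) (FibCat.fpFst g f) ⥤ᵇ FibCat.fp (FibCat.fpSnd g f) (FibCat.fpFst f f) :=
  FibCat.fpLift (FibCat.fpFst _ _) (sqMap f g) (Iso.refl _)

theorem sqLift_isEquivOver : FibCat.IsEquivOver (sqLift f g) := by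
  refine isEquivOver_of_exists_iso _ ⟨fun {x z} t => ?_⟩ ⟨fun {x z} t t' h => ?_⟩ fun η => ?_
  · have w : t.hom.fst.hom.snd ≫ 𝟙 _ = 𝟙 _ ≫ t.hom.snd.hom.fst := t.hom.w
    rw [Category.comp_id, Category.id_comp] at w
    have w1 : g.map t.hom.fst.hom.fst ≫ z.obj.fst.obj.iso.hom = x.obj.fst.obj.iso.hom ≫ f.map t.hom.fst.hom.snd :=
      t.hom.fst.hom.w
    have w2 : f.map t.hom.snd.hom.fst ≫ z.obj.fst.obj.iso.inv ≫ g.map z.obj.iso.hom ≫ z.obj.snd.obj.iso.hom =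
        (x.obj.fst.obj.iso.inv ≫ g.map x.obj.iso.hom ≫ x.obj.snd.obj.iso.hom) ≫ f.map t.hom.snd.hom.snd :=
      t.hom.snd.hom.w
    rw [← w, ← cancel_epi x.obj.fst.obj.iso.hom, ← Category.assoc, ← w1] at w2
    simp only [Category.assoc, Iso.hom_inv_id_assoc] at w2
    let m : x.obj.snd.obj.fst ⟶ z.obj.snd.obj.fst := x.obj.iso.inv ≫ t.hom.fst.hom.fst ≫ z.obj.iso.hom
    have w3 : g.map m ≫ z.obj.snd.obj.iso.hom = x.obj.snd.obj.iso.hom ≫ f.map t.hom.snd.hom.snd := by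
      rw [← cancel_epi (g.map x.obj.iso.hom)]
      simp only [m, ← g.toFunctor.map_comp_assoc, Iso.hom_inv_id_assoc]
      simp only [g.toFunctor.map_comp, Category.assoc]
      exact w2
    let s : x.obj.snd ⟶ z.obj.snd := ObjectProperty.homMk ⟨m, t.hom.snd.hom.snd, w3⟩
    refine ⟨ObjectProperty.homMk ⟨t.hom.fst, s, ?_⟩, ObjectProperty.hom_ext _ (CategoricalPullback.hom_ext rfl
      (ObjectProperty.hom_ext _ (CategoricalPullback.hom_ext w rfl)))⟩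
    show t.hom.fst.hom.fst ≫ z.obj.iso.hom = x.obj.iso.hom ≫ m
    simp [m]
  · have h₁ : t.hom.fst = t'.hom.fst := congrArg (fun s => s.hom.fst) h
    have h₂ : t.hom.snd.hom.snd = t'.hom.snd.hom.snd := congrArg (fun s => s.hom.snd.hom.snd) h
    refine ObjectProperty.hom_ext _ (CategoricalPullback.hom_ext h₁
      (ObjectProperty.hom_ext _ (CategoricalPullback.hom_ext ?_ h₂)))
    have w₁ : t.hom.fst.hom.fst ≫ z.obj.iso.hom = x.obj.iso.hom ≫ t.hom.snd.hom.fst := t.hom.w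
    have w₂ : t'.hom.fst.hom.fst ≫ z.obj.iso.hom = x.obj.iso.hom ≫ t'.hom.snd.hom.fst := t'.hom.w
    rw [← cancel_epi x.obj.iso.hom, ← w₁, ← w₂, h₁]
  · obtain ⟨⟨p, w, i⟩, hη⟩ := η
    let T := 𝒵.p.obj p.obj.fst
    have hi : 𝒳.p.IsHomLift (𝟙 T) i.hom := hη
    have hw : 𝒳.p.obj w.obj.fst = T := IsHomLift.codomain_eq 𝒳.p (𝟙 T) i.hom
    have hp := fp_iso_lift p
    have hw' : 𝒴.p.IsHomLift (𝟙 T) w.obj.iso.hom := isHomLift_id_congr hw (fp_iso_lift w)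
    have hfi : 𝒴.p.IsHomLift (𝟙 T) (f.map i.hom) := f.preserves_isHomLift (𝟙 T) i.hom
    let i' : p.obj.snd ≅ w.obj.fst := i
    let p₂ : (FibCat.fp g f).obj := ⟨⟨p.obj.fst, w.obj.snd, p.obj.iso ≪≫ f.toFunctor.mapIso i' ≪≫ w.obj.iso⟩, by
      have : 𝒴.p.IsHomLift (𝟙 T) p.obj.iso.hom := hp
      show 𝒴.p.IsHomLift (𝟙 T) (p.obj.iso.hom ≫ f.map i.hom ≫ w.obj.iso.hom)
      infer_instance⟩
    let ξ : (FibCat.fp (FibCat.fpFst g f) (FibCat.fpFst g f)).obj :=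
      ⟨⟨p, p₂, Iso.refl _⟩, IsHomLift.id (p := 𝒵.p) rfl⟩
    let e₂ : (sqMap f g).obj ξ ≅ w := fpIsoMk (x := (sqMap f g).obj ξ) i (Iso.refl _) (by
      show f.map i.hom ≫ w.obj.iso.hom =
        (p.obj.iso.inv ≫ g.map (𝟙 p.obj.fst) ≫ p.obj.iso.hom ≫ f.map i.hom ≫ w.obj.iso.hom) ≫ f.map (𝟙 w.obj.snd)
      simp)
    refine ⟨ξ, fpIsoMk (Iso.refl _) e₂ ?_, ?_⟩
    · show 𝟙 _ ≫ i.hom = 𝟙 _ ≫ i.hom
      rfl
    · exact fp_isHomLift (F := FibCat.fpSnd g f) (G := FibCat.fpFst f f) (𝟙 T) _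
        (h := IsHomLift.id (p := (FibCat.fp g f).p) (rfl : (FibCat.fp g f).p.obj p = T))

/-- The section `P ⟶ P ×_X (X ×_Y X)`. -/
def diagSection : FibCat.fp g f ⥤ᵇ FibCat.fp (FibCat.fpSnd g f) (FibCat.fpFst f f) :=
  FibCat.fpLift (BasedFunctor.id _) (BasedFunctor.comp (FibCat.fpSnd g f) (FibCat.diag f)) (Iso.refl _)

/-- The base change of a diagonal as a fibre product. -/
def diagPullback : FibCat.fp g f ⥤ᵇ
    FibCat.fp (FibCat.fpSnd (FibCat.fpSnd g f) (FibCat.fpFst f f)) (FibCat.diag f) :=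
  FibCat.fpLift (diagSection f g) (FibCat.fpSnd g f) (Iso.refl _)

theorem diagPullback_isEquivOver : FibCat.IsEquivOver (diagPullback f g) := by
  refine isEquivOver_of_comp_right (pasteHor_isEquivOver (FibCat.fpSnd g f) (FibCat.diag f) (FibCat.fpFst f f)) ?_
  refine isEquivOver_of_comp_right (G := FibCat.fpFst (FibCat.fpSnd g f) (BasedFunctor.id 𝒳))
    (fpFst_id_isEquivOver _) ?_
  exact isEquivOver_id

/-- The comparison of the two descriptions of the diagonal of a base change. -/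
def diagLiftIso : BasedFunctor.comp (FibCat.diag (FibCat.fpFst g f)) (sqLift f g) ≅
    BasedFunctor.comp (diagPullback f g)
      (FibCat.fpFst (FibCat.fpSnd (FibCat.fpSnd g f) (FibCat.fpFst f f)) (FibCat.diag f)) :=
  BasedNatIso.mkNatIso
    (NatIso.ofComponents
      (fun x => fpIsoMk (x := (BasedFunctor.comp (FibCat.diag (FibCat.fpFst g f)) (sqLift f g)).obj x)
        (y := (diagSection f g).obj x) (Iso.refl _) (isoApp diagSqIso x) rfl)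
      (fun {x z} φ => by
        refine ObjectProperty.hom_ext _ (CategoricalPullback.hom_ext ?_ ?_)
        · show φ ≫ 𝟙 _ = 𝟙 _ ≫ φ
          simp
        · exact natural diagSqIso φ))
    (fun x => fp_isHomLift (F := FibCat.fpSnd g f) (G := FibCat.fpFst f f) (𝟙 (𝒵.p.obj x.obj.fst)) _
      (h := IsHomLift.id (p := (FibCat.fp g f).p) (rfl : (FibCat.fp g f).p.obj x = _)))

variable {f g}

theorem repByAlgSpWith_diag_fpFst (hf : AlgSt.RepByAlgSpWith P (FibCat.diag f)) :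
    AlgSt.RepByAlgSpWith P (FibCat.diag (FibCat.fpFst g f)) :=
  (repByAlgSpWith_iff_of_square (f' := FibCat.diag (FibCat.fpFst g f))
    (f := FibCat.fpFst (FibCat.fpSnd (FibCat.fpSnd g f) (FibCat.fpFst f f)) (FibCat.diag f))
    (diagPullback_isEquivOver f g) (sqLift_isEquivOver f g) (diagLiftIso f g)).1
    (repByAlgSpWith_fpFst _ hf)

end FpFst

end Groth.Agent.AlgStLib
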