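import Groth.Agent.AlgStLib.DiagLFT
import Groth.Agent.AlgStLib.Stack

/-!
# Properties of the diagonal read on an fppf cover by an algebraic space
-/

set_option backward.isDefEq.respectTransparency false
set_option backward.isDefEq.respectTransparency.types false

universe u

open CategoryTheory CategoryTheory.Functor CategoryTheory.Limits AlgebraicGeometry Opposite AlgSp

namespace Groth.Agent.AlgStLib

open Groth.Agent.FibBase Groth.Agent.AlgSpLib

variable {S : Scheme.{u}} {𝒳 𝒴 : AlgSt.Cat S} {P : MorphismProperty (Sp S)}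

theorem repByAlgSp_selfOver : AlgSt.RepByAlgSp (FibCat.selfOver (Over S) : AlgSt.Cat S) := by
  let T₀ : Over S := Over.mk (𝟙 S)
  let hT : IsTerminal T₀ := Over.mkIdTerminal
  have hfull : (FibCat.toSelf (FibCat.overCat T₀ : AlgSt.Cat S)).toFunctor.Full :=
    ⟨fun {x y} g => ⟨Over.homMk g (hT.hom_ext _ _), rfl⟩⟩
  have hfaith : (FibCat.toSelf (FibCat.overCat T₀ : AlgSt.Cat S)).toFunctor.Faithful :=
    ⟨fun h => Over.OverMorphism.ext h⟩
  refine repByAlgSp_of_equiv _ (isEquivOver_of_exists_iso _ hfull hfaith fun η =>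
    ⟨Over.mk (hT.from η), Iso.refl _, IsHomLift.id rfl⟩) (repByAlgSp_overCat T₀)

theorem repByAlgSp1_toSelf_of_repByAlgSp (h : AlgSt.RepByAlgSp 𝒳) :
    AlgSt.RepByAlgSp1 (FibCat.toSelf 𝒳) :=
  repByAlgSp1_of_repByAlgSp h repByAlgSp_selfOver _

/-- A property of `W ×_𝒳 W ⟶ W` descends to the diagonal of `𝒳`. -/
theorem repByAlgSpWith_diag_toSelf_of_cover (hPb : StableBC P) (hloc : IsLocalOnBase IsFppfCover P)
    (hc : Cancels P ⊤) {𝒲 : AlgSt.Cat S} (hW : AlgSt.RepByAlgSp1 (FibCat.toSelf 𝒲))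
    (hΔ : AlgSt.RepByAlgSp1 (FibCat.diag (FibCat.toSelf 𝒳))) {p : 𝒲 ⥤ᵇ 𝒳}
    (hp : AlgSt.RepByAlgSpWith P p) (hes : LocEssSurj p) :
    AlgSt.RepByAlgSpWith P (FibCat.diag (FibCat.toSelf 𝒳)) := by
  let t := FibCat.toSelf 𝒳
  have hfst : AlgSt.RepByAlgSp1 (FibCat.fpFst (BasedFunctor.comp p t) (BasedFunctor.comp p t)) :=
    repByAlgSp1_fpFst _ (repByAlgSp1_congr (comp_toSelf p) hW)
  have hweak : AlgSt.RepByAlgSpWith P (weaken p p t) :=
    repByAlgSpWith_of_comp hPb hc (repByAlgSp1_iff_top.1 hfst) (repByAlgSpWith_fpFst p hp)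
  exact repByAlgSpWith_of_locEssSurj hPb hloc hΔ (locEssSurj_pairMap t hes hes)
    ((repByAlgSpWith_iff_of_square (f' := weaken p p t) (f := FibCat.fpFst (pairMap p p t) (FibCat.diag t))
      (a := diagComparison p p t) (b := BasedFunctor.id _) (diagComparison_isEquivOver p p t) isEquivOver_id
      (Iso.refl _)).2 hweak)

end Groth.Agent.AlgStLib
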