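import Groth.Agent.AlgStLib.RepDiag

/-!
# Immersions and monomorphisms; properties of diagonals read on algebraic spaces
-/

set_option backward.isDefEq.respectTransparency false
set_option backward.isDefEq.respectTransparency.types false

universe u

open CategoryTheory CategoryTheory.Functor CategoryTheory.Limits AlgebraicGeometry Opposite AlgSp

namespace Groth.Agent.AlgStLib

open Groth.Agent.FibBase Groth.Agent.AlgSpLib

variable {S : Scheme.{u}} {𝒳 𝒴 𝒵 : AlgSt.Cat S} {P Q : MorphismProperty (Sp S)}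

/-- Composition for representable properties. -/
theorem repByAlgSpWith_repWith_comp {R : MorphismProperty Scheme.{u}} [R.IsStableUnderBaseChange]
    [R.IsStableUnderComposition] (h𝒳 : FibCat.IsFibGrpd 𝒳.p) (h𝒴 : FibCat.IsFibGrpd 𝒴.p) {f : 𝒳 ⥤ᵇ 𝒴}
    {g : 𝒴 ⥤ᵇ 𝒵} (hf : AlgSt.RepByAlgSpWith (RepWith R) f) (hg : AlgSt.RepByAlgSpWith (RepWith R) g) :
    AlgSt.RepByAlgSpWith (RepWith R) (BasedFunctor.comp f g) :=
  repByAlgSpWith_comp' stableBC_of stableComp_of (fun _ _ a ha => repWith_of_repBySpWith a ha) h𝒳 h𝒴 hf hg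

theorem isMono_of_isImm {f : 𝒳 ⥤ᵇ 𝒴} (hf : AlgSt.IsImm f) : AlgSt.IsMono f :=
  repByAlgSpWith_mono (fun _ _ _ h => AlgSpPts.mono_of_repWith
    (repWith_mono (fun _ _ g (_ : IsImmersion g) => (inferInstance : Mono g)) _ h)) hf

theorem isMono_comp (h𝒳 : FibCat.IsFibGrpd 𝒳.p) (h𝒴 : FibCat.IsFibGrpd 𝒴.p) {f : 𝒳 ⥤ᵇ 𝒴} {g : 𝒴 ⥤ᵇ 𝒵}
    (hf : AlgSt.IsMono f) (hg : AlgSt.IsMono g) : AlgSt.IsMono (BasedFunctor.comp f g) :=
  repByAlgSpWith_comp stableBC_of stableComp_of (isLocalOnBase_fppf_of_fpqc isLocalOnBase_fpqc_monomorphisms)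
    h𝒳 h𝒴 hf hg

/-- A property of the diagonal of a functor holds for the diagonals of all representing morphisms. -/
theorem property_diagonal_of_repByAlgSpWith_diag (hPb : StableBC P)
    (hsp : ∀ {F G : Sp S}, IsAlgSpace F → IsAlgSpace G → ∀ (a : F ⟶ G), RepBySpWith P a.hom → P a)
    {f : 𝒳 ⥤ᵇ 𝒴} (h : AlgSt.RepByAlgSpWith P (FibCat.diag f)) {F : Sp S} (hF : IsAlgSpace F) {U : Over S}
    (y : FibCat.overCat U ⥤ᵇ 𝒴) (e : AlgSt.ofSp F ⥤ᵇ FibCat.fp y f) (he : FibCat.IsEquivOver e) :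
    P (pullback.diagonal (AlgSt.spMapOfOver (BasedFunctor.comp e (FibCat.fpFst y f)))) := by
  let q := FibCat.fpFst y f
  let a := AlgSt.spMapOfOver (BasedFunctor.comp e q)
  let i : BasedFunctor.comp e q ≅ BasedFunctor.comp (AlgSt.ofSpMap a) (AlgSt.toOverCat U) := isoSpMapOfOver _
  have := full_of_isEquivOver (isEquivOver_toOverCat U)
  have := faithful_of_isEquivOver (isEquivOver_toOverCat U)
  have h₁ : AlgSt.RepByAlgSpWith P (FibCat.diag (AlgSt.ofSpMap a)) :=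
    (repByAlgSpWith_iff_of_square (f := FibCat.diag q) (f' := FibCat.diag (AlgSt.ofSpMap a)) (a := e)
      (b := fpMap (F := q) (G := q) (F' := AlgSt.ofSpMap a) (G' := AlgSt.ofSpMap a) i i.symm) he
      (fpMap_isEquivOver _ _ he he) (diagMapIso e (AlgSt.toOverCat U) i)).1 (repByAlgSpWith_diag_fpFst h)
  have hH := isAlgSpace_pullback hF hF (IsAlgSpace.yon_obj U) a a
  let sq := (IsPullback.of_hasPullback a a).map (sheafToPresheaf (J S) (Type (u + 1)))
  let c : AlgSt.ofSp (pullback a a) ⥤ᵇ FibCat.fp (AlgSt.ofSpMap a) (AlgSt.ofSpMap a) := pshCone sq.w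
  obtain ⟨c', hc', -, ⟨l⟩⟩ := isEquivOver_inv (f := c) (pshCone_isEquivOver sq)
  let k : AlgSt.ofSp F ⥤ᵇ AlgSt.ofSp (pullback a a) := BasedFunctor.comp (FibCat.diag (AlgSt.ofSpMap a)) c'
  have h₂ : AlgSt.RepByAlgSpWith P k :=
    (repByAlgSpWith_iff_of_square (f := k) (f' := FibCat.diag (AlgSt.ofSpMap a)) (a := BasedFunctor.id _) (b := c')
      isEquivOver_id hc' (Iso.refl _)).2 h₁
  have hk : spHom k = pullback.diagonal a := by
    have e₁ : spHom k ≫ pullback.fst a a = 𝟙 F := by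
      refine ((congrArg (fun m => spHom k ≫ m) (spHom_ofSpMap (pullback.fst a a))).symm.trans
        (spHom_comp k (AlgSt.ofSpMap (pullback.fst a a))).symm).trans ?_
      exact (spHom_congr (whiskerRightIso (whiskerLeftIso (FibCat.diag (AlgSt.ofSpMap a)) l)
        (FibCat.fpFst (AlgSt.ofSpMap a) (AlgSt.ofSpMap a)))).trans (ObjectProperty.hom_ext _ pshMap_id)
    have e₂ : spHom k ≫ pullback.snd a a = 𝟙 F := by
      refine ((congrArg (fun m => spHom k ≫ m) (spHom_ofSpMap (pullback.snd a a))).symm.trans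
        (spHom_comp k (AlgSt.ofSpMap (pullback.snd a a))).symm).trans ?_
      exact (spHom_congr (whiskerRightIso (whiskerLeftIso (FibCat.diag (AlgSt.ofSpMap a)) l)
        (FibCat.fpSnd (AlgSt.ofSpMap a) (AlgSt.ofSpMap a)))).trans (ObjectProperty.hom_ext _ pshMap_id)
    apply pullback.hom_ext <;> simp [e₁, e₂]
  have h₃ : AlgSt.RepByAlgSpWith P (Stk.ofPshMap (pullback.diagonal a).hom) :=
    repByAlgSpWith_of_iso (isoOfSpMap k ≪≫ eqToIso (congrArg (fun m => AlgSt.ofSpMap m) hk)) h₂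
  exact hsp hF hH _ (repBySpWith_of_repByAlgSpWith (a := (pullback.diagonal a).hom)
    (AlgSt.ofSpMap (pullback.diagonal a)) (BasedFunctor.id _) hPb isEquivOver_id h₃ (Iso.refl _))

/-- Properties of the diagonal of a functor representable by algebraic spaces are read on representing morphisms. -/
theorem repByAlgSpWith_diag_iff (hPb : StableBC P) (hQb : StableBC Q)
    (hsp : ∀ {F G : Sp S}, IsAlgSpace F → IsAlgSpace G → ∀ (a : F ⟶ G), RepBySpWith P a.hom → P a)
    {f : 𝒳 ⥤ᵇ 𝒴} (hf : AlgSt.RepByAlgSp1 f)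
    (hPQ : ∀ {F : Sp S} {U : Over S} (a : F ⟶ (yon S).obj U), IsAlgSpace F → (P (pullback.diagonal a) ↔ Q a)) :
    AlgSt.RepByAlgSpWith P (FibCat.diag f) ↔ AlgSt.RepByAlgSpWith Q f := by
  refine ⟨fun h U y => ?_, fun h => repByAlgSpWith_diag_of_repByAlgSp1 hPb hf fun a hF y e he ha => ?_⟩
  · obtain ⟨F, e, he⟩ := hf U y
    exact ⟨F, e, he, (hPQ _ F.property).1 (property_diagonal_of_repByAlgSpWith_diag hPb hsp h F.property y e he)⟩
  · subst ha
    exact (hPQ _ hF).2 ((show RepOver Q (FibCat.fpFst y f) from h _ y).property_of_stableBC hQb e he).2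

theorem isMono_property {f : 𝒳 ⥤ᵇ 𝒴} (hf : AlgSt.IsMono f) {F : Sp S} {U : Over S}
    (y : FibCat.overCat U ⥤ᵇ 𝒴) (e : AlgSt.ofSp F ⥤ᵇ FibCat.fp y f) (he : FibCat.IsEquivOver e) :
    Mono (AlgSt.spMapOfOver (BasedFunctor.comp e (FibCat.fpFst y f))) :=
  (RepOver.property_of_stableBC (stableBC_of (P := MorphismProperty.monomorphisms (Sp S))) (hf U y) e he).2

theorem isSeparatedMor_and_isDMMor_of_isMono {f : 𝒳 ⥤ᵇ 𝒴} (hf : AlgSt.IsMono f) :
    AlgSt.IsSeparatedMor f ∧ AlgSt.IsDMMor f := by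
  refine ⟨repByAlgSpWith_diag_of_repByAlgSp1 stableBC_isProperMor (repByAlgSp1_of_repByAlgSpWith hf) ?_,
    repByAlgSpWith_diag_of_repByAlgSp1 stableBC_locP (repByAlgSp1_of_repByAlgSpWith hf) ?_⟩
  · rintro F U a hF y e he rfl
    have := isMono_property hf y e he
    exact AlgSpPts.isProperMor_of_closedImmersion (repWith_of_isIso @IsClosedImmersion _)
  · rintro F U a hF y e he rfl
    have := isMono_property hf y e he
    exact locP_of_repWith (repWith_of_isIso (@LocallyOfFiniteType ⊓ @FormallyUnramified) _)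

end Groth.Agent.AlgStLib
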