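import Groth.Agent.AlgStLib.SpaceCalc

/-!
# Properties of functors read on smooth charts
-/

set_option backward.isDefEq.respectTransparency false
set_option backward.isDefEq.respectTransparency.types false

universe u

open CategoryTheory CategoryTheory.Functor CategoryTheory.Limits AlgebraicGeometry Opposite AlgSp

namespace Groth.Agent.AlgStLib

open Groth.Agent.FibBase Groth.Agent.AlgSpLib

variable {S : Scheme.{u}} {𝒳 𝒴 𝒵 : AlgSt.Cat S} {P : MorphismProperty (Sp S)}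

/-- Every smooth chart of the base change to a smooth chart of the target has `P`. -/
def LocQS (P : MorphismProperty (Sp S)) (f : 𝒳 ⥤ᵇ 𝒴) : Prop :=
  ∀ (U V : AlgSp.Space S) (y : AlgSt.ofSp V.obj ⥤ᵇ 𝒴) (c : AlgSt.ofSp U.obj ⥤ᵇ FibCat.fp f y),
    AlgSt.RepByAlgSpWith (LocP @Smooth) y → AlgSt.RepByAlgSpWith (LocP @Smooth) c →
      P (spHom (BasedFunctor.comp c (FibCat.fpSnd f y)))

/-- Some square of algebraic spaces with smooth surjective source chart has `P`. -/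
def LocQSome (P : MorphismProperty (Sp S)) (f : 𝒳 ⥤ᵇ 𝒴) : Prop :=
  ∃ (U V : AlgSp.Space S) (x : AlgSt.ofSp U.obj ⥤ᵇ 𝒳) (y : AlgSt.ofSp V.obj ⥤ᵇ 𝒴) (h : U ⟶ V)
    (_ : BasedFunctor.comp x f ≅ BasedFunctor.comp (AlgSt.ofSpMap h.hom) y),
    AlgSt.RepByAlgSpWith (LocP @Smooth) x ∧ AlgSt.RepByAlgSpWith IsSurjectiveMor x ∧
      AlgSt.RepByAlgSpWith (LocP @Smooth) y ∧ P h.hom

theorem isFibGrpd_ofSp (F : Sp S) : FibCat.IsFibGrpd (AlgSt.ofSp F).p := Stk.isFibGrpd_ofPsh _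

/-- A chart `U → 𝒳 ×_𝒴 V` receives the base change of any surjective chart. -/
theorem locQS_of_some (hP : IsSmoothLocalST P) (h𝒳 : FibCat.IsFibGrpd 𝒳.p) (h𝒴 : FibCat.IsFibGrpd 𝒴.p)
    {f : 𝒳 ⥤ᵇ 𝒴} (h : LocQSome P f) : LocQS P f := by
  obtain ⟨U₀, V₀, x₀, y₀, h₀, α, hx, hx', hy₀, hh⟩ := h
  intro U V y c hy hc
  obtain ⟨W, e, he⟩ := exists_space_fp_equiv (isFibGrpd_ofSp V.obj) h𝒴 (repByAlgSp1_of_repByAlgSpWith hy) V₀ y₀
  let pr₀ := spHom (BasedFunctor.comp e (FibCat.fpFst y₀ y))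
  let pr := spHom (BasedFunctor.comp e (FibCat.fpSnd y₀ y))
  have hpr₀ : LocP @Smooth pr₀ := locP_spHom_fpFst V₀.property W.property hy e he
  have hpr : LocP @Smooth pr := locP_spHom_fpSnd V.property W.property hy₀ e he
  let sq := IsPullback.of_hasPullback h₀.hom pr₀
  have hD : IsAlgSpace (pullback h₀.hom pr₀) := isAlgSpace_pullback U₀.property W.property V₀.property _ _
  have hPD : P (pullback.snd h₀.hom pr₀) :=
    hP.baseChange U₀.property V₀.property hD W.property h₀.hom pr₀ _ _ sq hpr₀ hh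
  obtain ⟨k, hk, -, ⟨jk⟩⟩ := exists_spCone sq
  have : (BasedFunctor.id (AlgSt.ofSp V₀.obj)).toFunctor.Full := inferInstanceAs (𝟭 _).Full
  have : (BasedFunctor.id (AlgSt.ofSp V₀.obj)).toFunctor.Faithful := inferInstanceAs (𝟭 _).Faithful
  let m₁ := fpMap (F := AlgSt.ofSpMap h₀.hom) (G := FibCat.fpFst y₀ y) (F' := AlgSt.ofSpMap h₀.hom)
    (G' := AlgSt.ofSpMap pr₀) (a := BasedFunctor.id _) (b := e) (c := BasedFunctor.id _) (Iso.refl _)
    (isoOfSpMap (BasedFunctor.comp e (FibCat.fpFst y₀ y))).symm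
  let m₂ := fpMap (F := BasedFunctor.comp x₀ f) (G := y) (F' := BasedFunctor.comp (AlgSt.ofSpMap h₀.hom) y₀)
    (G' := y) (a := BasedFunctor.id _) (b := BasedFunctor.id _) (c := BasedFunctor.id _) α (Iso.refl _)
  let K₀ := BasedFunctor.comp k (BasedFunctor.comp m₁
    (BasedFunctor.comp (pasteVert (AlgSt.ofSpMap h₀.hom) y₀ y) m₂))
  have hK₀ : FibCat.IsEquivOver K₀ := isEquivOver_comp hk
    (isEquivOver_comp (fpMap_isEquivOver _ _ isEquivOver_id he)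
      (isEquivOver_comp (pasteVert_isEquivOver _ _ _) (fpMap_isEquivOver _ _ isEquivOver_id isEquivOver_id)))
  obtain ⟨g, hg, -, ⟨j⟩⟩ := isEquivOver_inv (pasteVert_isEquivOver x₀ f y)
  let K := BasedFunctor.comp K₀ g
  have hK : FibCat.IsEquivOver K := isEquivOver_comp hK₀ hg
  let d := BasedFunctor.comp K (FibCat.fpSnd x₀ (FibCat.fpFst f y))
  have hd : AlgSt.RepByAlgSpWith (LocP @Smooth) d := repByAlgSpWith_precomp hK (repByAlgSpWith_fpSnd _ hx)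
  have hd' : AlgSt.RepByAlgSpWith IsSurjectiveMor d := repByAlgSpWith_precomp hK (repByAlgSpWith_fpSnd _ hx')
  obtain ⟨T, eT, heT⟩ := exists_space_fp_equiv (isFibGrpd_ofSp (pullback h₀.hom pr₀))
    (fp_isFibGrpd h𝒳 (isFibGrpd_ofSp V.obj) h𝒴) (repByAlgSp1_of_repByAlgSpWith hd) U c
  let a := spHom (BasedFunctor.comp eT (FibCat.fpFst c d))
  let s := spHom (BasedFunctor.comp eT (FibCat.fpSnd c d))
  have ha : LocP @Smooth a := locP_spHom_fpFst U.property T.property hd eT heT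
  have ha' : IsSurjectiveMor a := surj_spHom_fpFst U.property T.property hd' eT heT
  have hs : LocP @Smooth s := locP_spHom_fpSnd hD T.property hc eT heT
  have hd2 : spHom (BasedFunctor.comp d (FibCat.fpSnd f y)) = pullback.snd h₀.hom pr₀ ≫ pr := by
    let i : BasedFunctor.comp d (FibCat.fpSnd f y) ≅
        BasedFunctor.comp (BasedFunctor.comp k (FibCat.fpSnd _ _))
          (BasedFunctor.comp e (FibCat.fpSnd y₀ y)) :=
      whiskerRightIso (whiskerLeftIso K₀ j) (FibCat.fpSnd (BasedFunctor.comp x₀ f) y)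
    rw [spHom_congr i, spHom_comp, spHom_congr jk, spHom_ofSpMap]
  have w : a ≫ spHom (BasedFunctor.comp c (FibCat.fpSnd f y)) =
      (s ≫ pullback.snd h₀.hom pr₀) ≫ pr := by
    rw [Category.assoc, ← hd2, ← spHom_comp, ← spHom_comp]
    exact spHom_congr (whiskerRightIso (whiskerLeftIso eT (FibCat.fpIso c d)) (FibCat.fpSnd f y))
  refine (hP.locality U.property V.property _).2 fun x => ?_
  obtain ⟨v, hv⟩ := ha' x
  exact ⟨T.obj, W.obj, a, pr, s ≫ pullback.snd h₀.hom pr₀, v, T.property, W.property, ha, hpr, w, hv,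
    hP.precomp T.property hD W.property s _ hs hPD⟩

/-! ## Squares of schemes and squares of algebraic spaces -/

/-- A square of slices as a square of categories of representable sheaves. -/
def toOverCatMapIso {U V : Over S} (h : U ⟶ V) :
    BasedFunctor.comp (AlgSt.toOverCat U) (AlgSt.overMap h) ≅
      BasedFunctor.comp (AlgSt.ofSpMap ((yon S).map h)) (AlgSt.toOverCat V) :=
  overIso _ _ fun x => by
    show 𝟙 x.base ≫ (x.sec.down ≫ h) = x.sec.down ≫ h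
    simp

theorem locQSome_of_locQ {f : 𝒳 ⥤ᵇ 𝒴} (h : AlgSt.LocQ P f) : LocQSome P f := by
  obtain ⟨U, V, x, y, h, α, hx, hx', hy, hh⟩ := h
  exact ⟨⟨_, IsAlgSpace.yon_obj U⟩, ⟨_, IsAlgSpace.yon_obj V⟩, BasedFunctor.comp (AlgSt.toOverCat U) x,
    BasedFunctor.comp (AlgSt.toOverCat V) y, ObjectProperty.homMk ((yon S).map h),
    whiskerLeftIso (AlgSt.toOverCat U) α ≪≫ whiskerRightIso (toOverCatMapIso h) y,
    repByAlgSpWith_precomp (isEquivOver_toOverCat U) hx, repByAlgSpWith_precomp (isEquivOver_toOverCat U) hx',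
    repByAlgSpWith_precomp (isEquivOver_toOverCat V) hy, hh⟩

theorem spHom_toOverCat_comp {U V : Over S} {G : FibCat.overCat U ⥤ᵇ FibCat.overCat V} {h : U ⟶ V}
    (j : G ≅ AlgSt.overMap h) :
    spHom (BasedFunctor.comp (AlgSt.toOverCat U) (BasedFunctor.comp G (AlgSt.ofOverCat V))) = (yon S).map h := by
  rw [spHom_congr (whiskerLeftIso (AlgSt.toOverCat U) (whiskerRightIso j (AlgSt.ofOverCat V))),
    ← spHom_ofSpMap ((yon S).map h)]
  exact spHom_congr (whiskerRightIso (toOverCatMapIso h) (AlgSt.ofOverCat V) ≪≫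
    whiskerLeftIso (AlgSt.ofSpMap ((yon S).map h)) (toOverCatIso V))

/-- Charts from schemes have `P`. -/
theorem LocQS.scheme {f : 𝒳 ⥤ᵇ 𝒴} (hf : LocQS P f) {U V : Over S} {y : FibCat.overCat V ⥤ᵇ 𝒴}
    (c : FibCat.overCat U ⥤ᵇ FibCat.fp f y) (hy : AlgSt.RepByAlgSpWith (LocP @Smooth) y)
    (hc : AlgSt.RepByAlgSpWith (LocP @Smooth) c) {h : U ⟶ V}
    (j : BasedFunctor.comp c (FibCat.fpSnd f y) ≅ AlgSt.overMap h) : P ((yon S).map h) := by
  have : (BasedFunctor.id 𝒴).toFunctor.Full := inferInstanceAs (𝟭 _).Full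
  have : (BasedFunctor.id 𝒴).toFunctor.Faithful := inferInstanceAs (𝟭 _).Faithful
  let m := fpMap (F := f) (G := BasedFunctor.comp (AlgSt.toOverCat V) y) (F' := f) (G' := y)
    (a := BasedFunctor.id _) (b := AlgSt.ofOverCat V) (c := BasedFunctor.id _) (Iso.refl _)
    (whiskerRightIso (ofOverCatIso V) y).symm
  have hm : FibCat.IsEquivOver m := fpMap_isEquivOver _ _ isEquivOver_id (isEquivOver_ofOverCat V)
  let c' := BasedFunctor.comp (AlgSt.toOverCat U) (BasedFunctor.comp c m)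
  have key := hf ⟨_, IsAlgSpace.yon_obj U⟩ ⟨_, IsAlgSpace.yon_obj V⟩ _ c'
    (repByAlgSpWith_precomp (isEquivOver_toOverCat V) hy)
    (repByAlgSpWith_precomp (isEquivOver_toOverCat U) (repByAlgSpWith_postcomp hm hc))
  exact spHom_toOverCat_comp j ▸ key

/-- Algebraic stacks have charts of base changes. -/
theorem exists_atlas_fp {K : Precoverage Scheme.{u}} (h𝒳 : AlgSt.IsAlgStack K 𝒳) (h𝒴 : AlgSt.IsAlgStack K 𝒴)
    (h𝒵 : AlgSt.IsAlgStack K 𝒵) (f : 𝒳 ⥤ᵇ 𝒵) (g : 𝒴 ⥤ᵇ 𝒵) :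
    ∃ (U : Over S) (c : FibCat.overCat U ⥤ᵇ FibCat.fp f g),
      AlgSt.RepByAlgSpWith (LocP @Smooth) c ∧ AlgSt.RepByAlgSpWith IsSurjectiveMor c :=
  (isAlgStack_fp h𝒳 h𝒴 h𝒵.isStack h𝒵.diag f g).atlas

theorem isAlgStack_ofSp (F : AlgSp.Space S) : AlgSt.IsAlgStack Scheme.fppfPrecoverage (AlgSt.ofSp F.obj) :=
  (isDM_of_repByAlgSp (repByAlgSp_ofSp F.property)).1

theorem isAlgStack_overCat (U : Over S) :
    AlgSt.IsAlgStack Scheme.fppfPrecoverage (FibCat.overCat U : AlgSt.Cat S) :=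
  (isDM_of_repByAlgSp (repByAlgSp_overCat U)).1

theorem locQ_of_locQS (h𝒳 : AlgSt.IsAlgStack Scheme.fppfPrecoverage 𝒳)
    (h𝒴 : AlgSt.IsAlgStack Scheme.fppfPrecoverage 𝒴) {f : 𝒳 ⥤ᵇ 𝒴} (hf : LocQS P f) : AlgSt.LocQ P f := by
  obtain ⟨V, y, hy, hy'⟩ := id h𝒴.atlas
  obtain ⟨U, c, hc, hc'⟩ := exists_atlas_fp h𝒳 (isAlgStack_overCat V) h𝒴 f y
  obtain ⟨h, ⟨i⟩⟩ := exists_mapB (BasedFunctor.comp c (FibCat.fpSnd f y))
  have hg := fp_isFibGrpd (F := f) (G := y) h𝒳.isStack.1 (isFibGrpd_overCat V) h𝒴.isStack.1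
  exact ⟨U, V, BasedFunctor.comp c (FibCat.fpFst f y), y, h,
    whiskerLeftIso c (FibCat.fpIso f y) ≪≫ whiskerRightIso i.symm y,
    repByAlgSpWith_locP_comp (isFibGrpd_overCat U) hg hc (repByAlgSpWith_fpFst f hy),
    repByAlgSpWith_isSurjectiveMor_comp (isFibGrpd_overCat U) hg hc' (repByAlgSpWith_fpFst f hy'), hy,
    hf.scheme c hy hc i.symm⟩

theorem locQS_of_locQ (hP : IsSmoothLocalST P) (h𝒳 : FibCat.IsFibGrpd 𝒳.p) (h𝒴 : FibCat.IsFibGrpd 𝒴.p)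
    {f : 𝒳 ⥤ᵇ 𝒴} (h : AlgSt.LocQ P f) : LocQS P f :=
  locQS_of_some hP h𝒳 h𝒴 (locQSome_of_locQ h)

theorem locQ_iff_locQS (hP : IsSmoothLocalST P) (h𝒳 : AlgSt.IsAlgStack Scheme.fppfPrecoverage 𝒳)
    (h𝒴 : AlgSt.IsAlgStack Scheme.fppfPrecoverage 𝒴) (f : 𝒳 ⥤ᵇ 𝒴) : AlgSt.LocQ P f ↔ LocQS P f :=
  ⟨locQS_of_locQ hP h𝒳.isStack.1 h𝒴.isStack.1, locQ_of_locQS h𝒳 h𝒴⟩

theorem locQ_iff_some (hP : IsSmoothLocalST P) (h𝒳 : AlgSt.IsAlgStack Scheme.fppfPrecoverage 𝒳)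
    (h𝒴 : AlgSt.IsAlgStack Scheme.fppfPrecoverage 𝒴) (f : 𝒳 ⥤ᵇ 𝒴) : AlgSt.LocQ P f ↔ LocQSome P f :=
  ⟨locQSome_of_locQ, fun h => locQ_of_locQS h𝒳 h𝒴 (locQS_of_some hP h𝒳.isStack.1 h𝒴.isStack.1 h)⟩

theorem locQ_iff_forall_square (hP : IsSmoothLocalST P) (h𝒳 : AlgSt.IsAlgStack Scheme.fppfPrecoverage 𝒳)
    (h𝒴 : AlgSt.IsAlgStack Scheme.fppfPrecoverage 𝒴) (f : 𝒳 ⥤ᵇ 𝒴) :
    AlgSt.LocQ P f ↔
      ∀ (U V : Over S) (x : FibCat.overCat U ⥤ᵇ 𝒳) (y : FibCat.overCat V ⥤ᵇ 𝒴) (h : U ⟶ V)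
        (α : BasedFunctor.comp x f ≅ BasedFunctor.comp (AlgSt.overMap h) y),
        AlgSt.RepByAlgSpWith (LocP @Smooth) x → AlgSt.RepByAlgSpWith (LocP @Smooth) y →
        AlgSt.RepByAlgSpWith (LocP @Smooth) (FibCat.fpLift x (AlgSt.overMap h) α) → P ((yon S).map h) := by
  refine ⟨fun hf U V x y h α _ hy hc =>
    (locQS_of_locQ hP h𝒳.isStack.1 h𝒴.isStack.1 hf).scheme (FibCat.fpLift x (AlgSt.overMap h) α) hy hc
      (Iso.refl _), fun H => ?_⟩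
  obtain ⟨V, y, hy, hy'⟩ := id h𝒴.atlas
  obtain ⟨U, c, hc, hc'⟩ := exists_atlas_fp h𝒳 (isAlgStack_overCat V) h𝒴 f y
  obtain ⟨h, ⟨i⟩⟩ := exists_mapB (BasedFunctor.comp c (FibCat.fpSnd f y))
  have hg := fp_isFibGrpd (F := f) (G := y) h𝒳.isStack.1 (isFibGrpd_overCat V) h𝒴.isStack.1
  have hx : AlgSt.RepByAlgSpWith (LocP @Smooth) (BasedFunctor.comp c (FibCat.fpFst f y)) :=
    repByAlgSpWith_locP_comp (isFibGrpd_overCat U) hg hc (repByAlgSpWith_fpFst f hy)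
  exact ⟨U, V, BasedFunctor.comp c (FibCat.fpFst f y), y, h,
    whiskerLeftIso c (FibCat.fpIso f y) ≪≫ whiskerRightIso i.symm y, hx,
    repByAlgSpWith_isSurjectiveMor_comp (isFibGrpd_overCat U) hg hc' (repByAlgSpWith_fpFst f hy'), hy,
    H U V _ y h _ hx hy (repByAlgSpWith_of_iso (fpLiftIso c i.symm) hc)⟩

end Groth.Agent.AlgStLib
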