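import Groth.Agent.AlgStLib.Graph
import Groth.Agent.AlgStLib.Imm

/-!
# Assorted criteria: affine morphisms, monomorphisms, representability of maps from schemes
-/

set_option backward.isDefEq.respectTransparency false
set_option backward.isDefEq.respectTransparency.types false

universe u

open CategoryTheory CategoryTheory.Functor CategoryTheory.Limits AlgebraicGeometry Opposite AlgSp

namespace Groth.Agent.AlgStLib

open Groth.Agent.FibBase Groth.Agent.AlgSpLib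

variable {S : Scheme.{u}} {𝒳 𝒴 𝒵 : AlgSt.Cat S} {P : MorphismProperty (Sp S)}

theorem stableBC_isAffineMor : StableBC (IsAffineMor (S := S)) := by
  intro X₁ Y₁ X₂ Y₂ _ _ _ _ a b a' b' sq h Z hZ g
  obtain ⟨W, i, fst, sq', hW⟩ := h hZ (g ≫ b)
  have w : fst ≫ a = ((yon S).map i ≫ g) ≫ b := sq'.w.trans (Category.assoc _ _ _).symm
  refine ⟨W, i, sq.lift fst ((yon S).map i ≫ g) w, IsPullback.of_right ?_ (sq.lift_snd _ _ _) sq, hW⟩
  rw [sq.lift_fst]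
  exact sq'

theorem stableComp_isAffineMor : StableComp (IsAffineMor (S := S)) := by
  intro X Y Z _ _ _ a b ha hb T hT g
  obtain ⟨W, i, fst, sq, hW⟩ := hb hT g
  obtain ⟨W', i', fst', sq', hW'⟩ := ha hW fst
  exact ⟨W', i' ≫ i, fst', by rw [Functor.map_comp]; exact (sq'.flip.paste_horiz sq.flip).flip, hW'⟩

theorem isAffineMor_of_repBySpWith {F G : Sp S} (a : F ⟶ G) (h : RepBySpWith IsAffineMor a.hom) :
    IsAffineMor a := fun Z hZ g => by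
  obtain ⟨-, hs⟩ := (repBySpWith_hom_iff IsAffineMor a).1 h g _ _ (IsPullback.of_hasPullback a g)
  obtain ⟨W, i, fst, sq, hW⟩ := hs hZ (𝟙 _)
  exact ⟨W, i, fst ≫ pullback.fst a g, by simpa using sq.paste_horiz (IsPullback.of_hasPullback a g), hW⟩

theorem repByAlgSpWith_isAffineMor_comp (h𝒳 : FibCat.IsFibGrpd 𝒳.p) (h𝒴 : FibCat.IsFibGrpd 𝒴.p) {f : 𝒳 ⥤ᵇ 𝒴}
    {g : 𝒴 ⥤ᵇ 𝒵} (hf : AlgSt.RepByAlgSpWith IsAffineMor f) (hg : AlgSt.RepByAlgSpWith IsAffineMor g) :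
    AlgSt.RepByAlgSpWith IsAffineMor (BasedFunctor.comp f g) :=
  repByAlgSpWith_comp' stableBC_isAffineMor stableComp_isAffineMor (fun _ _ a ha => isAffineMor_of_repBySpWith a ha)
    h𝒳 h𝒴 hf hg

/-- A representable property may be read on base changes to algebraic spaces. -/
theorem exists_space_fp (hPb : StableBC P) (hloc : IsLocalOnBase IsFppfCover P) (h𝒳 : FibCat.IsFibGrpd 𝒳.p)
    (h𝒴 : FibCat.IsFibGrpd 𝒴.p) {f : 𝒳 ⥤ᵇ 𝒴} (hf : AlgSt.RepByAlgSpWith P f) (Z : AlgSp.Space S)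
    (z : AlgSt.ofSp Z.obj ⥤ᵇ 𝒴) :
    ∃ (V : AlgSp.Space S) (a : V ⟶ Z) (e : AlgSt.ofSp V.obj ⥤ᵇ FibCat.fp z f),
      FibCat.IsEquivOver e ∧
        Nonempty (BasedFunctor.comp e (FibCat.fpFst z f) ≅ AlgSt.ofSpMap a.hom) ∧ P a.hom := by
  have hq : AlgSt.RepByAlgSpWith P (FibCat.fpFst z f) := repByAlgSpWith_fpFst z hf
  obtain ⟨V, a, e, he, ⟨i⟩⟩ := exists_space_of_overSpace Z.property
    (fp_isFibGrpd (Stk.isFibGrpd_ofPsh _) h𝒳 h𝒴) (FibCat.fpFst z f) (repByAlgSp1_of_repByAlgSpWith hq)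
  exact ⟨V, ObjectProperty.homMk a, e, he, ⟨i⟩, property_of_repBySpWith hloc V.property Z.property
    (repBySpWith_of_repByAlgSpWith (FibCat.fpFst z f) e hPb he hq i)⟩

theorem repByAlgSpWith_of_forall_space {f : 𝒳 ⥤ᵇ 𝒴}
    (h : ∀ (Z : AlgSp.Space S) (z : AlgSt.ofSp Z.obj ⥤ᵇ 𝒴),
      ∃ (V : AlgSp.Space S) (a : V ⟶ Z) (e : AlgSt.ofSp V.obj ⥤ᵇ FibCat.fp z f),
        FibCat.IsEquivOver e ∧
          Nonempty (BasedFunctor.comp e (FibCat.fpFst z f) ≅ AlgSt.ofSpMap a.hom) ∧ P a.hom) :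
    AlgSt.RepByAlgSpWith P f := fun U y => by
  let Z : AlgSp.Space S := ⟨(yon S).obj U, IsAlgSpace.yon_obj U⟩
  let z : AlgSt.ofSp Z.obj ⥤ᵇ 𝒴 := BasedFunctor.comp (AlgSt.toOverCat U) y
  obtain ⟨V, a, e, he, ⟨i⟩, hP⟩ := h Z z
  let m := fpMap (F := y) (G := f) (F' := z) (G' := f) (a := AlgSt.toOverCat U) (b := BasedFunctor.id _)
    (c := BasedFunctor.id _) (Iso.refl _) (Iso.refl _)
  refine ⟨V, BasedFunctor.comp e m, isEquivOver_comp he
    (fpMap_isEquivOver _ _ (isEquivOver_toOverCat U) isEquivOver_id), ?_⟩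
  let j : BasedFunctor.comp (BasedFunctor.comp e m) (FibCat.fpFst y f) ≅
      BasedFunctor.comp (AlgSt.ofSpMap a.hom) (AlgSt.toOverCat U) := whiskerRightIso i (AlgSt.toOverCat U)
  rw [spMapOfOver_congr j, spMapOfOver_ofSpMap_toOverCat]
  exact hP

theorem repByAlgSp1_of_diag (h𝒳 : FibCat.IsFibGrpd 𝒳.p) (hΔ : AlgSt.RepByAlgSp1 (FibCat.diag (FibCat.toSelf 𝒳)))
    (U : Over S) (x : FibCat.overCat U ⥤ᵇ 𝒳) : AlgSt.RepByAlgSp1 x :=
  repByAlgSp1_of_comp_diag h𝒳 isFibGrpd_selfOver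
    (repByAlgSp1_congr (comp_toSelf x) (repByAlgSp1_toSelf_overCat U)) hΔ

theorem repByAlgSp1_diag_toSelf_of_forall (h : ∀ (U : Over S) (x : FibCat.overCat U ⥤ᵇ 𝒳), AlgSt.RepByAlgSp1 x) :
    AlgSt.RepByAlgSp1 (FibCat.diag (FibCat.toSelf 𝒳)) := fun U y => by
  let t := FibCat.toSelf 𝒳
  let y₁ := BasedFunctor.comp y (FibCat.fpFst t t)
  let y₂ := BasedFunctor.comp y (FibCat.fpSnd t t)
  let σ : FibCat.overCat U ⥤ᵇ FibCat.fp (BasedFunctor.comp y₁ t) (BasedFunctor.comp y₂ t) :=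
    FibCat.fpLift (BasedFunctor.id _) (BasedFunctor.id _) (whiskerLeftIso y (FibCat.fpIso t t))
  let q := FibCat.fpFst (pairMap y₁ y₂ t) (FibCat.diag t)
  have hA : AlgSt.RepByAlgSp (FibCat.fp (BasedFunctor.comp y₁ t) (BasedFunctor.comp y₂ t)) :=
    repByAlgSp1_congr (comp_toSelf y₂) (repByAlgSp1_toSelf_overCat U) U _
  have hq : AlgSt.RepByAlgSp1 q := repByAlgSp1_of_repByAlgSp
    (repByAlgSp_of_equiv _ (diagComparison_isEquivOver y₁ y₂ t) (h U y₂ U y₁)) hA q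
  have h' := repByAlgSp_of_equiv _ (pasteVert_isEquivOver σ (pairMap y₁ y₂ t) (FibCat.diag t)) (hq U σ)
  let i : BasedFunctor.comp σ (pairMap y₁ y₂ t) ≅ y := Iso.refl _
  have : (BasedFunctor.id (FibCat.fp t t)).toFunctor.Full := inferInstanceAs (𝟭 _).Full
  have : (BasedFunctor.id (FibCat.fp t t)).toFunctor.Faithful := inferInstanceAs (𝟭 _).Faithful
  exact repByAlgSp_of_equiv _ (fpMap_isEquivOver (F := y) (G := FibCat.diag t)
    (F' := BasedFunctor.comp σ (pairMap y₁ y₂ t)) (G' := FibCat.diag t) (a := BasedFunctor.id _)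
    (b := BasedFunctor.id _) (c := BasedFunctor.id _) i.symm (Iso.refl _) isEquivOver_id isEquivOver_id) h'

theorem full_ofSpMap {F G : Sp S} (a : F ⟶ G) [Mono a] : (AlgSt.ofSpMap a).toFunctor.Full := by
  refine ⟨fun {x z} t => ⟨⟨t.hom, ?_⟩, Stk.EltObj.hom_ext rfl⟩⟩
  have : Mono a.hom := inferInstanceAs (Mono ((sheafToPresheaf _ _).map a))
  refine (mono_iff_injective (a.hom.app (op x.base))).1 inferInstance ?_
  exact (NatTrans.naturality_apply a.hom t.hom.op z.sec).trans t.map_sec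

theorem full_fpFst_of_isMono {f : 𝒳 ⥤ᵇ 𝒴} (hf : AlgSt.IsMono f) {U : Over S} (y : FibCat.overCat U ⥤ᵇ 𝒴) :
    (FibCat.fpFst y f).toFunctor.Full := by
  obtain ⟨F, e, he, -⟩ := hf U y
  have := isMono_property hf y e he
  let a := AlgSt.spMapOfOver (BasedFunctor.comp e (FibCat.fpFst y f))
  have := full_ofSpMap a
  have := full_of_isEquivOver (isEquivOver_toOverCat U)
  obtain ⟨g, hg, -, ⟨i⟩⟩ := isEquivOver_inv he
  have := full_of_isEquivOver hg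
  let j : BasedFunctor.comp g (BasedFunctor.comp (AlgSt.ofSpMap a) (AlgSt.toOverCat U)) ≅ FibCat.fpFst y f :=
    (whiskerLeftIso g (isoSpMapOfOver (BasedFunctor.comp e (FibCat.fpFst y f)))).symm ≪≫
      whiskerRightIso i (FibCat.fpFst y f)
  have : (g.toFunctor ⋙ (AlgSt.ofSpMap a).toFunctor ⋙ (AlgSt.toOverCat U).toFunctor).Full := inferInstance
  let j' : g.toFunctor ⋙ (AlgSt.ofSpMap a).toFunctor ⋙ (AlgSt.toOverCat U).toFunctor ≅
      (FibCat.fpFst y f).toFunctor := (BasedNatTrans.forgetful _ _).mapIso j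
  exact Functor.Full.of_iso j'

theorem full_faithful_of_isMono (h𝒴 : FibCat.IsFibGrpd 𝒴.p) {f : 𝒳 ⥤ᵇ 𝒴} (hf : AlgSt.IsMono f) :
    f.toFunctor.Full ∧ f.toFunctor.Faithful := by
  refine ⟨⟨fun {x z} ψ => ?_⟩, faithful_of_repByAlgSp1 h𝒴 f (repByAlgSp1_of_repByAlgSpWith hf)⟩
  let U := 𝒳.p.obj z
  obtain ⟨y, e, he⟩ := exists_overCat_obj h𝒴 (U := U) (f.obj z) (f.w_obj z)
  let V : Over U := Over.mk (eqToHom (f.w_obj x).symm ≫ 𝒴.p.map ψ ≫ eqToHom (f.w_obj z))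
  have hψ : 𝒴.p.IsHomLift V.hom ψ :=
    IsHomLift.of_fac _ _ _ (f.w_obj x) (f.w_obj z) rfl
  obtain ⟨i, hi, w⟩ := exists_point_of_hom h𝒴 y e he V ψ
  let oz : (FibCat.fp y f).obj := ⟨⟨Over.mk (𝟙 U), z, e⟩, he⟩
  let ox : (FibCat.fp y f).obj := ⟨⟨V, x, i⟩, hi⟩
  have := full_fpFst_of_isMono hf y
  obtain ⟨m, hm⟩ := (FibCat.fpFst y f).toFunctor.map_surjective (X := ox) (Y := oz) (toId V)
  refine ⟨m.hom.snd, ?_⟩
  have hw : y.map m.hom.fst ≫ e.hom = i.hom ≫ f.map m.hom.snd := m.hom.w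
  have hm' : m.hom.fst = toId V := hm
  rw [hm', w] at hw
  exact (cancel_epi i.hom).1 hw.symm

end Groth.Agent.AlgStLib
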