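import Groth.Agent.AlgStLib.Stack
import Groth.Agent.AlgSpLib.SmoothLocalInst

/-!
# Functors from categories of algebraic spaces: properties of fibre products
-/

set_option backward.isDefEq.respectTransparency false
set_option backward.isDefEq.respectTransparency.types false

universe u

open CategoryTheory CategoryTheory.Functor CategoryTheory.Limits AlgebraicGeometry Opposite AlgSp

namespace Groth.Agent.AlgStLib

open Groth.Agent.FibBase Groth.Agent.AlgSpLib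

variable {S : Scheme.{u}} {𝒳 𝒴 𝒵 : AlgSt.Cat S} {P : MorphismProperty (Sp S)}

theorem repByAlgSpWith_postcomp {e : 𝒴 ⥤ᵇ 𝒵} (he : FibCat.IsEquivOver e) {f : 𝒳 ⥤ᵇ 𝒴}
    (hf : AlgSt.RepByAlgSpWith P f) : AlgSt.RepByAlgSpWith P (BasedFunctor.comp f e) :=
  (repByAlgSpWith_iff_of_square (f := BasedFunctor.comp f e) (f' := f) (a := BasedFunctor.id _) (b := e)
    isEquivOver_id he (Iso.refl _)).2 hf

theorem repByAlgSpWith_of_isEquivOver (hiso : ∀ {F G : Sp S} (φ : F ⟶ G) [IsIso φ], P φ) {f : 𝒳 ⥤ᵇ 𝒴}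
    (hf : FibCat.IsEquivOver f) : AlgSt.RepByAlgSpWith P f := fun U y => by
  let m := fpMap (F := y) (G := BasedFunctor.id 𝒴) (F' := y) (G' := f) (a := BasedFunctor.id _) (b := f)
    (c := BasedFunctor.id _) (Iso.refl _) (Iso.refl _)
  have hq : FibCat.IsEquivOver (FibCat.fpFst y f) :=
    isEquivOver_of_iso (Iso.refl (BasedFunctor.comp m (FibCat.fpFst y (BasedFunctor.id 𝒴))))
      (isEquivOver_comp (fpMap_isEquivOver _ _ isEquivOver_id hf) (fpFst_id_isEquivOver y))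
  obtain ⟨g, hg, -, ⟨i⟩⟩ := isEquivOver_inv hq
  refine ⟨⟨_, IsAlgSpace.yon_obj U⟩, BasedFunctor.comp (AlgSt.toOverCat U) g,
    isEquivOver_comp (isEquivOver_toOverCat U) hg, ?_⟩
  let j : BasedFunctor.comp (BasedFunctor.comp (AlgSt.toOverCat U) g) (FibCat.fpFst y f) ≅
      BasedFunctor.comp (AlgSt.ofSpMap (𝟙 ((yon S).obj U))) (AlgSt.toOverCat U) :=
    whiskerLeftIso (AlgSt.toOverCat U) i
  rw [spMapOfOver_congr j, spMapOfOver_ofSpMap_toOverCat]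
  exact hiso _

theorem repByAlgSpWith_smooth_of_isEquivOver {f : 𝒳 ⥤ᵇ 𝒴} (hf : FibCat.IsEquivOver f) :
    AlgSt.RepByAlgSpWith (LocP @Smooth) f :=
  repByAlgSpWith_of_isEquivOver (fun φ _ => locP_smooth_of_isIso φ) hf

theorem repByAlgSpWith_surj_of_isEquivOver {f : 𝒳 ⥤ᵇ 𝒴} (hf : FibCat.IsEquivOver f) :
    AlgSt.RepByAlgSpWith IsSurjectiveMor f :=
  repByAlgSpWith_of_isEquivOver (fun φ _ => isSurjectiveMor_of_isIso φ) hf

/-- The first projection of a representation of a base change has the property. -/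
theorem property_spHom_fpFst (hPb : StableBC P)
    (hsp : ∀ {F G : Sp S}, IsAlgSpace F → IsAlgSpace G → ∀ (a : F ⟶ G), RepBySpWith P a.hom → P a)
    {Z W : Sp S} (hZ : IsAlgSpace Z) (hW : IsAlgSpace W) {z : AlgSt.ofSp Z ⥤ᵇ 𝒴} {f : 𝒳 ⥤ᵇ 𝒴}
    (hf : AlgSt.RepByAlgSpWith P f) (e : AlgSt.ofSp W ⥤ᵇ FibCat.fp z f) (he : FibCat.IsEquivOver e) :
    P (spHom (BasedFunctor.comp e (FibCat.fpFst z f))) :=
  hsp hW hZ _ (repBySpWith_of_repByAlgSpWith (FibCat.fpFst z f) e hPb he (repByAlgSpWith_fpFst z hf)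
    (isoOfSpMap (BasedFunctor.comp e (FibCat.fpFst z f))))

/-- The second projection of a representation of a base change has the property. -/
theorem property_spHom_fpSnd (hPb : StableBC P)
    (hsp : ∀ {F G : Sp S}, IsAlgSpace F → IsAlgSpace G → ∀ (a : F ⟶ G), RepBySpWith P a.hom → P a)
    {Z W : Sp S} (hZ : IsAlgSpace Z) (hW : IsAlgSpace W) {z : AlgSt.ofSp Z ⥤ᵇ 𝒴} {f : 𝒳 ⥤ᵇ 𝒴}
    (hf : AlgSt.RepByAlgSpWith P f) (e : AlgSt.ofSp W ⥤ᵇ FibCat.fp f z) (he : FibCat.IsEquivOver e) :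
    P (spHom (BasedFunctor.comp e (FibCat.fpSnd f z))) :=
  property_spHom_fpFst hPb hsp hZ hW hf (BasedFunctor.comp e (fpSwap f z))
    (isEquivOver_comp he (fpSwap_isEquivOver f z))

variable {R : MorphismProperty Scheme.{u}} [IsEtLocal R] {Z W : Sp S}

theorem locP_spHom_fpFst (hZ : IsAlgSpace Z) (hW : IsAlgSpace W) {z : AlgSt.ofSp Z ⥤ᵇ 𝒴} {f : 𝒳 ⥤ᵇ 𝒴}
    (hf : AlgSt.RepByAlgSpWith (LocP R) f) (e : AlgSt.ofSp W ⥤ᵇ FibCat.fp z f) (he : FibCat.IsEquivOver e) :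
    LocP R (spHom (BasedFunctor.comp e (FibCat.fpFst z f))) :=
  property_spHom_fpFst stableBC_locP (fun _ hG a ha => locP_of_repBySpWith hG a ha) hZ hW hf e he

theorem locP_spHom_fpSnd (hZ : IsAlgSpace Z) (hW : IsAlgSpace W) {z : AlgSt.ofSp Z ⥤ᵇ 𝒴} {f : 𝒳 ⥤ᵇ 𝒴}
    (hf : AlgSt.RepByAlgSpWith (LocP R) f) (e : AlgSt.ofSp W ⥤ᵇ FibCat.fp f z) (he : FibCat.IsEquivOver e) :
    LocP R (spHom (BasedFunctor.comp e (FibCat.fpSnd f z))) :=
  property_spHom_fpSnd stableBC_locP (fun _ hG a ha => locP_of_repBySpWith hG a ha) hZ hW hf e he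

theorem surj_spHom_fpFst (hZ : IsAlgSpace Z) (hW : IsAlgSpace W) {z : AlgSt.ofSp Z ⥤ᵇ 𝒴} {f : 𝒳 ⥤ᵇ 𝒴}
    (hf : AlgSt.RepByAlgSpWith IsSurjectiveMor f) (e : AlgSt.ofSp W ⥤ᵇ FibCat.fp z f)
    (he : FibCat.IsEquivOver e) : IsSurjectiveMor (spHom (BasedFunctor.comp e (FibCat.fpFst z f))) :=
  property_spHom_fpFst stableBC_isSurjectiveMor (fun _ hG a ha => isSurjectiveMor_of_repBySpWith hG a ha)
    hZ hW hf e he

theorem surj_spHom_fpSnd (hZ : IsAlgSpace Z) (hW : IsAlgSpace W) {z : AlgSt.ofSp Z ⥤ᵇ 𝒴} {f : 𝒳 ⥤ᵇ 𝒴}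
    (hf : AlgSt.RepByAlgSpWith IsSurjectiveMor f) (e : AlgSt.ofSp W ⥤ᵇ FibCat.fp f z)
    (he : FibCat.IsEquivOver e) : IsSurjectiveMor (spHom (BasedFunctor.comp e (FibCat.fpSnd f z))) :=
  property_spHom_fpSnd stableBC_isSurjectiveMor (fun _ hG a ha => isSurjectiveMor_of_repBySpWith hG a ha)
    hZ hW hf e he

/-- The fibre product of a functor representable by algebraic spaces and a functor from an algebraic space is an
algebraic space. -/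
theorem exists_space_fp_equiv (h𝒳 : FibCat.IsFibGrpd 𝒳.p) (h𝒴 : FibCat.IsFibGrpd 𝒴.p) {f : 𝒳 ⥤ᵇ 𝒴}
    (hf : AlgSt.RepByAlgSp1 f) (Z : AlgSp.Space S) (z : AlgSt.ofSp Z.obj ⥤ᵇ 𝒴) :
    ∃ (W : AlgSp.Space S) (e : AlgSt.ofSp W.obj ⥤ᵇ FibCat.fp z f), FibCat.IsEquivOver e := by
  obtain ⟨F, e, he⟩ := repByAlgSp_fp h𝒳 h𝒴 f z hf (repByAlgSp_ofSp Z.property)
  exact ⟨F, e, he⟩

/-- A pullback square of sheaves as a 2-fibre product. -/
theorem exists_spCone {F G H E : Sp S} {a : F ⟶ H} {b : G ⟶ H} {fst : E ⟶ F} {snd : E ⟶ G}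
    (sq : IsPullback fst snd a b) :
    ∃ k : AlgSt.ofSp E ⥤ᵇ FibCat.fp (AlgSt.ofSpMap a) (AlgSt.ofSpMap b), FibCat.IsEquivOver k ∧
      Nonempty (BasedFunctor.comp k (FibCat.fpFst _ _) ≅ AlgSt.ofSpMap fst) ∧
      Nonempty (BasedFunctor.comp k (FibCat.fpSnd _ _) ≅ AlgSt.ofSpMap snd) :=
  have sq' := sq.map (sheafToPresheaf (J S) (Type (u + 1)))
  ⟨pshCone sq'.w, pshCone_isEquivOver sq', ⟨Iso.refl _⟩, ⟨Iso.refl _⟩⟩

/-- A functor into a fibre product from its components. -/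
def fpLiftIso {𝒜 : AlgSt.Cat S} {f : 𝒳 ⥤ᵇ 𝒵} {y : 𝒴 ⥤ᵇ 𝒵} (c : 𝒜 ⥤ᵇ FibCat.fp f y) {g : 𝒜 ⥤ᵇ 𝒴}
    (j : BasedFunctor.comp c (FibCat.fpSnd f y) ≅ g) :
    c ≅ FibCat.fpLift (BasedFunctor.comp c (FibCat.fpFst f y)) g
      (whiskerLeftIso c (FibCat.fpIso f y) ≪≫ whiskerRightIso j y) :=
  BasedNatIso.mkNatIso
    (NatIso.ofComponents (fun w => fpIsoMk (Iso.refl _) (isoApp j w) (by
        show f.map (𝟙 _) ≫ ((c.obj w).obj.iso.hom ≫ y.map (isoApp j w).hom) =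
          (c.obj w).obj.iso.hom ≫ y.map (isoApp j w).hom
        simp))
      (fun {w w'} φ => by
        refine ObjectProperty.hom_ext _ (CategoricalPullback.hom_ext ?_ ?_)
        · show (c.map φ).hom.fst ≫ 𝟙 _ = 𝟙 _ ≫ (c.map φ).hom.fst
          simp
        · exact natural j φ))
    (fun w => fp_isHomLift (F := f) (G := y) (𝟙 _) _ (h := IsHomLift.id (p := 𝒳.p) (c.w_obj w)))

end Groth.Agent.AlgStLib
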