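import Groth.Agent.AlgStLib.Bootstrap
import Groth.Agent.AlgStLib.Imm
import Groth.Agent.AlgStLib.Small
import Groth.Agent.AlgStLib.SpaceCalc
import Groth.Agent.AlgStLib.EtLocal
import Groth.Agent.AlgStLib.LocQ
import Groth.Agent.S6399

/-! # Representability by algebraic spaces is faithfulness -/

set_option backward.isDefEq.respectTransparency false
set_option backward.isDefEq.respectTransparency.types false

universe u

open CategoryTheory CategoryTheory.Functor CategoryTheory.Limits AlgebraicGeometry Opposite AlgSp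
open Groth.Agent.FibBase Groth.Agent.AlgSpLib

namespace Groth.Agent.AlgStLib

variable {S : Scheme.{u}} {𝒳 𝒴 : AlgSt.Cat S} {f : 𝒳 ⥤ᵇ 𝒴}

theorem faithful_fp [f.toFunctor.Faithful] {U : Over S} (y : FibCat.overCat U ⥤ᵇ 𝒴) :
    (FibCat.fp y f).p.Faithful := by
  refine ⟨fun {a b} φ ψ h => ?_⟩
  have h₁ : φ.hom.fst = ψ.hom.fst := Over.OverMorphism.ext h
  refine ObjectProperty.hom_ext _ (CategoricalPullback.hom_ext h₁ (f.toFunctor.map_injective ?_))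
  rw [← cancel_epi a.obj.iso.hom, ← φ.hom.w, ← ψ.hom.w, h₁]

/-- A faithful morphism of algebraic stacks is representable by algebraic spaces. -/
theorem repByAlgSp1_of_faithful (h𝒳 : AlgSt.IsAlgStack Scheme.fppfPrecoverage 𝒳)
    (h𝒴 : AlgSt.IsAlgStack Scheme.fppfPrecoverage 𝒴) (f : 𝒳 ⥤ᵇ 𝒴) [f.toFunctor.Faithful] :
    AlgSt.RepByAlgSp1 f := fun U y => by
  have h := isAlgStack_fp (isAlgStack_overCat U) h𝒳 h𝒴.isStack h𝒴.diag y f
  exact repByAlgSp_of_isFibSetoid h (isFibSetoid_iff.2 ⟨h.isStack.1, faithful_fp y⟩)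

theorem repByAlgSp1_iff_faithful (h𝒳 : AlgSt.IsAlgStack Scheme.fppfPrecoverage 𝒳)
    (h𝒴 : AlgSt.IsAlgStack Scheme.fppfPrecoverage 𝒴) (f : 𝒳 ⥤ᵇ 𝒴) :
    AlgSt.RepByAlgSp1 f ↔ f.toFunctor.Faithful :=
  ⟨fun h => faithful_of_repByAlgSp1 h𝒴.isStack.1 f h, fun _ => repByAlgSp1_of_faithful h𝒳 h𝒴 f⟩

theorem faithful_iff_trivial_kernel (h𝒳 : FibCat.IsFibGrpd 𝒳.p) (h𝒴 : FibCat.IsFibGrpd 𝒴.p) (f : 𝒳 ⥤ᵇ 𝒴) :
    f.toFunctor.Faithful ↔
      ∀ (a : 𝒳.obj) (φ : a ⟶ a), 𝒳.p.map φ = 𝟙 (𝒳.p.obj a) → f.map φ = 𝟙 (f.obj a) → φ = 𝟙 a := by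
  refine ⟨fun h a φ _ hφ => h.map_injective (hφ.trans (f.toFunctor.map_id a).symm), fun H => ⟨fun {x z} φ ψ h => ?_⟩⟩
  have hp : 𝒳.p.map φ = 𝒳.p.map ψ := by
    have h' : (f.toFunctor ⋙ 𝒴.p).map φ = (f.toFunctor ⋙ 𝒴.p).map ψ := congrArg 𝒴.p.map h
    have e₁ := Functor.congr_hom f.w φ
    have e₂ := Functor.congr_hom f.w ψ
    rw [e₁, e₂] at h'
    exact (cancel_mono _).1 ((cancel_epi _).1 h')
  have hφ : 𝒳.p.IsHomLift (𝒳.p.map ψ) φ := hp ▸ IsHomLift.map _ _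
  have := h𝒳.isStronglyCartesian ψ
  let τ := IsCartesian.map 𝒳.p (𝒳.p.map ψ) ψ φ
  have hτ : τ ≫ ψ = φ := IsCartesian.fac 𝒳.p (𝒳.p.map ψ) ψ φ
  have hl0 : 𝒳.p.IsHomLift (𝟙 (𝒳.p.obj x)) τ := inferInstance
  have hτ' : 𝒳.p.map τ = 𝟙 (𝒳.p.obj x) := map_eq_of_isHomLift_id hl0
  have hfτ : f.map τ = 𝟙 (f.obj x) := by
    have hl : 𝒴.p.IsHomLift (𝟙 (𝒳.p.obj x)) (f.map τ) :=
      f.preserves_isHomLift (𝟙 (𝒳.p.obj x)) τ
    have hl' : 𝒴.p.IsHomLift (𝟙 (𝒳.p.obj x)) (𝟙 (f.obj x)) := IsHomLift.id (f.w_obj x)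
    have := h𝒴.isStronglyCartesian (f.map ψ)
    have hl₁ : 𝒴.p.IsHomLift (𝟙 (𝒴.p.obj (f.obj x))) (f.map τ) := isHomLift_id_congr (f.w_obj x).symm hl
    have hl₂ : 𝒴.p.IsHomLift (𝟙 (𝒴.p.obj (f.obj x))) (𝟙 (f.obj x)) := isHomLift_id_congr (f.w_obj x).symm hl'
    refine IsStronglyCartesian.ext 𝒴.p (𝒴.p.map (f.map ψ)) (f.map ψ) (𝟙 (𝒴.p.obj (f.obj x))) ?_
    rw [Category.id_comp, ← f.toFunctor.map_comp, hτ, h]
  rw [← hτ, H x τ hτ' hfτ, Category.id_comp]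

theorem faithful_iff_isEquivOver_inertiaToBase (h𝒳 : FibCat.IsFibGrpd 𝒳.p) (h𝒴 : FibCat.IsFibGrpd 𝒴.p)
    (f : 𝒳 ⥤ᵇ 𝒴) : f.toFunctor.Faithful ↔ FibCat.IsEquivOver (FibCat.inertiaToBase f) := by
  constructor
  · intro hf
    have haut : ∀ x : FibCat.InertiaObj f, x.aut.hom = 𝟙 x.pt := fun x =>
      f.toFunctor.map_injective (x.map_aut.trans (f.toFunctor.map_id x.pt).symm)
    refine isEquivOver_of_exists_iso _ ⟨fun {x z} t => ?_⟩ ⟨fun {x z} a b h => FibCat.InertiaObj.hom_ext h⟩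
      fun η => ⟨⟨η, Iso.refl _, f.toFunctor.map_id η⟩, Iso.refl _, IsHomLift.id rfl⟩
    exact ⟨⟨t, by rw [haut, haut]; exact (Category.id_comp t).trans (Category.comp_id t).symm⟩, rfl⟩
  · intro h
    have := full_of_isEquivOver h
    refine (faithful_iff_trivial_kernel h𝒳 h𝒴 f).2 fun a φ hφ hfφ => ?_
    have hl : 𝒳.p.IsHomLift (𝟙 (𝒳.p.obj a)) φ := hφ ▸ IsHomLift.map 𝒳.p φ
    have := fiber_isGroupoid h𝒳 (𝒳.p.obj a)
    let α := ofFiberIso (asIso (⟨φ, hl⟩ : (Fiber.mk (p := 𝒳.p) (a := a) rfl) ⟶ Fiber.mk rfl))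
    have hα : α.hom = φ := rfl
    obtain ⟨t, ht⟩ := (FibCat.inertiaToBase f).toFunctor.map_surjective
      (X := (⟨a, α, by rw [hα]; exact hfφ⟩ : FibCat.InertiaObj f))
      (Y := (⟨a, Iso.refl _, f.toFunctor.map_id _⟩ : FibCat.InertiaObj f)) (𝟙 a)
    have ht' : t.hom = 𝟙 a := ht
    have := t.comm
    rw [ht'] at this
    exact ((Category.comp_id α.hom).symm.trans (this.trans (Category.id_comp _)))

theorem faithful_iff_full_diag (f : 𝒳 ⥤ᵇ 𝒴) :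
    f.toFunctor.Faithful ↔ (FibCat.diag f).toFunctor.Full := by
  constructor
  · intro hf
    refine ⟨fun {x z} t => ?_⟩
    have w : f.map t.hom.fst = f.map t.hom.snd :=
      (Category.comp_id _).symm.trans (t.hom.w.trans (Category.id_comp _))
    exact ⟨t.hom.fst, ObjectProperty.hom_ext _ (CategoricalPullback.hom_ext rfl (f.toFunctor.map_injective w))⟩
  · intro h
    refine ⟨fun {x z} a b hab => ?_⟩
    let t : (FibCat.diag f).obj x ⟶ (FibCat.diag f).obj z := ObjectProperty.homMk ⟨a, b, by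
      show f.map a ≫ 𝟙 _ = 𝟙 _ ≫ f.map b
      simp [hab]⟩
    obtain ⟨c, hc⟩ := (FibCat.diag f).toFunctor.map_surjective t
    exact (congrArg (fun s => s.hom.fst) hc).symm.trans (congrArg (fun s => s.hom.snd) hc)

theorem faithful_diag (f : 𝒳 ⥤ᵇ 𝒴) : (FibCat.diag f).toFunctor.Faithful :=
  ⟨fun {x z} a b h => congrArg (fun s => s.hom.fst) h⟩

/-- A fully faithful morphism of algebraic stacks is a monomorphism. -/
theorem isMono_of_full_faithful (h𝒳 : AlgSt.IsAlgStack Scheme.fppfPrecoverage 𝒳)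
    (h𝒴 : AlgSt.IsAlgStack Scheme.fppfPrecoverage 𝒴) (f : 𝒳 ⥤ᵇ 𝒴) [f.toFunctor.Full] [f.toFunctor.Faithful] :
    AlgSt.IsMono f := by
  have hd : FibCat.IsEquivOver (FibCat.diag f) :=
    (S6399.result f h𝒳.isStack.1 h𝒴.isStack.1).1 ⟨inferInstance, inferInstance⟩
  refine (repByAlgSpWith_diag_iff (P := MorphismProperty.isomorphisms (Sp S))
    (Q := MorphismProperty.monomorphisms (Sp S)) stableBC_of stableBC_of ?_
    (repByAlgSp1_of_faithful h𝒳 h𝒴 f) (fun a _ => ?_)).1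
    (repByAlgSpWith_of_isEquivOver (fun φ h => h) hd)
  · intro F G hF hG a ha
    obtain ⟨U, p, hp, hp'⟩ := hG.atlas
    obtain ⟨h₁, h₂⟩ := (repBySpWith_hom_iff _ a).1 ha p _ _ (IsPullback.of_hasPullback a p)
    exact (isLocalOnBase_fpqc_isomorphisms _ _ hG (fun _ : PUnit.{u+1} => IsAlgSpace.yon_obj U)
      (isFpqcCover_of_isFppfCover hG (fun _ : PUnit.{u+1} => IsAlgSpace.yon_obj U) (fun _ => p)
        (isFppfCover_of_repWith_etale hp hp')) a hF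
      (fun _ => pullback a p) (fun _ => pullback.snd a p) (fun _ => pullback.fst a p) (fun _ => h₁)
      (fun _ => IsPullback.of_hasPullback a p)).2 fun _ => h₂
  · exact (pullback.isIso_diagonal_iff a)

end Groth.Agent.AlgStLib
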