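import Groth.Agent.AlgStLib.SpProps
import Groth.Agent.AlgStLib.DiagCover
import Groth.Agent.AlgStLib.DiagLFT
import Groth.Agent.AlgStLib.Small
import Groth.Agent.AlgStLib.Faithful
import Groth.Agent.S10613
import Groth.Agent.S9938
import Groth.Agent.S10262
import Groth.Agent.AlgSpLib.EtaleSmoothLocal
import Mathlib.FieldTheory.IsAlgClosed.AlgebraicClosure

/-! # Diagonals that are unramified and injective on geometric points -/

set_option backward.isDefEq.respectTransparency false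
set_option backward.isDefEq.respectTransparency.types false

universe u

open CategoryTheory CategoryTheory.Functor CategoryTheory.Limits AlgebraicGeometry Opposite AlgSp
open Groth.Agent.FibBase Groth.Agent.AlgSpLib

namespace Groth.Agent.AlgStLib

variable {S : Scheme.{u}}

/-- An unramified morphism with at most one lift of every geometric point is a monomorphism. -/
theorem mono_of_unramified_of_geomPt {F G : Space S} (f : F ⟶ G)
    (hf : LocP (@LocallyOfFiniteType ⊓ @FormallyUnramified) f.hom)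
    (H : ∀ (k : Type u) [Field k] [IsAlgClosed k] (s : Spec (CommRingCat.of k) ⟶ S)
      (a b : (yon S).obj (Over.mk s) ⟶ F.obj), a ≫ f.hom = b ≫ f.hom → a = b) : Mono f.hom := by
  refine ((Groth.Agent.S10613.result f).1.2 ⟨hf, (Groth.Agent.S9938.result f).1.1 fun K _ str a b hab => ?_⟩).2
  have hd := (Groth.Agent.S10262.result f).1 hf
  let q : (yon S).obj (Over.mk str) ⟶ pullback f.hom f.hom := pullback.lift a b hab
  let σ : Spec (CommRingCat.of (AlgebraicClosure K)) ⟶ Spec (CommRingCat.of K) :=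
    Spec.map (CommRingCat.ofHom (algebraMap K (AlgebraicClosure K)))
  let i : Over.mk (σ ≫ str) ⟶ Over.mk str := Over.homMk σ rfl
  have hi := H (AlgebraicClosure K) (σ ≫ str) ((yon S).map i ≫ a) ((yon S).map i ≫ b)
    (by simp only [Category.assoc]; exact congrArg ((yon S).map i ≫ ·) hab)
  let l := hd.rep.lift ((yon S).map i ≫ a) i (show ((yon S).map i ≫ a) ≫ pullback.diagonal f.hom =
      (yon S).map i ≫ q from pullback.hom_ext (by simp [q]) (by simp [q, hi]))
  have hl : l ≫ hd.rep.snd q = i := hd.rep.lift_snd _ _ _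
  have : IsOpenImmersion (hd.rep.snd q).left := hd.property_snd q
  have : Surjective (hd.rep.snd q).left := ⟨fun t => by
    obtain ⟨x⟩ : Nonempty (Spec (CommRingCat.of (AlgebraicClosure K))) :=
      inferInstanceAs (Nonempty (PrimeSpectrum (AlgebraicClosure K)))
    exact ⟨l.left x, Subsingleton.elim (α := PrimeSpectrum K) _ _⟩⟩
  have : Epi (hd.rep.snd q).left.base := (TopCat.epi_iff_surjective _).2 (hd.rep.snd q).left.surjective
  have hiso : IsIso (hd.rep.snd q).left := IsOpenImmersion.isIso _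
  have : IsIso (hd.rep.snd q) := by
    have : IsIso ((Over.forget S).map (hd.rep.snd q)) := hiso
    exact isIso_of_reflects_iso _ (Over.forget S)
  have hq : q = inv ((yon S).map (hd.rep.snd q)) ≫ hd.rep.fst q ≫ pullback.diagonal f.hom := by
    rw [hd.rep.w q, IsIso.inv_hom_id_assoc]
  have key : q ≫ pullback.fst _ _ = q ≫ pullback.snd _ _ := by
    rw [hq]
    simp
  exact ((pullback.lift_fst a b hab).symm.trans key).trans (pullback.lift_snd a b hab)

variable {𝒳 𝒴 : AlgSt.Cat S} {f : 𝒳 ⥤ᵇ 𝒴}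

/-- An unramified diagonal is a monomorphism as soon as automorphisms of geometric points are detected. -/
theorem isMono_diag_of_geomPt (h𝒳 : FibCat.IsFibGrpd 𝒳.p)
    (hd : AlgSt.RepByAlgSpWith (LocP (@LocallyOfFiniteType ⊓ @FormallyUnramified)) (FibCat.diag f))
    (H : ∀ (k : Type u) [Field k] [IsAlgClosed k] (s : Spec (CommRingCat.of k) ⟶ S) (z : 𝒳.obj),
        𝒳.p.obj z = Over.mk s → ∀ τ : z ⟶ z, 𝒳.p.IsHomLift (𝟙 (𝒳.p.obj z)) τ → f.map τ = 𝟙 (f.obj z) → τ = 𝟙 z)
    (h𝒴 : FibCat.IsFibGrpd 𝒴.p) :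
    AlgSt.IsMono (FibCat.diag f) := by
  intro U y
  obtain ⟨F, e, he, hunr⟩ := hd U y
  refine ⟨F, e, he, ?_⟩
  let Φ := BasedFunctor.comp e (FibCat.fpFst y (FibCat.diag f))
  let φ : F ⟶ (AlgSp.ofScheme S).obj U := ObjectProperty.homMk (AlgSt.spMapOfOver Φ)
  refine mono_of_unramified_of_geomPt φ hunr fun k _ _ s a b hab => ?_
  let T : Over S := Over.mk s
  let pa : (AlgSt.ofSp F.obj).obj := ⟨T, (J S).uliftYonedaEquiv a⟩
  let pb : (AlgSt.ofSp F.obj).obj := ⟨T, (J S).uliftYonedaEquiv b⟩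
  have hsec : AlgSt.secHom Φ pa = AlgSt.secHom Φ pb := by
    have h1 := congrArg (J S).uliftYonedaEquiv hab
    rw [GrothendieckTopology.uliftYonedaEquiv_comp, GrothendieckTopology.uliftYonedaEquiv_comp] at h1
    exact congrArg ULift.down h1
  let A := e.obj pa
  let B := e.obj pb
  have eA : A.obj.fst.left = T := Φ.w_obj pa
  have eB : B.obj.fst.left = T := Φ.w_obj pb
  let m₁ : A.obj.fst ≅ B.obj.fst := Over.isoMk (eqToIso (eA.trans eB.symm)) (by
    rw [eqToIso.hom, ← cancel_epi (eqToHom eA.symm), eqToHom_trans_assoc]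
    exact hsec.symm)
  let m : (FibCat.diag f).obj A.obj.snd ⟶ (FibCat.diag f).obj B.obj.snd :=
    A.obj.iso.inv ≫ y.map m₁.hom ≫ B.obj.iso.hom
  have hmf : f.map m.hom.fst = f.map m.hom.snd :=
    (Category.comp_id _).symm.trans (m.hom.w.trans (Category.id_comp _))
  have hp : 𝒳.p.map m.hom.fst = 𝒳.p.map m.hom.snd := by
    have := IsHomLift.fac' 𝒳.p ((FibCat.fp f f).p.map m) m.hom.snd
    refine Eq.trans ?_ this.symm
    simp
  have hz : 𝒳.p.obj A.obj.snd = T := ((FibCat.fpSnd y (FibCat.diag f)).w_obj A).trans (e.w_obj pa)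
  have hm : m.hom.fst = m.hom.snd := by
    have hlift : 𝒳.p.IsHomLift (𝒳.p.map m.hom.snd) m.hom.fst := hp ▸ IsHomLift.map _ _
    have := h𝒳.isStronglyCartesian m.hom.snd
    let τ := IsCartesian.map 𝒳.p (𝒳.p.map m.hom.snd) m.hom.snd m.hom.fst
    have hτ : τ ≫ m.hom.snd = m.hom.fst := IsCartesian.fac 𝒳.p (𝒳.p.map m.hom.snd) m.hom.snd m.hom.fst
    have hl0 : 𝒳.p.IsHomLift (𝟙 (𝒳.p.obj A.obj.snd)) τ := inferInstance
    have hl1 : 𝒴.p.IsHomLift (𝟙 (𝒳.p.obj A.obj.snd)) (f.map τ) := f.preserves_isHomLift _ τ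
    have hfτ : f.map τ = 𝟙 (f.obj A.obj.snd) := by
      have hl₁ : 𝒴.p.IsHomLift (𝟙 (𝒴.p.obj (f.obj A.obj.snd))) (f.map τ) :=
        isHomLift_id_congr (f.w_obj A.obj.snd).symm hl1
      have hl₂ : 𝒴.p.IsHomLift (𝟙 (𝒴.p.obj (f.obj A.obj.snd))) (𝟙 (f.obj A.obj.snd)) := IsHomLift.id rfl
      have := h𝒴.isStronglyCartesian (f.map m.hom.snd)
      refine IsStronglyCartesian.ext 𝒴.p (𝒴.p.map (f.map m.hom.snd)) (f.map m.hom.snd)
        (𝟙 (𝒴.p.obj (f.obj A.obj.snd))) ?_
      exact ((f.toFunctor.map_comp _ _).symm.trans ((congrArg f.map hτ).trans hmf)).trans (Category.id_comp _).symm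
    rw [← hτ, H k s A.obj.snd hz τ hl0 hfτ]
    exact Category.id_comp _
  have hmd : m = (FibCat.diag f).map m.hom.fst :=
    ObjectProperty.hom_ext _ (CategoricalPullback.hom_ext rfl hm.symm)
  let M : A ⟶ B := ObjectProperty.homMk ⟨m₁.hom, m.hom.fst, by
    rw [← hmd]
    exact (Iso.hom_inv_id_assoc _ _).symm⟩
  have := full_of_isEquivOver he
  obtain ⟨ψ, hψ⟩ := e.toFunctor.map_surjective M
  have hbase : ψ.hom = 𝟙 T := by
    have h1 : (Φ.map ψ).left = eqToHom (Φ.w_obj pa) ≫ ψ.hom ≫ eqToHom (Φ.w_obj pb).symm :=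
      IsHomLift.fac' (FibCat.overCat U).p ((AlgSt.ofSp F.obj).p.map ψ) (Φ.map ψ)
    have h2 : (Φ.map ψ).left = eqToHom (eA.trans eB.symm) :=
      congrArg (fun m : A ⟶ B => m.hom.fst.left) hψ
    rw [h2, ← eqToHom_trans eA eB.symm, cancel_epi] at h1
    exact ((cancel_mono (eqToHom eB.symm)).1 ((Category.id_comp _).trans h1)).symm
  refine (J S).uliftYonedaEquiv.injective ?_
  have hsec' := ψ.map_sec
  rw [hbase] at hsec'
  exact hsec'.symm.trans (congrArg (fun q => (ConcreteCategory.hom q) pb.sec) (F.obj.obj.map_id (op T)))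

/-- A Deligne-Mumford stack has unramified diagonal. -/
theorem isDMOver_of_isDM {K : Precoverage Scheme.{u}} (h : AlgSt.IsDM K 𝒳) : AlgSt.IsDMOver 𝒳 := by
  obtain ⟨hA, U, x, hx, hx'⟩ := h
  refine repByAlgSpWith_diag_toSelf_of_cover stableBC_locP isLocalOnBase_unr cancels_unr
    (repByAlgSp1_toSelf_overCat U) hA.diag (p := x) ?_ (locEssSurj_of_atlas ?_ hx')
  · exact repByAlgSpWith_mono (fun _ _ _ h => locP_mono (P := @Etale) (Q := @LocallyOfFiniteType ⊓ @FormallyUnramified)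
      (fun _ _ f (_ : Etale f) => ⟨inferInstanceAs (LocallyOfFiniteType f),
        inferInstanceAs (FormallyUnramified f)⟩) (locP_etale_of_isEtaleMor h)) hx
  · exact repByAlgSpWith_mono (fun _ _ _ h => locP_smooth_of_isEtaleMor h) hx

/-- A functor from a DM stack is representable once it is injective on automorphisms of geometric points. -/
theorem repByAlgSp1_of_geomPt_aut {K : Precoverage Scheme.{u}}
    (h𝒳 : AlgSt.IsAlgStack Scheme.fppfPrecoverage 𝒳) (h𝒴 : AlgSt.IsAlgStack Scheme.fppfPrecoverage 𝒴)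
    (hDM : AlgSt.IsDM K 𝒳) (f : 𝒳 ⥤ᵇ 𝒴)
    (H : ∀ (k : Type u) [Field k] [IsAlgClosed k] (s : Spec (CommRingCat.of k) ⟶ S) (z : 𝒳.obj),
        𝒳.p.obj z = Over.mk s → ∀ τ : z ⟶ z, 𝒳.p.IsHomLift (𝟙 (𝒳.p.obj z)) τ → f.map τ = 𝟙 (f.obj z) → τ = 𝟙 z) :
    AlgSt.RepByAlgSp1 f := by
  have hd : AlgSt.RepByAlgSpWith (LocP (@LocallyOfFiniteType ⊓ @FormallyUnramified)) (FibCat.diag f) :=
    repByAlgSpWith_diag_of_comp stableBC_locP cancels_unr (repByAlgSp1_iff_top.1 h𝒴.diag)
      (repByAlgSpWith_diag_congr (comp_toSelf f) (isDMOver_of_isDM hDM))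
  have hfull := (full_faithful_of_isMono (fp_isFibGrpd h𝒳.isStack.1 h𝒳.isStack.1 h𝒴.isStack.1)
    (isMono_diag_of_geomPt h𝒳.isStack.1 hd H h𝒴.isStack.1)).1
  have := (faithful_iff_full_diag f).2 hfull
  exact repByAlgSp1_of_faithful h𝒳 h𝒴 f

end Groth.Agent.AlgStLib
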