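import Groth.Agent.AlgStLib.IsomPsh
import Groth.Agent.FibBase.Slices

/-!
# The sheaf of isomorphisms of a category with representable diagonal
-/

set_option backward.isDefEq.respectTransparency false
set_option backward.isDefEq.respectTransparency.types false

universe u

open CategoryTheory CategoryTheory.Functor CategoryTheory.Limits Opposite AlgebraicGeometry AlgSp
open Groth.Agent.FibBase Groth.Agent.AlgSpLib Groth.Agent.StkLib Groth.Agent.GerbLib

namespace Groth.Agent.AlgStLib.IsomPsh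

variable {S : Scheme.{u}} {𝒴 : BasedCategory.{u, u + 1} (Over S)} {U : Over S}
  (hY : FibCat.IsFibGrpd 𝒴.p) (hd : AlgSt.RepByAlgSp1 (FibCat.diag (FibCat.toSelf 𝒴)))

section

variable (G G' : FibCat.overCat U ⥤ᵇ 𝒴)

/-- The sheaf of isomorphisms. -/
noncomputable def isomSh : Sp S :=
  ⟨presheaf G G' hY ⋙ uliftFunctor.{u + 1}, (isSheaf_iff_isSheaf_of_type _ _).2
    ((Presieve.isSheaf_comp_uliftFunctor_iff (J S)).2 (isSheaf_presheaf_of_diag hd G G'))⟩

/-- The projection of the sheaf of isomorphisms. -/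
noncomputable def isomShπ : isomSh hY hd G G' ⟶ (yon S).obj U where
  hom :=
    { app := fun W => TypeCat.ofHom fun x : ULift.{u + 1} (Pt G G' W.unop) => ⟨x.down.t⟩
      naturality := fun W V g => by
        ext x
        exact congrArg ULift.up (isRes_res hY g.unop x.down).1 }

end

/-- Forgetting the universe lift. -/
noncomputable def downFun (P : (Over S)ᵒᵖ ⥤ Type u) :
    Stk.ofPsh (P ⋙ uliftFunctor.{u + 1}) ⥤ᵇ Stk.ofPsh P where
  toFunctor :=
    { obj := fun a => ⟨a.base, ULift.down a.sec⟩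
      map := fun {a b} f => ⟨f.hom, congrArg ULift.down f.map_sec⟩ }
  w := rfl

theorem downFun_isEquivOver (P : (Over S)ᵒᵖ ⥤ Type u) : FibCat.IsEquivOver (downFun P) := by
  refine isEquivOver_of_exists_iso _ ⟨fun {a b} f => ?_⟩ ⟨fun {a b} f g e => ?_⟩ fun η => ?_
  · exact ⟨⟨f.hom, ULift.ext _ _ f.map_sec⟩, Stk.EltObj.hom_ext rfl⟩
  · exact Stk.EltObj.hom_ext (congrArg (fun t => t.hom) e)
  · refine ⟨⟨η.base, ULift.up η.sec⟩, Iso.refl η, ?_⟩
    exact IsHomLift.id rfl

variable (y : FibCat.overCat U ⥤ᵇ FibCat.fp (FibCat.toSelf 𝒴) (FibCat.toSelf 𝒴))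

/-- The functor from the sheaf of isomorphisms to the fibre product with the diagonal. -/
noncomputable def isomShFun :
    AlgSt.ofSp (isomSh hY hd (fstC y) (sndC y)) ⥤ᵇ FibCat.fp y (FibCat.diag (FibCat.toSelf 𝒴)) :=
  BasedFunctor.comp (downFun (presheaf (fstC y) (sndC y) hY)) (isomFun hY y)

theorem isomShFun_isEquivOver : FibCat.IsEquivOver (isomShFun hY hd y) :=
  isEquivOver_comp (downFun_isEquivOver _) (isomFun_isEquivOver hY y)

theorem spMapOfOver_isomShFun :
    AlgSt.spMapOfOver (BasedFunctor.comp (isomShFun hY hd y) (FibCat.fpFst y (FibCat.diag (FibCat.toSelf 𝒴)))) =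
      isomShπ hY hd (fstC y) (sndC y) := by
  refine ObjectProperty.hom_ext _ (NatTrans.ext (funext fun W => ?_))
  ext x
  exact ULift.ext _ _ (Category.id_comp _)

end Groth.Agent.AlgStLib.IsomPsh
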