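import Groth.Agent.AlgStLib.SmoothBootstrap
import Groth.Agent.AlgStLib.Bootstrap

/-! # Algebraic stacks in setoids for the etale topology -/

set_option backward.isDefEq.respectTransparency false
set_option backward.isDefEq.respectTransparency.types false

universe u

open CategoryTheory CategoryTheory.Functor CategoryTheory.Limits AlgebraicGeometry Opposite AlgSp
open Groth.Agent.FibBase Groth.Agent.AlgSpLib

namespace Groth.Agent.AlgStLib

variable {S : Scheme.{u}}

/-- An algebraic stack for the etale topology fibred in setoids is an algebraic space. -/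
theorem repByAlgSp_of_isFibSetoid_etale {𝒳 : AlgSt.Cat S} (h : AlgSt.IsAlgStack Scheme.etalePrecoverage 𝒳)
    (hs : FibCat.IsFibSetoid 𝒳.p) : AlgSt.RepByAlgSp 𝒳 := by
  let P := clsPsh 𝒳 hs.1
  have he : FibCat.IsEquivOver (toCls 𝒳 hs.1) := toCls_isEquivOver 𝒳 hs.1 hs
  have h' : AlgSt.IsAlgStack Scheme.etalePrecoverage (Stk.ofPsh P) := (isAlgStack_iff_of_isEquivOver he).1 h
  have hP : Presheaf.IsSheaf (QuotSh.J Scheme.etalePrecoverage S) P := (isSheaf_iff_isSheaf_of_type _ _).2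
    ((StkLib.isStack_ofPsh_iff P _).1 h'.isStack)
  obtain ⟨U, x, hxs, hxj⟩ := h'.atlas
  let p : ((yon S).obj U).obj ⟶ P := pshMap (BasedFunctor.comp (AlgSt.toOverCat U) x)
  have i : BasedFunctor.comp (AlgSt.toOverCat U) x ≅ Stk.ofPshMap p := isoOfPshMap _
  have hp : RepBySpWith (IsSurjectiveMor ⊓ LocP @Smooth) p := fun T ξ F' fst snd sq => by
    obtain ⟨h₁, hA, hl⟩ := repBySpWith_of_repByAlgSpWith x (AlgSt.toOverCat U) stableBC_locP
      (isEquivOver_toOverCat U) hxs i ξ fst snd sq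
    obtain ⟨h₂, hA₂, hj⟩ := repBySpWith_of_repByAlgSpWith x (AlgSt.toOverCat U) stableBC_isSurjectiveMor
      (isEquivOver_toOverCat U) hxj i ξ fst snd sq
    exact ⟨h₁, hA, hj, hl⟩
  obtain ⟨h₁, hA⟩ := Groth.Agent.AlgSpDec.isAlgSpaceP_of_smooth_sheaf_space hP (IsAlgSpace.yon_obj U) hp
  obtain ⟨g, hg, -⟩ := isEquivOver_inv he
  exact ⟨⟨⟨P, h₁⟩, hA⟩, g, hg⟩

end Groth.Agent.AlgStLib
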