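import Groth.Prelude.Def_StGerb
import Groth.Agent.AlgStLib.EtaleSetoid
import Groth.Agent.AlgStLib.DiagLFT
import Groth.Agent.AlgStLib.Small
import Groth.Agent.AlgSpLib.MonoFieldPt

/-! # Algebraic stacks with trivial stabilisers -/

set_option backward.isDefEq.respectTransparency false
set_option backward.isDefEq.respectTransparency.types false

universe u

open CategoryTheory CategoryTheory.Functor CategoryTheory.Limits AlgebraicGeometry Opposite AlgSp
open Groth.Agent.FibBase Groth.Agent.AlgSpLib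

namespace Groth.Agent.AlgStLib

variable {S : Scheme.{u}} {𝒳 : AlgSt.Cat S}

theorem subsingleton_autO_of_iso (h : FibCat.IsFibGrpd 𝒳.p) {z z' : 𝒳.obj} (w : z ≅ z')
    (hz : Subsingleton (Gerb.AutO z')) {τ : z ⟶ z} (hτ : 𝒳.p.map τ = 𝟙 _) : τ = 𝟙 z := by
  let β : z' ⟶ z' := w.inv ≫ τ ≫ w.hom
  have hβ : 𝒳.p.map β = 𝟙 _ := by
    simp only [β, Functor.map_comp, hτ, Category.id_comp]
    rw [← Functor.map_comp, w.inv_hom_id, CategoryTheory.Functor.map_id]
  have hl : 𝒳.p.IsHomLift (𝟙 (𝒳.p.obj z')) β := hβ ▸ IsHomLift.map 𝒳.p β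
  have := fiber_isGroupoid h (𝒳.p.obj z')
  have e := congrArg (fun α : Gerb.AutO z' => α.hom.1)
    (hz.elim (asIso (⟨β, hl⟩ : Gerb.fib z' ⟶ Gerb.fib z')) (Iso.refl _))
  have e' : w.inv ≫ τ ≫ w.hom = 𝟙 z' := e
  rw [← cancel_mono w.hom, ← cancel_epi w.inv, e', Category.id_comp, w.inv_hom_id]

/-- Parallel lifts agree when their source is isomorphic to an object without automorphisms. -/
theorem eq_of_map_eq_of_subsingleton (h : FibCat.IsFibGrpd 𝒳.p) {z z₀ z' : 𝒳.obj} (w : z ≅ z₀)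
    (hz : Subsingleton (Gerb.AutO z₀)) (φ ψ : z ⟶ z') (hp : 𝒳.p.map φ = 𝒳.p.map ψ) : φ = ψ := by
  have hφ : 𝒳.p.IsHomLift (𝒳.p.map ψ) φ := hp ▸ IsHomLift.map _ _
  have := h.isStronglyCartesian ψ
  let τ := IsCartesian.map 𝒳.p (𝒳.p.map ψ) ψ φ
  have hτ : τ ≫ ψ = φ := IsCartesian.fac 𝒳.p (𝒳.p.map ψ) ψ φ
  have hl0 : 𝒳.p.IsHomLift (𝟙 (𝒳.p.obj z)) τ := inferInstance
  rw [← hτ, subsingleton_autO_of_iso h w hz (map_eq_of_isHomLift_id hl0), Category.id_comp]

/-- The diagonal of a stack with trivial stabilisers at points over fields is a monomorphism. -/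
theorem isMono_diag_of_trivial_stab (h : AlgSt.IsAlgStack Scheme.etalePrecoverage 𝒳)
    (H : ∀ (k : Type u) [Field k] (sk : Spec (CommRingCat.of k) ⟶ S)
        (x : FibCat.overCat (Over.mk sk) ⥤ᵇ 𝒳) (T : Over (Over.mk sk)),
        Subsingleton (Gerb.AutO (x.obj T))) :
    AlgSt.IsMono (FibCat.diag (FibCat.toSelf 𝒳)) := by
  intro U y
  obtain ⟨F, e, he, hlft⟩ := repByAlgSpWith_lft_diag_toSelf h.diag h.atlas U y
  refine ⟨F, e, he, ?_⟩
  let Φ := BasedFunctor.comp e (FibCat.fpFst y (FibCat.diag (FibCat.toSelf 𝒳)))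
  let φ : F ⟶ (AlgSp.ofScheme S).obj U := ObjectProperty.homMk (AlgSt.spMapOfOver Φ)
  refine mono_of_fieldPt φ hlft fun k _ s T t g a b ha hb => ?_
  obtain ⟨g₀, rfl⟩ := (yon S).map_surjective (X := Over.mk s) (Y := U) g
  let pa : (AlgSt.ofSp F.obj).obj := ⟨T, (J S).uliftYonedaEquiv a⟩
  let pb : (AlgSt.ofSp F.obj).obj := ⟨T, (J S).uliftYonedaEquiv b⟩
  have hsec : ∀ (c : (yon S).obj T ⟶ F.obj) (_ : c ≫ φ.hom = (yon S).map t ≫ (yon S).map g₀),
      AlgSt.secHom Φ (⟨T, (J S).uliftYonedaEquiv c⟩ : (AlgSt.ofSp F.obj).obj) = t ≫ g₀ := fun c hc => by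
    have h1 := congrArg (J S).uliftYonedaEquiv hc
    rw [GrothendieckTopology.uliftYonedaEquiv_comp, ← (yon S).map_comp] at h1
    exact congrArg ULift.down h1
  let A := e.obj pa
  let B := e.obj pb
  have eA : A.obj.fst.left = T := Φ.w_obj pa
  have eB : B.obj.fst.left = T := Φ.w_obj pb
  have hA : eqToHom eA.symm ≫ A.obj.fst.hom = t ≫ g₀ := hsec a ha
  have hB : eqToHom eB.symm ≫ B.obj.fst.hom = t ≫ g₀ := hsec b hb
  let m₁ : A.obj.fst ≅ B.obj.fst := Over.isoMk (eqToIso (eA.trans eB.symm)) (by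
    rw [eqToIso.hom, ← cancel_epi (eqToHom eA.symm), hA, eqToHom_trans_assoc]
    exact hB)
  let f : (FibCat.diag (FibCat.toSelf 𝒳)).obj A.obj.snd ⟶ (FibCat.diag (FibCat.toSelf 𝒳)).obj B.obj.snd :=
    A.obj.iso.inv ≫ y.map m₁.hom ≫ B.obj.iso.hom
  -- the source of `f` comes from a point over `k`
  let x : FibCat.overCat (Over.mk s) ⥤ᵇ 𝒳 :=
    BasedFunctor.comp (AlgSt.overMap g₀) (BasedFunctor.comp y (FibCat.fpFst _ _))
  let V : Over U := (AlgSt.overMap g₀).obj (Over.mk t)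
  let v : A.obj.fst ≅ V := Over.isoMk (eqToIso eA) (by
    show eqToHom eA ≫ (t ≫ g₀) = _
    rw [← hA, eqToHom_trans_assoc, eqToHom_refl, Category.id_comp])
  let w : A.obj.snd ≅ x.obj (Over.mk t) :=
    (FibCat.fpFst _ _).toFunctor.mapIso (A.obj.iso.symm ≪≫ y.toFunctor.mapIso v)
  have hf : f.hom.fst = f.hom.snd := by
    refine eq_of_map_eq_of_subsingleton h.isStack.1 w (H k s x (Over.mk t)) _ _ ?_
    have := IsHomLift.fac' 𝒳.p
      ((FibCat.fp (FibCat.toSelf 𝒳) (FibCat.toSelf 𝒳)).p.map f) f.hom.snd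
    refine Eq.trans ?_ this.symm
    simp
  have hfd : f = (FibCat.diag (FibCat.toSelf 𝒳)).map f.hom.fst :=
    ObjectProperty.hom_ext _ (CategoricalPullback.hom_ext rfl hf.symm)
  let M : A ⟶ B := ObjectProperty.homMk ⟨m₁.hom, f.hom.fst, by
    rw [← hfd]
    exact (Iso.hom_inv_id_assoc _ _).symm⟩
  have := full_of_isEquivOver he
  obtain ⟨ψ, hψ⟩ := e.toFunctor.map_surjective M
  have hbase : ψ.hom = 𝟙 T := by
    have h1 : (Φ.map ψ).left = eqToHom (Φ.w_obj pa) ≫ ψ.hom ≫ eqToHom (Φ.w_obj pb).symm :=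
      IsHomLift.fac' (FibCat.overCat U).p ((AlgSt.ofSp F.obj).p.map ψ) (Φ.map ψ)
    have h2 : (Φ.map ψ).left = eqToHom (eA.trans eB.symm) :=
      congrArg (fun m : A ⟶ B => m.hom.fst.left) hψ
    rw [h2, ← eqToHom_trans eA eB.symm, cancel_epi] at h1
    exact ((cancel_mono (eqToHom eB.symm)).1 ((Category.id_comp _).trans h1)).symm
  refine (J S).uliftYonedaEquiv.injective ?_
  have hsec' := ψ.map_sec
  rw [hbase] at hsec'
  exact hsec'.symm.trans (congrArg (fun q => (ConcreteCategory.hom q) pb.sec) (F.obj.obj.map_id (op T)))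

/-- An algebraic stack for the etale topology with trivial stabilisers is an algebraic space. -/
theorem repByAlgSp_of_trivial_stab (h : AlgSt.IsAlgStack Scheme.etalePrecoverage 𝒳)
    (H : ∀ (k : Type u) [Field k] (sk : Spec (CommRingCat.of k) ⟶ S)
        (x : FibCat.overCat (Over.mk sk) ⥤ᵇ 𝒳) (T : Over (Over.mk sk)),
        Subsingleton (Gerb.AutO (x.obj T))) :
    AlgSt.RepByAlgSp 𝒳 := by
  have hd := (full_faithful_of_isMono (fp_isFibGrpd h.isStack.1 h.isStack.1 isFibGrpd_selfOver)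
    (isMono_diag_of_trivial_stab h H)).1
  exact repByAlgSp_of_isFibSetoid_etale h
    (isFibSetoid_iff.2 ⟨h.isStack.1, (faithful_iff_full_diag (FibCat.toSelf 𝒳)).2 hd⟩)

theorem trivial_stab_of_repByAlgSp (hr : AlgSt.RepByAlgSp 𝒳) (z : 𝒳.obj) : Subsingleton (Gerb.AutO z) :=
  ⟨fun α β => Iso.ext (((isFibSetoid_of_repByAlgSp hr).2 _ _ _).elim _ _)⟩

end Groth.Agent.AlgStLib
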