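import Groth.Prelude.Def_AlgSt4
import Groth.Agent.AlgStLib.IsomPshSheaf
import Groth.Agent.AlgStLib.Charts
import Groth.Agent.AlgStLib.DiagGeomPt
import Groth.Agent.AlgStLib.TrivialStab
import Groth.Agent.AlgStLib.Imm
import Groth.Agent.GerbLib.Glue
import Groth.Agent.FibBase.Slices

/-!
# Endomorphisms of a 1-morphism of Deligne-Mumford stacks trivial on a dense open
-/

set_option backward.isDefEq.respectTransparency false
set_option backward.isDefEq.respectTransparency.types false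

universe u

open CategoryTheory CategoryTheory.Functor CategoryTheory.Limits Opposite AlgebraicGeometry AlgSp
open Groth.Agent.FibBase Groth.Agent.AlgSpLib Groth.Agent.StkLib Groth.Agent.GerbLib
open Groth.Agent.AlgStLib.IsomPsh

namespace Groth.Agent.AlgStLib.EndTrans

variable {S : Scheme.{u}} {𝒳 𝒴 : AlgSt.Cat S} {F : 𝒳 ⥤ᵇ 𝒴}

theorem map_app (β : F ⟶ F) (z : 𝒳.obj) : 𝒴.p.map (β.app z) = 𝟙 _ := by
  simpa using map_eq_of_isHomLift_id (p := 𝒴.p) (β.isHomLift' z)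

/-- Triviality at the target of a morphism gives it at the source. -/
theorem app_eq_of_hom (hY : FibCat.IsFibGrpd 𝒴.p) (β : F ⟶ F) {z z' : 𝒳.obj} (a : z ⟶ z')
    (h : β.app z' = 𝟙 _) : β.app z = 𝟙 _ := by
  refine hom_ext_cart hY (F.map a) ?_ ?_
  · rw [map_app, CategoryTheory.Functor.map_id]
  · rw [← β.toNatTrans.naturality a]
    show F.map a ≫ β.app z' = _
    rw [h, Category.comp_id, Category.id_comp]

/-- Triviality on objects from an open substack that maps into one with trivial stabilisers. -/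
theorem app_eq_of_factor {𝒰 𝒱 : AlgSt.Cat S} (hY : FibCat.IsFibGrpd 𝒴.p) {i : 𝒰 ⥤ᵇ 𝒳} {j : 𝒱 ⥤ᵇ 𝒴}
    (hj : AlgSt.IsMono j) (h𝒱 : AlgSt.RepByAlgSp 𝒱) {G : 𝒰 ⥤ᵇ 𝒱}
    (e : BasedFunctor.comp G j ≅ BasedFunctor.comp i F) (β : F ⟶ F) (o : 𝒰.obj) :
    β.app (i.obj o) = 𝟙 _ := by
  obtain ⟨_, _⟩ := full_faithful_of_isMono hY hj
  let eo : j.obj (G.obj o) ≅ F.obj (i.obj o) := ((BasedNatTrans.forgetful _ _).mapIso e).app o
  obtain ⟨τ, hτ⟩ := j.toFunctor.map_surjective (eo.hom ≫ β.app (i.obj o) ≫ eo.inv)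
  have hp : 𝒴.p.map (j.map τ) = 𝟙 _ := by
    rw [hτ, Functor.map_comp, Functor.map_comp, map_app, Category.id_comp, ← Functor.map_comp,
      eo.hom_inv_id, CategoryTheory.Functor.map_id]
  have hp' : 𝒱.p.map τ = 𝟙 _ := by
    have h := Functor.congr_hom j.w τ
    rw [Functor.comp_map, hp] at h
    rw [← cancel_epi (eqToHom (j.w_obj (G.obj o))), ← cancel_mono (eqToHom (j.w_obj (G.obj o)).symm)]
    simpa using h.symm
  have ht : τ = 𝟙 _ := subsingleton_autO_of_iso (isFibSetoid_of_repByAlgSp h𝒱).1 (Iso.refl _)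
    (trivial_stab_of_repByAlgSp h𝒱 _) hp'
  rw [ht, j.toFunctor.map_id] at hτ
  rw [← cancel_epi eo.hom, ← cancel_mono eo.inv]
  simpa using hτ.symm

variable {U : Over S} (x : FibCat.overCat U ⥤ᵇ 𝒳) (F)

/-- The pair of equal functors given by a chart and a 1-morphism. -/
noncomputable abbrev pairOf : FibCat.overCat U ⥤ᵇ FibCat.fp (FibCat.toSelf 𝒴) (FibCat.toSelf 𝒴) :=
  FibCat.fpLift (BasedFunctor.comp x F) (BasedFunctor.comp x F) (selfIso _ _)

variable {F}

/-- The point of the sheaf of isomorphisms given by an endomorphism. -/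
def ptOfEnd (β : F ⟶ F) {W : Over S} (g : W ⟶ U) : Pt (fstC (pairOf F x)) (sndC (pairOf F x)) W :=
  ⟨g, β.app (x.obj (Over.mk g)), BasedNatTrans.isHomLift β (x.w_obj (Over.mk g))⟩

theorem res_ptOfEnd (hY : FibCat.IsFibGrpd 𝒴.p) (β : F ⟶ F) {W : Over S} (g : W ⟶ U) :
    res hY g (ptOfEnd x β (𝟙 U)) = ptOfEnd x β g :=
  res_eq hY ⟨(Category.comp_id g).symm, fun h _ => (β.toNatTrans.naturality (x.map h)).symm⟩

theorem ptOfEnd_inj {β β' : F ⟶ F} {W : Over S} {g : W ⟶ U} (h : ptOfEnd x β g = ptOfEnd x β' g) :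
    β.app (x.obj (Over.mk g)) = β'.app (x.obj (Over.mk g)) := by
  unfold ptOfEnd at h
  simpa using h

theorem ptOfEnd_congr {β β' : F ⟶ F} {W : Over S} {g : W ⟶ U}
    (h : β.app (x.obj (Over.mk g)) = β'.app (x.obj (Over.mk g))) : ptOfEnd x β g = ptOfEnd x β' g := by
  unfold ptOfEnd
  congr 1

variable {K₀ : Precoverage Scheme.{u}}

/-- An endomorphism is trivial on the pullbacks along a chart as soon as it is trivial on a dense set of points. -/
theorem app_chart_eq (h : Stk.IsPrestack (J S) 𝒴)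
    (hsep : AlgSt.RepByAlgSpWith AlgSp.IsSeparatedMor (FibCat.diag (FibCat.toSelf 𝒴)))
    (hunr : AlgSt.IsDMOver 𝒴) (β : F ⟶ F) (D : Set ↥U.left) (hD : Dense D)
    (hβ : ∀ u ∈ D, ∃ (W : Over S) (g : W ⟶ U) (q : ↥W.left), g.left q = u ∧
      β.app (x.obj (Over.mk g)) = 𝟙 _)
    (w : Over U) : β.app (x.obj w) = 𝟙 _ := by
  let y := pairOf F x
  have hd : AlgSt.RepByAlgSp1 (FibCat.diag (FibCat.toSelf 𝒴)) := repByAlgSp1_of_repByAlgSpWith hsep
  let A : Sp S := isomSh h.1 hd (fstC y) (sndC y)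
  let π : A ⟶ (yon S).obj U := isomShπ h.1 hd (fstC y) (sndC y)
  obtain ⟨hA, hπ⟩ := RepOver.property_of_stableBC stableBC_isSeparatedMor (hsep U y) (isomShFun h.1 hd y)
    (isomShFun_isEquivOver h.1 hd y)
  obtain ⟨-, hπ'⟩ := RepOver.property_of_stableBC stableBC_locP (hunr U y) (isomShFun h.1 hd y)
    (isomShFun_isEquivOver h.1 hd y)
  rw [spMapOfOver_isomShFun] at hπ hπ'
  have hop : AlgSp.RepWith @IsOpenImmersion (pullback.diagonal π) :=
    (Groth.Agent.S10262.result (ObjectProperty.homMk π : (⟨A, hA⟩ : Space S) ⟶ (AlgSp.ofScheme S).obj U)).1 hπ'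
  let s (γ : F ⟶ F) : (yon S).obj U ⟶ A := (J S).uliftYonedaEquiv.symm (ULift.up (ptOfEnd x γ (𝟙 U)))
  have hs : ∀ (γ : F ⟶ F) {W : Over S} (g : W ⟶ U),
      (J S).uliftYonedaEquiv ((yon S).map g ≫ s γ) = ULift.up (ptOfEnd x γ g) := fun γ W g => by
    refine ((J S).uliftYonedaEquiv_naturality (s γ) g).symm.trans ?_
    rw [show (J S).uliftYonedaEquiv (s γ) = ULift.up (ptOfEnd x γ (𝟙 U)) from Equiv.apply_symm_apply _ _]
    exact congrArg ULift.up (res_ptOfEnd x h.1 γ g)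
  have hsπ : ∀ γ : F ⟶ F, s γ ≫ π = 𝟙 _ := fun γ => by
    refine (J S).uliftYonedaEquiv.injective ?_
    rw [GrothendieckTopology.uliftYonedaEquiv_comp,
      show (J S).uliftYonedaEquiv (s γ) = ULift.up (ptOfEnd x γ (𝟙 U)) from Equiv.apply_symm_apply _ _]
    rfl
  let k : (yon S).obj U ⟶ pullback π π := pullback.lift (s β) (s (𝟙 F)) ((hsπ β).trans (hsπ (𝟙 F)).symm)
  have hrep := hop.1
  let E := hrep.pullback k
  let v : E ⟶ U := hrep.snd k
  have sq := hrep.isPullback k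
  have hv : IsOpenImmersion v.left := hop.2 _ _ _ sq
  have hv' : IsClosedImmersion v.left := hπ.2 _ _ _ sq
  have hcl : IsClosed (Set.range v.left) := v.left.isClosedEmbedding.isClosed_range
  have hDv : D ⊆ Set.range v.left := by
    intro u hu
    obtain ⟨W, g, q, rfl, hg⟩ := hβ u hu
    have e : (yon S).map g ≫ s β = (yon S).map g ≫ s (𝟙 F) := by
      refine (J S).uliftYonedaEquiv.injective ?_
      rw [hs, hs]
      exact congrArg ULift.up (ptOfEnd_congr x (hg.trans rfl))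
    have w₁ : ((yon S).map g ≫ s β) ≫ pullback.diagonal π = (yon S).map g ≫ k := by
      apply pullback.hom_ext
      · simp [k]
      · simpa [k] using e
    obtain ⟨m, hm⟩ := (yon S).map_surjective (sq.lift _ _ w₁)
    have : m ≫ v = g := by
      refine (yon S).map_injective ?_
      rw [Functor.map_comp, hm]
      exact sq.lift_snd _ _ _
    exact ⟨m.left q, by rw [← this]; rfl⟩
  have hsurj : Set.range v.left = Set.univ :=
    Set.eq_univ_of_univ_subset (hD.closure_eq ▸ hcl.closure_subset_iff.2 hDv)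
  have : IsIso v.left := isIso_of_isOpenImmersion_of_opensRange_eq_top v.left
    (TopologicalSpace.Opens.ext (by simpa using hsurj))
  have : IsIso ((Over.forget S).map v) := this
  have : IsIso v := isIso_of_reflects_iso v (Over.forget S)
  have hk : s β = s (𝟙 F) := by
    have e₁ := congrArg (fun t => t ≫ pullback.fst π π) sq.w
    have e₂ := congrArg (fun t => t ≫ pullback.snd π π) sq.w
    simp only [k, Category.assoc, pullback.diagonal_fst, pullback.diagonal_snd, pullback.lift_fst,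
      pullback.lift_snd, Category.comp_id] at e₁ e₂
    exact (cancel_epi ((yon S).map v)).1 (e₁.symm.trans e₂)
  have key := congrArg (fun t => (J S).uliftYonedaEquiv ((yon S).map w.hom ≫ t)) hk
  simp only [hs] at key
  exact ptOfEnd_inj x (congrArg ULift.down key)

/-- A point of the chart over the image of a substack on which an endomorphism is trivial. -/
theorem exists_fieldPt {𝒰 : AlgSt.Cat S} (hX : FibCat.IsFibGrpd 𝒳.p) (hY : FibCat.IsFibGrpd 𝒴.p) (i : 𝒰 ⥤ᵇ 𝒳)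
    (β : F ⟶ F) (hi : ∀ o, β.app (i.obj o) = 𝟙 _) (u : ↥U.left)
    (hu : AlgSt.Points.ofChart x u ∈ Set.range (AlgSt.Points.map i)) :
    ∃ (W : Over S) (g : W ⟶ U) (q : ↥W.left), g.left q = u ∧ β.app (x.obj (Over.mk g)) = 𝟙 _ := by
  obtain ⟨pt, hpt⟩ := hu
  obtain ⟨p, rfl⟩ := AlgSt.Points.mk_surjective pt
  obtain ⟨r, b, a, -⟩ := (pts_mk_eq_iff hX).1 hpt
  let K := U.left.residueField u
  let ι : Over.mk (U.left.fromSpecResidueField u ≫ U.hom) ⟶ U := Over.homMk (U.left.fromSpecResidueField u) rfl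
  let g₀ : Over.mk r.str ⟶ Over.mk (U.left.fromSpecResidueField u ≫ U.hom) :=
    eqToHom r.lies.symm ≫ 𝒳.p.map a ≫ eqToHom (x.w_obj (Over.mk ι))
  refine ⟨Over.mk r.str, g₀ ≫ ι, IsLocalRing.closedPoint r.K, ?_, ?_⟩
  · show (U.left.fromSpecResidueField u) (g₀.left _) = u
    exact Scheme.fromSpecResidueField_apply _ _
  · let h : (Over.mk (g₀ ≫ ι) : Over U) ⟶ Over.mk ι := Over.homMk g₀ rfl
    have : 𝒳.p.IsHomLift g₀ (x.map h) := overMap_isHomLift x h
    have : 𝒳.p.IsHomLift g₀ a := IsHomLift.of_fac 𝒳.p g₀ a r.lies (x.w_obj (Over.mk ι)) rfl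
    obtain ⟨j, -, -⟩ := exists_iso_of_lifts (hp := hX) g₀ a (x.map h)
    exact app_eq_of_hom hY β j.hom (app_eq_of_hom hY β b (hi p.obj))

/-- Triviality on a chart which is locally essentially surjective gives triviality. -/
theorem app_eq_of_locEssSurj (hX : FibCat.IsFibGrpd 𝒳.p) (h : Stk.IsPrestack (J S) 𝒴) (hx : LocEssSurj x)
    (β : F ⟶ F) (hβ : ∀ w : Over U, β.app (x.obj w) = 𝟙 _) (z : 𝒳.obj) : β.app z = 𝟙 _ := by
  obtain ⟨G, ε, -⟩ := exists_overCat_obj hX z rfl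
  refine app_eq_of_hom h.1 β ε.inv ?_
  obtain ⟨R, hR, H⟩ := hx _ G
  let T := 𝒳.p.obj z
  have he : 𝒴.p.obj (F.obj (G.obj (Over.mk (𝟙 T)))) = T := (F.w_obj _).trans (G.w_obj _)
  refine hom_ext_local h _ _ (by rw [map_app, CategoryTheory.Functor.map_id])
    ((J S).pullback_stable (eqToHom he) hR) fun V f hf => ?_
  obtain ⟨z', ⟨i⟩⟩ := H (f ≫ eqToHom he) hf
  let h' : (AlgSt.overMap (f ≫ eqToHom he)).obj (Over.mk (𝟙 V)) ⟶ Over.mk (𝟙 T) :=
    toId _
  refine ⟨F.obj (G.obj ((AlgSt.overMap (f ≫ eqToHom he)).obj (Over.mk (𝟙 V)))), F.map (G.map h'), ?_, ?_⟩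
  · have : 𝒳.p.IsHomLift h'.left (G.map h') := overMap_isHomLift G h'
    have h2 : 𝒴.p.IsHomLift h'.left (F.map (G.map h')) := F.preserves_isHomLift _ _
    refine IsHomLift.of_fac' 𝒴.p f _ ((F.w_obj _).trans (G.w_obj _)) rfl ?_
    rw [IsHomLift.fac' 𝒴.p h'.left (F.map (G.map h'))]
    simp [h', toId, AlgSt.overMap]
  · rw [← Category.id_comp (F.map (G.map h'))]
    have hh : β.app (G.obj ((AlgSt.overMap (f ≫ eqToHom he)).obj (Over.mk (𝟙 V)))) = 𝟙 _ :=
      app_eq_of_hom h.1 β (((BasedNatTrans.forgetful _ _).mapIso i).app (Over.mk (𝟙 V))).inv (hβ _)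
    rw [Category.assoc, Category.assoc, Category.id_comp, Category.id_comp, Category.comp_id]
    show F.map (G.map h') ≫ β.app _ = _
    erw [β.toNatTrans.naturality (G.map h'), hh, Category.id_comp]

/-- The endomorphism is the identity. -/
theorem endTrans_eq_id {𝒰 𝒱 : AlgSt.Cat S}
    (h𝒳 : AlgSt.IsDM AlgebraicGeometry.Scheme.fppfPrecoverage 𝒳)
    (h𝒴 : AlgSt.IsDM AlgebraicGeometry.Scheme.fppfPrecoverage 𝒴)
    (hΔ : AlgSt.RepByAlgSpWith AlgSp.IsSeparatedMor (FibCat.diag (FibCat.toSelf 𝒴)))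
    {i : 𝒰 ⥤ᵇ 𝒳} (hdense : Dense (Set.range (AlgSt.Points.map i)))
    {j : 𝒱 ⥤ᵇ 𝒴} (hj : AlgSt.IsMono j) (h𝒱 : AlgSt.RepByAlgSp 𝒱)
    {G : 𝒰 ⥤ᵇ 𝒱} (e : BasedFunctor.comp G j ≅ BasedFunctor.comp i F) (α : F ⟶ F) : α = 𝟙 F := by
  have hX := h𝒳.1.isStack.1
  have hY := h𝒴.1.isStack.1
  have hP : Stk.IsPrestack (J S) 𝒴 := Groth.Agent.StkLib.isPrestack_of_isStack h𝒴.1.isStack
  obtain ⟨U, x, hx, hx'⟩ := h𝒳.2
  have hxs : AlgSt.RepByAlgSpWith (LocP @Smooth) x :=
    repByAlgSpWith_mono (fun _ _ _ h => locP_smooth_of_isEtaleMor h) hx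
  have hop : IsOpenMap (AlgSt.Points.ofChart x) :=
    isOpenMap_ofChart hX (repByAlgSpWith_flat_of_smooth hxs) (repByAlgSpWith_lfp_of_smooth hxs)
  have hw : ∀ w : Over U, α.app (x.obj w) = 𝟙 _ :=
    app_chart_eq x hP hΔ (isDMOver_of_isDM h𝒴) α _ (hdense.preimage hop) fun u hu =>
      exists_fieldPt x hX hY i α (app_eq_of_factor hY hj h𝒱 e α) u hu
  refine BasedNatTrans.homCategory.ext _ _ (NatTrans.ext (funext fun z => ?_))
  exact app_eq_of_locEssSurj x hX hP (locEssSurj_of_atlas hxs hx') α hw z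

end Groth.Agent.AlgStLib.EndTrans
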