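import Groth.Agent.StkLib.Sieves

/-!
# Stacks via colimit cones over sieves
-/

set_option autoImplicit false
set_option backward.isDefEq.respectTransparency false
set_option backward.isDefEq.respectTransparency.types false

universe v₄ u₄ v u

open CategoryTheory CategoryTheory.Functor Groth.Agent.FibBase Groth.Agent.StkLib

namespace Groth.Agent.AlgStLib

variable {C : Type u} [Category.{v} C] {𝒳 : BasedCategory.{v₄, u₄} C} {U : C} {R : Sieve U}

/-- A cone on a functor out of a sieve: compatible lifts of the arrows of the sieve into one object. -/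
structure SieveCone (H : Stk.sieveCat R ⥤ᵇ 𝒳) where
  pt : 𝒳.obj
  obj_pt : 𝒳.p.obj pt = U
  e : ∀ a, H.obj a ⟶ pt
  lift : ∀ a : (Stk.sieveCat R).obj, 𝒳.p.IsHomLift a.obj.hom (e a)
  nat : ∀ {a b : (Stk.sieveCat R).obj} (g : a ⟶ b), H.map g ≫ e b = e a

/-- Morphisms out of the point of a cone are determined by, and glue from, their restrictions. -/
def SieveCone.IsUniversal {H : Stk.sieveCat R ⥤ᵇ 𝒳} (c : SieveCone H) : Prop :=
  ∀ c' : SieveCone H, ∃! φ : c.pt ⟶ c'.pt, 𝒳.p.IsHomLift (𝟙 U) φ ∧ ∀ a, c.e a ≫ φ = c'.e a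

/-- The cone given by a functor out of the slice. -/
def coneOfOver (G : FibCat.overCat U ⥤ᵇ 𝒳) : SieveCone ((Stk.resSieve R 𝒳).obj G) where
  pt := G.obj (Over.mk (𝟙 U))
  obj_pt := G.w_obj _
  e a := G.map (toId a.obj)
  lift a := overMap_isHomLift G (toId a.obj)
  nat {a b} g := by
    show G.map g.hom ≫ G.map (toId b.obj) = _
    rw [← G.toFunctor.map_comp]
    exact congrArg G.map (Over.OverMorphism.ext (Over.w g.hom))

/-- Pushing a cone along a transformation. -/
def SieveCone.precomp {H H' : Stk.sieveCat R ⥤ᵇ 𝒳} (γ : H ⟶ H') (c : SieveCone H') : SieveCone H where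
  pt := c.pt
  obj_pt := c.obj_pt
  e a := γ.toNatTrans.app a ≫ c.e a
  lift a := by
    have := c.lift a
    have : 𝒳.p.IsHomLift (𝟙 a.obj.left) (γ.toNatTrans.app a) := γ.isHomLift' a
    exact IsHomLift.comp_lift_id_left' 𝒳.p a.obj.left (γ.toNatTrans.app a) a.obj.hom (c.e a)
  nat {a b} g := by
    rw [← Category.assoc, γ.toNatTrans.naturality, Category.assoc, c.nat]

variable (h : FibCat.IsFibGrpd 𝒳.p)
  (huniv : ∀ {H : Stk.sieveCat R ⥤ᵇ 𝒳} (c : SieveCone H), c.IsUniversal)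

include h huniv

/-- Universality of cones gives the prestack condition. -/
theorem isPrestackFor_of_universal : Stk.IsPrestackFor R 𝒳 := by
  refine ⟨⟨fun {G G'} γ => ?_⟩, ⟨fun {G G'} {α β} hαβ => ?_⟩⟩
  · let c := coneOfOver (R := R) G
    let c' := (coneOfOver (R := R) G').precomp γ
    obtain ⟨φ, ⟨hφ, hφe⟩, -⟩ := huniv c c'
    refine ⟨homOfEval (preserves_of_isFibGrpd h G') φ hφ, hext fun a => ?_⟩
    have : 𝒳.p.IsHomLift a.obj.hom (G'.map (toId a.obj)) := overMap_isHomLift G' (toId a.obj)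
    have h1 : 𝒳.p.IsHomLift (𝟙 a.obj.left) ((homOfEval (preserves_of_isFibGrpd h G') φ hφ).toNatTrans.app a.obj) :=
      BasedNatTrans.isHomLift _ rfl
    have h2 : 𝒳.p.IsHomLift (𝟙 a.obj.left) (γ.toNatTrans.app a) := γ.isHomLift' a
    have := isSC (hp := h) a.obj.hom (G'.map (toId a.obj))
    show (homOfEval (preserves_of_isFibGrpd h G') φ hφ).toNatTrans.app a.obj = γ.toNatTrans.app a
    refine @IsStronglyCartesian.ext _ _ _ _ 𝒳.p _ _ _ _ a.obj.hom (G'.map (toId a.obj)) this _ _ (𝟙 a.obj.left) _ _ h1 h2 ?_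
    refine ((homOfEval (preserves_of_isFibGrpd h G') φ hφ).toNatTrans.naturality (toId a.obj)).symm.trans ?_
    rw [homOfEval_app]
    exact hφe a
  · let c := coneOfOver (R := R) G
    let c' := (coneOfOver (R := R) G').precomp ((Stk.resSieve R 𝒳).map α)
    obtain ⟨φ, -, hu⟩ := huniv c c'
    have hid : α.toNatTrans.app (Over.mk (𝟙 U)) = β.toNatTrans.app (Over.mk (𝟙 U)) := by
      refine (hu _ ⟨BasedNatTrans.isHomLift _ rfl, fun a => ?_⟩).trans
        (hu _ ⟨BasedNatTrans.isHomLift _ rfl, fun a => ?_⟩).symm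
      · exact α.toNatTrans.naturality (toId a.obj)
      · refine (β.toNatTrans.naturality (toId a.obj)).trans ?_
        exact congrArg (· ≫ G'.map (toId a.obj))
          (congrArg (fun t => t.toNatTrans.app a) hαβ).symm
    refine hext fun a => ?_
    have : 𝒳.p.IsHomLift a.hom (G'.map (toId a)) := overMap_isHomLift G' (toId a)
    have h1 : 𝒳.p.IsHomLift (𝟙 a.left) (α.toNatTrans.app a) := BasedNatTrans.isHomLift _ rfl
    have h2 : 𝒳.p.IsHomLift (𝟙 a.left) (β.toNatTrans.app a) := BasedNatTrans.isHomLift _ rfl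
    have := isSC (hp := h) a.hom (G'.map (toId a))
    refine IsStronglyCartesian.ext 𝒳.p a.hom (G'.map (toId a)) (𝟙 a.left) ?_
    rw [← α.toNatTrans.naturality, ← β.toNatTrans.naturality, hid]

/-- Universality and existence of cones give the stack condition. -/
theorem isStackFor_of_cones (hex : ∀ H : Stk.sieveCat R ⥤ᵇ 𝒳, Nonempty (SieveCone H)) :
    Stk.IsStackFor R 𝒳 := by
  obtain ⟨_, _⟩ := isPrestackFor_of_universal h huniv
  refine { essSurj := ⟨fun H => ?_⟩ }
  obtain ⟨c⟩ := hex H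
  obtain ⟨G, e, he⟩ := exists_ofObj h c.pt c.obj_pt
  have hl : ∀ a : (Stk.sieveCat R).obj, 𝒳.p.IsHomLift a.obj.hom (G.map (toId a.obj) ≫ e.hom) := fun a => by
    have : 𝒳.p.IsHomLift a.obj.hom (G.map (toId a.obj)) := overMap_isHomLift G (toId a.obj)
    exact IsHomLift.comp_lift_id_right' 𝒳.p a.obj.hom (G.map (toId a.obj)) U e.hom
  have hη : ∀ a : (Stk.sieveCat R).obj, ∃ η : G.obj a.obj ≅ H.obj a, 𝒳.p.IsHomLift (𝟙 a.obj.left) η.hom ∧
      η.hom ≫ c.e a = G.map (toId a.obj) ≫ e.hom := fun a =>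
    haveI := hl a
    haveI := c.lift a
    exists_iso_of_lifts (hp := h) a.obj.hom _ _
  choose η hη1 hη2 using hη
  refine ⟨G, ⟨BasedNatIso.mkNatIso (NatIso.ofComponents η fun {a b} g => ?_) fun a => hη1 a⟩⟩
  show G.map g.hom ≫ (η b).hom = (η a).hom ≫ H.map g
  have := hη1 a
  have := hη1 b
  have := c.lift b
  have hg1 : 𝒳.p.IsHomLift g.hom.left (G.map g.hom) := overMap_isHomLift G g.hom
  have hg0 : (Stk.sieveCat R).p.IsHomLift g.hom.left g := IsHomLift.map (Stk.sieveCat R).p g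
  have hg2 : 𝒳.p.IsHomLift g.hom.left (H.map g) := H.preserves_isHomLift g.hom.left g
  have : 𝒳.p.IsHomLift g.hom.left (G.map g.hom ≫ (η b).hom) :=
    IsHomLift.comp_lift_id_right' 𝒳.p g.hom.left (G.map g.hom) b.obj.left (η b).hom
  have : 𝒳.p.IsHomLift g.hom.left ((η a).hom ≫ H.map g) :=
    IsHomLift.comp_lift_id_left' 𝒳.p a.obj.left (η a).hom g.hom.left (H.map g)
  have := isSC (hp := h) b.obj.hom (c.e b)
  refine IsStronglyCartesian.ext 𝒳.p b.obj.hom (c.e b) g.hom.left ?_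
  rw [Category.assoc, Category.assoc, hη2, c.nat, hη2, ← Category.assoc, ← G.toFunctor.map_comp]
  exact congrArg (· ≫ e.hom) (congrArg G.map (Over.OverMorphism.ext (Over.w g.hom)))

end Groth.Agent.AlgStLib
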