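import Groth.Prelude.Def_AlgSt2
import Groth.Agent.AlgStLib.StackCrit
import Groth.Agent.GerbLib.Glue

/-!
# Extensions of descent data along morphisms
-/

set_option backward.isDefEq.respectTransparency false
set_option backward.isDefEq.respectTransparency.types false

universe u

open CategoryTheory CategoryTheory.Functor AlgebraicGeometry AlgSp
open Groth.Agent.FibBase Groth.Agent.StkLib Groth.Agent.GerbLib

namespace Groth.Agent.AlgStLib.EtExt

variable {S : Scheme.{u}} {𝒳 : AlgSt.Cat S} {T : Over S} {R : Sieve T} (H : Stk.sieveCat R ⥤ᵇ 𝒳)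

/-- A compatible family of arrows from a descent datum on `T` to an object over a scheme over `T`. -/
structure Fam {W : Over S} (b : W ⟶ T) (pt : 𝒳.obj) where
  e : ∀ (a : (Stk.sieveCat R).obj) (g : a.obj.left ⟶ W), g ≫ b = a.obj.hom → (H.obj a ⟶ pt)
  lift : ∀ a g w, 𝒳.p.IsHomLift g (e a g w)
  nat : ∀ {a a' : (Stk.sieveCat R).obj} (h : a ⟶ a') (g' : a'.obj.left ⟶ W) (w' : g' ≫ b = a'.obj.hom)
    (w : (h.hom.left ≫ g') ≫ b = a.obj.hom), H.map h ≫ e a' g' w' = e a (h.hom.left ≫ g') w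

variable {H}

theorem map_lift {a a' : (Stk.sieveCat R).obj} (h : a ⟶ a') : 𝒳.p.IsHomLift h.hom.left (H.map h) :=
  have : (Stk.sieveCat R).p.IsHomLift h.hom.left h := IsHomLift.map (Stk.sieveCat R).p h
  H.preserves_isHomLift h.hom.left h

namespace Fam

variable {W : Over S} {b : W ⟶ T} {pt : 𝒳.obj} (c : Fam H b pt)

theorem e_congr {a : (Stk.sieveCat R).obj} {g g' : a.obj.left ⟶ W} (h : g = g') (w : g ≫ b = a.obj.hom)
    (w' : g' ≫ b = a.obj.hom) : c.e a g w = c.e a g' w' := by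
  subst h; rfl

/-- A cartesian factorisation of a member of a family. -/
theorem exists_comap (hY : FibCat.IsFibGrpd 𝒳.p) {W' : Over S} (k : W' ⟶ W) {b' : W' ⟶ T} (hb : k ≫ b = b')
    {pt' : 𝒳.obj} (χ : pt' ⟶ pt) (hχ : 𝒳.p.IsHomLift k χ) :
    ∃ c' : Fam H b' pt', ∀ a g w w', c'.e a g w' ≫ χ = c.e a (g ≫ k) w := by
  have := isSC (hp := hY) k χ
  have hex : ∀ a g, g ≫ b' = a.obj.hom → ∃ e' : H.obj a ⟶ pt', 𝒳.p.IsHomLift g e' ∧
      ∀ w, e' ≫ χ = c.e a (g ≫ k) w := fun a g w' => by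
    have w : (g ≫ k) ≫ b = a.obj.hom := by rw [Category.assoc, hb, w']
    have := c.lift a (g ≫ k) w
    exact ⟨IsStronglyCartesian.map 𝒳.p k χ (rfl : g ≫ k = g ≫ k) (c.e a (g ≫ k) w), inferInstance,
      fun _ => IsStronglyCartesian.fac _ _ _ _ _⟩
  choose e' he1 he2 using hex
  refine ⟨⟨e', he1, fun {a a'} h g' w' w => ?_⟩, fun a g w w' => he2 a g w' w⟩
  have := map_lift (H := H) h
  have := he1 a' g' w'
  have := he1 a (h.hom.left ≫ g') w
  have hw' : (g' ≫ k) ≫ b = a'.obj.hom := by rw [Category.assoc, hb, w']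
  have hw : ((h.hom.left ≫ g') ≫ k) ≫ b = a.obj.hom := by rw [Category.assoc, hb, w]
  refine IsStronglyCartesian.ext 𝒳.p k χ (h.hom.left ≫ g') ?_
  rw [Category.assoc, he2 a' g' w' hw', he2 a _ w hw,
    c.nat h (g' ≫ k) hw' (by rw [← Category.assoc]; exact hw)]
  exact c.e_congr (Category.assoc _ _ _).symm _ _

/-- Morphisms of families glue uniquely. -/
theorem glue (hP : Stk.IsPrestack (J S) 𝒳) (hR : R ∈ J S T) {W' : Over S} {b' : W' ⟶ T} {pt' : 𝒳.obj}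
    (hpt : 𝒳.p.obj pt = W) (hpt' : 𝒳.p.obj pt' = W') (c' : Fam H b' pt') (m : W' ⟶ W) (hm : m ≫ b = b') :
    ∃! φ : pt' ⟶ pt, 𝒳.p.IsHomLift m φ ∧ ∀ a g w w', c'.e a g w' ≫ φ = c.e a (g ≫ m) w := by
  have hY := hP.1
  let Rs : Sieve (𝒳.p.obj pt') := (R.pullback b').pullback (eqToHom hpt')
  have hRs : Rs ∈ J S (𝒳.p.obj pt') := (J S).pullback_stable _ ((J S).pullback_stable _ hR)
  let G : ∀ {y : 𝒳.obj} (n : y ⟶ pt'), 𝒳.p.obj y ⟶ W' := fun n => 𝒳.p.map n ≫ eqToHom hpt'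
  let A : ∀ {y : 𝒳.obj} (n : y ⟶ pt'), Rs (𝒳.p.map n) → (Stk.sieveCat R).obj := fun n hn => sob (G n ≫ b') hn
  have hm' : ∀ {y : 𝒳.obj} (n : y ⟶ pt') (hn : Rs (𝒳.p.map n)), (G n ≫ m) ≫ b = (A n hn).obj.hom :=
    fun n hn => by rw [Category.assoc, hm]; rfl
  have hj : ∀ {y : 𝒳.obj} (n : y ⟶ pt') (hn : Rs (𝒳.p.map n)),
      ∃ j : y ⟶ H.obj (A n hn), 𝒳.p.map j = eqToHom (H.w_obj (A n hn)).symm ∧
        j ≫ c'.e (A n hn) (G n) rfl = n := fun {y} n hn => by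
    have := c'.lift (A n hn) (G n) rfl
    refine exists_factor hY _ n _ ?_
    rw [IsHomLift.fac' 𝒳.p (G n) (c'.e (A n hn) (G n) rfl)]
    simp [G]
  choose j hj1 hj2 using @hj
  let γ : ∀ {y : 𝒳.obj} (n : y ⟶ pt'), Rs (𝒳.p.map n) → (y ⟶ pt) := fun n hn =>
    j n hn ≫ c.e (A n hn) (G n ≫ m) (hm' n hn)
  obtain ⟨φ, hφ1, hφ2⟩ := exists_glue hP (eqToHom hpt' ≫ m ≫ eqToHom hpt.symm) Rs hRs γ
    (fun {y} n hn => by
      have := c.lift (A n hn) (G n ≫ m) (hm' n hn)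
      show 𝒳.p.map (_ ≫ _) = _
      rw [Functor.map_comp, hj1, IsHomLift.fac' 𝒳.p (G n ≫ m) (c.e (A n hn) (G n ≫ m) (hm' n hn))]
      simp [G])
    (fun {y' y} l n hn hn' => by
      have hG : G (l ≫ n) = 𝒳.p.map l ≫ G n := by simp [G]
      let h : A (l ≫ n) hn' ⟶ A n hn := ObjectProperty.homMk (Over.homMk (𝒳.p.map l)
        (show 𝒳.p.map l ≫ G n ≫ b' = G (l ≫ n) ≫ b' by simp [hG]))
      have hjh : j (l ≫ n) hn' ≫ H.map h = l ≫ j n hn := by
        refine hom_ext_cart hY (c'.e (A n hn) (G n) rfl) ?_ ?_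
        · have := map_lift (H := H) h
          rw [Functor.map_comp, Functor.map_comp, hj1, hj1, IsHomLift.fac' 𝒳.p h.hom.left (H.map h)]
          simp [h]
        · have hGl : h.hom.left ≫ G n = G (l ≫ n) := hG.symm
          calc (j (l ≫ n) hn' ≫ H.map h) ≫ c'.e (A n hn) (G n) rfl
              = j (l ≫ n) hn' ≫ c'.e (A (l ≫ n) hn') (h.hom.left ≫ G n) (congrArg (· ≫ b') hGl) :=
                (Category.assoc _ _ _).trans (congrArg (_ ≫ ·) (c'.nat h (G n) rfl _))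
            _ = j (l ≫ n) hn' ≫ c'.e (A (l ≫ n) hn') (G (l ≫ n)) rfl := congrArg (_ ≫ ·) (c'.e_congr hGl _ rfl)
            _ = l ≫ n := hj2 _ _
            _ = l ≫ j n hn ≫ c'.e (A n hn) (G n) rfl := congrArg (l ≫ ·) (hj2 n hn).symm
            _ = (l ≫ j n hn) ≫ c'.e (A n hn) (G n) rfl := (Category.assoc _ _ _).symm
      show j (l ≫ n) hn' ≫ _ = l ≫ j n hn ≫ _
      have w : (h.hom.left ≫ G n ≫ m) ≫ b = (A (l ≫ n) hn').obj.hom := by
        have := hm' (l ≫ n) hn'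
        rw [hG, Category.assoc] at this
        exact this
      rw [← reassoc_of% hjh, c.nat h (G n ≫ m) (hm' n hn) w]
      exact congrArg (_ ≫ ·) (c.e_congr (by rw [hG, Category.assoc]; rfl) _ _))
  have hφl : 𝒳.p.IsHomLift m φ := isHomLift_of_map hpt' hpt hφ1
  have hprop : ∀ a g w w', c'.e a g w' ≫ φ = c.e a (g ≫ m) w := fun a g w w' => by
    let n := c'.e a g w'
    have := c'.lift a g w'
    have hGn : G n = eqToHom (H.w_obj a) ≫ g := by
      show 𝒳.p.map n ≫ _ = _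
      rw [IsHomLift.fac' 𝒳.p g n]; simp
    have hn : Rs (𝒳.p.map n) := by
      show R (G n ≫ b')
      rw [hGn, Category.assoc, w']
      exact R.downward_closed a.property _
    let h : A n hn ⟶ a := ObjectProperty.homMk (Over.homMk (eqToHom (H.w_obj a))
      (show eqToHom _ ≫ a.obj.hom = G n ≫ b' by rw [hGn, Category.assoc, w']))
    have hjh : j n hn ≫ H.map h = 𝟙 _ := by
      refine hom_ext_cart hY n ?_ ?_
      · have := map_lift (H := H) h
        rw [Functor.map_comp, hj1, IsHomLift.fac' 𝒳.p h.hom.left (H.map h)]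
        simp [h]
      · rw [Category.assoc, Category.id_comp]
        show j n hn ≫ H.map h ≫ c'.e a g w' = n
        rw [c'.nat h g w' (congrArg (· ≫ b') hGn).symm, c'.e_congr hGn.symm _ rfl, hj2]
    have w₂ : (h.hom.left ≫ g ≫ m) ≫ b = (A n hn).obj.hom := by
      have := hm' n hn
      rw [hGn, Category.assoc] at this
      exact this
    rw [hφ2 n hn]
    show j n hn ≫ c.e (A n hn) (G n ≫ m) _ = _
    rw [c.e_congr (show G n ≫ m = h.hom.left ≫ g ≫ m by rw [hGn, Category.assoc]; rfl) _ w₂,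
      ← c.nat h (g ≫ m) w w₂, reassoc_of% hjh]
  refine ⟨φ, ⟨hφl, hprop⟩, fun φ' ⟨hl', hp'⟩ => ?_⟩
  refine hom_ext_local hP φ' φ ?_ hRs fun V f hf => ?_
  · rw [IsHomLift.fac' 𝒳.p m φ', IsHomLift.fac' 𝒳.p m φ]
  · let a : (Stk.sieveCat R).obj := sob ((f ≫ eqToHom hpt') ≫ b') hf
    have := c'.lift a (f ≫ eqToHom hpt') rfl
    have w : ((f ≫ eqToHom hpt') ≫ m) ≫ b = a.obj.hom := by rw [Category.assoc, hm]; rfl
    refine ⟨H.obj a, c'.e a (f ≫ eqToHom hpt') rfl, ?_, (hp' a _ w rfl).trans (hprop a _ w rfl).symm⟩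
    exact isHomLift_of_map (H.w_obj a) rfl (by
      rw [IsHomLift.fac' 𝒳.p (f ≫ eqToHom hpt') (c'.e a (f ≫ eqToHom hpt') rfl)]; simp)

end Fam

end Groth.Agent.AlgStLib.EtExt
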