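import Groth.Agent.AlgStLib.Descent
import Groth.Agent.AlgSpLib.EtLocalInst

/-!
# Locally essentially surjective functors: base change, composition, fppf surjections
-/

set_option backward.isDefEq.respectTransparency false
set_option backward.isDefEq.respectTransparency.types false

universe u

open CategoryTheory CategoryTheory.Functor CategoryTheory.Limits AlgebraicGeometry Opposite AlgSp

namespace Groth.Agent.AlgStLib

open Groth.Agent.FibBase Groth.Agent.AlgSpLib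

variable {S : Scheme.{u}} {𝒳 𝒴 𝒵 : AlgSt.Cat S}

theorem locEssSurj_fpSnd {g : 𝒵 ⥤ᵇ 𝒴} (hg : LocEssSurj g) (f : 𝒳 ⥤ᵇ 𝒴) : LocEssSurj (FibCat.fpSnd g f) :=
  fun U x => by
    obtain ⟨R, hR, hz⟩ := hg U (BasedFunctor.comp x f)
    refine ⟨R, hR, fun V h hh => ?_⟩
    obtain ⟨z, ⟨i⟩⟩ := hz h hh
    exact ⟨FibCat.fpLift z (BasedFunctor.comp (AlgSt.overMap h) x) i, ⟨Iso.refl _⟩⟩

theorem locEssSurj_fpFst {g : 𝒵 ⥤ᵇ 𝒴} (hg : LocEssSurj g) (f : 𝒳 ⥤ᵇ 𝒴) : LocEssSurj (FibCat.fpFst f g) :=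
  fun U x => by
    obtain ⟨R, hR, hz⟩ := hg U (BasedFunctor.comp x f)
    refine ⟨R, hR, fun V h hh => ?_⟩
    obtain ⟨z, ⟨i⟩⟩ := hz h hh
    exact ⟨FibCat.fpLift (BasedFunctor.comp (AlgSt.overMap h) x) z i.symm, ⟨Iso.refl _⟩⟩

/-- `overMap` is compatible with composition. -/
def overMapCompIso {U V W : Over S} (a : W ⟶ V) (v : V ⟶ U) :
    BasedFunctor.comp (AlgSt.overMap a) (AlgSt.overMap v) ≅ AlgSt.overMap (a ≫ v) :=
  overIso _ _ fun x => by
    show 𝟙 x.left ≫ (x.hom ≫ a ≫ v) = (x.hom ≫ a) ≫ v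
    simp

theorem locEssSurj_comp {𝒲 : AlgSt.Cat S} {g₁ : 𝒲 ⥤ᵇ 𝒵} {g₂ : 𝒵 ⥤ᵇ 𝒴} (h₁ : LocEssSurj g₁)
    (h₂ : LocEssSurj g₂) : LocEssSurj (BasedFunctor.comp g₁ g₂) := fun U y => by
  obtain ⟨R, hR, hz⟩ := h₂ U y
  choose z hzi using hz
  choose R' hR' hw using fun {V : Over S} {h : V ⟶ U} (hh : R.arrows h) => h₁ V (z h hh)
  refine ⟨Sieve.bind R.arrows fun V h hh => R' hh,
    GrothendieckTopology.bind_covering _ hR fun V h hh => hR' hh, ?_⟩
  rintro W _ ⟨V, a, v, hv, ha, rfl⟩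
  obtain ⟨w, ⟨j⟩⟩ := hw hv a ha
  obtain ⟨i⟩ := hzi v hv
  exact ⟨w, ⟨whiskerRightIso j g₂ ≪≫ whiskerLeftIso (AlgSt.overMap a) i ≪≫
    whiskerRightIso (overMapCompIso a v) y⟩⟩

theorem mem_J_of_fppf {U V : Over S} (w : V ⟶ U) (hf : Flat w.left) (hp : LocallyOfFinitePresentation w.left)
    (hs : Function.Surjective w.left) :
    Sieve.generate (Presieve.singleton w) ∈ QuotSh.J Scheme.fppfPrecoverage S U := by
  rw [GrothendieckTopology.mem_over_iff]
  have hm : Presieve.ofArrows (fun _ : PUnit.{u+1} => V.left) (fun _ => w.left) ∈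
      Scheme.precoverage (@Flat ⊓ @LocallyOfFinitePresentation) U.left :=
    (Scheme.ofArrows_mem_precoverage_iff _).2 ⟨fun x => ⟨⟨⟩, hs x⟩, fun _ => ⟨hf, hp⟩⟩
  refine GrothendieckTopology.superset_covering _ ?_ (Precoverage.generate_mem_toGrothendieck hm)
  rintro Z _ ⟨Y, a, _, ⟨i⟩, rfl⟩
  rw [Sieve.overEquiv_iff]
  exact ⟨V, Over.homMk a (by simp), w, Presieve.singleton_self w, by ext; simp⟩

theorem stableBC_isSurjectiveMor : StableBC (IsSurjectiveMor (S := S)) :=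
  fun _ _ _ _ _ _ _ _ _ _ _ _ sq h => surjective_map_of_isPullback sq h

/-- An fppf surjection representable by algebraic spaces is locally essentially surjective. -/
theorem locEssSurj_of_repByAlgSp {g : 𝒵 ⥤ᵇ 𝒴} (h₁ : AlgSt.RepByAlgSpWith (LocP @Flat) g)
    (h₂ : AlgSt.RepByAlgSpWith (LocP @LocallyOfFinitePresentation) g)
    (h₃ : AlgSt.RepByAlgSpWith IsSurjectiveMor g) : LocEssSurj g := fun U y => by
  obtain ⟨F, e, he, hfl⟩ := h₁ U y
  have hfp := (RepOver.property_of_stableBC stableBC_locP (h₂ U y) e he).2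
  have hsu := (RepOver.property_of_stableBC stableBC_isSurjectiveMor (h₃ U y) e he).2
  let a := AlgSt.spMapOfOver (BasedFunctor.comp e (FibCat.fpFst y g))
  obtain ⟨V, p, hp, hp'⟩ := F.property.atlas
  obtain ⟨w, hw⟩ := (yon S).map_surjective (p ≫ a)
  have hV := IsAlgSpace.yon_obj (S := S) V
  have hU := IsAlgSpace.yon_obj (S := S) U
  have hp0 := locP_of_repWith (P := @Etale) hp
  have hwf : Flat w.left := locP_yon_map (P := @Flat) (hw ▸ locP_comp hV F.property hU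
    (locP_mono (Q := @Flat) (fun _ _ f (_ : Etale f) => inferInstanceAs (Flat f)) hp0) hfl)
  have hwp : LocallyOfFinitePresentation w.left := locP_yon_map (P := @LocallyOfFinitePresentation)
    (hw ▸ locP_comp hV F.property hU
      (locP_mono (Q := @LocallyOfFinitePresentation)
        (fun _ _ f (_ : Etale f) => inferInstanceAs (LocallyOfFinitePresentation f)) hp0) hfp)
  have hws : Function.Surjective w.left := fun x => by
    obtain ⟨x₁, h1⟩ := hsu (Points.schemeHomeo U x)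
    obtain ⟨x₂, h2⟩ := surjective_map_of_repWith hp' x₁
    obtain ⟨t, rfl⟩ := (Points.schemeHomeo V).surjective x₂
    refine ⟨t, (Points.schemeHomeo U).injective ?_⟩
    rw [← h1, ← h2, ← Points.map_comp, ← hw, Points.map_yon_map_eq]
    simp
  refine ⟨_, mem_J_of_fppf w hwf hwp hws, ?_⟩
  rintro W h ⟨Y, t, _, ⟨⟩, rfl⟩
  let E : FibCat.overCat V ⥤ᵇ FibCat.fp y g := BasedFunctor.comp (overOfMap p) e
  let j : BasedFunctor.comp E (FibCat.fpFst y g) ≅ AlgSt.overMap w :=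
    whiskerLeftIso (overOfMap p) (isoSpMapOfOver (BasedFunctor.comp e (FibCat.fpFst y g))) ≪≫
      overIso _ _ (fun x => by
        have : ((yon S).map w).hom.app (op x.left) ⟨x.hom⟩ = a.hom.app (op x.left) (p.hom.app (op x.left) ⟨x.hom⟩) := by
          rw [hw]; rfl
        have h' : (⟨x.hom ≫ w⟩ : ULift (x.left ⟶ U)) = _ := this
        show 𝟙 x.left ≫ (x.hom ≫ w) = (a.hom.app (op x.left) (p.hom.app (op x.left) ⟨x.hom⟩)).down
        rw [← h', Category.id_comp])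
  refine ⟨BasedFunctor.comp (AlgSt.overMap t) (BasedFunctor.comp E (FibCat.fpSnd y g)), ⟨?_⟩⟩
  exact (whiskerLeftIso (BasedFunctor.comp (AlgSt.overMap t) E) (FibCat.fpIso y g)).symm ≪≫
    whiskerRightIso (whiskerLeftIso (AlgSt.overMap t) j ≪≫ overMapCompIso t w) y

end Groth.Agent.AlgStLib
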