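import Groth.Agent.AlgStLib.Descent
import Groth.Agent.AlgStLib.LocEss
import Groth.Agent.AlgStLib.Faithful
import Groth.Agent.AlgSpDec.SmoothSheafCover
import Groth.Agent.StkLib.Fp

/-! # A stack with a smooth surjective cover by an algebraic stack -/

set_option backward.isDefEq.respectTransparency false
set_option backward.isDefEq.respectTransparency.types false

universe u

open CategoryTheory CategoryTheory.Functor CategoryTheory.Limits AlgebraicGeometry Opposite AlgSp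
open Groth.Agent.FibBase Groth.Agent.AlgSpLib

namespace Groth.Agent.AlgStLib

variable {S : Scheme.{u}} {𝒳 𝒴 𝒵 𝒰 : AlgSt.Cat S}

local notation "Jet" => QuotSh.J Scheme.etalePrecoverage S

theorem etale_toGrothendieck_le_fppf :
    (Scheme.etalePrecoverage : Precoverage Scheme.{u}).toGrothendieck ≤ Scheme.fppfPrecoverage.toGrothendieck := by
  rw [Precoverage.toGrothendieck_eq_sInf]
  refine sInf_le fun X R hR => Precoverage.generate_mem_toGrothendieck ?_
  exact Scheme.precoverage_mono (P := @Etale) (Q := @Flat ⊓ @LocallyOfFinitePresentation)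
    (fun _ _ f (_ : Etale f) => ⟨inferInstanceAs (Flat f), inferInstanceAs (LocallyOfFinitePresentation f)⟩) X hR

theorem jEtale_le_jFppf : Jet ≤ J S := fun _ R hR => by
  rw [GrothendieckTopology.mem_over_iff] at hR ⊢
  exact etale_toGrothendieck_le_fppf _ hR

theorem isStack_of_le {C : Type*} [Category C] {J J' : GrothendieckTopology C} (hle : J ≤ J')
    {𝒳 : BasedCategory C} (h : Stk.IsStack J' 𝒳) : Stk.IsStack J 𝒳 :=
  ⟨h.1, fun _ R hR => h.2 R (hle _ hR)⟩

theorem isStack_etale_of_fppf (h : Stk.IsStack (J S) 𝒳) : Stk.IsStack Jet 𝒳 :=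
  isStack_of_le jEtale_le_jFppf h

/-- An etale sheaf over a scheme is an algebraic space once its base change along a smooth surjection is. -/
theorem isAlgSpaceP_of_smooth_baseChange {F : PSp S} (hF : Presheaf.IsSheaf Jet F) {U V : Over S} (v : V ⟶ U)
    [Smooth v.left] [Surjective v.left] (a : F ⟶ (pyon S).obj U)
    (h : IsAlgSpaceP (pullback a ((pyon S).map v))) : IsAlgSpaceP F := by
  let U' : Sp S := ⟨pullback a ((pyon S).map v), h.1⟩
  refine Groth.Agent.AlgSpDec.isAlgSpaceP_of_smooth_sheaf_space hF (U := U') h.2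
    (p := pullback.fst a ((pyon S).map v)) ?_
  intro T ξ F' fst snd sq
  have sq₁ := sq.paste_horiz (IsPullback.of_hasPullback a ((pyon S).map v)).flip
  obtain ⟨g, hg⟩ := (pyon S).map_surjective (ξ ≫ a)
  rw [← hg] at sq₁
  have sq₂ := (IsPullback.of_hasPullback v g).map (pyon S)
  let φ := sq₁.isoIsPullback _ _ sq₂
  have hW : IsAlgSpaceP ((pyon S).obj (pullback v g)) :=
    (isAlgSpaceP_obj_iff _).2 (IsAlgSpace.yon_obj (S := S) (pullback v g))
  obtain ⟨h', hA⟩ := hW.of_iso φ.symm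
  let k : (⟨F', h'⟩ : Sp S) ⟶ (yon S).obj (pullback v g) := ObjectProperty.homMk φ.hom
  let j : (yon S).obj (pullback v g) ⟶ (⟨F', h'⟩ : Sp S) := ObjectProperty.homMk φ.inv
  have : IsIso k := ⟨j, ObjectProperty.hom_ext _ φ.hom_inv_id, ObjectProperty.hom_ext _ φ.inv_hom_id⟩
  have hsnd : (ObjectProperty.homMk snd : (⟨F', h'⟩ : Sp S) ⟶ (yon S).obj T) =
      k ≫ (yon S).map (pullback.snd v g) :=
    ObjectProperty.hom_ext _ (IsPullback.isoIsPullback_hom_snd _ _ sq₁ sq₂).symm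
  have hbc := (IsPullback.of_hasPullback v g).map (Over.forget S)
  have hs : Smooth (pullback.snd v g).left := MorphismProperty.of_isPullback hbc (inferInstanceAs (Smooth v.left))
  have hj : Surjective (pullback.snd v g).left :=
    MorphismProperty.of_isPullback hbc (inferInstanceAs (Surjective v.left))
  refine ⟨h', hA, ?_⟩
  rw [hsnd]
  exact ⟨stableBC_isSurjectiveMor.precomp (IsAlgSpace.yon_obj _) (IsAlgSpace.yon_obj _) k
      (surjective_map_of_repWith ((repWith_yon_map_iff (P := @Surjective) _).2 hj)),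
    stableBC_locP.precomp (IsAlgSpace.yon_obj _) (IsAlgSpace.yon_obj _) k
      (locP_of_repWith ((repWith_yon_map_iff (P := @Smooth) _).2 hs))⟩

/-- A stack in setoids over a scheme is an algebraic space once its base change along a smooth surjection is. -/
theorem repByAlgSp_of_smooth_locally (h𝒵 : Stk.IsStack Jet 𝒵) (hs : FibCat.IsFibSetoid 𝒵.p)
    {U V : Over S} (q : 𝒵 ⥤ᵇ FibCat.overCat U) (v : V ⟶ U) [Smooth v.left] [Surjective v.left]
    (h : AlgSt.RepByAlgSp (FibCat.fp (AlgSt.overMap v) q)) : AlgSt.RepByAlgSp 𝒵 := by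
  let P := clsPsh 𝒵 hs.1
  obtain ⟨e, he, -⟩ := isEquivOver_inv (toCls_isEquivOver 𝒵 hs.1 hs)
  have hP : Presheaf.IsSheaf Jet P := (isSheaf_iff_isSheaf_of_type _ _).2
    ((StkLib.isStack_ofPsh_iff P Jet).1 ((StkLib.isStack_iff_of_isEquivOver (J := Jet) he).2 h𝒵))
  let q' : 𝒵 ⥤ᵇ AlgSt.ofSch U := BasedFunctor.comp q (AlgSt.ofOverCat U)
  let a : P ⟶ (pyon S).obj U := pshMap (BasedFunctor.comp e q')
  let i : BasedFunctor.comp e q' ≅ Stk.ofPshMap a := isoOfPshMap _
  let sq := IsPullback.of_hasPullback a ((pyon S).map v)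
  have := full_of_isEquivOver (isEquivOver_toOverCat U)
  have := faithful_of_isEquivOver (isEquivOver_toOverCat U)
  let m := fpMap (F := AlgSt.overMap v) (G := q)
    (F' := BasedFunctor.comp (AlgSt.ofOverCat V) (Stk.ofPshMap ((yon S).map v).hom)) (G' := q')
    (a := BasedFunctor.id _) (b := BasedFunctor.id _) (c := AlgSt.toOverCat U)
    (overMapIso v).symm (whiskerLeftIso q (ofOverCatIso U))
  let E : Stk.ofPsh (pullback a ((pyon S).map v)) ⥤ᵇ FibCat.fp (AlgSt.overMap v) q :=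
    BasedFunctor.comp (compare q' e i sq) m
  have hE : FibCat.IsEquivOver E :=
    isEquivOver_comp (compare_isEquivOver q' e i he sq) (fpMap_isEquivOver _ _ isEquivOver_id isEquivOver_id)
  obtain ⟨W, w, hw⟩ := h
  obtain ⟨g, hg, -⟩ := isEquivOver_inv hE
  let k : Stk.ofPsh W.obj.obj ⥤ᵇ Stk.ofPsh (pullback a ((pyon S).map v)) := BasedFunctor.comp w g
  have : IsIso (pshMap k) := isIso_pshMap (Φ := k) (isEquivOver_comp hw hg)
  obtain ⟨h', hA⟩ := isAlgSpaceP_of_smooth_baseChange hP v a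
    (((isAlgSpaceP_obj_iff _).2 W.property).of_iso (asIso (pshMap k)))
  exact ⟨⟨⟨P, h'⟩, hA⟩, e, he⟩

/-- A smooth surjection is sectionwise surjective locally for the smooth topology. -/
theorem exists_smooth_lift {g : 𝒵 ⥤ᵇ 𝒴} (h₁ : AlgSt.RepByAlgSpWith (LocP @Smooth) g)
    (h₂ : AlgSt.RepByAlgSpWith IsSurjectiveMor g) {U : Over S} (y : FibCat.overCat U ⥤ᵇ 𝒴) :
    ∃ (V : Over S) (v : V ⟶ U) (z : FibCat.overCat V ⥤ᵇ 𝒵), Smooth v.left ∧ Surjective v.left ∧
      Nonempty (BasedFunctor.comp z g ≅ BasedFunctor.comp (AlgSt.overMap v) y) := by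
  obtain ⟨F, e, he, hsm⟩ := h₁ U y
  have hsu := (RepOver.property_of_stableBC stableBC_isSurjectiveMor (h₂ U y) e he).2
  let a := AlgSt.spMapOfOver (BasedFunctor.comp e (FibCat.fpFst y g))
  obtain ⟨V, p, hp, hp'⟩ := F.property.atlas
  obtain ⟨w, hw⟩ := (yon S).map_surjective (p ≫ a)
  have hV := IsAlgSpace.yon_obj (S := S) V
  have hU := IsAlgSpace.yon_obj (S := S) U
  have hwf : Smooth w.left := locP_yon_map (P := @Smooth) (hw ▸ locP_comp hV F.property hU
    (locP_mono (Q := @Smooth) (fun _ _ f (_ : Etale f) => inferInstanceAs (Smooth f))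
      (locP_of_repWith (P := @Etale) hp)) hsm)
  have hws : Surjective w.left := ⟨fun x => by
    obtain ⟨x₁, h1⟩ := hsu (Points.schemeHomeo U x)
    obtain ⟨x₂, h2⟩ := surjective_map_of_repWith hp' x₁
    obtain ⟨t, rfl⟩ := (Points.schemeHomeo V).surjective x₂
    refine ⟨t, (Points.schemeHomeo U).injective ?_⟩
    rw [← h1, ← h2, ← Points.map_comp, ← hw, Points.map_yon_map_eq]
    simp⟩
  let E : FibCat.overCat V ⥤ᵇ FibCat.fp y g := BasedFunctor.comp (overOfMap p) e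
  let j : BasedFunctor.comp E (FibCat.fpFst y g) ≅ AlgSt.overMap w :=
    whiskerLeftIso (overOfMap p) (isoSpMapOfOver (BasedFunctor.comp e (FibCat.fpFst y g))) ≪≫
      overIso _ _ (fun x => by
        have : ((yon S).map w).hom.app (op x.left) ⟨x.hom⟩ = a.hom.app (op x.left) (p.hom.app (op x.left) ⟨x.hom⟩) := by
          rw [hw]; rfl
        have h' : (⟨x.hom ≫ w⟩ : ULift (x.left ⟶ U)) = _ := this
        show 𝟙 x.left ≫ (x.hom ≫ w) = (a.hom.app (op x.left) (p.hom.app (op x.left) ⟨x.hom⟩)).down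
        rw [← h', Category.id_comp])
  exact ⟨V, w, BasedFunctor.comp E (FibCat.fpSnd y g), hwf, hws,
    ⟨(whiskerLeftIso E (FibCat.fpIso y g)).symm ≪≫ whiskerRightIso j y⟩⟩

/-- Maps from schemes to a stack with a smooth surjective cover by a stack with representable diagonal are
representable by algebraic spaces. -/
theorem repByAlgSp1_slice_of_smooth_cover (h𝒳 : Stk.IsStack Jet 𝒳) (h𝒰 : FibCat.IsFibGrpd 𝒰.p)
    (hΔ : AlgSt.RepByAlgSp1 (FibCat.diag (FibCat.toSelf 𝒰))) {u : 𝒰 ⥤ᵇ 𝒳}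
    (h₁ : AlgSt.RepByAlgSpWith (LocP @Smooth) u) (h₂ : AlgSt.RepByAlgSpWith IsSurjectiveMor u)
    (V : Over S) (y : FibCat.overCat V ⥤ᵇ 𝒳) : AlgSt.RepByAlgSp1 y := fun U x => by
  have hy : y.toFunctor.Faithful := by
    have : (y.toFunctor ⋙ 𝒳.p).Faithful := by rw [y.w]; exact ⟨fun h => Over.OverMorphism.ext h⟩
    exact Functor.Faithful.of_comp y.toFunctor 𝒳.p
  have hst : Stk.IsStack Jet (FibCat.fp x y) := Groth.Agent.StkLib.isStack_fp x y
    (isStack_etale_of_fppf (isStack_of_repByAlgSp (repByAlgSp_overCat U)))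
    (isStack_etale_of_fppf (isStack_of_repByAlgSp (repByAlgSp_overCat V)))
    (Groth.Agent.StkLib.isPrestack_of_isStack h𝒳)
  have hset : FibCat.IsFibSetoid (FibCat.fp x y).p := isFibSetoid_iff.2 ⟨hst.1, faithful_fp x⟩
  obtain ⟨U', v, z, hv, hv', ⟨i⟩⟩ := exists_smooth_lift h₁ h₂ x
  refine repByAlgSp_of_smooth_locally hst hset (FibCat.fpFst x y) v ?_
  have hfp : AlgSt.RepByAlgSp (FibCat.fp u y) :=
    repByAlgSp_of_equiv _ (fpSwap_isEquivOver _ _) (repByAlgSp1_of_repByAlgSpWith h₁ V y)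
  have key : AlgSt.RepByAlgSp (FibCat.fp z (FibCat.fpFst u y)) :=
    repByAlgSp_of_equiv _ (fpSwap_isEquivOver _ _)
      (repByAlgSp_fp (isFibGrpd_overCat U') h𝒰 z (FibCat.fpFst u y) (repByAlgSp1_of_diag h𝒰 hΔ U' z) hfp)
  have key₂ : AlgSt.RepByAlgSp (FibCat.fp (BasedFunctor.comp (AlgSt.overMap v) x) y) :=
    repByAlgSp_of_equiv _ (fpMap_isEquivOver (F := BasedFunctor.comp (AlgSt.overMap v) x) (G := y)
      (F' := BasedFunctor.comp z u) (G' := y) (a := BasedFunctor.id _) (b := BasedFunctor.id _)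
      (c := BasedFunctor.id _) i.symm (Iso.refl _) isEquivOver_id isEquivOver_id)
      (repByAlgSp_of_equiv _ (pasteVert_isEquivOver z u y) key)
  exact (repByAlgSp_iff_of_equiv _ (pasteVert_isEquivOver (AlgSt.overMap v) x y)).2 key₂

/-- The diagonal of a stack with a smooth surjective cover by a stack with representable diagonal is
representable. -/
theorem repByAlgSp1_diag_of_smooth_cover (h𝒳 : Stk.IsStack Jet 𝒳) (h𝒰 : FibCat.IsFibGrpd 𝒰.p)
    (hΔ : AlgSt.RepByAlgSp1 (FibCat.diag (FibCat.toSelf 𝒰))) {u : 𝒰 ⥤ᵇ 𝒳}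
    (h₁ : AlgSt.RepByAlgSpWith (LocP @Smooth) u) (h₂ : AlgSt.RepByAlgSpWith IsSurjectiveMor u) :
    AlgSt.RepByAlgSp1 (FibCat.diag (FibCat.toSelf 𝒳)) :=
  repByAlgSp1_diag_toSelf_of_forall (repByAlgSp1_slice_of_smooth_cover h𝒳 h𝒰 hΔ h₁ h₂)

theorem hasAtlas_of_smooth_cover (h𝒰 : FibCat.IsFibGrpd 𝒰.p) (hA : AlgSt.HasAtlas (LocP @Smooth) 𝒰)
    {u : 𝒰 ⥤ᵇ 𝒳} (h₁ : AlgSt.RepByAlgSpWith (LocP @Smooth) u)
    (h₂ : AlgSt.RepByAlgSpWith IsSurjectiveMor u) : AlgSt.HasAtlas (LocP @Smooth) 𝒳 := by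
  obtain ⟨W, w, hw, hw'⟩ := hA
  exact ⟨W, BasedFunctor.comp w u, repByAlgSpWith_locP_comp (isFibGrpd_overCat W) h𝒰 hw h₁,
    repByAlgSpWith_isSurjectiveMor_comp (isFibGrpd_overCat W) h𝒰 hw' h₂⟩

end Groth.Agent.AlgStLib
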