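import Groth.Agent.AlgStLib.EtExtSheaf
import Groth.Agent.AlgStLib.OfSp
import Groth.Agent.FibBase.FpMaps
import Groth.Agent.StkLib.Fp
import Groth.Agent.AlgStLib.SmoothBootstrap

/-!
# The sheaf of extensions over a member of the covering sieve
-/

set_option backward.isDefEq.respectTransparency false
set_option backward.isDefEq.respectTransparency.types false

universe u

open CategoryTheory CategoryTheory.Functor CategoryTheory.Limits Opposite AlgebraicGeometry AlgSp
open Groth.Agent.FibBase Groth.Agent.StkLib Groth.Agent.GerbLib Groth.Agent.AlgSpLib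

namespace Groth.Agent.AlgStLib.EtExt

variable {S : Scheme.{u}} {𝒳 : AlgSt.Cat S} {T U₀ : Over S} {R : Sieve T} (H : Stk.sieveCat R ⥤ᵇ 𝒳)
  (x : FibCat.overCat U₀ ⥤ᵇ 𝒳) {V : Over S} (v : V ⟶ T) (hv : R v)

/-- The functor from the slice over a member to the sieve. -/
def sliceTo : FibCat.overCat V ⥤ᵇ Stk.sieveCat R where
  toFunctor :=
    { obj := fun f => ⟨Over.mk (f.hom ≫ v), R.downward_closed hv f.hom⟩
      map := fun {f f'} h => ObjectProperty.homMk (Over.homMk h.left (by simp))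
      map_id := fun f => ObjectProperty.hom_ext _ (Over.OverMorphism.ext rfl)
      map_comp := fun h h' => ObjectProperty.hom_ext _ (Over.OverMorphism.ext rfl) }
  w := rfl

/-- The descent datum over a member. -/
abbrev datum : FibCat.overCat V ⥤ᵇ 𝒳 := BasedFunctor.comp (sliceTo v hv) H

variable {H x v}

/-- An arrow of the sieve through a member. -/
abbrev hTo (f : Over V) (a : (Stk.sieveCat R).obj) (g : a.obj.left ⟶ f.left)
    (w : g ≫ f.hom ≫ v = a.obj.hom) : a ⟶ (sliceTo v hv).obj f :=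
  ObjectProperty.homMk (Over.homMk g w)

variable {hv} (θ : (FibCat.fp (datum H v hv) x).obj)

theorem base_eq : θ.obj.snd.left = θ.obj.fst.left :=
  have : 𝒳.p.IsHomLift (𝟙 θ.obj.fst.left) θ.obj.iso.hom := θ.property
  (x.w_obj θ.obj.snd).symm.trans (IsHomLift.codomain_eq 𝒳.p (𝟙 θ.obj.fst.left) θ.obj.iso.hom)

/-- The point of the chart of an object. -/
abbrev uOf : θ.obj.fst.left ⟶ U₀ := eqToHom (base_eq θ).symm ≫ θ.obj.snd.hom

/-- The object of the chart moved to the base of the member. -/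
abbrev adj : θ.obj.snd ≅ Over.mk (uOf θ) :=
  Over.isoMk (eqToIso (base_eq θ)) (by simp [uOf])

theorem qLift (a : (Stk.sieveCat R).obj) (g : a.obj.left ⟶ θ.obj.fst.left)
    (w : g ≫ θ.obj.fst.hom ≫ v = a.obj.hom) :
    𝒳.p.IsHomLift g (H.map (hTo hv θ.obj.fst a g w) ≫ θ.obj.iso.hom ≫ x.map (adj θ).hom) := by
  have h₁ : 𝒳.p.IsHomLift g (H.map (hTo hv θ.obj.fst a g w)) := map_lift (H := H) (hTo hv θ.obj.fst a g w)
  have h₂ : 𝒳.p.IsHomLift (𝟙 θ.obj.fst.left) θ.obj.iso.hom := θ.property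
  have h₃ : 𝒳.p.IsHomLift (eqToHom (base_eq θ)) (x.map (adj θ).hom) := overMap_isHomLift x (adj θ).hom
  refine isHomLift_of_map (H.w_obj a) (x.w_obj _) ?_
  rw [Functor.map_comp, Functor.map_comp, IsHomLift.fac' 𝒳.p g (H.map (hTo hv θ.obj.fst a g w)),
    IsHomLift.fac' 𝒳.p (𝟙 θ.obj.fst.left) θ.obj.iso.hom,
    IsHomLift.fac' 𝒳.p (eqToHom (base_eq θ)) (x.map (adj θ).hom)]
  simp

/-- The extension attached to an object of the fibre product. -/
def qOf : QPt H x θ.obj.fst.left where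
  t := θ.obj.fst.hom ≫ v
  u := uOf θ
  fam :=
    { e := fun a g w => H.map (hTo hv θ.obj.fst a g w) ≫ θ.obj.iso.hom ≫ x.map (adj θ).hom
      lift := qLift θ
      nat := fun {a a'} h g' w' w => by
        rw [← Category.assoc, ← H.toFunctor.map_comp]
        exact congrArg (fun t => H.map t ≫ _) (ObjectProperty.hom_ext _ (Over.OverMorphism.ext rfl)) }

variable {θ} {θ' : (FibCat.fp (datum H v hv) x).obj}

theorem snd_left (μ : θ ⟶ θ') :
    μ.hom.snd.left = eqToHom (base_eq θ) ≫ μ.hom.fst.left ≫ eqToHom (base_eq θ').symm := by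
  have h := fp_isHomLift_snd' (F := datum H v hv) (G := x) μ.hom.fst.left μ
    (h := IsHomLift.map (FibCat.fp (datum H v hv) x).p μ)
  exact IsHomLift.fac' (FibCat.overCat U₀).p μ.hom.fst.left μ.hom.snd

theorem isRes_qOf (μ : θ ⟶ θ') : IsRes μ.hom.fst.left (qOf θ) (qOf θ') := by
  have hu : uOf θ = μ.hom.fst.left ≫ uOf θ' := by
    have := Over.w μ.hom.snd
    rw [snd_left μ] at this
    simp only [uOf]
    rw [← this]
    simp
  refine ⟨?_, hu, fun a g w w' h hh => ?_⟩
  · show θ.obj.fst.hom ≫ v = _ ≫ θ'.obj.fst.hom ≫ v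
    rw [← Category.assoc, Over.w μ.hom.fst]
  · show (H.map _ ≫ _ ≫ _) ≫ _ = H.map _ ≫ _ ≫ _
    have e₁ : (adj θ).hom ≫ h = μ.hom.snd ≫ (adj θ').hom := Over.OverMorphism.ext (by
      show eqToHom (base_eq θ) ≫ h.left = μ.hom.snd.left ≫ eqToHom (base_eq θ')
      rw [hh, snd_left μ]; simp)
    have e₂ : hTo hv θ'.obj.fst a (g ≫ μ.hom.fst.left) w = hTo hv θ.obj.fst a g w' ≫ (sliceTo v hv).map μ.hom.fst :=
      ObjectProperty.hom_ext _ (Over.OverMorphism.ext rfl)
    have e₃ : H.map ((sliceTo v hv).map μ.hom.fst) ≫ θ'.obj.iso.hom = θ.obj.iso.hom ≫ x.map μ.hom.snd := μ.hom.w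
    rw [Category.assoc, Category.assoc, ← x.toFunctor.map_comp, e₁, x.toFunctor.map_comp, e₂,
      H.toFunctor.map_comp, Category.assoc, reassoc_of% e₃]

variable (hP : Stk.IsPrestack (J S) 𝒳)

variable (H x v) in
/-- An extension with a factorisation of its base through a member. -/
@[ext]
structure Pair (W : Over S) : Type (u + 1) where
  q : QPt H x W
  f : W ⟶ V
  w : q.t = f ≫ v

variable (H x v) in
/-- The presheaf of extensions over a member. -/
noncomputable def pairPsh : (Over S)ᵒᵖ ⥤ Type (u + 1) where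
  obj W := Pair H x v W.unop
  map {W W'} g := TypeCat.ofHom fun z : Pair H x v W.unop =>
    (⟨res hP.1 g.unop z.q, g.unop ≫ z.f, by rw [(isRes_res hP.1 g.unop z.q).1, z.w, Category.assoc]⟩ :
      Pair H x v W'.unop)
  map_id W := by
    ext z
    · exact res_eq hP.1 (isRes_id z.q)
    · exact congrArg (fun t => t.left) (Category.id_comp z.f)
  map_comp g g' := by
    ext z
    · exact res_eq hP.1 (isRes_comp (isRes_res hP.1 g.unop z.q) (isRes_res hP.1 g'.unop _))
    · exact congrArg (fun t => t.left) (Category.assoc g'.unop g.unop z.f)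

variable (H x v hv) in
/-- The functor to extensions over a member. -/
noncomputable def Ψ : FibCat.fp (datum H v hv) x ⥤ᵇ Stk.ofPsh (pairPsh H x v hP) where
  toFunctor :=
    { obj := fun θ => ⟨θ.obj.fst.left, (⟨qOf θ, θ.obj.fst.hom, rfl⟩ : Pair H x v _)⟩
      map := fun {θ θ'} μ => ⟨μ.hom.fst.left, Pair.ext (res_eq hP.1 (isRes_qOf μ)) (Over.w μ.hom.fst)⟩
      map_id := fun θ => Stk.EltObj.hom_ext rfl
      map_comp := fun μ μ' => Stk.EltObj.hom_ext rfl }
  w := rfl

theorem Ψ_isEquivOver : FibCat.IsEquivOver (Ψ H x v hv hP) := by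
  refine isEquivOver_of_exists_iso _ ⟨fun {θ θ'} m => ?_⟩ ⟨fun {θ θ'} μ μ' e => ?_⟩ fun η => ?_
  · have hq : res hP.1 m.hom (qOf θ') = qOf θ := congrArg Pair.q m.map_sec
    have hf : m.hom ≫ θ'.obj.fst.hom = θ.obj.fst.hom := congrArg Pair.f m.map_sec
    have hr : IsRes m.hom (qOf θ) (qOf θ') := hq ▸ isRes_res hP.1 m.hom (qOf θ')
    obtain ⟨-, hu, hr⟩ := hr
    let l : θ.obj.fst.left ⟶ θ'.obj.fst.left := m.hom
    let h : (Over.mk (uOf θ) : Over U₀) ⟶ Over.mk (uOf θ') := Over.homMk l hu.symm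
    let b : θ.obj.snd ⟶ θ'.obj.snd := (adj θ).hom ≫ h ≫ (adj θ').inv
    let a₀ := (sliceTo v hv).obj θ.obj.fst
    let c : θ.obj.fst ⟶ θ'.obj.fst := Over.homMk l hf
    have key := hr a₀ (𝟙 _) (by
      show (𝟙 _ ≫ l) ≫ θ'.obj.fst.hom ≫ v = θ.obj.fst.hom ≫ v
      rw [Category.id_comp, ← Category.assoc, hf]) (Category.id_comp _) h rfl
    have e₁ : hTo hv θ.obj.fst a₀ (𝟙 _) (Category.id_comp _) = 𝟙 a₀ :=
      ObjectProperty.hom_ext _ (Over.OverMorphism.ext rfl)
    have key₂ : θ.obj.iso.hom ≫ x.map (adj θ).hom ≫ x.map h =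
        H.map ((sliceTo v hv).map c) ≫ θ'.obj.iso.hom ≫ x.map (adj θ').hom := by
      refine Eq.trans ?_ (key.trans ?_)
      · show _ = (H.map _ ≫ _ ≫ _) ≫ _
        rw [e₁, H.toFunctor.map_id, Category.id_comp, Category.assoc]
      · exact congrArg (fun t => H.map t ≫ _) (ObjectProperty.hom_ext _ (Over.OverMorphism.ext (Category.id_comp l)))
    have hw : H.map ((sliceTo v hv).map c) ≫ θ'.obj.iso.hom = θ.obj.iso.hom ≫ x.map b := by
      have := congrArg (· ≫ x.map (adj θ').inv) key₂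
      simp only [Category.assoc, ← x.toFunctor.map_comp, Iso.hom_inv_id, x.toFunctor.map_id, Category.comp_id] at this
      exact this.symm
    exact ⟨ObjectProperty.homMk ⟨c, b, hw⟩, Stk.EltObj.hom_ext rfl⟩
  · have h₁ : μ.hom.fst.left = μ'.hom.fst.left := congrArg Stk.EltObj.Hom.hom e
    refine ObjectProperty.hom_ext _ (CategoricalPullback.hom_ext (Over.OverMorphism.ext h₁)
      (Over.OverMorphism.ext ?_))
    rw [snd_left μ, snd_left μ', h₁]
  · obtain ⟨W, ⟨q, f, hq⟩⟩ := η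
    let a₀ := (sliceTo v hv).obj (Over.mk f)
    have w₀ : 𝟙 W ≫ q.t = a₀.obj.hom := (Category.id_comp _).trans hq
    let m := q.fam.e a₀ (𝟙 W) w₀
    have hm : 𝒳.p.IsHomLift (𝟙 W) m := q.fam.lift a₀ (𝟙 W) w₀
    have : IsIso m := isIso_of_lift (hp := hP.1) (𝟙 W) m
    let θ : (FibCat.fp (datum H v hv) x).obj := ⟨⟨Over.mk f, Over.mk q.u, asIso m⟩, hm⟩
    suffices hsec : (pairPsh H x v hP).map (𝟙 W).op ⟨q, f, hq⟩ = ((Ψ H x v hv hP).obj θ).sec by
      refine ⟨θ, eltIso (Iso.refl W) hsec, ?_⟩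
      exact @IsHomLift.of_fac' _ _ _ _ (Stk.ofPsh (pairPsh H x v hP)).p _ _ _ _ (𝟙 W)
        (eltIso (a := (Ψ H x v hv hP).obj θ) (b := ⟨W, ⟨q, f, hq⟩⟩) (Iso.refl W) hsec).hom rfl rfl
        ((Category.id_comp _).trans (Category.id_comp _)).symm
    show (pairPsh H x v hP).map (𝟙 W).op ⟨q, f, hq⟩ = _
    rw [op_id, (pairPsh H x v hP).map_id]
    refine Pair.ext (QPt.ext' hq ?_ fun a g w w' h hh => ?_) rfl
    · show q.u = eqToHom _ ≫ q.u
      simp
    · show _ = H.map _ ≫ m ≫ x.map (adj θ).hom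
      have e : (adj θ).hom = h := Over.OverMorphism.ext (by simp [adj, hh]; rfl)
      rw [e, ← Category.assoc]
      refine congrArg (· ≫ x.map h) ?_
      refine Eq.trans ?_ (q.fam.nat (hTo hv (Over.mk f) a g w') (𝟙 W) w₀
        ((congrArg (· ≫ q.t) (Category.comp_id g)).trans w)).symm
      exact q.fam.e_congr (Category.comp_id g).symm _ _

/-- The projection from pairs to extensions. -/
def π₁ : pairPsh H x v hP ⟶ qPsh H x hP.1 where
  app W := TypeCat.ofHom fun z : Pair H x v W.unop => z.q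
  naturality W W' g := by
    ext z
    rfl

/-- The projection from pairs to the member. -/
def π₂ : pairPsh H x v hP ⟶ ((yon S).obj V).obj where
  app W := TypeCat.ofHom fun z : Pair H x v W.unop => ⟨z.f⟩
  naturality W W' g := by
    ext z
    rfl

theorem isPullback_pairs :
    IsPullback (π₁ (H := H) (x := x) (v := v) hP) (π₂ (H := H) (x := x) (v := v) hP) (qπ H x hP).hom
      ((yon S).map v).hom := by
  refine IsPullback.of_forall_isPullback_app fun W => (Types.isPullback_iff _ _ _ _).2 ⟨?_, ?_, ?_⟩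
  · ext z
    exact congrArg ULift.up (z : Pair H x v W.unop).w
  · rintro z z' ⟨h₁, h₂⟩
    exact Pair.ext h₁ (congrArg ULift.down h₂)
  · rintro q f hq
    exact ⟨(⟨q, f.down, congrArg ULift.down hq⟩ : Pair H x v W.unop), rfl, rfl⟩

include hv in
/-- The sheaf of extensions over a member is an algebraic space, smooth and surjective over it. -/
theorem props_of_member (hsm : AlgSt.RepByAlgSpWith (LocP @Smooth) x)
    (hsu : AlgSt.RepByAlgSpWith IsSurjectiveMor x) :
    IsAlgSpace (pullback (qπ H x hP) ((yon S).map v)) ∧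
      LocP @Smooth (pullback.snd (qπ H x hP) ((yon S).map v)) ∧
      IsSurjectiveMor (pullback.snd (qπ H x hP) ((yon S).map v)) := by
  obtain ⟨F, e, he, hs⟩ := hsm V (datum H v hv)
  have hu := (RepOver.property_of_stableBC stableBC_isSurjectiveMor (hsu V (datum H v hv)) e he).2
  let k : F.obj.obj ⟶ pairPsh H x v hP := pshMap (BasedFunctor.comp e (Ψ H x v hv hP))
  have : IsIso k := isIso_pshMap (isEquivOver_comp he (Ψ_isEquivOver (hv := hv) hP))
  let a₁ : F.obj ⟶ qSp H x hP := ObjectProperty.homMk (k ≫ π₁ hP)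
  let a₂ := AlgSt.spMapOfOver (BasedFunctor.comp e (FibCat.fpFst (datum H v hv) x))
  have h₂ : a₂.hom = k ≫ π₂ hP := by
    ext W ξ
    rfl
  have sq : IsPullback a₁ a₂ (qπ H x hP) ((yon S).map v) := by
    have h := (isPullback_pairs (H := H) (x := x) (v := v) hP).of_iso (asIso k).symm (Iso.refl _) (Iso.refl _) (Iso.refl _)
      (fst' := k ≫ π₁ hP) (snd' := a₂.hom) (f' := (qπ H x hP).hom) (g' := ((yon S).map v).hom)
      (by simp) (by simp [h₂]) (by simp) (by simp)
    refine IsPullback.of_map (sheafToPresheaf (J S) (Type (u + 1))) ?_ h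
    exact ObjectProperty.hom_ext _ h.w
  let i := sq.isoPullback
  have hP' : IsAlgSpace (pullback (qπ H x hP) ((yon S).map v)) := F.property.of_iso i
  have hsnd : pullback.snd (qπ H x hP) ((yon S).map v) = i.inv ≫ a₂ := (sq.isoPullback_inv_snd).symm
  refine ⟨hP', ?_, ?_⟩
  · rw [hsnd]
    exact stableBC_locP.precomp F.property (IsAlgSpace.yon_obj _) i.inv hs
  · rw [hsnd]
    exact stableBC_isSurjectiveMor.precomp F.property (IsAlgSpace.yon_obj _) i.inv hu

end Groth.Agent.AlgStLib.EtExt
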