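import Groth.Agent.AlgStLib.EtExt
import Groth.Agent.AlgStLib.SheafGlue
import Groth.Agent.AlgSpLib.Sheaf

/-!
# The sheaf of extensions of a descent datum to points of a chart
-/

set_option backward.isDefEq.respectTransparency false
set_option backward.isDefEq.respectTransparency.types false

universe u

open CategoryTheory CategoryTheory.Functor Opposite AlgebraicGeometry AlgSp
open Groth.Agent.FibBase Groth.Agent.StkLib Groth.Agent.GerbLib Groth.Agent.AlgSpLib

namespace Groth.Agent.AlgStLib.EtExt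

variable {S : Scheme.{u}} {𝒳 : AlgSt.Cat S} {T U₀ : Over S} {R : Sieve T} (H : Stk.sieveCat R ⥤ᵇ 𝒳)
  (x : FibCat.overCat U₀ ⥤ᵇ 𝒳)

/-- An extension of a descent datum over a scheme to a point of the chart. -/
structure QPt (W : Over S) : Type (u + 1) where
  t : W ⟶ T
  u : W ⟶ U₀
  fam : Fam H t (x.obj (Over.mk u))

variable {H x}

theorem QPt.ext' {W : Over S} {q q' : QPt H x W} (ht : q.t = q'.t) (hu : q.u = q'.u)
    (he : ∀ a g w w' (h : (Over.mk q.u : Over U₀) ⟶ Over.mk q'.u), h.left = 𝟙 W →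
      q.fam.e a g w ≫ x.map h = q'.fam.e a g w') : q = q' := by
  obtain ⟨t, v, ⟨e, l, n⟩⟩ := q
  obtain ⟨t', v', ⟨e', l', n'⟩⟩ := q'
  obtain rfl : t = t' := ht
  obtain rfl : v = v' := hu
  have : e = e' := by
    funext a g w
    have := he a g w w (𝟙 _) rfl
    rwa [x.toFunctor.map_id, Category.comp_id] at this
  subst this
  rfl

/-- Two extensions related by restriction. -/
def IsRes {W W' : Over S} (k : W' ⟶ W) (q' : QPt H x W') (q : QPt H x W) : Prop :=
  q'.t = k ≫ q.t ∧ q'.u = k ≫ q.u ∧ ∀ a g w w' (h : (Over.mk q'.u : Over U₀) ⟶ Over.mk q.u), h.left = k →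
    q'.fam.e a g w' ≫ x.map h = q.fam.e a (g ≫ k) w

variable (hY : FibCat.IsFibGrpd 𝒳.p)

include hY in
theorem existsUnique_res {W W' : Over S} (k : W' ⟶ W) (q : QPt H x W) : ∃! q' : QPt H x W', IsRes k q' q := by
  let h₀ : (Over.mk (k ≫ q.u) : Over U₀) ⟶ Over.mk q.u := Over.homMk k rfl
  have hl : 𝒳.p.IsHomLift k (x.map h₀) := overMap_isHomLift x h₀
  obtain ⟨c', hc'⟩ := q.fam.exists_comap hY k (rfl : k ≫ q.t = k ≫ q.t) (x.map h₀) hl
  refine ⟨⟨k ≫ q.t, k ≫ q.u, c'⟩, ⟨rfl, rfl, fun a g w w' h hh => ?_⟩, ?_⟩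
  · obtain rfl : h = h₀ := Over.OverMorphism.ext hh
    exact hc' a g w w'
  · rintro ⟨t', v', c''⟩ ⟨ht, hu, hr⟩
    obtain rfl : t' = k ≫ q.t := ht
    obtain rfl : v' = k ≫ q.u := hu
    refine QPt.ext' rfl rfl fun a g w w' h hh => ?_
    obtain rfl : h = 𝟙 _ := Over.OverMorphism.ext hh
    rw [x.toFunctor.map_id, Category.comp_id]
    have := c'.lift a g w'
    have := c''.lift a g w
    have := isSC (hp := hY) k (x.map h₀)
    have w₀ : (g ≫ k) ≫ q.t = a.obj.hom := (Category.assoc _ _ _).trans w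
    exact IsStronglyCartesian.ext 𝒳.p k (x.map h₀) g ((hr a g w₀ w h₀ rfl).trans (hc' a g w₀ w').symm)

/-- Restriction of extensions. -/
noncomputable def res {W W' : Over S} (k : W' ⟶ W) (q : QPt H x W) : QPt H x W' :=
  (existsUnique_res hY k q).exists.choose

theorem isRes_res {W W' : Over S} (k : W' ⟶ W) (q : QPt H x W) : IsRes k (res hY k q) q :=
  (existsUnique_res hY k q).exists.choose_spec

theorem res_eq {W W' : Over S} {k : W' ⟶ W} {q : QPt H x W} {q' : QPt H x W'} (h : IsRes k q' q) :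
    res hY k q = q' :=
  (existsUnique_res hY k q).unique (isRes_res hY k q) h

theorem isRes_id {W : Over S} (q : QPt H x W) : IsRes (𝟙 W) q q :=
  ⟨(Category.id_comp _).symm, (Category.id_comp _).symm, fun a g w w' h hh => by
    obtain rfl : h = 𝟙 _ := Over.OverMorphism.ext hh
    rw [x.toFunctor.map_id, Category.comp_id]
    exact q.fam.e_congr (Category.comp_id g).symm _ _⟩

theorem isRes_comp {W W' W'' : Over S} {k : W' ⟶ W} {k' : W'' ⟶ W'} {q : QPt H x W} {q' : QPt H x W'}
    {q'' : QPt H x W''} (h : IsRes k q' q) (h' : IsRes k' q'' q') : IsRes (k' ≫ k) q'' q := by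
  refine ⟨by rw [h'.1, h.1, Category.assoc], by rw [h'.2.1, h.2.1, Category.assoc], fun a g w w' l hl => ?_⟩
  let k₁ : (Over.mk q'.u : Over U₀) ⟶ Over.mk q.u := Over.homMk k h.2.1.symm
  let k₂ : (Over.mk q''.u : Over U₀) ⟶ Over.mk q'.u := Over.homMk k' h'.2.1.symm
  obtain rfl : l = k₂ ≫ k₁ := Over.OverMorphism.ext hl
  have w₁ : (g ≫ k') ≫ q'.t = a.obj.hom := by rw [Category.assoc, ← h'.1]; exact w'
  have w₂ : ((g ≫ k') ≫ k) ≫ q.t = a.obj.hom := by rw [Category.assoc, ← h.1]; exact w₁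
  rw [x.toFunctor.map_comp, ← Category.assoc, h'.2.2 a g w₁ w' k₂ rfl, h.2.2 a _ w₂ w₁ k₁ rfl]
  exact q.fam.e_congr (Category.assoc _ _ _) _ _

variable (H x) in
/-- The presheaf of extensions. -/
noncomputable def qPsh : (Over S)ᵒᵖ ⥤ Type (u + 1) where
  obj W := QPt H x W.unop
  map g := TypeCat.ofHom (res hY g.unop)
  map_id W := by
    ext q
    exact res_eq hY (isRes_id q)
  map_comp g g' := by
    ext q
    exact res_eq hY (isRes_comp (isRes_res hY g.unop q) (isRes_res hY g'.unop _))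

theorem isSheaf_qPsh (hP : Stk.IsPrestack (J S) 𝒳) : Presheaf.IsSheaf (J S) (qPsh H x hP.1) := by
  have hY := hP.1
  rw [isSheaf_iff_isSheaf_of_type]
  intro W Tw hT
  rw [← Presieve.isSeparatedFor_and_exists_isAmalgamation_iff_isSheafFor]
  refine ⟨fun fam q q' hq hq' => ?_, fun fam hfam => ?_⟩
  · have er : ∀ ⦃V : Over S⦄ (f : V ⟶ W), Tw f → res hY f q = res hY f q' :=
      fun V f hf => (hq f hf).trans (hq' f hf).symm
    have ht : q.t = q'.t := (yon S).map_injective (hom_ext_of_covering _ _ hT fun V f hf => by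
      rw [← Functor.map_comp, ← Functor.map_comp, ← (isRes_res hY f q).1, ← (isRes_res hY f q').1, er f hf])
    have hu : q.u = q'.u := (yon S).map_injective (hom_ext_of_covering _ _ hT fun V f hf => by
      rw [← Functor.map_comp, ← Functor.map_comp, ← (isRes_res hY f q).2.1, ← (isRes_res hY f q').2.1, er f hf])
    refine QPt.ext' ht hu fun a g w w' h hh => ?_
    have hqm : 𝒳.p.IsHomLift (𝟙 W) (x.map h) := hh ▸ overMap_isHomLift x h
    have := q.fam.lift a g w
    have := q'.fam.lift a g w'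
    have l₁ : 𝒳.p.IsHomLift g (q.fam.e a g w ≫ x.map h) :=
      IsHomLift.comp_lift_id_right' 𝒳.p g (q.fam.e a g w) W (x.map h)
    refine hom_ext_local hP _ _ ?_ (R := Tw.pullback (eqToHom (H.w_obj a) ≫ g))
      ((J S).pullback_stable _ hT) fun V f hf => ?_
    · rw [IsHomLift.fac' 𝒳.p g (q.fam.e a g w ≫ x.map h), IsHomLift.fac' 𝒳.p g (q'.fam.e a g w')]
    · let f' : V ⟶ a.obj.left := f ≫ eqToHom (H.w_obj a)
      let a'' : (Stk.sieveCat R).obj := sob (f' ≫ a.obj.hom) (R.downward_closed a.property f')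
      let hf' : a'' ⟶ a := ObjectProperty.homMk (Over.homMk f' rfl)
      let k : V ⟶ W := f' ≫ g
      have hk : Tw k := by
        show Tw.arrows ((f ≫ eqToHom _) ≫ g)
        rwa [Category.assoc]
      have := map_lift (H := H) hf'
      refine ⟨H.obj a'', H.map hf', isHomLift_of_map (H.w_obj a'') rfl (by
        rw [IsHomLift.fac' 𝒳.p hf'.hom.left (H.map hf')]; simp [hf', f']), ?_⟩
      have hwk : k ≫ q.t = a''.obj.hom := by
        show (f' ≫ g) ≫ q.t = f' ≫ a.obj.hom
        rw [Category.assoc, w]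
      have hwk' : k ≫ q'.t = a''.obj.hom := by rw [← ht]; exact hwk
      have key : ∀ r : QPt H x V, r = res hY k q → r = res hY k q' →
          q.fam.e a'' k hwk ≫ x.map h = q'.fam.e a'' k hwk' := fun r h₁ h₂ => by
        subst h₁
        obtain ⟨i₁, j₁, k₁⟩ := isRes_res hY k q
        have hr' : IsRes k (res hY k q) q' := h₂ ▸ isRes_res hY k q'
        obtain ⟨i₂, j₂, k₂⟩ := hr'
        let l : (Over.mk (res hY k q).u : Over U₀) ⟶ Over.mk q.u := Over.homMk k j₁.symm
        have w₁ : 𝟙 V ≫ (res hY k q).t = a''.obj.hom := by rw [i₁, Category.id_comp]; exact hwk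
        have e₁ := k₁ a'' (𝟙 V) ((congrArg (· ≫ q.t) (Category.id_comp k)).trans hwk) w₁ l rfl
        have e₂ := k₂ a'' (𝟙 V) ((congrArg (· ≫ q'.t) (Category.id_comp k)).trans hwk') w₁ (l ≫ h)
          ((congrArg (k ≫ ·) hh).trans (Category.comp_id k))
        rw [x.toFunctor.map_comp, ← Category.assoc, e₁] at e₂
        rw [q.fam.e_congr (Category.id_comp k) _ hwk, q'.fam.e_congr (Category.id_comp k) _ hwk'] at e₂
        exact e₂
      rw [← Category.assoc]
      refine (congrArg (· ≫ x.map h) (q.fam.nat hf' g w hwk)).trans ?_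
      exact (key _ rfl (er k hk)).trans (q'.fam.nat hf' g w' hwk').symm
  · have hc : ∀ ⦃V' V : Over S⦄ (l : V' ⟶ V) (f : V ⟶ W) (hf : Tw f),
        IsRes l (fam (l ≫ f) (Tw.downward_closed hf l)) (fam f hf) := fun V' V l f hf => by
      have e : fam (l ≫ f) (Tw.downward_closed hf l) = res hY l (fam f hf) :=
        (Presieve.compatible_iff_sieveCompatible fam).1 hfam f l hf
      rw [e]
      exact isRes_res hY l _
    obtain ⟨tm, htm, -⟩ := SheafGlue.existsUnique_glue (Z := (yon S).obj T) hT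
      (fun V f hf => (yon S).map (fam f hf).t) fun V' V l f hf => by rw [(hc l f hf).1, Functor.map_comp]
    obtain ⟨t, rfl⟩ := (yon S).map_surjective tm
    obtain ⟨um, hum, -⟩ := SheafGlue.existsUnique_glue (Z := (yon S).obj U₀) hT
      (fun V f hf => (yon S).map (fam f hf).u) fun V' V l f hf => by rw [(hc l f hf).2.1, Functor.map_comp]
    obtain ⟨v, rfl⟩ := (yon S).map_surjective um
    have ht : ∀ ⦃V : Over S⦄ (f : V ⟶ W) (hf : Tw f), (fam f hf).t = f ≫ t := fun V f hf =>
      (yon S).map_injective (by rw [Functor.map_comp]; exact (htm f hf).symm)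
    have hu : ∀ ⦃V : Over S⦄ (f : V ⟶ W) (hf : Tw f), (fam f hf).u = f ≫ v := fun V f hf =>
      (yon S).map_injective (by rw [Functor.map_comp]; exact (hum f hf).symm)
    let q : ∀ ⦃V : Over S⦄ (f : V ⟶ W), Tw f → QPt H x V := fun V f hf => fam f hf
    let up : ∀ ⦃V : Over S⦄ (f : V ⟶ W) (hf : Tw f), (Over.mk (q f hf).u : Over U₀) ⟶ Over.mk v :=
      fun V f hf => Over.homMk f (hu f hf).symm
    -- the value at an arrow through which a member factors
    have hwk : ∀ (a : (Stk.sieveCat R).obj) ⦃V : Over S⦄ (l : a.obj.left ⟶ V) (k : V ⟶ W) (hk : Tw k),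
        (l ≫ k) ≫ t = a.obj.hom → l ≫ (q k hk).t = a.obj.hom := fun a V l k hk w =>
      (congrArg (l ≫ ·) (ht k hk)).trans ((Category.assoc _ _ _).symm.trans w)
    let E : ∀ (a : (Stk.sieveCat R).obj) (k : a.obj.left ⟶ W) (_ : Tw k) (_ : k ≫ t = a.obj.hom),
        H.obj a ⟶ x.obj (Over.mk v) := fun a k hk w =>
      (q k hk).fam.e a (𝟙 _) (hwk a (𝟙 _) k hk (by rw [Category.id_comp]; exact w)) ≫ x.map (up k hk)
    have E_congr : ∀ a {k k' : a.obj.left ⟶ W} (_ : k = k') hk w hk' w', E a k hk w = E a k' hk' w' := by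
      rintro a k k' rfl hk w hk' w'
      rfl
    have E_lift : ∀ a k hk w, 𝒳.p.IsHomLift k (E a k hk w) := fun a k hk w => by
      have hup : 𝒳.p.IsHomLift k (x.map (up k hk)) := overMap_isHomLift x (up k hk)
      have := (q k hk).fam.lift a (𝟙 _) (hwk a (𝟙 _) k hk (by rw [Category.id_comp]; exact w))
      exact IsHomLift.comp_lift_id_left' 𝒳.p a.obj.left _ k (x.map (up k hk))
    have E_eq : ∀ (a : (Stk.sieveCat R).obj) ⦃V : Over S⦄ (l : a.obj.left ⟶ V) (k : V ⟶ W) (hk : Tw k)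
        (w : (l ≫ k) ≫ t = a.obj.hom),
        E a (l ≫ k) (Tw.downward_closed hk l) w = (q k hk).fam.e a l (hwk a l k hk w) ≫ x.map (up k hk) :=
      fun a V l k hk w => by
        obtain ⟨i, j, r⟩ := hc l k hk
        let hl : (Over.mk (q (l ≫ k) (Tw.downward_closed hk l)).u : Over U₀) ⟶ Over.mk (q k hk).u :=
          Over.homMk l j.symm
        have e : up (l ≫ k) (Tw.downward_closed hk l) = hl ≫ up k hk := Over.OverMorphism.ext rfl
        show _ ≫ x.map _ = _
        rw [e, x.toFunctor.map_comp, ← Category.assoc]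
        refine congrArg (· ≫ x.map (up k hk)) ?_
        refine (r a (𝟙 _) (by rw [Category.id_comp]; exact hwk a l k hk w) _ hl rfl).trans ?_
        exact (q k hk).fam.e_congr (Category.id_comp l) _ _
    have E_nat : ∀ {a' a : (Stk.sieveCat R).obj} (h : a' ⟶ a) (k : a.obj.left ⟶ W) (hk : Tw k)
        (w : k ≫ t = a.obj.hom) (w' : (h.hom.left ≫ k) ≫ t = a'.obj.hom),
        H.map h ≫ E a k hk w = E a' (h.hom.left ≫ k) (Tw.downward_closed hk _) w' := fun {a' a} h k hk w w' => by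
      rw [E_eq a' h.hom.left k hk w']
      show H.map h ≫ _ ≫ _ = _
      rw [← Category.assoc, (q k hk).fam.nat h (𝟙 _) _ (by rw [Category.comp_id]; exact hwk _ _ k hk w'),
        (q k hk).fam.e_congr (Category.comp_id _) _ (hwk _ _ k hk w')]
    have hex : ∀ (a : (Stk.sieveCat R).obj) (g : a.obj.left ⟶ W), g ≫ t = a.obj.hom →
        ∃ φ : H.obj a ⟶ x.obj (Over.mk v), 𝒳.p.IsHomLift g φ ∧
          ∀ (a₁ : (Stk.sieveCat R).obj) (h : a₁ ⟶ a) (hk : Tw (h.hom.left ≫ g)) w,
            H.map h ≫ φ = E a₁ (h.hom.left ≫ g) hk w := by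
      intro a g w
      let Gm : ∀ {y : 𝒳.obj} (n : y ⟶ H.obj a), 𝒳.p.obj y ⟶ a.obj.left := fun n =>
        𝒳.p.map n ≫ eqToHom (H.w_obj a)
      let A : ∀ {y : 𝒳.obj} (n : y ⟶ H.obj a), (Stk.sieveCat R).obj := fun n =>
        sob (Gm n ≫ a.obj.hom) (R.downward_closed a.property _)
      let hA : ∀ {y : 𝒳.obj} (n : y ⟶ H.obj a), A n ⟶ a := fun n => ObjectProperty.homMk (Over.homMk (Gm n) rfl)
      have hAw : ∀ {y : 𝒳.obj} (n : y ⟶ H.obj a), (Gm n ≫ g) ≫ t = (A n).obj.hom := fun n => by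
        rw [Category.assoc, w]; rfl
      have hj : ∀ {y : 𝒳.obj} (n : y ⟶ H.obj a), ∃ j : y ⟶ H.obj (A n),
          𝒳.p.map j = eqToHom (H.w_obj (A n)).symm ∧ j ≫ H.map (hA n) = n := fun {y} n => by
        refine exists_factor hY _ n _ ?_
        have := map_lift (H := H) (hA n)
        rw [IsHomLift.fac' 𝒳.p (hA n).hom.left (H.map (hA n))]
        simp [hA, Gm]
      choose j hj1 hj2 using @hj
      let Rs : Sieve (𝒳.p.obj (H.obj a)) := Tw.pullback (eqToHom (H.w_obj a) ≫ g)
      have hRs : ∀ {y : 𝒳.obj} (n : y ⟶ H.obj a), Rs (𝒳.p.map n) → Tw (Gm n ≫ g) := fun n hn => by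
        show Tw.arrows ((𝒳.p.map n ≫ _) ≫ g)
        rw [Category.assoc]
        exact hn
      obtain ⟨φ, hφ1, hφ2⟩ := exists_glue hP (x' := x.obj (Over.mk v))
        (eqToHom (H.w_obj a) ≫ g ≫ eqToHom (x.w_obj (Over.mk v)).symm) Rs ((J S).pullback_stable _ hT)
        (fun {y} n hn => j n ≫ E (A n) (Gm n ≫ g) (hRs n hn) (hAw n))
        (fun {y} n hn => by
          have := E_lift (A n) (Gm n ≫ g) (hRs n hn) (hAw n)
          rw [Functor.map_comp, hj1, IsHomLift.fac' 𝒳.p (Gm n ≫ g) (E (A n) (Gm n ≫ g) (hRs n hn) (hAw n))]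
          simp [Gm])
        (fun {y' y} l n hn hn' => by
          let hl : A (l ≫ n) ⟶ A n := ObjectProperty.homMk (Over.homMk (𝒳.p.map l) (by simp [A, Gm]))
          have hGl : Gm (l ≫ n) ≫ g = hl.hom.left ≫ Gm n ≫ g := by simp [Gm, hl]
          have hjh : j (l ≫ n) ≫ H.map hl = l ≫ j n := by
            refine hom_ext_cart hY (H.map (hA n)) ?_ ?_
            · have := map_lift (H := H) hl
              rw [Functor.map_comp, Functor.map_comp, hj1, hj1, IsHomLift.fac' 𝒳.p hl.hom.left (H.map hl)]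
              simp [hl]
            · rw [Category.assoc, Category.assoc, ← H.toFunctor.map_comp, hj2,
                show hl ≫ hA n = hA (l ≫ n) from ObjectProperty.hom_ext _ (Over.OverMorphism.ext
                  (show 𝒳.p.map l ≫ Gm n = Gm (l ≫ n) by simp [Gm])), hj2]
          have w' : (hl.hom.left ≫ Gm n ≫ g) ≫ t = (A (l ≫ n)).obj.hom := by rw [← hGl]; exact hAw _
          rw [← reassoc_of% hjh, E_nat hl _ _ (hAw n) w']
          exact congrArg (_ ≫ ·) (E_congr _ hGl (hRs _ hn') (hAw _) _ w'))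
      refine ⟨φ, isHomLift_of_map (H.w_obj a) (x.w_obj _) hφ1, fun a₁ h hk w₁ => ?_⟩
      have := map_lift (H := H) h
      have hG : Gm (H.map h) = eqToHom (H.w_obj a₁) ≫ h.hom.left := by
        show 𝒳.p.map _ ≫ _ = _
        rw [IsHomLift.fac' 𝒳.p h.hom.left (H.map h)]; simp
      have hmem : Rs (𝒳.p.map (H.map h)) := by
        show Tw.arrows (𝒳.p.map (H.map h) ≫ eqToHom _ ≫ g)
        rw [← Category.assoc, show 𝒳.p.map (H.map h) ≫ eqToHom (H.w_obj a) = _ from hG, Category.assoc]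
        exact Tw.downward_closed hk _
      let hh : A (H.map h) ⟶ a₁ := ObjectProperty.homMk (Over.homMk (eqToHom (H.w_obj a₁))
        (show eqToHom _ ≫ a₁.obj.hom = Gm (H.map h) ≫ a.obj.hom by
          rw [hG, Category.assoc]; exact congrArg (_ ≫ ·) (Over.w h.hom).symm))
      have hjh : j (H.map h) ≫ H.map hh = 𝟙 _ := by
        refine hom_ext_cart hY (H.map h) ?_ ?_
        · have := map_lift (H := H) hh
          rw [Functor.map_comp, hj1, IsHomLift.fac' 𝒳.p hh.hom.left (H.map hh)]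
          simp [hh]
        · rw [Category.assoc, Category.id_comp, ← H.toFunctor.map_comp,
            show hh ≫ h = hA (H.map h) from ObjectProperty.hom_ext _ (Over.OverMorphism.ext hG.symm), hj2]
      have hGg : Gm (H.map h) ≫ g = hh.hom.left ≫ h.hom.left ≫ g := by rw [hG, Category.assoc]; rfl
      have w₂ : (hh.hom.left ≫ h.hom.left ≫ g) ≫ t = (A (H.map h)).obj.hom := by rw [← hGg]; exact hAw _
      rw [hφ2 (H.map h) hmem, E_congr _ hGg (hRs _ hmem) (hAw _) (Tw.downward_closed hk _) w₂, ← E_nat hh _ hk w₁ w₂,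
        reassoc_of% hjh]
    choose φ hφ1 hφ2 using hex
    refine ⟨(⟨t, v, ⟨φ, hφ1, fun {a a'} h g' w' w => ?_⟩⟩ : QPt H x W), fun V f hf =>
      res_eq hY ⟨ht f hf, hu f hf, fun a g w w' l hl => ?_⟩⟩
    · have := map_lift (H := H) h
      have := hφ1 a' g' w'
      have := hφ1 a (h.hom.left ≫ g') w
      refine hom_ext_local hP _ _ ?_ (R := Tw.pullback (eqToHom (H.w_obj a) ≫ h.hom.left ≫ g'))
        ((J S).pullback_stable _ hT) fun V f hf => ?_
      · rw [IsHomLift.fac' 𝒳.p (h.hom.left ≫ g') (H.map h ≫ φ a' g' w'),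
          IsHomLift.fac' 𝒳.p (h.hom.left ≫ g') (φ a (h.hom.left ≫ g') w)]
      · let f' : V ⟶ a.obj.left := f ≫ eqToHom (H.w_obj a)
        let hf' : sob (f' ≫ a.obj.hom) (R.downward_closed a.property f') ⟶ a :=
          ObjectProperty.homMk (Over.homMk f' rfl)
        have hk : Tw (hf'.hom.left ≫ h.hom.left ≫ g') := by
          show Tw.arrows ((f ≫ eqToHom _) ≫ h.hom.left ≫ g')
          rwa [Category.assoc]
        have hk' : Tw ((hf' ≫ h).hom.left ≫ g') := by
          exact (congrArg (fun m => Tw.arrows m) (Category.assoc hf'.hom.left h.hom.left g')).mpr hk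
        have := map_lift (H := H) hf'
        refine ⟨_, H.map hf', isHomLift_of_map (H.w_obj _) rfl (by
          rw [IsHomLift.fac' 𝒳.p hf'.hom.left (H.map hf')]; simp [hf', f']), ?_⟩
        have wk : (hf'.hom.left ≫ h.hom.left ≫ g') ≫ t = _ := (Category.assoc _ _ _).trans
          ((congrArg (_ ≫ ·) w).trans (Over.w hf'.hom))
        have wk' : ((hf' ≫ h).hom.left ≫ g') ≫ t = _ := (congrArg (· ≫ t) (Category.assoc _ _ _)).trans wk
        rw [← Category.assoc, ← H.toFunctor.map_comp, hφ2 a' g' w' _ (hf' ≫ h) hk' wk',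
          hφ2 a _ w _ hf' hk wk]
        exact E_congr _ (Category.assoc hf'.hom.left h.hom.left g') hk' wk' hk wk
    · obtain rfl : l = up f hf := Over.OverMorphism.ext hl
      have := hφ2 a (g ≫ f) w a (𝟙 a)
        (by show Tw.arrows (𝟙 _ ≫ g ≫ f); rw [Category.id_comp]; exact Tw.downward_closed hf g)
        (by show (𝟙 _ ≫ g ≫ f) ≫ t = _; rw [Category.id_comp]; exact w)
      rw [H.toFunctor.map_id, Category.id_comp] at this
      refine Eq.trans ?_ this.symm
      refine Eq.trans (E_eq a g f hf w).symm ?_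
      exact E_congr _ (Category.id_comp (g ≫ f)).symm _ w _ ((congrArg (· ≫ t) (Category.id_comp (g ≫ f))).trans w)

variable (H x) in
/-- The sheaf of extensions. -/
noncomputable def qSp (hP : Stk.IsPrestack (J S) 𝒳) : Sp S := ⟨qPsh H x hP.1, isSheaf_qPsh hP⟩

variable (H x) in
/-- The projection of the sheaf of extensions. -/
noncomputable def qπ (hP : Stk.IsPrestack (J S) 𝒳) : qSp H x hP ⟶ (yon S).obj T :=
  ObjectProperty.homMk
    { app := fun W => TypeCat.ofHom fun q : QPt H x W.unop => ⟨q.t⟩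
      naturality := fun W V g => by
        ext q
        exact congrArg ULift.up (isRes_res hP.1 g.unop q).1 }

end Groth.Agent.AlgStLib.EtExt
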