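import Groth.Prelude.Def_AlgSt2
import Groth.Agent.AlgStLib.SheafGlue
import Groth.Agent.GerbLib.Glue
import Groth.Agent.StkLib.OfPsh
import Groth.Agent.StkLib.Basic
import Groth.Agent.AlgStLib.OfSp
import Groth.Agent.FibBase.FpMaps

/-!
# Presheaves of isomorphisms in a category fibred in groupoids
-/

set_option backward.isDefEq.respectTransparency false
set_option backward.isDefEq.respectTransparency.types false

universe u

open CategoryTheory CategoryTheory.Functor CategoryTheory.Limits Opposite AlgebraicGeometry AlgSp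
open Groth.Agent.FibBase Groth.Agent.AlgSpLib Groth.Agent.StkLib Groth.Agent.GerbLib

namespace Groth.Agent.AlgStLib.IsomPsh

variable {S : Scheme.{u}} {𝒴 : BasedCategory.{u, u + 1} (Over S)} {U : Over S}

section

variable (y₁ y₂ : FibCat.overCat U ⥤ᵇ 𝒴)

/-- A point of the sheaf of isomorphisms. -/
structure Pt (W : Over S) : Type u where
  t : W ⟶ U
  m : y₁.obj (Over.mk t) ⟶ y₂.obj (Over.mk t)
  lift : 𝒴.p.IsHomLift (𝟙 W) m

variable {y₁ y₂}

theorem Pt.ext' {W : Over S} {x x' : Pt y₁ y₂ W} (ht : x.t = x'.t)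
    (hm : ∀ h : (Over.mk x.t : Over U) ⟶ Over.mk x'.t, h.left = 𝟙 W → y₁.map h ≫ x'.m = x.m ≫ y₂.map h) : x = x' := by
  obtain ⟨t, m, _⟩ := x
  obtain ⟨t', m', _⟩ := x'
  obtain rfl : t = t' := ht
  have h := hm (𝟙 _) rfl
  rw [y₁.toFunctor.map_id, y₂.toFunctor.map_id, Category.id_comp, Category.comp_id] at h
  obtain rfl : m' = m := h
  rfl

/-- Two points related by restriction. -/
def IsRes {W W' : Over S} (g : W' ⟶ W) (x' : Pt y₁ y₂ W') (x : Pt y₁ y₂ W) : Prop :=
  x'.t = g ≫ x.t ∧ ∀ h : (Over.mk x'.t : Over U) ⟶ Over.mk x.t, h.left = g → x'.m ≫ y₂.map h = y₁.map h ≫ x.m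

variable (hY : FibCat.IsFibGrpd 𝒴.p)

theorem map_toId_eq {W W' : Over S} {t : W ⟶ U} {t' : W' ⟶ U} (h : (Over.mk t' : Over U) ⟶ Over.mk t) :
    h ≫ toId (Over.mk t) = toId (Over.mk t') := Over.OverMorphism.ext (Over.w h)

include hY in
theorem existsUnique_res {W W' : Over S} (g : W' ⟶ W) (x : Pt y₁ y₂ W) : ∃! x' : Pt y₁ y₂ W', IsRes g x' x := by
  let h₀ : (Over.mk (g ≫ x.t) : Over U) ⟶ Over.mk x.t := Over.homMk g rfl
  have := x.lift
  have hs : 𝒴.p.IsHomLift g (y₂.map h₀) := overMap_isHomLift y₂ h₀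
  have : 𝒴.p.IsHomLift g (y₁.map h₀) := overMap_isHomLift y₁ h₀
  have := isSC (hp := hY) g (y₂.map h₀)
  have : 𝒴.p.IsHomLift g (y₁.map h₀ ≫ x.m) := IsHomLift.comp_lift_id_right' 𝒴.p g (y₁.map h₀) W x.m
  let m' := IsStronglyCartesian.map 𝒴.p g (y₂.map h₀) (Category.id_comp g).symm (y₁.map h₀ ≫ x.m)
  have hm' : m' ≫ y₂.map h₀ = y₁.map h₀ ≫ x.m := IsStronglyCartesian.fac _ _ _ _ _
  refine ⟨⟨g ≫ x.t, m', inferInstance⟩, ⟨rfl, fun h hh => ?_⟩, ?_⟩
  · obtain rfl : h = h₀ := Over.OverMorphism.ext hh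
    exact hm'
  · rintro ⟨t'', m'', hl⟩ ⟨ht, hr⟩
    obtain rfl : t'' = g ≫ x.t := ht
    have e : m'' = m' := IsStronglyCartesian.ext 𝒴.p g (y₂.map h₀) (𝟙 W') ((hr h₀ rfl).trans hm'.symm)
    subst e
    rfl

/-- Restriction of points. -/
noncomputable def res {W W' : Over S} (g : W' ⟶ W) (x : Pt y₁ y₂ W) : Pt y₁ y₂ W' :=
  (existsUnique_res hY g x).exists.choose

theorem isRes_res {W W' : Over S} (g : W' ⟶ W) (x : Pt y₁ y₂ W) : IsRes g (res hY g x) x :=
  (existsUnique_res hY g x).exists.choose_spec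

theorem res_eq {W W' : Over S} {g : W' ⟶ W} {x : Pt y₁ y₂ W} {x' : Pt y₁ y₂ W'} (h : IsRes g x' x) :
    res hY g x = x' :=
  (existsUnique_res hY g x).unique (isRes_res hY g x) h

theorem isRes_id {W : Over S} (x : Pt y₁ y₂ W) : IsRes (𝟙 W) x x :=
  ⟨(Category.id_comp _).symm, fun h hh => by
    obtain rfl : h = 𝟙 _ := Over.OverMorphism.ext hh
    rw [y₁.toFunctor.map_id, y₂.toFunctor.map_id, Category.id_comp, Category.comp_id]⟩

theorem isRes_comp {W W' W'' : Over S} {g : W' ⟶ W} {g' : W'' ⟶ W'} {x : Pt y₁ y₂ W} {x' : Pt y₁ y₂ W'}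
    {x'' : Pt y₁ y₂ W''} (h : IsRes g x' x) (h' : IsRes g' x'' x') : IsRes (g' ≫ g) x'' x := by
  refine ⟨by rw [h'.1, h.1, Category.assoc], fun k hk => ?_⟩
  let k₁ : (Over.mk x'.t : Over U) ⟶ Over.mk x.t := Over.homMk g h.1.symm
  let k₂ : (Over.mk x''.t : Over U) ⟶ Over.mk x'.t := Over.homMk g' h'.1.symm
  obtain rfl : k = k₂ ≫ k₁ := Over.OverMorphism.ext hk
  rw [y₂.toFunctor.map_comp, y₁.toFunctor.map_comp, ← Category.assoc, h'.2 k₂ rfl, Category.assoc, h.2 k₁ rfl,
    Category.assoc]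

variable (y₁ y₂) in
/-- The presheaf of isomorphisms. -/
noncomputable def presheaf : (Over S)ᵒᵖ ⥤ Type u where
  obj W := Pt y₁ y₂ W.unop
  map g := TypeCat.ofHom (res hY g.unop)
  map_id W := by
    ext x
    exact res_eq hY (isRes_id x)
  map_comp g g' := by
    ext x
    exact res_eq hY (isRes_comp (isRes_res hY g.unop x) (isRes_res hY g'.unop _))

/-- A morphism of points gives a restriction. -/
theorem isRes_of_hom {p p' : (Stk.ofPsh (presheaf y₁ y₂ hY)).obj} (f : p ⟶ p') :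
    IsRes f.hom (p.sec : Pt y₁ y₂ p.base) (p'.sec : Pt y₁ y₂ p'.base) := by
  have e : res hY f.hom (p'.sec : Pt y₁ y₂ p'.base) = p.sec := f.map_sec
  rw [← e]
  exact isRes_res hY _ _

end

section Diag

variable (hY : FibCat.IsFibGrpd 𝒴.p) (y : FibCat.overCat U ⥤ᵇ FibCat.fp (FibCat.toSelf 𝒴) (FibCat.toSelf 𝒴))

/-- The first component. -/
abbrev fstC : FibCat.overCat U ⥤ᵇ 𝒴 := BasedFunctor.comp y (FibCat.fpFst _ _)

/-- The second component. -/
abbrev sndC : FibCat.overCat U ⥤ᵇ 𝒴 := BasedFunctor.comp y (FibCat.fpSnd _ _)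

variable (p : (Stk.ofPsh (presheaf (fstC y) (sndC y) hY)).obj)

/-- The point underlying an object. -/
abbrev ptOf : Pt (fstC y) (sndC y) p.base := p.sec

/-- The isomorphism from a pair to a diagonal object given by a point. -/
noncomputable def ptIso : y.obj (Over.mk (ptOf hY y p).t) ≅
    (FibCat.diag (FibCat.toSelf 𝒴)).obj ((fstC y).obj (Over.mk (ptOf hY y p).t)) :=
  have := (ptOf hY y p).lift
  have : IsIso (ptOf hY y p).m := isIso_of_lift (hp := hY) (𝟙 p.base) _
  fpIsoMk (Iso.refl _) (asIso (ptOf hY y p).m).symm (by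
    have : 𝒴.p.IsHomLift (𝟙 p.base) (asIso (ptOf hY y p).m).hom := (ptOf hY y p).lift
    have := IsHomLift.lift_id_inv 𝒴.p p.base (asIso (ptOf hY y p).m)
    show 𝒴.p.map (𝟙 _) ≫ 𝟙 _ = (y.obj (Over.mk (ptOf hY y p).t)).obj.iso.hom ≫ 𝒴.p.map (asIso (ptOf hY y p).m).inv
    have hi := (y.obj (Over.mk (ptOf hY y p).t)).property
    have e1 := IsHomLift.fac' 𝒴.p (𝟙 p.base) (asIso (ptOf hY y p).m).inv
    have e2 : (y.obj (Over.mk (ptOf hY y p).t)).obj.iso.hom = _ :=
      map_eq_of_isHomLift_id (p := (FibCat.selfOver (Over S)).p) hi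
    rw [e1, e2]
    erw [𝒴.p.map_id]
    simp
    rfl)

theorem ptIso_lift : (FibCat.fp (FibCat.toSelf 𝒴) (FibCat.toSelf 𝒴)).p.IsHomLift (𝟙 p.base) (ptIso hY y p).hom :=
  have : 𝒴.p.IsHomLift (𝟙 p.base) (𝟙 ((fstC y).obj (Over.mk (ptOf hY y p).t))) :=
    IsHomLift.id ((fstC y).w_obj _)
  fp_isHomLift (F := FibCat.toSelf 𝒴) (G := FibCat.toSelf 𝒴) (𝟙 p.base) _ (h := this)

theorem m_comp_ptIso : (ptOf hY y p).m ≫ (ptIso hY y p).hom.hom.snd = 𝟙 _ := by simp [ptIso, fpIsoMk]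

theorem ptIso_comp_m : (ptIso hY y p).hom.hom.snd ≫ (ptOf hY y p).m = 𝟙 _ := by simp [ptIso, fpIsoMk]

variable {p} {p' : (Stk.ofPsh (presheaf (fstC y) (sndC y) hY)).obj} (f : p ⟶ p')

/-- A morphism of points as a morphism of pairs. -/
abbrev baseMap : (Over.mk (ptOf hY y p).t : Over U) ⟶ Over.mk (ptOf hY y p').t :=
  Over.homMk f.hom (isRes_of_hom hY f).1.symm

/-- The functor from points to the fibre product with the diagonal. -/
noncomputable def isomFun : Stk.ofPsh (presheaf (fstC y) (sndC y) hY) ⥤ᵇ FibCat.fp y (FibCat.diag (FibCat.toSelf 𝒴)) where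
  toFunctor :=
    { obj := fun p => ⟨⟨Over.mk (ptOf hY y p).t, (fstC y).obj (Over.mk (ptOf hY y p).t), ptIso hY y p⟩, ptIso_lift hY y p⟩
      map := fun {p p'} f => ObjectProperty.homMk
        { fst := baseMap hY y f
          snd := (fstC y).map (baseMap hY y f)
          w := by
            refine ObjectProperty.hom_ext _ (CategoricalPullback.hom_ext ?_ ?_)
            · show (fstC y).map (baseMap hY y f) ≫ 𝟙 _ = 𝟙 _ ≫ (fstC y).map (baseMap hY y f)
              simp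
            · show (sndC y).map (baseMap hY y f) ≫ (ptIso hY y p').hom.hom.snd =
                (ptIso hY y p).hom.hom.snd ≫ (fstC y).map (baseMap hY y f)
              have e := (isRes_of_hom hY f).2 (baseMap hY y f) rfl
              have e' := congrArg (fun t => (ptIso hY y p).hom.hom.snd ≫ t ≫ (ptIso hY y p').hom.hom.snd) e
              simp only [Category.assoc, reassoc_of% (ptIso_comp_m hY y p), m_comp_ptIso, Category.comp_id] at e'
              exact e' }
      map_id := fun p => ObjectProperty.hom_ext _ (CategoricalPullback.hom_ext (Over.OverMorphism.ext rfl) (by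
        show (fstC y).map (baseMap hY y (𝟙 p)) = 𝟙 _
        rw [show baseMap hY y (𝟙 p) = 𝟙 _ from Over.OverMorphism.ext rfl]
        exact (fstC y).toFunctor.map_id _))
      map_comp := fun f g => ObjectProperty.hom_ext _ (CategoricalPullback.hom_ext (Over.OverMorphism.ext rfl) (by
        show (fstC y).map (baseMap hY y (f ≫ g)) = (fstC y).map (baseMap hY y f) ≫ (fstC y).map (baseMap hY y g)
        rw [← (fstC y).toFunctor.map_comp]
        exact congrArg (fstC y).map (Over.OverMorphism.ext rfl))) }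
  w := rfl

/-- The fibre product with the diagonal is the sheaf of isomorphisms. -/
theorem isomFun_isEquivOver : FibCat.IsEquivOver (isomFun hY y) := by
  refine isEquivOver_of_exists_iso _ ⟨fun {p p'} μ => ?_⟩ ⟨fun {p p'} f g e => ?_⟩ fun θ => ?_
  · have w := μ.hom.w
    have hw1 : (fstC y).map μ.hom.fst ≫ 𝟙 _ = 𝟙 _ ≫ μ.hom.snd := congrArg (fun t => t.hom.fst) w
    rw [Category.comp_id, Category.id_comp] at hw1
    have hw2 : (sndC y).map μ.hom.fst ≫ (ptIso hY y p').hom.hom.snd = (ptIso hY y p).hom.hom.snd ≫ μ.hom.snd :=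
      congrArg (fun t => t.hom.snd) w
    have hinv := m_comp_ptIso hY y
    have hinv' := ptIso_comp_m hY y
    have hr : IsRes μ.hom.fst.left (ptOf hY y p) (ptOf hY y p') := by
      refine ⟨(Over.w μ.hom.fst).symm, fun k hk => ?_⟩
      obtain rfl : k = μ.hom.fst := Over.OverMorphism.ext hk
      have e := congrArg (fun t => (ptOf hY y p).m ≫ t ≫ (ptOf hY y p').m) hw2
      simp only [Category.assoc, hinv', Category.comp_id, reassoc_of% (hinv p), ← hw1] at e
      exact (congrArg (_ ≫ ·) (Category.comp_id _).symm).trans e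
    refine ⟨⟨μ.hom.fst.left, res_eq hY hr⟩, ObjectProperty.hom_ext _ (CategoricalPullback.hom_ext
      (Over.OverMorphism.ext rfl) ?_)⟩
    exact (congrArg (fstC y).map (Over.OverMorphism.ext rfl)).trans hw1
  · exact Stk.EltObj.hom_ext (congrArg (fun t => t.hom.fst.left) e)
  · obtain ⟨⟨a, z, i⟩, hi⟩ := θ
    have hi' : (FibCat.fp (FibCat.toSelf 𝒴) (FibCat.toSelf 𝒴)).p.IsHomLift (𝟙 a.left) i.hom := hi
    have hif : 𝒴.p.IsHomLift (𝟙 a.left) i.hom.hom.fst :=
      (FibCat.fpFst (FibCat.toSelf 𝒴) (FibCat.toSelf 𝒴)).preserves_isHomLift (𝟙 a.left) i.hom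
    let m : (fstC y).obj (Over.mk a.hom) ⟶ (sndC y).obj (Over.mk a.hom) := i.hom.hom.fst ≫ i.inv.hom.snd
    have his : 𝒴.p.IsHomLift (𝟙 a.left) i.inv.hom.snd := by
      have := IsHomLift.lift_id_inv (FibCat.fp (FibCat.toSelf 𝒴) (FibCat.toSelf 𝒴)).p a.left i
      exact fp_isHomLift_snd' (F := FibCat.toSelf 𝒴) (G := FibCat.toSelf 𝒴) (𝟙 a.left) i.inv (h := this)
    have hm : 𝒴.p.IsHomLift (𝟙 a.left) m := inferInstanceAs (𝒴.p.IsHomLift (𝟙 a.left) (i.hom.hom.fst ≫ i.inv.hom.snd))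
    let q : (Stk.ofPsh (presheaf (fstC y) (sndC y) hY)).obj := ⟨a.left, (⟨a.hom, m, hm⟩ : Pt (fstC y) (sndC y) a.left)⟩
    let s : (fstC y).obj (Over.mk a.hom) ≅ z :=
      { hom := i.hom.hom.fst
        inv := i.inv.hom.fst
        hom_inv_id := congrArg (fun t => t.hom.fst) i.hom_inv_id
        inv_hom_id := congrArg (fun t => t.hom.fst) i.inv_hom_id }
    refine ⟨q, fpIsoMk (F := y) (G := FibCat.diag (FibCat.toSelf 𝒴)) (x := (isomFun hY y).obj q) (y := ⟨⟨a, z, i⟩, hi⟩)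
      (Iso.refl _) s ?_, ?_⟩
    · show y.map (𝟙 a) ≫ i.hom = (ptIso hY y q).hom ≫ (FibCat.diag (FibCat.toSelf 𝒴)).map s.hom
      rw [y.toFunctor.map_id, Category.id_comp]
      refine ObjectProperty.hom_ext _ (CategoricalPullback.hom_ext ?_ ?_)
      · exact (Category.id_comp _).symm
      · have hinv' : (ptIso hY y q).hom.hom.snd ≫ m = 𝟙 _ := ptIso_comp_m hY y q
        show i.hom.hom.snd = (ptIso hY y q).hom.hom.snd ≫ i.hom.hom.fst
        have e : i.inv.hom.snd ≫ i.hom.hom.snd = 𝟙 _ := congrArg (fun t => t.hom.snd) i.inv_hom_id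
        calc i.hom.hom.snd = ((ptIso hY y q).hom.hom.snd ≫ m) ≫ i.hom.hom.snd := by rw [hinv']; exact (Category.id_comp _).symm
          _ = _ := by
            simp only [m, Category.assoc, e, Category.comp_id]
            exact congrArg (_ ≫ ·) (Category.comp_id _)
    · exact fp_isHomLift (F := y) (G := FibCat.diag (FibCat.toSelf 𝒴)) (𝟙 a.left) _
        (h := (IsHomLift.id rfl : (FibCat.overCat U).p.IsHomLift (𝟙 a.left) (𝟙 a)))

end Diag

section Prestack

variable {hY : FibCat.IsFibGrpd 𝒴.p} (hd : AlgSt.RepByAlgSp1 (FibCat.diag (FibCat.toSelf 𝒴)))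

include hd

/-- Isomorphism presheaves are fppf sheaves when the diagonal is representable by algebraic spaces. -/
theorem isSheaf_presheaf_of_diag (G G' : FibCat.overCat U ⥤ᵇ 𝒴) :
    Presieve.IsSheaf (J S) (presheaf G G' hY) := by
  let y : FibCat.overCat U ⥤ᵇ FibCat.fp (FibCat.toSelf 𝒴) (FibCat.toSelf 𝒴) :=
    FibCat.fpLift G G' (selfIso _ _)
  obtain ⟨F, e, he⟩ := hd U y
  have h1 : Stk.IsStack (J S) (AlgSt.ofSp F.obj) :=
    (isStack_ofPsh_iff _ _).2 ((isSheaf_iff_isSheaf_of_type _ _).1 F.obj.property)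
  have h2 := (isStack_iff_of_isEquivOver (J S) he).1 h1
  exact (isStack_ofPsh_iff (presheaf (fstC y) (sndC y) hY) _).1
    ((isStack_iff_of_isEquivOver (J S) (isomFun_isEquivOver hY y)).2 h2)

include hY in
/-- A category fibred in groupoids with representable diagonal is an fppf prestack. -/
theorem isPrestack_of_diag : Stk.IsPrestack (J S) 𝒴 := by
  refine ⟨hY, fun U R hR => ⟨⟨fun {G G'} γ => ?_⟩, ⟨fun {G G'} {α β} hαβ => ?_⟩⟩⟩
  · let fam : Presieve.FamilyOfElements (presheaf G G' hY) R.arrows := fun V f hf =>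
      (⟨f, γ.toNatTrans.app (sob f hf), γ.isHomLift' (sob f hf)⟩ : Pt G G' V)
    have hfam : fam.Compatible := (Presieve.compatible_iff_sieveCompatible fam).2 fun V W f g hf => by
      refine (res_eq hY ⟨rfl, fun h hh => ?_⟩).symm
      exact (γ.toNatTrans.naturality (ObjectProperty.homMk h : sob (g ≫ f) (R.downward_closed hf g) ⟶ sob f hf)).symm
    obtain ⟨x, hx, -⟩ := isSheaf_presheaf_of_diag hd G G' R hR fam hfam
    have hx' : ∀ ⦃V : Over S⦄ (f : V ⟶ U) (hf : R f), IsRes f (fam f hf : Pt G G' V) (x : Pt G G' U) := fun V f hf => by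
      rw [← hx f hf]
      exact isRes_res hY f x
    obtain ⟨t, m, hm⟩ := (x : Pt G G' U)
    obtain rfl : t = 𝟙 U := (yon S).map_injective (hom_ext_of_covering _ _ hR fun V f hf => by
      rw [← Functor.map_comp, ← Functor.map_comp, ← (hx' f hf).1, Category.comp_id])
    refine ⟨homOfEval (preserves_of_isFibGrpd hY G') m hm, hext fun a => ?_⟩
    show (homOfEval (preserves_of_isFibGrpd hY G') m hm).toNatTrans.app a.obj = γ.toNatTrans.app a
    have : 𝒴.p.IsHomLift a.obj.hom (G'.map (toId a.obj)) := overMap_isHomLift G' (toId a.obj)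
    have h1 : 𝒴.p.IsHomLift (𝟙 a.obj.left) ((homOfEval (preserves_of_isFibGrpd hY G') m hm).toNatTrans.app a.obj) :=
      BasedNatTrans.isHomLift _ rfl
    have h2 : 𝒴.p.IsHomLift (𝟙 a.obj.left) (γ.toNatTrans.app a) := γ.isHomLift' a
    have := isSC (hp := hY) a.obj.hom (G'.map (toId a.obj))
    refine @IsStronglyCartesian.ext _ _ _ _ 𝒴.p _ _ _ _ a.obj.hom (G'.map (toId a.obj)) this _ _
      (𝟙 a.obj.left) _ _ h1 h2 ?_
    refine ((homOfEval (preserves_of_isFibGrpd hY G') m hm).toNatTrans.naturality (toId a.obj)).symm.trans ?_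
    rw [homOfEval_app]
    exact ((hx' a.obj.hom a.property).2 (toId a.obj) rfl).symm
  · have key : (⟨𝟙 U, α.toNatTrans.app _, BasedNatTrans.isHomLift _ rfl⟩ : Pt G G' U) =
        ⟨𝟙 U, β.toNatTrans.app _, BasedNatTrans.isHomLift _ rfl⟩ := by
      refine (isSheaf_presheaf_of_diag (hY := hY) hd G G').isSeparated R hR |>.ext fun V f hf => ?_
      have hf' : R (f ≫ 𝟙 U) := by rwa [Category.comp_id]
      refine (res_eq hY (x' := ⟨f ≫ 𝟙 U, α.toNatTrans.app _, BasedNatTrans.isHomLift _ rfl⟩)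
        ⟨rfl, fun h _ => (α.toNatTrans.naturality h).symm⟩).trans (Eq.symm ?_)
      refine (res_eq hY (x' := ⟨f ≫ 𝟙 U, β.toNatTrans.app _, BasedNatTrans.isHomLift _ rfl⟩)
        ⟨rfl, fun h _ => (β.toNatTrans.naturality h).symm⟩).trans ?_
      congr 1
      exact congrArg (fun t => t.toNatTrans.app (sob (f ≫ 𝟙 U) hf')) hαβ.symm
    have hid : α.toNatTrans.app (Over.mk (𝟙 U)) = β.toNatTrans.app (Over.mk (𝟙 U)) := by
      injection key
    refine hext fun a => ?_
    have : 𝒴.p.IsHomLift a.hom (G'.map (toId a)) := overMap_isHomLift G' (toId a)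
    have h1 : 𝒴.p.IsHomLift (𝟙 a.left) (α.toNatTrans.app a) := BasedNatTrans.isHomLift _ rfl
    have h2 : 𝒴.p.IsHomLift (𝟙 a.left) (β.toNatTrans.app a) := BasedNatTrans.isHomLift _ rfl
    have := isSC (hp := hY) a.hom (G'.map (toId a))
    refine IsStronglyCartesian.ext 𝒴.p a.hom (G'.map (toId a)) (𝟙 a.left) ?_
    rw [← α.toNatTrans.naturality, ← β.toNatTrans.naturality, hid]

end Prestack

end Groth.Agent.AlgStLib.IsomPsh
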