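import Groth.Agent.AlgStLib.LocQCalc
import Groth.Agent.AlgStLib.DiagLFT

/-!
# Properties read on smooth charts: representable functors, descent
-/

set_option backward.isDefEq.respectTransparency false
set_option backward.isDefEq.respectTransparency.types false

universe u

open CategoryTheory CategoryTheory.Functor CategoryTheory.Limits AlgebraicGeometry Opposite AlgSp

namespace Groth.Agent.AlgStLib

open Groth.Agent.FibBase Groth.Agent.AlgSpLib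

variable {S : Scheme.{u}} {𝒳 𝒴 𝒵 : AlgSt.Cat S} {P : MorphismProperty (Sp S)}

theorem pts_surjective_fpSnd (h𝒳 : FibCat.IsFibGrpd 𝒳.p) (h𝒴 : FibCat.IsFibGrpd 𝒴.p)
    (h𝒵 : FibCat.IsFibGrpd 𝒵.p) {f : 𝒳 ⥤ᵇ 𝒴} (g : 𝒵 ⥤ᵇ 𝒴) (hf : AlgSt.IsSurjective f) :
    AlgSt.IsSurjective (FibCat.fpSnd f g) := fun z => by
  obtain ⟨x, hx⟩ := hf (AlgSt.Points.map g z)
  obtain ⟨w, -, hw⟩ := exists_pts_fp h𝒵 h𝒴 h𝒳 g f x z hx
  exact ⟨w, hw⟩

theorem isSurjective_comp {f : 𝒳 ⥤ᵇ 𝒴} {g : 𝒴 ⥤ᵇ 𝒵} (hf : AlgSt.IsSurjective f) (hg : AlgSt.IsSurjective g) :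
    AlgSt.IsSurjective (BasedFunctor.comp f g) := fun z => by
  obtain ⟨y, rfl⟩ := hg z
  obtain ⟨x, rfl⟩ := hf y
  exact ⟨x, pts_map_comp f g x⟩

theorem isSurjectiveMor_spHom {F G : Sp S} {Φ : AlgSt.ofSp F ⥤ᵇ AlgSt.ofSp G} (h : AlgSt.IsSurjective Φ) :
    IsSurjectiveMor (spHom Φ) := fun x => by
  obtain ⟨x', rfl⟩ := spPt_bijective.2 x
  obtain ⟨w, rfl⟩ := h x'
  exact ⟨spPt w, ((spPt_map_ofSpMap _ w).symm).trans (congrArg spPt (pts_map_congr (isoOfSpMap Φ).symm w))⟩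

/-- The map of charts of a functor surjective on points is surjective. -/
theorem surj_chart (h𝒳 : AlgSt.IsAlgStack Scheme.fppfPrecoverage 𝒳)
    (h𝒴 : AlgSt.IsAlgStack Scheme.fppfPrecoverage 𝒴) {f : 𝒳 ⥤ᵇ 𝒴} (hf : AlgSt.IsSurjective f)
    {U V : AlgSp.Space S} {y : AlgSt.ofSp V.obj ⥤ᵇ 𝒴} {c : AlgSt.ofSp U.obj ⥤ᵇ FibCat.fp f y}
    (hc : AlgSt.RepByAlgSpWith IsSurjectiveMor c) :
    IsSurjectiveMor (spHom (BasedFunctor.comp c (FibCat.fpSnd f y))) :=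
  isSurjectiveMor_spHom (isSurjective_comp
    (pts_map_surjective_ofSp (fp_isFibGrpd h𝒳.isStack.1 (isFibGrpd_ofSp V.obj) h𝒴.isStack.1) U hc)
    (pts_surjective_fpSnd h𝒳.isStack.1 h𝒴.isStack.1 (isFibGrpd_ofSp V.obj) y hf))

/-- A surjective flat and locally finitely presented functor has a chart which is an fppf covering. -/
theorem exists_fppf_chart (h𝒵 : AlgSt.IsAlgStack Scheme.fppfPrecoverage 𝒵)
    (h𝒴 : AlgSt.IsAlgStack Scheme.fppfPrecoverage 𝒴) {z : 𝒵 ⥤ᵇ 𝒴} (hz₁ : AlgSt.LocQ (LocP @Flat) z)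
    (hz₂ : AlgSt.LocQ (LocP @LocallyOfFinitePresentation) z) (hz₃ : AlgSt.IsSurjective z) {V : AlgSp.Space S}
    {y : AlgSt.ofSp V.obj ⥤ᵇ 𝒴} (hy : AlgSt.RepByAlgSpWith (LocP @Smooth) y) :
    ∃ (W : AlgSp.Space S) (w : AlgSt.ofSp W.obj ⥤ᵇ 𝒵) (k : W.obj ⟶ V.obj),
      AlgSt.RepByAlgSpWith (LocP @Smooth) w ∧
      Nonempty (BasedFunctor.comp w z ≅ BasedFunctor.comp (AlgSt.ofSpMap k) y) ∧
      (LocP @Flat k ∧ LocP @LocallyOfFinitePresentation k) ∧ IsSurjectiveMor k := by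
  obtain ⟨W, d, hd, hd'⟩ := exists_space_atlas_fp h𝒵 h𝒴 z y
  have hg := fp_isFibGrpd (F := z) (G := y) h𝒵.isStack.1 (isFibGrpd_ofSp V.obj) h𝒴.isStack.1
  exact ⟨W, BasedFunctor.comp d (FibCat.fpFst z y), spHom (BasedFunctor.comp d (FibCat.fpSnd z y)),
    repByAlgSpWith_locP_comp (isFibGrpd_ofSp W.obj) hg hd (repByAlgSpWith_fpFst z hy),
    ⟨whiskerLeftIso d (FibCat.fpIso z y) ≪≫
      whiskerRightIso (isoOfSpMap (BasedFunctor.comp d (FibCat.fpSnd z y))) y⟩,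
    ⟨(locQ_iff_locQS isSmoothLocalST_flat h𝒵 h𝒴 z).1 hz₁ W V y d hy hd,
      (locQ_iff_locQS isSmoothLocalST_lfp h𝒵 h𝒴 z).1 hz₂ W V y d hy hd⟩,
    surj_chart h𝒵 h𝒴 hz₃ hd'⟩

theorem locEssSurj_of_locQ (h𝒵 : AlgSt.IsAlgStack Scheme.fppfPrecoverage 𝒵)
    (h𝒴 : AlgSt.IsAlgStack Scheme.fppfPrecoverage 𝒴) {z : 𝒵 ⥤ᵇ 𝒴} (hz₁ : AlgSt.LocQ (LocP @Flat) z)
    (hz₂ : AlgSt.LocQ (LocP @LocallyOfFinitePresentation) z) (hz₃ : AlgSt.IsSurjective z) : LocEssSurj z := by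
  obtain ⟨V, y, hy, hy'⟩ := exists_space_atlas h𝒴
  obtain ⟨W, w, k, -, ⟨i⟩, hk, hk'⟩ := exists_fppf_chart h𝒵 h𝒴 hz₁ hz₂ hz₃ hy
  have hek : LocEssSurj (AlgSt.ofSpMap k) := locEssSurj_of_repByAlgSp
    (repByAlgSpWith_ofSpMap stableBC_locP W.property V.property k hk.1)
    (repByAlgSpWith_ofSpMap stableBC_locP W.property V.property k hk.2)
    (repByAlgSpWith_ofSpMap stableBC_isSurjectiveMor W.property V.property k hk')
  intro U y₀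
  obtain ⟨R, hR, h⟩ := locEssSurj_comp hek (locEssSurj_of_atlas hy hy') U y₀
  refine ⟨R, hR, fun T t ht => ?_⟩
  obtain ⟨a, ⟨j⟩⟩ := h t ht
  exact ⟨BasedFunctor.comp a w, ⟨whiskerLeftIso a i ≪≫ j⟩⟩

theorem locQ_of_fppf_baseChange (hP : IsSmoothLocalST P) (hP₂ : IsLocalOnBase IsFppfCover P)
    (h𝒳 : AlgSt.IsAlgStack Scheme.fppfPrecoverage 𝒳) (h𝒴 : AlgSt.IsAlgStack Scheme.fppfPrecoverage 𝒴)
    (h𝒵 : AlgSt.IsAlgStack Scheme.fppfPrecoverage 𝒵) {f : 𝒳 ⥤ᵇ 𝒴} {z : 𝒵 ⥤ᵇ 𝒴}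
    (hz₁ : AlgSt.LocQ (LocP @Flat) z) (hz₂ : AlgSt.LocQ (LocP @LocallyOfFinitePresentation) z)
    (hz₃ : AlgSt.IsSurjective z) (h : AlgSt.LocQ P (FibCat.fpFst z f)) : AlgSt.LocQ P f := by
  obtain ⟨V, y, hy, hy'⟩ := exists_space_atlas h𝒴
  obtain ⟨U, c, hc, hc'⟩ := exists_space_atlas_fp h𝒳 h𝒴 f y
  obtain ⟨W, w, k, hw, ⟨i⟩, hk, hk'⟩ := exists_fppf_chart h𝒵 h𝒴 hz₁ hz₂ hz₃ hy
  obtain ⟨D, p, q, c', sq, e, hs, -⟩ := exists_chart_baseChange h𝒳.isStack.1 h𝒴.isStack.1 i c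
  have hq : P q := e ▸ (locQ_iff_locQS hP (isAlgStack_fp h𝒵 h𝒳 h𝒴.isStack h𝒴.diag z f) h𝒵 _).1 h
    D W w c' hw (hs hc)
  exact locQ_of_chart hP h𝒳 h𝒴 hy hy' hc hc'
    ((hP₂ (fun _ : PUnit.{u+1} => W.obj) (fun _ => k) V.property (fun _ => W.property)
      ⟨fun _ => hk, fun v => ⟨⟨⟩, hk' v⟩⟩ _ U.property (fun _ => D.obj) (fun _ => q) (fun _ => p)
      (fun _ => D.property) (fun _ => sq)).2 fun _ => hq)

theorem locQ_iff_repByAlgSpWith (hP : IsSmoothLocalST P) (hPb : StableBC P)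
    (hP₂ : IsLocalOnBase IsFppfCover P) (h𝒳 : AlgSt.IsAlgStack Scheme.fppfPrecoverage 𝒳)
    (h𝒴 : AlgSt.IsAlgStack Scheme.fppfPrecoverage 𝒴) {f : 𝒳 ⥤ᵇ 𝒴} (hf : AlgSt.RepByAlgSp1 f) :
    AlgSt.LocQ P f ↔ AlgSt.RepByAlgSpWith P f := by
  obtain ⟨V, y, hy, hy'⟩ := exists_space_atlas h𝒴
  obtain ⟨W, e, he⟩ := exists_space_fp_equiv h𝒳.isStack.1 h𝒴.isStack.1 hf V y
  have hc : FibCat.IsEquivOver (BasedFunctor.comp e (fpSwap y f)) := isEquivOver_comp he (fpSwap_isEquivOver y f)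
  refine ⟨fun h => ?_, fun h => ?_⟩
  · let iswap : BasedFunctor.comp (fpSwap y f) (FibCat.fpSnd f y) ≅ FibCat.fpFst y f := Iso.refl _
    have heq : spHom (BasedFunctor.comp (BasedFunctor.comp e (fpSwap y f)) (FibCat.fpSnd f y)) =
        spHom (BasedFunctor.comp e (FibCat.fpFst y f)) := spHom_congr (whiskerLeftIso e iswap)
    have ha : P (spHom (BasedFunctor.comp e (FibCat.fpFst y f))) := heq ▸
      (locQ_iff_locQS hP h𝒳 h𝒴 f).1 h W V y (BasedFunctor.comp e (fpSwap y f)) hy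
        (repByAlgSpWith_smooth_of_isEquivOver hc)
    exact repByAlgSpWith_of_locEssSurj hPb hP₂ hf (locEssSurj_of_atlas hy hy')
      ((repByAlgSpWith_iff_of_square (f := FibCat.fpFst y f)
        (f' := AlgSt.ofSpMap (spHom (BasedFunctor.comp e (FibCat.fpFst y f)))) (a := e) (b := BasedFunctor.id _)
        he isEquivOver_id (isoOfSpMap (BasedFunctor.comp e (FibCat.fpFst y f))).symm).2
        (repByAlgSpWith_ofSpMap hPb W.property V.property _ ha))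
  · exact locQ_of_chart hP h𝒳 h𝒴 hy hy' (repByAlgSpWith_smooth_of_isEquivOver hc)
      (repByAlgSpWith_surj_of_isEquivOver hc)
      ((spHom_congr (whiskerLeftIso e (show BasedFunctor.comp (fpSwap y f) (FibCat.fpSnd f y) ≅ FibCat.fpFst y f
          from Iso.refl _)) :
        spHom (BasedFunctor.comp (BasedFunctor.comp e (fpSwap y f)) (FibCat.fpSnd f y)) =
          spHom (BasedFunctor.comp e (FibCat.fpFst y f))) ▸
      property_spHom_fpFst hPb (fun hF hG a ha => property_of_repBySpWith hP₂ hF hG ha)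
        V.property W.property h e he)

end Groth.Agent.AlgStLib
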