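import Groth.Agent.AlgStLib.LocQDescent
import Groth.Agent.GerbLib.Equiv

/-! # Locally essentially surjective functors and gerbes -/

set_option backward.isDefEq.respectTransparency false
set_option backward.isDefEq.respectTransparency.types false

universe u

open CategoryTheory CategoryTheory.Functor CategoryTheory.Limits AlgebraicGeometry Opposite AlgSp
open Groth.Agent.FibBase Groth.Agent.AlgSpLib

namespace Groth.Agent.AlgStLib

variable {S : Scheme.{u}} {𝒳 𝒴 𝒵 : AlgSt.Cat S}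

theorem locSurjObj_of_locEssSurj (h𝒴 : FibCat.IsFibGrpd 𝒴.p) {g : 𝒵 ⥤ᵇ 𝒴} (hg : LocEssSurj g) :
    Gerb.LocSurjObj (J S) g := fun y => by
  obtain ⟨Y, e, he⟩ := exists_overCat_obj h𝒴 y rfl
  obtain ⟨R, hR, hz⟩ := hg _ Y
  refine ⟨R, hR, fun V f hf => ?_⟩
  obtain ⟨z, ⟨i⟩⟩ := hz f hf
  let m : (AlgSt.overMap f).obj (Over.mk (𝟙 V)) ⟶ Over.mk (𝟙 (𝒴.p.obj y)) := Over.homMk f (by
    show f ≫ 𝟙 _ = 𝟙 V ≫ f
    simp)
  have h₁ : 𝒴.p.IsHomLift (𝟙 V) (isoApp i (Over.mk (𝟙 V))).hom := BasedNatTrans.isHomLift i.hom rfl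
  have h₂ : 𝒴.p.IsHomLift f (Y.map m) := overMap_isHomLift Y m
  refine ⟨z.obj (Over.mk (𝟙 V)), (isoApp i (Over.mk (𝟙 V))).hom ≫ Y.map m ≫ e.hom, ?_⟩
  have h₃ : 𝒴.p.IsHomLift f (Y.map m ≫ e.hom) := inferInstance
  exact IsHomLift.comp_lift_id_left' 𝒴.p V _ f _

end Groth.Agent.AlgStLib
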