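import Groth.Agent.AlgStLib.EtExtChart
import Groth.Agent.AlgStLib.IsomPsh
import Groth.Agent.AlgStLib.FppfSite
import Groth.Agent.AlgSpDec.FppfFamily
import Groth.Agent.GerbFlat.Section

/-!
# Algebraic stacks for the etale topology are stacks for the fppf topology
-/

set_option backward.isDefEq.respectTransparency false
set_option backward.isDefEq.respectTransparency.types false

universe u

open CategoryTheory CategoryTheory.Functor CategoryTheory.Limits Opposite AlgebraicGeometry AlgSp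
open Groth.Agent.FibBase Groth.Agent.StkLib Groth.Agent.GerbLib Groth.Agent.AlgSpLib

namespace Groth.Agent.AlgStLib

namespace EtExt

variable {S : Scheme.{u}} {𝒳 : AlgSt.Cat S} {T : Over S} {R : Sieve T} (H : Stk.sieveCat R ⥤ᵇ 𝒳)
  (hY : FibCat.IsFibGrpd 𝒳.p)

/-- The arrows along which a descent datum extends. -/
def extSieve : Sieve T where
  arrows W b := ∃ pt : 𝒳.obj, 𝒳.p.obj pt = W ∧ Nonempty (Fam H b pt)
  downward_closed := by
    rintro W W' b ⟨pt, hpt, ⟨c⟩⟩ k
    obtain ⟨pt', χ, hχ⟩ := exists_lift_of_eq hY hpt k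
    obtain ⟨c', -⟩ := c.exists_comap hY k rfl χ hχ
    exact ⟨pt', IsHomLift.domain_eq 𝒳.p k χ, ⟨c'⟩⟩

theorem le_extSieve : R ≤ extSieve H hY := fun W b hb => by
  refine ⟨H.obj (sob b hb), H.w_obj _, ⟨{
    e := fun a g w => H.map (ObjectProperty.homMk (Over.homMk g w) : a ⟶ sob b hb)
    lift := fun a g w => map_lift (H := H) (ObjectProperty.homMk (Over.homMk g w) : a ⟶ sob b hb)
    nat := fun {a a'} h g' w' w => ?_ }⟩⟩
  rw [← H.toFunctor.map_comp]
  exact congrArg H.map (ObjectProperty.hom_ext _ (Over.OverMorphism.ext rfl))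

/-- A descent datum into an algebraic stack extends along an etale covering. -/
theorem extSieve_mem (hP : Stk.IsPrestack (J S) 𝒳) (hR : R ∈ J S T)
    (hat : AlgSt.HasAtlas (LocP @Smooth) 𝒳) :
    extSieve H hP.1 ∈ QuotSh.J Scheme.etalePrecoverage S T := by
  obtain ⟨U₀, x, hsm, hsu⟩ := hat
  obtain ⟨ι, V, v, hf, hp, hs, hv⟩ := exists_fppf_of_mem_J hR
  have hT := IsAlgSpace.yon_obj (S := S) T
  have hV := fun i => IsAlgSpace.yon_obj (S := S) (V i)
  have hcov := isFppfCover_yon_map V v hf hp hs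
  have hi := fun i => props_of_member (v := v i) (hv := hv i) (H := H) (x := x) hP hsm hsu
  have hQ : IsAlgSpace (qSp H x hP) :=
    AlgSpDec.isAlgSpace_of_fppf_local hT hV _ hcov (qπ H x hP) fun i => (hi i).1
  have hsq := fun i => IsPullback.of_hasPullback (qπ H x hP) ((yon S).map (v i))
  have hπs : LocP @Smooth (qπ H x hP) :=
    (isLocalOnBase_fppf_locP @Smooth _ _ hT hV hcov (qπ H x hP) hQ _ _ _ (fun i => (hi i).1) hsq).2
      fun i => (hi i).2.1
  have hπu : IsSurjectiveMor (qπ H x hP) :=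
    (GerbFlat.isLocalOnBase_isSurjectiveMor _ _ hT hV hcov (qπ H x hP) hQ _ _ _ (fun i => (hi i).1) hsq).2
      fun i => (hi i).2.2
  obtain ⟨P, p, hpe, hps⟩ := hQ.atlas
  obtain ⟨w, hw⟩ := (yon S).map_surjective (p ≫ qπ H x hP)
  have : Smooth w.left := locP_yon_map (P := @Smooth) (hw ▸ locP_comp (IsAlgSpace.yon_obj P) hQ hT
    (locP_mono (Q := @Smooth) (fun _ _ f (_ : Etale f) => inferInstanceAs (Smooth f))
      (locP_of_repWith (P := @Etale) hpe)) hπs)
  have : Surjective w.left := ⟨fun t => by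
    obtain ⟨t₁, h1⟩ := hπu (Points.schemeHomeo T t)
    obtain ⟨t₂, h2⟩ := surjective_map_of_repWith hps t₁
    obtain ⟨s, rfl⟩ := (Points.schemeHomeo P).surjective t₂
    refine ⟨s, (Points.schemeHomeo T).injective ?_⟩
    rw [← h1, ← h2, ← Points.map_comp, ← hw, Points.map_yon_map_eq]
    simp⟩
  obtain ⟨T'', ψ, σ, _, _, hσ⟩ := AlgSpDec.exists_etale_section w
  refine GrothendieckTopology.superset_covering _ ?_ (AlgSpDec.mem_J_etale ψ)
  rw [Sieve.generate_le_iff]
  rintro _ _ ⟨⟩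
  let q : QPt H x T'' := p.hom.app (op T'') ⟨σ⟩
  have hq : q.t = ψ := by
    have := congrArg (fun m => ULift.down (m.hom.app (op T'') ⟨σ⟩)) hw
    exact this.symm.trans hσ
  exact ⟨x.obj (Over.mk q.u), x.w_obj _, ⟨hq ▸ q.fam⟩⟩

/-- A descent datum into an algebraic stack for the etale topology has a cone. -/
theorem exists_cone (hP : Stk.IsPrestack (J S) 𝒳) (hR : R ∈ J S T)
    (hst : Stk.IsStack (QuotSh.J Scheme.etalePrecoverage S) 𝒳) (hat : AlgSt.HasAtlas (LocP @Smooth) 𝒳) :
    Nonempty (SieveCone H) := by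
  let E := extSieve H hP.1
  choose pt hpt c using fun s : (Stk.sieveCat E).obj => s.property
  let c' := fun s => (c s).some
  have key : ∀ {s s' : (Stk.sieveCat E).obj} (h : s ⟶ s'), ∃! φ : pt s ⟶ pt s',
      𝒳.p.IsHomLift h.hom.left φ ∧ ∀ a g w w', (c' s).e a g w' ≫ φ = (c' s').e a (g ≫ h.hom.left) w :=
    fun {s s'} h => (c' s').glue hP hR (hpt s') (hpt s) (c' s) h.hom.left (Over.w h.hom)
  have hcomp : ∀ {s s' s'' : (Stk.sieveCat E).obj} (h : s ⟶ s') (h' : s' ⟶ s''),
      (key (h ≫ h')).exists.choose = (key h).exists.choose ≫ (key h').exists.choose := fun {s s' s''} h h' => by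
    obtain ⟨hl, he⟩ := (key h).exists.choose_spec
    obtain ⟨hl', he'⟩ := (key h').exists.choose_spec
    refine (key (h ≫ h')).unique (key (h ≫ h')).exists.choose_spec ⟨?_, fun a g w w' => ?_⟩
    · exact inferInstanceAs (𝒳.p.IsHomLift (h.hom.left ≫ h'.hom.left) _)
    · have w₁ : (g ≫ h.hom.left) ≫ s'.obj.hom = a.obj.hom := by
        rw [Category.assoc]; exact (congrArg (g ≫ ·) (Over.w h.hom)).trans w'
      have w₂ : ((g ≫ h.hom.left) ≫ h'.hom.left) ≫ s''.obj.hom = a.obj.hom :=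
        (congrArg (· ≫ s''.obj.hom) (Category.assoc g h.hom.left h'.hom.left)).trans w
      rw [← Category.assoc, he a g w₁ w', he' a _ w₂ w₁]
      exact (c' s'').e_congr (Category.assoc _ _ _) _ _
  let K₀ : (Stk.sieveCat E).obj ⥤ 𝒳.obj :=
    { obj := pt
      map := fun h => (key h).exists.choose
      map_id := fun s => (key (𝟙 s)).unique (key (𝟙 s)).exists.choose_spec
        ⟨IsHomLift.id (hpt s), fun a g w w' => by
          rw [Category.comp_id]
          exact (c' s).e_congr (Category.comp_id g).symm _ _⟩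
      map_comp := hcomp }
  let K : Stk.sieveCat E ⥤ᵇ 𝒳 :=
    { toFunctor := K₀
      w := CategoryTheory.Functor.ext hpt fun s s' h => by
        have := (key h).exists.choose_spec.1
        exact IsHomLift.fac' 𝒳.p h.hom.left (key h).exists.choose }
  have hE : (Stk.resSieve E 𝒳).IsEquivalence := hst.2 E (extSieve_mem H hP hR hat)
  let cE : SieveCone K :=
    (coneOfOver ((Stk.resSieve E 𝒳).objPreimage K)).precomp ((Stk.resSieve E 𝒳).objObjPreimageIso K).inv
  let sOf : (Stk.sieveCat R).obj → (Stk.sieveCat E).obj := fun a => ⟨a.obj, le_extSieve H hP.1 _ a.property⟩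
  refine ⟨{
    pt := cE.pt
    obj_pt := cE.obj_pt
    e := fun a => (c' (sOf a)).e a (𝟙 a.obj.left) (Category.id_comp _) ≫ cE.e (sOf a)
    lift := fun a => ?_
    nat := fun {a b} g => ?_ }⟩
  · have := (c' (sOf a)).lift a (𝟙 a.obj.left) (Category.id_comp _)
    have : 𝒳.p.IsHomLift a.obj.hom (cE.e (sOf a)) := cE.lift (sOf a)
    exact IsHomLift.comp_lift_id_left' 𝒳.p a.obj.left _ a.obj.hom (cE.e (sOf a))
  · let gE : sOf a ⟶ sOf b := ObjectProperty.homMk g.hom
    obtain ⟨-, he⟩ := (key gE).exists.choose_spec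
    have w₁ : (𝟙 a.obj.left ≫ g.hom.left) ≫ b.obj.hom = a.obj.hom := by rw [Category.id_comp]; exact Over.w g.hom
    have w₂ : (g.hom.left ≫ 𝟙 b.obj.left) ≫ b.obj.hom = a.obj.hom := by rw [Category.comp_id]; exact Over.w g.hom
    rw [← cE.nat gE, ← Category.assoc (H.map g), (c' (sOf b)).nat g (𝟙 _) (Category.id_comp _) w₂]
    refine Eq.trans ?_ (Category.assoc _ _ _)
    refine congrArg (· ≫ cE.e (sOf b)) (Eq.trans ?_ (he a (𝟙 _) w₁ (Category.id_comp _)).symm)
    exact (c' (sOf b)).e_congr ((Category.comp_id _).trans (Category.id_comp _).symm) _ _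

/-- A cone as a compatible family. -/
def famOfCone {H : Stk.sieveCat R ⥤ᵇ 𝒳} (c : SieveCone H) : Fam H (𝟙 T) c.pt where
  e a _ _ := c.e a
  lift a g w := by
    obtain rfl : g = a.obj.hom := (Category.comp_id g).symm.trans w
    exact c.lift a
  nat h _ _ _ := c.nat h

/-- Cones over covering sieves are universal in a prestack. -/
theorem isUniversal (hP : Stk.IsPrestack (J S) 𝒳) (hR : R ∈ J S T) {H : Stk.sieveCat R ⥤ᵇ 𝒳} (c : SieveCone H) :
    c.IsUniversal := fun c' => by
  obtain ⟨φ, ⟨hl, he⟩, hu⟩ :=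
    (famOfCone c').glue hP hR c'.obj_pt c.obj_pt (famOfCone c) (𝟙 T) (Category.id_comp _)
  exact ⟨φ, ⟨hl, fun a => he a a.obj.hom ((congrArg (· ≫ 𝟙 T) (Category.comp_id _)).trans (Category.comp_id _))
    (Category.comp_id _)⟩, fun ψ ⟨hl', he'⟩ => hu ψ ⟨hl', fun a _ _ _ => he' a⟩⟩

end EtExt

variable {S : Scheme.{u}} {𝒳 : AlgSt.Cat S}

/-- An algebraic stack for the etale topology is a stack for the fppf topology. -/
theorem isStack_fppf_of_etale (h : AlgSt.IsAlgStack Scheme.etalePrecoverage 𝒳) : Stk.IsStack (J S) 𝒳 := by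
  have hP := IsomPsh.isPrestack_of_diag (hY := h.isStack.1) h.diag
  exact ⟨hP.1, fun U R hR => isStackFor_of_cones hP.1 (EtExt.isUniversal hP hR)
    fun H => EtExt.exists_cone H hP hR h.isStack h.atlas⟩

/-- An algebraic stack for the etale topology is an algebraic stack for the fppf topology. -/
theorem isAlgStack_fppf_of_etale (h : AlgSt.IsAlgStack Scheme.etalePrecoverage 𝒳) :
    AlgSt.IsAlgStack Scheme.fppfPrecoverage 𝒳 :=
  ⟨isStack_fppf_of_etale h, h.diag, h.atlas⟩

/-- A Deligne-Mumford stack for the etale topology is one for the fppf topology. -/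
theorem isDM_fppf_of_etale (h : AlgSt.IsDM Scheme.etalePrecoverage 𝒳) :
    AlgSt.IsDM Scheme.fppfPrecoverage 𝒳 :=
  ⟨isAlgStack_fppf_of_etale h.1, h.2⟩

end Groth.Agent.AlgStLib
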