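import Groth.Agent.AlgStLib.ClosedSubReduced
import Groth.Agent.AlgStLib.Faithful
import Groth.Agent.RegLoc6.Descent
import Groth.Agent.AlgStLib.LocQInst
import Groth.Agent.AlgSpDec.MonoPoint
import Groth.Agent.GrpSchLib.SmoothRegular
import Groth.Agent.GrpSchLib.SmoothReduced
import Groth.Agent.AlgSpLib.FpqcDescent

/-!
# Algebraic stacks with one point and field valued charts
-/

set_option backward.isDefEq.respectTransparency false
set_option backward.isDefEq.respectTransparency.types false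

universe u

open CategoryTheory CategoryTheory.Functor CategoryTheory.Limits AlgebraicGeometry Opposite AlgSp Order

namespace Groth.Agent.AlgStLib.OnePt

open Groth.Agent.FibBase Groth.Agent.AlgSpLib

variable {S : Scheme.{u}} {𝒳 𝒴 𝒵 : AlgSt.Cat S} {k : Type u} [Field k]
  {a : Spec (CommRingCat.of k) ⟶ S}

local notation "K₀" => Scheme.fppfPrecoverage

theorem flat_of_field {W : Scheme.{u}} (g : W ⟶ Spec (CommRingCat.of k)) : Flat g := by
  have : Subsingleton ↥(Spec (CommRingCat.of k)) := inferInstanceAs (Subsingleton (PrimeSpectrum k))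
  infer_instance

theorem locP_flat_to_field {F : Sp S} (hF : IsAlgSpace F) (m : F ⟶ (yon S).obj (Over.mk a)) :
    LocP @Flat m := by
  obtain ⟨V, p, hp, hp'⟩ := hF.atlas
  obtain ⟨g, hg⟩ := (yon S).map_surjective (p ≫ m)
  exact locP_of_chart (b := 𝟙 _) (h := g) hp hp' (repWith_id _ _) (by rw [Category.comp_id, hg])
    (flat_of_field g.left)

theorem locQ_flat_to_field (h𝒳 : AlgSt.IsAlgStack K₀ 𝒳) (f : 𝒳 ⥤ᵇ FibCat.overCat (Over.mk a)) :
    AlgSt.LocQ (LocP @Flat) f := by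
  let V : AlgSp.Space S := ⟨_, IsAlgSpace.yon_obj (Over.mk a)⟩
  obtain ⟨U, c, hc, hc'⟩ := exists_space_atlas_fp h𝒳 (isAlgStack_overCat _) f (V := V) (AlgSt.toOverCat _)
  refine locQ_of_chart (U := U) (V := V) (y := AlgSt.toOverCat (Over.mk a)) (c := c) isSmoothLocalST_flat h𝒳
    (isAlgStack_overCat _)
    (repByAlgSpWith_smooth_of_isEquivOver (isEquivOver_toOverCat _))
    (repByAlgSpWith_surj_of_isEquivOver (isEquivOver_toOverCat _)) hc hc' ?_
  exact locP_flat_to_field U.property _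

theorem subsingleton_points_field : Subsingleton (AlgSt.Points (FibCat.overCat (Over.mk a) : AlgSt.Cat S)) := by
  refine ⟨fun x y => (toSch_bijective _).1 ?_⟩
  exact Subsingleton.elim (α := PrimeSpectrum k) _ _

theorem isSurjective_of_surj (h𝒵 : AlgSt.IsAlgStack K₀ 𝒵) {z : FibCat.overCat (Over.mk a) ⥤ᵇ 𝒵}
    (hz : AlgSt.RepByAlgSpWith IsSurjectiveMor z) : AlgSt.IsSurjective z :=
  isSurjective_of_repByAlgSpWith (isFibGrpd_overCat _) h𝒵.isStack.1 (isAlgStack_overCat _).atlas hz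

theorem points_of_surj (h𝒵 : AlgSt.IsAlgStack K₀ 𝒵) {z : FibCat.overCat (Over.mk a) ⥤ᵇ 𝒵}
    (hz : AlgSt.RepByAlgSpWith IsSurjectiveMor z) :
    Nonempty (AlgSt.Points 𝒵) ∧ Subsingleton (AlgSt.Points 𝒵) := by
  have := subsingleton_points_field (S := S) (a := a)
  exact ⟨⟨AlgSt.Points.ofChart z (IsLocalRing.closedPoint k)⟩,
    Function.Surjective.subsingleton (isSurjective_of_surj h𝒵 hz)⟩

theorem surj_of_subsingleton (h𝒵 : AlgSt.IsAlgStack K₀ 𝒵) [Subsingleton (AlgSt.Points 𝒵)]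
    (z : FibCat.overCat (Over.mk a) ⥤ᵇ 𝒵) : AlgSt.RepByAlgSpWith IsSurjectiveMor z :=
  repByAlgSpWith_surjective_of_isSurjective (isFibGrpd_overCat _) h𝒵.isStack.1
    (repByAlgSp1_of_diag h𝒵.isStack.1 h𝒵.diag _ z)
    fun _ => ⟨ptAt _ (IsLocalRing.closedPoint k), Subsingleton.elim _ _⟩

theorem locQ_flat_iff (h𝒵 : AlgSt.IsAlgStack K₀ 𝒵) {T : Over S} (z : FibCat.overCat T ⥤ᵇ 𝒵) :
    AlgSt.LocQ (LocP @Flat) z ↔ AlgSt.RepByAlgSpWith (LocP @Flat) z :=
  locQ_iff_repByAlgSpWith isSmoothLocalST_flat stableBC_locP (isLocalOnBase_fppf_locP @Flat)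
    (isAlgStack_overCat T) h𝒵 (repByAlgSp1_of_diag h𝒵.isStack.1 h𝒵.diag _ z)

theorem surjective_flat_of_surjective_flat (h𝒵 : AlgSt.IsAlgStack K₀ 𝒵)
    {z : FibCat.overCat (Over.mk a) ⥤ᵇ 𝒵} (hzs : AlgSt.RepByAlgSpWith IsSurjectiveMor z)
    (hzf : AlgSt.RepByAlgSpWith (LocP @Flat) z) {k' : Type u} [Field k']
    {a' : Spec (CommRingCat.of k') ⟶ S} (z' : FibCat.overCat (Over.mk a') ⥤ᵇ 𝒵) :
    AlgSt.RepByAlgSpWith IsSurjectiveMor z' ∧ AlgSt.RepByAlgSpWith (LocP @Flat) z' := by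
  have := (points_of_surj h𝒵 hzs).2
  refine ⟨surj_of_subsingleton h𝒵 z', (locQ_flat_iff h𝒵 z').1 ?_⟩
  exact locQ_flat_of_baseChange (isAlgStack_overCat _) h𝒵 (isAlgStack_overCat _) ((locQ_flat_iff h𝒵 z).2 hzf)
    (isSurjective_of_surj h𝒵 hzs)
    (locQ_flat_to_field (isAlgStack_fp (isAlgStack_overCat _) (isAlgStack_overCat _) h𝒵.isStack h𝒵.diag z z') _)

/-- A scheme between a field valued chart and a smooth chart. -/
theorem exists_between_field (h𝒵 : AlgSt.IsAlgStack K₀ 𝒵) {z : FibCat.overCat (Over.mk a) ⥤ᵇ 𝒵}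
    (hzs : AlgSt.RepByAlgSpWith IsSurjectiveMor z) (hzf : AlgSt.RepByAlgSpWith (LocP @Flat) z)
    {U : Over S} {x : FibCat.overCat U ⥤ᵇ 𝒵} (hx : AlgSt.RepByAlgSpWith (LocP @Smooth) x) :
    ∃ (W : Over S) (p : W ⟶ Over.mk a) (q : W ⟶ U), Smooth p.left ∧ Flat q.left ∧ Surjective q.left ∧
      (AlgSt.RepByAlgSpWith (LocP @LocallyOfFinitePresentation) z → LocallyOfFinitePresentation q.left) := by
  let A : AlgSp.Space S := ⟨_, IsAlgSpace.yon_obj (Over.mk a)⟩
  let B : AlgSp.Space S := ⟨_, IsAlgSpace.yon_obj U⟩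
  let u : AlgSt.ofSp A.obj ⥤ᵇ 𝒵 := BasedFunctor.comp (AlgSt.toOverCat _) z
  let v : AlgSt.ofSp B.obj ⥤ᵇ 𝒵 := BasedFunctor.comp (AlgSt.toOverCat _) x
  have hv : AlgSt.RepByAlgSpWith (LocP @Smooth) v := repByAlgSpWith_precomp (isEquivOver_toOverCat _) hx
  obtain ⟨W, e, he⟩ := exists_space_fp_equiv (isFibGrpd_ofSp B.obj) h𝒵.isStack.1 (repByAlgSp1_of_repByAlgSpWith hv) A u
  obtain ⟨T, c, hc, hc'⟩ := W.property.atlas
  obtain ⟨p, hp⟩ := (yon S).map_surjective (c ≫ spHom (BasedFunctor.comp e (FibCat.fpFst u v)))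
  obtain ⟨q, hq⟩ := (yon S).map_surjective (c ≫ spHom (BasedFunctor.comp e (FibCat.fpSnd u v)))
  have hT := IsAlgSpace.yon_obj (S := S) T
  refine ⟨T, p, q, locP_yon_map (hp ▸ locP_comp hT W.property A.property
      (locP_mono (P := @Etale) etale_le_smooth (locP_of_repWith hc)) (locP_spHom_fpFst A.property W.property hv e he)),
    locP_yon_map (hq ▸ locP_comp hT W.property B.property (locP_mono (P := @Etale) (Q := @Flat)
      (fun _ _ f (_ : Etale f) => inferInstanceAs (Flat f)) (locP_of_repWith hc))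
      (locP_spHom_fpSnd B.property W.property (repByAlgSpWith_precomp (isEquivOver_toOverCat _) hzf) e he)),
    ⟨isSurjective_left_of_map q (hq ▸ stableComp_isSurjectiveMor hT W.property B.property _ _
      (surjective_map_of_repWith hc') (surj_spHom_fpSnd B.property W.property
        (repByAlgSpWith_precomp (isEquivOver_toOverCat _) hzs) e he))⟩, fun hzp => ?_⟩
  exact locP_yon_map (hq ▸ locP_comp hT W.property B.property (locP_mono (P := @Etale) (Q := @LocallyOfFinitePresentation)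
      (fun _ _ f (_ : Etale f) => inferInstanceAs (LocallyOfFinitePresentation f)) (locP_of_repWith hc))
      (locP_spHom_fpSnd B.property W.property (repByAlgSpWith_precomp (isEquivOver_toOverCat _) hzp) e he))

theorem smoothLocally_isReduced (h𝒵 : AlgSt.IsAlgStack K₀ 𝒵) {z : FibCat.overCat (Over.mk a) ⥤ᵇ 𝒵}
    (hzs : AlgSt.RepByAlgSpWith IsSurjectiveMor z) (hzf : AlgSt.RepByAlgSpWith (LocP @Flat) z) :
    AlgSt.SmoothLocally (fun T => IsReduced T) 𝒵 := fun U x hx => by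
  obtain ⟨W, p, q, hp, hq, hq', -⟩ := exists_between_field h𝒵 hzs hzf hx
  have : Smooth (p.left : W.left ⟶ Spec (CommRingCat.of k)) := hp
  have : IsReduced W.left := GrpSchLib.isReduced_of_smooth_field (p.left : W.left ⟶ Spec (CommRingCat.of k))
  exact FBaseLib.isReduced_of_flat_surjective q.left

theorem smoothLocally_isLocallyNoetherian (h𝒵 : AlgSt.IsAlgStack K₀ 𝒵)
    {z : FibCat.overCat (Over.mk a) ⥤ᵇ 𝒵} (hzp : AlgSt.RepByAlgSpWith (LocP @LocallyOfFinitePresentation) z)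
    (hzs : AlgSt.RepByAlgSpWith IsSurjectiveMor z) (hzf : AlgSt.RepByAlgSpWith (LocP @Flat) z) :
    AlgSt.SmoothLocally (fun T => IsLocallyNoetherian T) 𝒵 := fun U x hx => by
  obtain ⟨W, p, q, hp, hq, hq', hq''⟩ := exists_between_field h𝒵 hzs hzf hx
  have := hq'' hzp
  have : Smooth (p.left : W.left ⟶ Spec (CommRingCat.of k)) := hp
  have h0 : IsLocallyNoetherian (Spec (CommRingCat.of k)) := inferInstance
  have : IsLocallyNoetherian (Over.mk a).left := h0
  have : IsLocallyNoetherian W.left :=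
    LocallyOfFiniteType.isLocallyNoetherian (p.left : W.left ⟶ Spec (CommRingCat.of k))
  exact isLocallyNoetherian_of_flat q.left

/-- A residue field of a chart as a chart by a field. -/
theorem overMap_residue (h𝒵 : AlgSt.IsAlgStack K₀ 𝒵) {U : Over S} {x : FibCat.overCat U ⥤ᵇ 𝒵}
    {R : MorphismProperty Scheme.{u}} [IsEtLocal R] [R.IsStableUnderComposition]
    [R.IsStableUnderBaseChange] [IsZariskiLocalAtTarget R]
    (hx : AlgSt.RepByAlgSpWith (LocP R) x) (u : ↥U.left) (hu : R (U.left.fromSpecResidueField u)) :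
    AlgSt.RepByAlgSpWith (LocP R)
      (BasedFunctor.comp (AlgSt.overMap (Over.homMk (U.left.fromSpecResidueField u) rfl :
        Over.mk (U.left.fromSpecResidueField u ≫ U.hom) ⟶ U)) x) :=
  repByAlgSpWith_locP_comp (isFibGrpd_overCat _) (isFibGrpd_overCat U)
    (repByAlgSpWith_overMap stableBC_locP (locP_of_repWith ((repWith_yon_map_iff R _).2 hu))) hx

theorem exists_flat_of_reduced (h𝒵 : AlgSt.IsAlgStack K₀ 𝒵) (hr : AlgSt.SmoothLocally (fun T => IsReduced T) 𝒵)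
    [Nonempty (AlgSt.Points 𝒵)] [Subsingleton (AlgSt.Points 𝒵)] :
    ∃ (k : Type u) (_ : Field k) (a : Spec (CommRingCat.of k) ⟶ S)
      (z : FibCat.overCat (Over.mk a) ⥤ᵇ 𝒵),
      AlgSt.RepByAlgSpWith IsSurjectiveMor z ∧ AlgSt.RepByAlgSpWith (LocP @Flat) z := by
  obtain ⟨U, x, hx, hx'⟩ := h𝒵.atlas
  obtain ⟨u, -⟩ := ofChart_surjective h𝒵.isStack.1 hx' (Classical.arbitrary (AlgSt.Points 𝒵))
  have : IsReduced U.left := hr U x hx
  let _ : PartialOrder ↥U.left := specializationOrder _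
  let T := irreducibleComponent u
  have hirr : IsIrreducible T := isIrreducible_irreducibleComponent
  let η := hirr.genericPoint
  have hmax : IsMax η := fun w hw => by
    have hgen := hirr.isGenericPoint_genericPoint isClosed_irreducibleComponent
    have h1 : T ⊆ closure {w} :=
      hgen.def.ge.trans (specializes_iff_closure_subset.1 (hw : w ⤳ hirr.genericPoint))
    have h2 : closure {w} ⊆ T :=
      (eq_irreducibleComponent isIrreducible_singleton.closure.isPreirreducible h1).le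
    exact hgen.specializes (h2 (subset_closure rfl))
  have : Ring.KrullDimLE 0 ↥(U.left.presheaf.stalk η) :=
    krullDimLE_of_coheight_le (n := 0) (coheight_eq_zero.2 hmax).le
  have hfield : IsField ↥(U.left.presheaf.stalk η) := Ring.KrullDimLE.isField_of_isReduced
  have hfl : Flat (U.left.fromSpecResidueField η) := (Flat.iff_flat_stalkMap _).2 fun w =>
    .of_isField (by rw [Scheme.fromSpecResidueField_apply]; exact hfield) _
  refine ⟨_, inferInstance, _, _, surj_of_subsingleton h𝒵 _, overMap_residue h𝒵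
    (repByAlgSpWith_mono (fun _ _ _ h => locP_mono (Q := @Flat)
      (fun _ _ f (_ : Smooth f) => inferInstanceAs (Flat f)) h) hx) η hfl⟩

theorem exists_lft_flat_of_reduced (h𝒵 : AlgSt.IsAlgStack K₀ 𝒵) (hr : AlgSt.SmoothLocally (fun T => IsReduced T) 𝒵)
    [Nonempty (AlgSt.Points 𝒵)] [Subsingleton (AlgSt.Points 𝒵)] :
    ∃ (k : Type u) (_ : Field k) (a : Spec (CommRingCat.of k) ⟶ S)
      (z : FibCat.overCat (Over.mk a) ⥤ᵇ 𝒵),
      (AlgSt.RepByAlgSpWith (LocP @LocallyOfFiniteType) z ∧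
        AlgSt.RepByAlgSpWith IsSurjectiveMor z ∧ AlgSt.RepByAlgSpWith (LocP @Flat) z) ∧
      (AlgSt.SmoothLocally (fun T => IsLocallyNoetherian T) 𝒵 →
        AlgSt.RepByAlgSpWith (LocP @LocallyOfFinitePresentation) z) := by
  obtain ⟨k₁, _, a₁, z₁, hz₁, hz₁'⟩ := exists_flat_of_reduced h𝒵 hr
  obtain ⟨U, x, hx, hx'⟩ := h𝒵.atlas
  obtain ⟨u₀, -⟩ := ofChart_surjective h𝒵.isStack.1 hx' (Classical.arbitrary (AlgSt.Points 𝒵))
  obtain ⟨D, hD, huD, -⟩ := exists_isAffineOpen_mem_and_subset (U := (⊤ : U.left.Opens)) (x := u₀) trivial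
  have : IsAffine D.toScheme := hD
  obtain ⟨d, -, hd⟩ := (isClosed_univ (X := ↥D.toScheme)).exists_closed_singleton ⟨⟨u₀, huD⟩, trivial⟩
  have hci := (isClosed_singleton_iff_isClosedImmersion (X := D.toScheme)).1 hd
  have hlft : LocallyOfFiniteType (U.left.fromSpecResidueField (D.ι d)) := by
    have : LocallyOfFiniteType (Spec.map (D.ι.residueFieldMap d) ≫ U.left.fromSpecResidueField (D.ι d)) := by
      rw [D.ι.SpecMap_residueFieldMap_fromSpecResidueField]
      infer_instance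
    rwa [← MorphismProperty.cancel_left_of_respectsIso @LocallyOfFiniteType (Spec.map (D.ι.residueFieldMap d))]
  refine ⟨_, inferInstance, _, BasedFunctor.comp (AlgSt.overMap (Over.homMk (U.left.fromSpecResidueField (D.ι d)) rfl :
      Over.mk (U.left.fromSpecResidueField (D.ι d) ≫ U.hom) ⟶ U)) x,
    ⟨overMap_residue h𝒵 (repByAlgSpWith_mono (fun _ _ _ h => locP_mono (Q := @LocallyOfFiniteType)
      (fun _ _ f (_ : Smooth f) => inferInstanceAs (LocallyOfFiniteType f)) h) hx) _ hlft,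
    surjective_flat_of_surjective_flat h𝒵 hz₁ hz₁' _⟩, fun hN => ?_⟩
  have : IsLocallyNoetherian U.left := hN U x hx
  exact overMap_residue h𝒵 (repByAlgSpWith_mono (fun _ _ _ h => locP_mono (Q := @LocallyOfFinitePresentation)
      (fun _ _ f (_ : Smooth f) => inferInstanceAs (LocallyOfFinitePresentation f)) h) hx) _
    (LocallyOfFinitePresentation.iff_locallyOfFiniteType.2 hlft)

theorem smoothLocally_isRegular (h𝒵 : AlgSt.IsAlgStack K₀ 𝒵)
    (hN : AlgSt.SmoothLocally (fun T => IsLocallyNoetherian T) 𝒵)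
    {z : FibCat.overCat (Over.mk a) ⥤ᵇ 𝒵}
    (hzs : AlgSt.RepByAlgSpWith IsSurjectiveMor z) (hzf : AlgSt.RepByAlgSpWith (LocP @Flat) z) :
    AlgSt.SmoothLocally (fun T => ∀ t : T, IsRegularLocalRing (T.presheaf.stalk t)) 𝒵 := fun U x hx t => by
  obtain ⟨W, p, q, hp, hq, hq', -⟩ := exists_between_field h𝒵 hzs hzf hx
  have : IsLocallyNoetherian U.left := hN U x hx
  have : Smooth (p.left : W.left ⟶ Spec (CommRingCat.of k)) := hp
  obtain ⟨w, rfl⟩ := q.left.surjective t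
  have := GrpSchLib.isRegularLocalRing_stalk_of_smooth (p.left : W.left ⟶ Spec (CommRingCat.of k)) w
  algebraize [(q.left.stalkMap w).hom]
  have : Module.Flat (U.left.presheaf.stalk (q.left w)) (W.left.presheaf.stalk w) :=
    (Flat.iff_flat_stalkMap q.left).1 hq w
  have : IsLocalHom (algebraMap (U.left.presheaf.stalk (q.left w)) (W.left.presheaf.stalk w)) :=
    inferInstanceAs (IsLocalHom (q.left.stalkMap w).hom)
  exact Groth.Agent.RegLoc6.isRegularLocalRing_of_flat (B := W.left.presheaf.stalk w)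

/-! ## Monomorphisms -/

theorem isEquivOver_or_isEmpty {𝒵' : AlgSt.Cat S} (h𝒵' : AlgSt.IsAlgStack K₀ 𝒵') (h𝒵 : AlgSt.IsAlgStack K₀ 𝒵)
    (f : 𝒵' ⥤ᵇ 𝒵) (hf : AlgSt.IsMono f) {z : FibCat.overCat (Over.mk a) ⥤ᵇ 𝒵}
    (hzp : AlgSt.RepByAlgSpWith (LocP @LocallyOfFinitePresentation) z)
    (hzs : AlgSt.RepByAlgSpWith IsSurjectiveMor z) (hzf : AlgSt.RepByAlgSpWith (LocP @Flat) z) :
    IsEmpty (AlgSt.Points 𝒵') ∨ FibCat.IsEquivOver f := by
  refine (isEmpty_or_nonempty _).imp_right fun ⟨x⟩ => ?_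
  have := (points_of_surj h𝒵 hzs).2
  have hl := locEssSurj_of_repByAlgSp hzf hzp hzs
  obtain ⟨_, _⟩ := full_faithful_of_isMono h𝒵.isStack.1 hf
  refine isEquivOver_of_exists_iso f inferInstance inferInstance fun y => ?_
  obtain ⟨Y, i, hi⟩ := exists_overCat_obj h𝒵.isStack.1 y rfl
  have hiso : AlgSt.RepByAlgSpWith (MorphismProperty.isomorphisms (Sp S)) f := by
    refine repByAlgSpWith_of_locEssSurj stableBC_of
      (isLocalOnBase_fppf_of_fpqc isLocalOnBase_fpqc_isomorphisms) (repByAlgSp1_of_repByAlgSpWith hf) hl ?_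
    intro U y
    obtain ⟨F, e, he, hP⟩ := (repByAlgSpWith_fpFst z hf) U y
    refine ⟨F, e, he, ?_⟩
    have := isMono_property (f := FibCat.fpFst z f) (repByAlgSpWith_fpFst z hf) y e he
    let m := AlgSt.spMapOfOver (BasedFunctor.comp e (FibCat.fpFst y (FibCat.fpFst z f)))
    obtain ⟨F', e', he', hP'⟩ := hf (Over.mk a) z
    have := isMono_property hf z e' he'
    obtain ⟨w, -⟩ := exists_pts_fp h𝒵'.isStack.1 h𝒵.isStack.1 (isFibGrpd_overCat _) f z
      (ptAt (Over.mk a) (IsLocalRing.closedPoint k)) x (Subsingleton.elim _ _)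
    obtain ⟨w', -⟩ := (pts_bijective_of_isEquivOver he').2 w
    have hm : IsIso (AlgSt.spMapOfOver (BasedFunctor.comp e' (FibCat.fpFst z f))) :=
      AlgSpDec.isIso_of_mono_field F'.property _ (spPt w')
    have hq' : FibCat.IsEquivOver (BasedFunctor.comp e' (FibCat.fpFst z f)) :=
      isEquivOver_of_iso (isoSpMapOfOver _).symm
        (isEquivOver_comp (isEquivOver_ofSpMap _) (isEquivOver_toOverCat _))
    obtain ⟨g', hg', -, ⟨j'⟩⟩ := isEquivOver_inv he'
    have hq'' := isEquivOver_comp hg' hq'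
    have hq : FibCat.IsEquivOver (FibCat.fpFst z f) :=
      isEquivOver_of_iso (whiskerRightIso j' (FibCat.fpFst z f)) hq''
    exact (RepOver.property_of_stableBC stableBC_of
      ((repByAlgSpWith_of_isEquivOver (fun φ h => h) hq :
        AlgSt.RepByAlgSpWith (MorphismProperty.isomorphisms (Sp S)) _) U y) e he).2
  obtain ⟨F, e, he, hP⟩ := hiso (𝒵.p.obj y) Y
  have : IsIso (AlgSt.spMapOfOver (BasedFunctor.comp e (FibCat.fpFst Y f))) := hP
  have hq : FibCat.IsEquivOver (BasedFunctor.comp e (FibCat.fpFst Y f)) :=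
    isEquivOver_of_iso (isoSpMapOfOver _).symm
      (isEquivOver_comp (isEquivOver_ofSpMap _) (isEquivOver_toOverCat _))
  obtain ⟨g, -, -, ⟨j⟩⟩ := isEquivOver_inv hq
  let o := e.obj (g.obj (Over.mk (𝟙 (𝒵.p.obj y))))
  let c : (FibCat.overCat (𝒵.p.obj y) : AlgSt.Cat S).obj := Over.mk (𝟙 (𝒵.p.obj y))
  have h₁ : 𝒵.p.IsHomLift (𝟙 (𝒵.p.obj y)) o.obj.iso.hom :=
    isHomLift_id_congr ((e.w_obj _).trans (g.w_obj c)) o.property
  have h₁' : 𝒵.p.IsHomLift (𝟙 (𝒵.p.obj y)) o.obj.iso.inv := IsHomLift.lift_id_inv 𝒵.p _ o.obj.iso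
  have h₂ : (FibCat.overCat (𝒵.p.obj y) : AlgSt.Cat S).p.IsHomLift (𝟙 (𝒵.p.obj y)) (isoApp j c).hom :=
    BasedNatTrans.isHomLift j.hom rfl
  have h₃ : 𝒵.p.IsHomLift (𝟙 (𝒵.p.obj y)) (Y.map (isoApp j c).hom) :=
    Y.preserves_isHomLift (𝟙 (𝒵.p.obj y)) _
  have h₄ : 𝒵.p.IsHomLift (𝟙 (𝒵.p.obj y) ≫ 𝟙 (𝒵.p.obj y) ≫ 𝟙 (𝒵.p.obj y))
      (o.obj.iso.inv ≫ Y.map (isoApp j c).hom ≫ i.hom) := inferInstance
  rw [Category.id_comp, Category.id_comp] at h₄
  exact ⟨o.obj.snd, o.obj.iso.symm ≪≫ Y.toFunctor.mapIso (isoApp j c) ≪≫ i, h₄⟩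

variable {Q : 𝒳.obj → Prop}

theorem isMono_subIncl (h𝒳 : AlgSt.IsAlgStack K₀ 𝒳) (hQ : AlgSt.IsAlgStack K₀ (AlgSt.fullSub 𝒳 Q)) :
    AlgSt.IsMono (AlgSt.subIncl 𝒳 Q) := by
  have : (AlgSt.subIncl 𝒳 Q).toFunctor.Full := inferInstanceAs (ObjectProperty.ι Q).Full
  have : (AlgSt.subIncl 𝒳 Q).toFunctor.Faithful := inferInstanceAs (ObjectProperty.ι Q).Faithful
  exact isMono_of_full_faithful hQ h𝒳 _

/-- A field valued point in the image of a full substack factors through it. -/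
theorem mem_of_field (h𝒳 : AlgSt.IsAlgStack K₀ 𝒳) (hcl : ObjectProperty.IsClosedUnderIsomorphisms Q)
    (hQ : AlgSt.IsAlgStack K₀ (AlgSt.fullSub 𝒳 Q)) (p : FibCat.overCat (Over.mk a) ⥤ᵇ 𝒳)
    (hp : AlgSt.Points.ofChart p (IsLocalRing.closedPoint k) ∈
      Set.range (AlgSt.Points.map (AlgSt.subIncl 𝒳 Q))) (c : (FibCat.overCat (Over.mk a) : AlgSt.Cat S).obj) :
    Q (p.obj c) := by
  have hm := isMono_subIncl h𝒳 hQ
  obtain ⟨F, e, he, hP⟩ := hm (Over.mk a) p
  have := isMono_property hm p e he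
  obtain ⟨x, hx⟩ := hp
  obtain ⟨w, -⟩ := exists_pts_fp hQ.isStack.1 h𝒳.isStack.1 (isFibGrpd_overCat _) (AlgSt.subIncl 𝒳 Q) p
    (ptAt (Over.mk a) (IsLocalRing.closedPoint k)) x (by rw [← ofChart_eq_map]; exact hx.symm)
  obtain ⟨w', -⟩ := (pts_bijective_of_isEquivOver he).2 w
  have hiso : IsIso (AlgSt.spMapOfOver (BasedFunctor.comp e (FibCat.fpFst p (AlgSt.subIncl 𝒳 Q)))) :=
    AlgSpDec.isIso_of_mono_field F.property _ (spPt w')
  exact mem_of_isIso_fp hcl p hiso c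

/-- Membership in a full substack can be tested on a locally essentially surjective cover. -/
theorem mem_of_locEssSurj (h𝒳 : AlgSt.IsAlgStack K₀ 𝒳) (h𝒴 : FibCat.IsFibGrpd 𝒴.p)
    (hcl : ObjectProperty.IsClosedUnderIsomorphisms Q) (hQ : AlgSt.IsAlgStack K₀ (AlgSt.fullSub 𝒳 Q))
    {u : 𝒵 ⥤ᵇ 𝒴} (hu : LocEssSurj u) (f : 𝒴 ⥤ᵇ 𝒳) (hU : ∀ c, Q (f.obj (u.obj c))) (y : 𝒴.obj) :
    Q (f.obj y) := by
  let incl := AlgSt.subIncl 𝒳 Q
  have hm := isMono_subIncl h𝒳 hQ
  obtain ⟨Y, i, -⟩ := exists_overCat_obj h𝒴 y rfl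
  let z := BasedFunctor.comp Y f
  obtain ⟨F, e, he, hP⟩ := hm (𝒴.p.obj y) z
  obtain ⟨g, -, -, ⟨j⟩⟩ := isEquivOver_inv he
  let a := AlgSt.spMapOfOver (BasedFunctor.comp e (FibCat.fpFst z incl))
  have : Mono a := isMono_property hm z e he
  obtain ⟨R, hR, hz⟩ := hu (𝒴.p.obj y) Y
  have : Sheaf.IsLocallySurjective a := by
    refine ⟨fun {W} s => ?_⟩
    refine (J S).superset_covering (fun V k hk => ?_) ((J S).pullback_stable s.down hR)
    obtain ⟨z', ⟨i'⟩⟩ := hz (k ≫ s.down) hk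
    let v := BasedFunctor.comp (AlgSt.overMap (k ≫ s.down)) z
    have hv : ∀ c, Q (v.obj c) := fun c =>
      hcl.of_iso (f.toFunctor.mapIso (isoApp i' c)) (hU (z'.obj c))
    let v' : FibCat.overCat V ⥤ᵇ AlgSt.fullSub 𝒳 Q :=
      { toFunctor := ObjectProperty.lift _ v.toFunctor hv
        w := v.w }
    let E : FibCat.overCat V ⥤ᵇ FibCat.fp z incl :=
      FibCat.fpLift (AlgSt.overMap (k ≫ s.down)) v' (Iso.refl v)
    let l := spHom (BasedFunctor.comp (AlgSt.toOverCat V) (BasedFunctor.comp E g))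
    have hl : l ≫ a = (yon S).map (k ≫ s.down) := by
      rw [← spMapOfOver_comp, ← spMapOfOver_ofSpMap_toOverCat ((yon S).map (k ≫ s.down))]
      refine spMapOfOver_congr ?_
      exact whiskerLeftIso (BasedFunctor.comp (AlgSt.toOverCat V) E)
        (whiskerRightIso j (FibCat.fpFst z incl)) ≪≫ toOverCatMapIso (k ≫ s.down)
    refine ⟨(J S).uliftYonedaEquiv l, ?_⟩
    have h1 := congrArg (J S).uliftYonedaEquiv hl
    rw [GrothendieckTopology.uliftYonedaEquiv_comp] at h1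
    refine h1.trans (ULift.ext _ _ ?_)
    show 𝟙 V ≫ (k ≫ s.down) = k ≫ s.down
    simp
  exact hcl.of_iso (f.toFunctor.mapIso i)
    (mem_of_isIso_fp hcl z (isIso_of_mono_of_locallySurjective a) (Over.mk (𝟙 _)))

/-- The lift of a functor with values in a full subcategory. -/
def liftSub (F : 𝒴 ⥤ᵇ 𝒳) (h : ∀ c, Q (F.obj c)) : 𝒴 ⥤ᵇ AlgSt.fullSub 𝒳 Q where
  toFunctor := ObjectProperty.lift _ F.toFunctor h
  w := F.w

end Groth.Agent.AlgStLib.OnePt
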