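import Groth.Agent.AlgStLib.RedSubstack
import Groth.Agent.AlgStLib.OnePointSt
import Groth.Agent.AlgStLib.MonoFactorLft

/-!
# The fppf image of a flat morphism from a field
-/

set_option backward.isDefEq.respectTransparency false
set_option backward.isDefEq.respectTransparency.types false

universe u

open CategoryTheory CategoryTheory.Functor CategoryTheory.Limits AlgebraicGeometry Opposite AlgSp

namespace Groth.Agent.AlgStLib.FieldImg

open Groth.Agent.FibBase Groth.Agent.AlgSpLib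

variable {S : Scheme.{u}} {𝒵 : AlgSt.Cat S} {k : Type u} [Field k] {a : Spec (CommRingCat.of k) ⟶ S}

local notation "K₀" => Scheme.fppfPrecoverage

theorem spMapOfOver_comp_toOverCat {F : Sp S} {U : Over S} (Ψ : AlgSt.ofSp F ⥤ᵇ AlgSt.ofSp ((yon S).obj U)) :
    AlgSt.spMapOfOver (BasedFunctor.comp Ψ (AlgSt.toOverCat U)) = spHom Ψ := by
  rw [spMapOfOver_congr (whiskerRightIso (isoOfSpMap Ψ) (AlgSt.toOverCat U)), spMapOfOver_ofSpMap_toOverCat]

/-- `overOfMap` of a morphism of schemes. -/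
def overOfMapIso {V U : Over S} (t : V ⟶ U) :
    BasedFunctor.comp (overOfMap ((yon S).map t)) (AlgSt.toOverCat U) ≅ AlgSt.overMap t :=
  overIso _ _ fun x => by
    show 𝟙 x.left ≫ (x.hom ≫ t) = x.hom ≫ t
    simp

/-- A lft flat surjection from a field, pulled back to a chart. -/
theorem exists_chart_pair (h𝒵 : AlgSt.IsAlgStack K₀ 𝒵) {z : FibCat.overCat (Over.mk a) ⥤ᵇ 𝒵}
    (hzl : AlgSt.RepByAlgSpWith (LocP @LocallyOfFiniteType) z)
    (hzs : AlgSt.RepByAlgSpWith IsSurjectiveMor z) (hzf : AlgSt.RepByAlgSpWith (LocP @Flat) z)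
    {U : Over S} {x : FibCat.overCat U ⥤ᵇ 𝒵} (hx : AlgSt.RepByAlgSpWith (LocP @Smooth) x) :
    ∃ (W : Over S) (p : W ⟶ Over.mk a) (q : W ⟶ U), Smooth p.left ∧ Flat q.left ∧ Surjective q.left ∧
      LocallyOfFiniteType q.left ∧
      Nonempty (BasedFunctor.comp (AlgSt.overMap p) z ≅ BasedFunctor.comp (AlgSt.overMap q) x) ∧
      ∀ (T₁ : Over S) (t : T₁ ⟶ Over.mk a) (y : T₁ ⟶ U),
        Nonempty (BasedFunctor.comp (AlgSt.overMap t) z ≅ BasedFunctor.comp (AlgSt.overMap y) x) →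
        ∃ (T₂ : Over S) (π : T₂ ⟶ T₁) (r : T₂ ⟶ W), Etale π.left ∧ Surjective π.left ∧ r ≫ q = π ≫ y := by
  let A : AlgSp.Space S := ⟨_, IsAlgSpace.yon_obj (Over.mk a)⟩
  let B : AlgSp.Space S := ⟨_, IsAlgSpace.yon_obj U⟩
  let u : AlgSt.ofSp A.obj ⥤ᵇ 𝒵 := BasedFunctor.comp (AlgSt.toOverCat _) z
  let v : AlgSt.ofSp B.obj ⥤ᵇ 𝒵 := BasedFunctor.comp (AlgSt.toOverCat _) x
  have hv : AlgSt.RepByAlgSpWith (LocP @Smooth) v := repByAlgSpWith_precomp (isEquivOver_toOverCat _) hx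
  obtain ⟨W, e, he⟩ := exists_space_fp_equiv (isFibGrpd_ofSp B.obj) h𝒵.isStack.1 (repByAlgSp1_of_repByAlgSpWith hv) A u
  obtain ⟨g, -, -, ⟨ie⟩⟩ := isEquivOver_inv he
  obtain ⟨T, c, hc, hc'⟩ := W.property.atlas
  let a₁ := spHom (BasedFunctor.comp e (FibCat.fpFst u v))
  let a₂ := spHom (BasedFunctor.comp e (FibCat.fpSnd u v))
  obtain ⟨p, hp⟩ := (yon S).map_surjective (c ≫ a₁)
  obtain ⟨q, hq⟩ := (yon S).map_surjective (c ≫ a₂)
  have hT := IsAlgSpace.yon_obj (S := S) T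
  obtain ⟨ip⟩ := RedSub.overOfMap_comp_iso c (BasedFunctor.comp (BasedFunctor.comp e (FibCat.fpFst u v)) (AlgSt.toOverCat _)) p
    (hp.trans (congrArg (c ≫ ·) (spMapOfOver_comp_toOverCat _).symm))
  obtain ⟨iq⟩ := RedSub.overOfMap_comp_iso c (BasedFunctor.comp (BasedFunctor.comp e (FibCat.fpSnd u v)) (AlgSt.toOverCat _)) q
    (hq.trans (congrArg (c ≫ ·) (spMapOfOver_comp_toOverCat _).symm))
  refine ⟨T, p, q, locP_yon_map (hp ▸ locP_comp hT W.property A.property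
      (locP_mono (P := @Etale) etale_le_smooth (locP_of_repWith hc)) (locP_spHom_fpFst A.property W.property hv e he)),
    locP_yon_map (hq ▸ locP_comp hT W.property B.property (locP_mono (P := @Etale) (Q := @Flat)
      (fun _ _ f (_ : Etale f) => inferInstanceAs (Flat f)) (locP_of_repWith hc))
      (locP_spHom_fpSnd B.property W.property (repByAlgSpWith_precomp (isEquivOver_toOverCat _) hzf) e he)),
    ⟨isSurjective_left_of_map q (hq ▸ stableComp_isSurjectiveMor hT W.property B.property _ _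
      (surjective_map_of_repWith hc') (surj_spHom_fpSnd B.property W.property
        (repByAlgSpWith_precomp (isEquivOver_toOverCat _) hzs) e he))⟩,
    locP_yon_map (hq ▸ locP_comp hT W.property B.property (locP_mono (P := @Etale) (Q := @LocallyOfFiniteType)
      (fun _ _ f (_ : Etale f) => inferInstanceAs (LocallyOfFiniteType f)) (locP_of_repWith hc))
      (locP_spHom_fpSnd B.property W.property (repByAlgSpWith_precomp (isEquivOver_toOverCat _) hzl) e he)),
    ⟨whiskerRightIso ip.symm z ≪≫ whiskerLeftIso (BasedFunctor.comp (overOfMap c) e) (FibCat.fpIso u v) ≪≫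
      whiskerRightIso iq x⟩, fun T₁ t y ⟨θ⟩ => ?_⟩
  let L : FibCat.overCat T₁ ⥤ᵇ FibCat.fp u v := FibCat.fpLift (overOfMap ((yon S).map t)) (overOfMap ((yon S).map y))
    (whiskerRightIso (overOfMapIso t) z ≪≫ θ ≪≫ (whiskerRightIso (overOfMapIso y) x).symm)
  let l := spHom (BasedFunctor.comp (AlgSt.toOverCat T₁) (BasedFunctor.comp L g))
  have hl₂ : l ≫ a₂ = (yon S).map y := by
    rw [← spHom_comp]
    exact (spHom_congr (whiskerLeftIso (BasedFunctor.comp (AlgSt.toOverCat T₁) L)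
      (whiskerRightIso ie (FibCat.fpSnd u v)))).trans (mapOfOver_overOfMap ((yon S).map y))
  let π := hc.rep.snd l
  let r := hc.rep.fst' l
  have sqr : IsPullback ((yon S).map r) ((yon S).map π) c l := hc.rep.isPullback' l
  refine ⟨_, π, r, hc.property_snd l, hc'.property _ _ _ (hc.rep.isPullback l), ?_⟩
  apply (yon S).map_injective
  rw [Functor.map_comp, Functor.map_comp, hq, reassoc_of% sqr.w, hl₂]

variable {Q : 𝒵.obj → Prop}

/-- A full substack covered by a field is contained in every full substack meeting its point. -/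
theorem mem_of_cover (h𝒵 : AlgSt.IsAlgStack K₀ 𝒵) {Q' : 𝒵.obj → Prop}
    (hcl : ObjectProperty.IsClosedUnderIsomorphisms Q) (hQ : AlgSt.IsAlgStack K₀ (AlgSt.fullSub 𝒵 Q))
    (hQ' : AlgSt.IsAlgStack K₀ (AlgSt.fullSub 𝒵 Q'))
    {z : FibCat.overCat (Over.mk a) ⥤ᵇ AlgSt.fullSub 𝒵 Q'}
    (hp : AlgSt.RepByAlgSpWith (LocP @LocallyOfFinitePresentation) z)
    (hs : AlgSt.RepByAlgSpWith IsSurjectiveMor z) (hf : AlgSt.RepByAlgSpWith (LocP @Flat) z)
    (hx : AlgSt.Points.map (AlgSt.subIncl 𝒵 Q') (AlgSt.Points.ofChart z (IsLocalRing.closedPoint k)) ∈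
      Set.range (AlgSt.Points.map (AlgSt.subIncl 𝒵 Q))) {ξ : 𝒵.obj} (hξ : Q' ξ) : Q ξ :=
  OnePt.mem_of_locEssSurj h𝒵 hQ'.isStack.1 hcl hQ (locEssSurj_of_repByAlgSp hf hp hs) (AlgSt.subIncl 𝒵 Q')
    (OnePt.mem_of_field h𝒵 hcl hQ (BasedFunctor.comp z (AlgSt.subIncl 𝒵 Q')) (by rwa [← map_ofChart]))
    (⟨ξ, hξ⟩ : (AlgSt.fullSub 𝒵 Q').obj)

/-- The fppf image of a flat surjection from a field. -/
theorem exists_image (h𝒵 : AlgSt.IsAlgStack K₀ 𝒵) {z₀ : FibCat.overCat (Over.mk a) ⥤ᵇ 𝒵}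
    (hzs₀ : AlgSt.RepByAlgSpWith IsSurjectiveMor z₀) (hzf₀ : AlgSt.RepByAlgSpWith (LocP @Flat) z₀) :
    ∃ Q : 𝒵.obj → Prop, ObjectProperty.IsClosedUnderIsomorphisms Q ∧ AlgSt.IsAlgStack K₀ (AlgSt.fullSub 𝒵 Q) ∧
      (∃ (k' : Type u) (_ : Field k') (a' : Spec (CommRingCat.of k') ⟶ S)
        (z' : FibCat.overCat (Over.mk a') ⥤ᵇ AlgSt.fullSub 𝒵 Q),
        AlgSt.RepByAlgSpWith (LocP @LocallyOfFinitePresentation) z' ∧
          AlgSt.RepByAlgSpWith IsSurjectiveMor z' ∧ AlgSt.RepByAlgSpWith (LocP @Flat) z') ∧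
      AlgSt.IsMono (AlgSt.subIncl 𝒵 Q) := by
  have hg := h𝒵.isStack.1
  obtain ⟨hne, hsub⟩ := OnePt.points_of_surj h𝒵 hzs₀
  obtain ⟨k', _, a', z, ⟨hzl, hzs, hzf⟩, -⟩ :=
    OnePt.exists_lft_flat_of_reduced h𝒵 (OnePt.smoothLocally_isReduced h𝒵 hzs₀ hzf₀)
  obtain ⟨U, u, hu, hus⟩ := id h𝒵.atlas
  obtain ⟨W, p, q, hp, hqf, hqs, hql, ⟨θ⟩, hlift⟩ := exists_chart_pair h𝒵 hzl hzs hzf hu
  have : Smooth (p.left : W.left ⟶ Spec (CommRingCat.of k')) := hp
  have h0 : IsLocallyNoetherian (Spec (CommRingCat.of k')) := inferInstance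
  have : IsLocallyNoetherian (Over.mk a').left := h0
  have hWN : IsLocallyNoetherian W.left :=
    LocallyOfFiniteType.isLocallyNoetherian (p.left : W.left ⟶ Spec (CommRingCat.of k'))
  have : Flat (pullback.fst q.left q.left) := MorphismProperty.pullback_fst _ _ hqf
  have : LocallyOfFiniteType (pullback.fst q.left q.left) := MorphismProperty.pullback_fst _ _ hql
  have : LocallyOfFiniteType (pullback.snd q.left q.left) := MorphismProperty.pullback_snd _ _ hql
  have : LocallyOfFinitePresentation (pullback.fst q.left q.left) :=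
    LocallyOfFinitePresentation.iff_locallyOfFiniteType.2 ‹_›
  have : LocallyOfFinitePresentation (pullback.snd q.left q.left) :=
    LocallyOfFinitePresentation.iff_locallyOfFiniteType.2 ‹_›
  obtain ⟨X', f', i₀, hfs, hff, hfp, him, hfi⟩ := MonoFactorLft.exists_factor q.left
  let ZU : Over S := Over.mk (i₀ ≫ U.hom)
  let i : ZU ⟶ U := Over.homMk i₀ rfl
  let f : W ⟶ ZU := Over.homMk f' (by
    show f' ≫ i₀ ≫ U.hom = W.hom
    rw [reassoc_of% hfi, Over.w q])
  have hfiq : f ≫ i = q := Over.OverMorphism.ext hfi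
  have : Mono i.left := him
  have : Flat f.left := hff
  have : LocallyOfFinitePresentation f.left := hfp
  have : Surjective f.left := hfs
  have : LocallyOfFiniteType (f' ≫ i₀) := by rw [hfi]; exact hql
  have : LocallyOfFiniteType i.left := Groth.Agent.SrcDescent.locallyOfFiniteType_of_fppf_comp f' i₀
  have key : ∀ (T₁ : Over S) (t : T₁ ⟶ Over.mk a') (y : T₁ ⟶ U),
      Nonempty (BasedFunctor.comp (AlgSt.overMap t) z ≅ BasedFunctor.comp (AlgSt.overMap y) u) → RedSub.Fac i y := by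
    intro T₁ t y h
    obtain ⟨T₂, π, r, _, _, hr⟩ := hlift T₁ t y h
    exact RedSub.fac_of_local π ⟨r ≫ f, by rw [Category.assoc, hfiq, hr]⟩
  have hc : RedSub.Compat u i := by
    rintro T₀ x y ⟨φ⟩ ⟨l, hl⟩
    let P : Over S := Over.mk (pullback.fst l.left f.left ≫ T₀.hom)
    let p₁ : P ⟶ T₀ := Over.homMk (pullback.fst l.left f.left) rfl
    let p₂ : P ⟶ W := Over.homMk (pullback.snd l.left f.left) (by
      show _ = pullback.fst l.left f.left ≫ T₀.hom
      rw [← Over.w l, ← Over.w f, pullback.condition_assoc])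
    have hP : p₁ ≫ l = p₂ ≫ f := Over.OverMorphism.ext pullback.condition
    have : Flat p₁.left := MorphismProperty.pullback_fst _ _ ‹Flat f.left›
    have : LocallyOfFinitePresentation p₁.left :=
      MorphismProperty.pullback_fst _ _ ‹LocallyOfFinitePresentation f.left›
    have : Surjective p₁.left := MorphismProperty.pullback_fst _ _ ‹Surjective f.left›
    have hPx : p₁ ≫ x = p₂ ≫ q := by rw [← hl, reassoc_of% hP, hfiq]
    refine RedSub.fac_of_local p₁ (key P (p₂ ≫ p) (p₁ ≫ y) ⟨?_⟩)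
    exact whiskerRightIso (overMapCompIso p₂ p).symm z ≪≫ whiskerLeftIso (AlgSt.overMap p₂) θ ≪≫
      whiskerRightIso (overMapCompIso p₂ q ≪≫ eqToIso (congrArg AlgSt.overMap hPx.symm) ≪≫
        (overMapCompIso p₁ x).symm) u ≪≫
      whiskerLeftIso (AlgSt.overMap p₁) φ ≪≫ whiskerRightIso (overMapCompIso p₁ y) u
  have hcut : ∀ c : Over U, RedSub.Cut u i (u.obj c) ↔ RedSub.Fac i c.hom := fun c => by
    refine ⟨fun h => h c (𝟙 _), fun hc' d φ => ?_⟩
    let π : d.left ⟶ c.left := eqToHom (u.w_obj d).symm ≫ 𝒵.p.map φ ≫ eqToHom (u.w_obj c)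
    have hφ : 𝒵.p.IsHomLift π φ := IsHomLift.of_fac _ _ _ (u.w_obj d) (u.w_obj c) rfl
    let n : (AlgSt.overMap d.hom).obj (Over.mk (𝟙 d.left)) ⟶ d := Over.homMk (𝟙 d.left) rfl
    let m : (AlgSt.overMap (π ≫ c.hom)).obj (Over.mk (𝟙 d.left)) ⟶ c := Over.homMk π (by
      show π ≫ c.hom = 𝟙 d.left ≫ π ≫ c.hom
      simp)
    have : 𝒵.p.IsHomLift (𝟙 d.left) (u.map n) := overMap_isHomLift u n
    have : 𝒵.p.IsHomLift π (u.map m) := overMap_isHomLift u m
    have : 𝒵.p.IsHomLift π (u.map n ≫ φ) := IsHomLift.comp_lift_id_left' 𝒵.p d.left (u.map n) π φ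
    exact hc _ _ _ (RedSub.iso_of_hom hg (G := BasedFunctor.comp (AlgSt.overMap (π ≫ c.hom)) u)
      (H := BasedFunctor.comp (AlgSt.overMap d.hom) u) π (u.map m) (u.map n ≫ φ)) (hc'.comp π)
  let incl := AlgSt.subIncl 𝒵 (RedSub.Cut u i)
  have hrep := RedSub.repByAlgSp1_cut hg hu hus hc
  have halg : AlgSt.IsAlgStack K₀ (AlgSt.fullSub 𝒵 (RedSub.Cut u i)) :=
    isAlgStack_of_repByAlgSp1 (isFibGrpd_fullSub hg RedSub.cut_of_hom) h𝒵 hrep
  obtain ⟨E, hE, hEf⟩ := RedSub.exists_equiv (u := u) (i := i) u (j := i) hcut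
  let w := BasedFunctor.comp (BasedFunctor.comp E (fpSwap u incl)) (FibCat.fpFst incl u)
  have hsw : FibCat.IsEquivOver (BasedFunctor.comp E (fpSwap u incl)) :=
    isEquivOver_comp hE (fpSwap_isEquivOver u incl)
  have hw : AlgSt.RepByAlgSpWith (LocP @Smooth) w :=
    repByAlgSpWith_precomp hsw (repByAlgSpWith_fpFst incl hu)
  have hz : ∀ c, RedSub.Cut u i (z.obj c) := fun c =>
    RedSub.cut_obj z ((RedSub.cut_iff hg z).2 fun T₁ t y ⟨e⟩ => key T₁ t y ⟨e.symm⟩) c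
  let z' := OnePt.liftSub z hz
  have hwi : BasedFunctor.comp (AlgSt.overMap p) z ≅ BasedFunctor.comp (BasedFunctor.comp (AlgSt.overMap f) w) incl :=
    θ ≪≫ whiskerRightIso (eqToIso (congrArg AlgSt.overMap hfiq.symm) ≪≫ (overMapCompIso f i).symm) u ≪≫
      whiskerLeftIso (AlgSt.overMap f) ((eqToIso (congrArg (fun Φ => BasedFunctor.comp Φ u) hEf)).symm ≪≫
        whiskerLeftIso E (FibCat.fpIso u incl))
  obtain ⟨α⟩ : Nonempty (BasedFunctor.comp (AlgSt.overMap p) z' ≅ BasedFunctor.comp (AlgSt.overMap f) w) := by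
    have hl := (isoApp hwi (Over.mk (𝟙 W)))
    refine exists_iso_of_eval halg.isStack.1 _ _ (ObjectProperty.homMk (isoApp hwi (Over.mk (𝟙 W))).hom) ?_
    exact (isHomLift_fullSub_iff _ _).2 (BasedNatTrans.isHomLift hwi.hom rfl)
  have hpS : AlgSt.RepByAlgSpWith (LocP @Smooth) (AlgSt.overMap p) :=
    repByAlgSpWith_overMap stableBC_locP (locP_of_repWith ((repWith_yon_map_iff _ p).2 hp))
  obtain ⟨w₀, -⟩ : ∃ w₀ : ↥W.left, True := by
    obtain ⟨s, -⟩ := ofChart_surjective hg hus (AlgSt.Points.ofChart z (IsLocalRing.closedPoint k'))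
    obtain ⟨w₀, -⟩ := q.left.surjective s
    exact ⟨w₀, trivial⟩
  have hps : AlgSt.RepByAlgSpWith IsSurjectiveMor (AlgSt.overMap p) := by
    refine repByAlgSpWith_overMap stableBC_isSurjectiveMor (surjective_map_of_repWith ((repWith_yon_map_iff _ p).2 ⟨fun x => ⟨w₀, ?_⟩⟩))
    exact Subsingleton.elim (α := PrimeSpectrum k') _ _
  have hrz : AlgSt.RepByAlgSp1 z' := repByAlgSp1_of_diag halg.isStack.1 halg.diag _ z'
  have hincl := OnePt.isMono_subIncl h𝒵 halg
  have hinj := pts_map_injective_of_isMono halg.isStack.1 hg hincl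
  refine ⟨RedSub.Cut u i, RedSub.closedUnderIso_cut, halg, ⟨k', inferInstance, a', z', ?_, ?_, ?_⟩, hincl⟩
  · exact (locQ_iff_repByAlgSpWith isSmoothLocalST_lfp stableBC_locP (isLocalOnBase_fppf_locP @LocallyOfFinitePresentation)
      (isAlgStack_overCat _) halg hrz).1 ⟨W, ZU, AlgSt.overMap p, w, f, α, hpS, hps, hw,
        locP_of_repWith ((repWith_yon_map_iff _ f).2 hfp)⟩
  · have : Subsingleton (AlgSt.Points (AlgSt.fullSub 𝒵 (RedSub.Cut u i))) :=
      ⟨fun x y => hinj (Subsingleton.elim _ _)⟩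
    exact OnePt.surj_of_subsingleton halg z'
  · exact (OnePt.locQ_flat_iff halg z').1 ⟨W, ZU, AlgSt.overMap p, w, f, α, hpS, hps, hw,
      locP_of_repWith ((repWith_yon_map_iff _ f).2 hff)⟩

end Groth.Agent.AlgStLib.FieldImg
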