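import Groth.Agent.AlgStLib.QuasiCompact

/-!
# Immersions, quasi-compactness, quasi-separatedness
-/

set_option backward.isDefEq.respectTransparency false
set_option backward.isDefEq.respectTransparency.types false

universe u w

open CategoryTheory CategoryTheory.Functor CategoryTheory.Limits AlgebraicGeometry Opposite AlgSp

namespace Groth.Agent.AlgStLib

open Groth.Agent.FibBase Groth.Agent.AlgSpLib

variable {S : Scheme.{u}} {𝒳 𝒴 𝒵 : AlgSt.Cat S}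

local notation "K₀" => Scheme.fppfPrecoverage

theorem quasiCompact_of_isImmersion {X Y : Scheme.{u}} (f : X ⟶ Y) [IsImmersion f] [IsLocallyNoetherian Y] :
    QuasiCompact f := by
  rw [← f.liftCoborder_ι]
  infer_instance

theorem isImm_noetherian (h𝒳 : AlgSt.IsAlgStack K₀ 𝒳) (h𝒴 : AlgSt.IsAlgStack K₀ 𝒴) {j : 𝒳 ⥤ᵇ 𝒴}
    (hj : AlgSt.IsImm j) (hN : AlgSt.SmoothLocally (fun T ↦ IsLocallyNoetherian T) 𝒴) :
    AlgSt.SmoothLocally (fun T ↦ IsLocallyNoetherian T) 𝒳 ∧ AlgSt.IsQuasiCompactMor K₀ j := by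
  refine ⟨smoothLocally_noetherian_of_lft h𝒳 h𝒴
    (locQ_of_repWith _ isSmoothLocalST_lft (fun _ _ g (_ : IsImmersion g) => inferInstanceAs (LocallyOfFiniteType g))
      h𝒳 h𝒴 hj) hN, ?_⟩
  have hj1 : AlgSt.RepByAlgSp1 j := repByAlgSp1_of_repByAlgSpWith hj
  refine (repByAlgSpWith_isQuasiCompactMor_iff h𝒳 h𝒴.isStack h𝒴.diag hj1).1 ?_
  obtain ⟨V, y, hy, hy'⟩ := id h𝒴.atlas
  have : IsLocallyNoetherian V.left := hN V y hy
  obtain ⟨F, e, he, ha⟩ := hj V y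
  have hq : IsQuasiCompactMor (AlgSt.spMapOfOver (BasedFunctor.comp e (FibCat.fpFst y j))) := by
    have sq := ha.rep.isPullback (𝟙 ((yon S).obj V))
    have := sq.isIso_fst_of_isIso
    have hi : IsImmersion (ha.rep.snd (𝟙 ((yon S).obj V))).left := ha.property_snd _
    have hqc : RepWith @QuasiCompact ((yon S).map (ha.rep.snd (𝟙 ((yon S).obj V)))) :=
      (repWith_yon_map_iff _ _).2 (quasiCompact_of_isImmersion _)
    rw [show AlgSt.spMapOfOver (BasedFunctor.comp e (FibCat.fpFst y j)) =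
        inv (ha.rep.fst (𝟙 ((yon S).obj V))) ≫ (yon S).map (ha.rep.snd (𝟙 ((yon S).obj V))) from
      (IsIso.eq_inv_comp _).2 (sq.w.trans (Category.comp_id _))]
    exact AlgSpPts.isQuasiCompactMor_of_repWith (repWith_comp (repWith_of_isIso _ _) hqc)
  exact repByAlgSpWith_of_locEssSurj stableBC_isQuasiCompactMor
    (isLocalOnBase_fppf_of_fpqc isLocalOnBase_fpqc_isQuasiCompactMor) hj1 (locEssSurj_of_atlas hy hy')
    ((repByAlgSpWith_iff_of_square (f := FibCat.fpFst y j)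
      (f' := AlgSt.ofSpMap (AlgSt.spMapOfOver (BasedFunctor.comp e (FibCat.fpFst y j)))) (a := e)
      (b := AlgSt.toOverCat V) he (isEquivOver_toOverCat V)
      (isoSpMapOfOver (BasedFunctor.comp e (FibCat.fpFst y j))).symm).2
      (repByAlgSpWith_ofSpMap stableBC_isQuasiCompactMor F.property (IsAlgSpace.yon_obj V) _ hq))

theorem isQuasiCompactMor_of_isQuasiSeparatedOver [QuasiSeparatedSpace S] (h𝒳 : AlgSt.IsAlgStack K₀ 𝒳)
    (h𝒴 : AlgSt.IsAlgStack K₀ 𝒴) (f : 𝒳 ⥤ᵇ 𝒴) (hq : AlgSt.IsQuasiCompact 𝒳)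
    (hs : AlgSt.IsQuasiSeparatedOver 𝒴) : AlgSt.IsQuasiCompactMor K₀ f := by
  refine isQuasiCompactMor_of_comp h𝒳 h𝒴 isStack_selfOver repByAlgSpWith_diag_toSelf_selfOver ?_ hs
  rw [eq_toSelf (BasedFunctor.comp f (FibCat.toSelf 𝒴))]
  exact isQuasiCompactMor_toSelf h𝒳 hq

theorem repByAlgSpWith_congr {P : MorphismProperty (Sp S)} {f f' : 𝒳 ⥤ᵇ 𝒴} (h : f = f')
    (hf : AlgSt.RepByAlgSpWith P (FibCat.diag f')) : AlgSt.RepByAlgSpWith P (FibCat.diag f) := by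
  subst h; exact hf

theorem qcqs_fp [QuasiSeparatedSpace S] (h𝒳 : AlgSt.IsAlgStack K₀ 𝒳)
    (h𝒴 : AlgSt.IsAlgStack K₀ 𝒴) (h𝒵 : AlgSt.IsAlgStack K₀ 𝒵) (a : 𝒳 ⥤ᵇ 𝒴) (b : 𝒵 ⥤ᵇ 𝒴)
    (hX : AlgSt.IsQuasiCompact 𝒳) (sX : AlgSt.IsQuasiSeparatedOver 𝒳) (sY : AlgSt.IsQuasiSeparatedOver 𝒴)
    (hZ : AlgSt.IsQuasiCompact 𝒵) (sZ : AlgSt.IsQuasiSeparatedOver 𝒵) :
    AlgSt.IsQuasiCompact (FibCat.fp a b) ∧ AlgSt.IsQuasiSeparatedOver (FibCat.fp a b) := by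
  refine ⟨isQuasiCompact_of_equiv (fpSwap_isEquivOver b a)
    (isQuasiCompactMor_of_isQuasiSeparatedOver h𝒳 h𝒴 a hX sY 𝒵 h𝒵 hZ b), ?_⟩
  have hb : AlgSt.IsQuasiSeparatedMor b :=
    repByAlgSpWith_diag_of_comp stableBC_qcqs cancels_qcqs (repByAlgSpWith_mono (fun _ _ _ h => h.2) sY)
      (repByAlgSpWith_congr (eq_toSelf (BasedFunctor.comp b (FibCat.toSelf 𝒴))) sZ)
  exact repByAlgSpWith_congr (eq_toSelf (BasedFunctor.comp (FibCat.fpFst a b) (FibCat.toSelf 𝒳))).symm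
    (repByAlgSpWith_diag_comp stableBC_qcqs stableComp_qcqs isLocalOnBase_qcqs
      (fp_isFibGrpd h𝒳.isStack.1 h𝒵.isStack.1 h𝒴.isStack.1) h𝒳.isStack.1 (repByAlgSpWith_diag_fpFst hb) sX)

theorem exists_finset_subcover (h𝒳 : AlgSt.IsAlgStack K₀ 𝒳) {𝒰 : AlgSt.Cat S} (h𝒰 : AlgSt.IsAlgStack K₀ 𝒰)
    (j : 𝒰 ⥤ᵇ 𝒳) (hqc : AlgSt.IsQuasiCompact 𝒰) {ι : Type w} (O : ι → Set (AlgSt.Points 𝒳))
    (hO : ∀ i, IsOpen (O i)) (hcov : Set.range (AlgSt.Points.map j) ⊆ ⋃ i, O i) :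
    ∃ I' : Finset ι, Set.range (AlgSt.Points.map j) ⊆ ⋃ i ∈ I', O i := by
  have := (isQuasiCompact_iff_compactSpace_points h𝒰.isStack.1 h𝒰.atlas).1 hqc
  exact (isCompact_range (continuous_pts_map h𝒳.isStack.1 h𝒳.atlas j)).elim_finite_subcover O hO hcov

theorem isOpen_range_of_isOpenImm (h𝒳 : AlgSt.IsAlgStack K₀ 𝒳) (h𝒴 : AlgSt.IsAlgStack K₀ 𝒴) {j : 𝒳 ⥤ᵇ 𝒴}
    (hj : AlgSt.IsOpenImm j) : IsOpen (Set.range (AlgSt.Points.map j)) := by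
  have h₁ := locQ_of_repWith (S := S) _ isSmoothLocalST_flat
    (fun _ _ g (_ : IsOpenImmersion g) => inferInstanceAs (Flat g)) h𝒳 h𝒴 hj
  have h₂ := locQ_of_repWith (S := S) _ isSmoothLocalST_lfp
    (fun _ _ g (_ : IsOpenImmersion g) => inferInstanceAs (LocallyOfFinitePresentation g)) h𝒳 h𝒴 hj
  exact (isOpenMor_of_locQ_flat_lfp h𝒳 h𝒴 h₁ h₂).isOpen_range

end Groth.Agent.AlgStLib
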