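import Groth.Agent.AlgStLib.Substack
import Groth.Agent.AlgStLib.QuasiCompactImm

/-!
# Open substacks and open sets of points
-/

set_option backward.isDefEq.respectTransparency false
set_option backward.isDefEq.respectTransparency.types false

universe u

open CategoryTheory CategoryTheory.Functor CategoryTheory.Limits AlgebraicGeometry Opposite AlgSp

namespace Groth.Agent.AlgStLib

open Groth.Agent.FibBase Groth.Agent.AlgSpLib

variable {S : Scheme.{u}} {𝒳 𝒵 : AlgSt.Cat S} {T : Set (AlgSt.Points 𝒳)}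

local notation "K₀" => Scheme.fppfPrecoverage

/-- All points of an object lie in `T`. -/
def PtsIn (T : Set (AlgSt.Points 𝒳)) : 𝒳.obj → Prop :=
  fun x => ∀ (p : AlgSt.FPt 𝒳) (_ : p.obj ⟶ x), AlgSt.Points.mk p ∈ T

theorem ptsIn_of_hom ⦃y x : 𝒳.obj⦄ (φ : y ⟶ x) (h : PtsIn T x) : PtsIn T y := fun p ψ => h p (ψ ≫ φ)

theorem closedUnderIso_ptsIn : ObjectProperty.IsClosedUnderIsomorphisms (PtsIn T) :=
  ⟨fun e h => ptsIn_of_hom e.inv h⟩

theorem ptsIn_map (h𝒳 : FibCat.IsFibGrpd 𝒳.p) (h𝒵 : FibCat.IsFibGrpd 𝒵.p) (F : 𝒵 ⥤ᵇ 𝒳)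
    (hT : ∀ w, AlgSt.Points.map F w ∈ T) (z : 𝒵.obj) : PtsIn T (F.obj z) := fun p φ => by
  let G : Over.mk p.str ⟶ 𝒵.p.obj z := eqToHom p.lies.symm ≫ 𝒳.p.map φ ≫ eqToHom (F.w_obj z)
  obtain ⟨o, ψ, hψ⟩ := h𝒵.exists_lift (x := z) G
  have hp : 𝒵.p.obj o = Over.mk p.str := IsHomLift.domain_eq 𝒵.p G ψ
  have h₁ : 𝒳.p.IsHomLift G φ := IsHomLift.of_fac 𝒳.p G φ p.lies (F.w_obj z) rfl
  have h₂ : 𝒳.p.IsHomLift G (F.map ψ) := F.preserves_isHomLift G ψ
  obtain ⟨j, -, -⟩ := exists_iso_of_lifts (hp := h𝒳) G (F.map ψ) φ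
  let q : AlgSt.FPt 𝒵 := { K := p.K, str := p.str, obj := o, lies := hp }
  rw [show AlgSt.Points.mk p = AlgSt.Points.map F (AlgSt.Points.mk q) from pts_eq_of_hom (q := q.map F) j.hom]
  exact hT _

theorem ptsIn_chart_iff (h𝒳 : FibCat.IsFibGrpd 𝒳.p) {U : Over S} (y : FibCat.overCat U ⥤ᵇ 𝒳) (a : Over U) :
    PtsIn T (y.obj a) ↔ ∀ w : ↥a.left.left, AlgSt.Points.ofChart y (a.hom.left w) ∈ T := by
  constructor
  · intro h w
    let f : Over.mk (a.left.left.fromSpecResidueField w ≫ a.left.hom) ⟶ a.left :=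
      Over.homMk (a.left.left.fromSpecResidueField w) rfl
    rw [← ofChart_overMap a.hom y w]
    refine h _ ?_
    exact y.map (Over.homMk f rfl : Over.mk (f ≫ a.hom) ⟶ a)
  · intro h
    obtain ⟨G, e, -⟩ := exists_overCat_obj (isFibGrpd_overCat U) (U := a.left) a rfl
    have hT : ∀ v, AlgSt.Points.map (BasedFunctor.comp (AlgSt.overMap a.hom) y) v ∈ T := fun v => by
      obtain ⟨w, rfl⟩ := ptAt_surjective a.left v
      rw [← ofChart_eq_map, ofChart_overMap]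
      exact h w
    refine ptsIn_of_hom (y.map (Over.homMk (𝟙 a.left) ?_ : a ⟶ (AlgSt.overMap a.hom).obj (Over.mk (𝟙 a.left))))
      (ptsIn_map h𝒳 (isFibGrpd_overCat a.left) _ hT (Over.mk (𝟙 a.left)))
    show 𝟙 a.left ≫ 𝟙 a.left ≫ a.hom = a.hom
    simp

theorem isFibGrpd_ptsIn (h𝒳 : FibCat.IsFibGrpd 𝒳.p) (T : Set (AlgSt.Points 𝒳)) :
    FibCat.IsFibGrpd (AlgSt.fullSub 𝒳 (PtsIn T)).p :=
  isFibGrpd_fullSub h𝒳 ptsIn_of_hom

theorem range_subIncl_ptsIn : Set.range (AlgSt.Points.map (AlgSt.subIncl 𝒳 (PtsIn T))) = T := by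
  ext t
  refine ⟨?_, fun ht => ?_⟩
  · rintro ⟨w, rfl⟩
    obtain ⟨p, rfl⟩ := AlgSt.Points.mk_surjective w
    exact p.obj.property (p.map (AlgSt.subIncl 𝒳 (PtsIn T))) (𝟙 _)
  · obtain ⟨p, rfl⟩ := AlgSt.Points.mk_surjective t
    have hp : PtsIn T p.obj := fun q φ => by
      rw [pts_eq_of_hom (p := q) (q := p) φ]
      exact ht
    let p' : AlgSt.FPt (AlgSt.fullSub 𝒳 (PtsIn T)) :=
      { K := p.K, str := p.str, obj := ⟨p.obj, hp⟩, lies := p.lies }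
    exact ⟨AlgSt.Points.mk p', rfl⟩

/-- An open set of points gives an open immersion. -/
theorem isOpenImm_ptsIn (h𝒳 : AlgSt.IsAlgStack K₀ 𝒳) (hT : IsOpen T) :
    AlgSt.IsOpenImm (AlgSt.subIncl 𝒳 (PtsIn T)) := fun U y => by
  let V : U.left.Opens :=
    ⟨AlgSt.Points.ofChart y ⁻¹' T, hT.preimage (continuous_ofChart h𝒳.isStack.1 h𝒳.atlas y)⟩
  let Vs : Over S := Over.mk (V.ι ≫ U.hom)
  let j : Vs ⟶ U := Over.homMk V.ι rfl
  have hmem : ∀ c : Over Vs, PtsIn T (y.obj ((AlgSt.overMap j).obj c)) := fun c =>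
    (ptsIn_chart_iff h𝒳.isStack.1 y _).2 fun w => by
      show AlgSt.Points.ofChart y (V.ι (c.hom.left w)) ∈ T
      exact (c.hom.left w).2
  let y' : FibCat.overCat Vs ⥤ᵇ AlgSt.fullSub 𝒳 (PtsIn T) :=
    { toFunctor := ObjectProperty.lift _ (BasedFunctor.comp (AlgSt.overMap j) y).toFunctor hmem
      w := (BasedFunctor.comp (AlgSt.overMap j) y).w }
  let e : FibCat.overCat Vs ⥤ᵇ FibCat.fp y (AlgSt.subIncl 𝒳 (PtsIn T)) :=
    FibCat.fpLift (AlgSt.overMap j) y' (Iso.refl (BasedFunctor.comp (AlgSt.overMap j) y))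
  have he : FibCat.IsEquivOver e := by
    refine isEquivOver_of_exists_iso _ ⟨fun {a b} t => ?_⟩ ⟨fun {a b} t t' h => ?_⟩ fun η => ?_
    · have hw : t.hom.fst.left ≫ b.hom ≫ j = a.hom ≫ j := Over.w t.hom.fst
      have hm : t.hom.fst.left ≫ b.hom = a.hom := by
        refine Over.OverMorphism.ext ((cancel_mono V.ι).1 ?_)
        have := congrArg CommaMorphism.left hw
        simp only [Over.comp_left] at this ⊢
        exact (Category.assoc _ _ _).trans this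
      let φ : a ⟶ b := Over.homMk t.hom.fst.left hm
      have hfst : (AlgSt.overMap j).map φ = t.hom.fst := Over.OverMorphism.ext rfl
      refine ⟨φ, ?_⟩
      refine ObjectProperty.hom_ext _ (CategoricalPullback.hom_ext hfst (ObjectProperty.hom_ext _ ?_))
      have h := t.hom.w
      have h' : y.map t.hom.fst ≫ 𝟙 _ = 𝟙 _ ≫ t.hom.snd.hom := h
      show y.map ((AlgSt.overMap j).map φ) = t.hom.snd.hom
      rw [hfst]
      exact ((Category.comp_id _).symm.trans h').trans (Category.id_comp _)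
    · have := congrArg (fun k => k.hom.fst.left) h
      exact Over.OverMorphism.ext this
    · let a := η.obj.fst
      have ha : PtsIn T (y.obj a) := ptsIn_of_hom η.obj.iso.hom η.obj.snd.property
      have hr : Set.range a.hom.left ⊆ Set.range V.ι := by
        rintro _ ⟨w, rfl⟩
        rw [Scheme.Opens.range_ι]
        exact (ptsIn_chart_iff h𝒳.isStack.1 y a).1 ha w
      let l : a.left ⟶ Vs := Over.homMk (IsOpenImmersion.lift V.ι a.hom.left hr) (by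
        show _ ≫ V.ι ≫ U.hom = _
        rw [← Category.assoc, IsOpenImmersion.lift_fac]
        exact Over.w a.hom)
      have hl : l ≫ j = a.hom := Over.OverMorphism.ext (IsOpenImmersion.lift_fac _ _ _)
      let i₁ : (AlgSt.overMap j).obj (Over.mk l) ≅ a := Over.isoMk (Iso.refl a.left)
        ((Category.id_comp _).trans hl.symm)
      let i₂ : y'.obj (Over.mk l) ≅ η.obj.snd := ObjectProperty.isoMk _ (y.toFunctor.mapIso i₁ ≪≫ η.obj.iso)
      refine ⟨Over.mk l, fpIsoMk (x := e.obj (Over.mk l)) (y := η) i₁ i₂ ?_, ?_⟩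
      · show y.map i₁.hom ≫ η.obj.iso.hom = 𝟙 _ ≫ (y.map i₁.hom ≫ η.obj.iso.hom)
        simp
      · exact fp_isHomLift (𝟙 _) _ (h := IsHomLift.of_fac _ _ _ rfl rfl (by
          show 𝟙 a.left = 𝟙 _ ≫ 𝟙 a.left ≫ 𝟙 _
          simp))
  refine ⟨⟨(yon S).obj Vs, IsAlgSpace.yon_obj Vs⟩, BasedFunctor.comp (AlgSt.toOverCat Vs) e,
    isEquivOver_comp (isEquivOver_toOverCat Vs) he, ?_⟩
  rw [spMapOfOver_congr (show BasedFunctor.comp (BasedFunctor.comp (AlgSt.toOverCat Vs) e) (FibCat.fpFst y _) ≅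
      BasedFunctor.comp (AlgSt.ofSpMap ((yon S).map j)) (AlgSt.toOverCat U) from toOverCatMapIso j),
    spMapOfOver_ofSpMap_toOverCat]
  exact (repWith_yon_map_iff _ j).2 (inferInstanceAs (IsOpenImmersion V.ι))

theorem isOpenSubstack_ptsIn (h𝒳 : AlgSt.IsAlgStack K₀ 𝒳) (hT : IsOpen T) :
    AlgSt.IsOpenSubstack 𝒳 (PtsIn T) K₀ :=
  ⟨closedUnderIso_ptsIn, isAlgStack_of_repByAlgSp1 (isFibGrpd_ptsIn h𝒳.isStack.1 T) h𝒳
    (repByAlgSp1_of_repByAlgSpWith (isOpenImm_ptsIn h𝒳 hT)), isOpenImm_ptsIn h𝒳 hT⟩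

theorem isIso_of_isOpenImm_surjective {F : Sp S} {U : Over S} {a : F ⟶ (yon S).obj U}
    (ha : RepWith @IsOpenImmersion a) (hs : IsSurjectiveMor a) : IsIso a := by
  have sq := ha.rep.isPullback (𝟙 ((yon S).obj U))
  have : IsIso (ha.rep.fst (𝟙 ((yon S).obj U))) := sq.isIso_fst_of_isIso
  have he : ha.rep.fst (𝟙 ((yon S).obj U)) ≫ a = (yon S).map (ha.rep.snd (𝟙 ((yon S).obj U))) := by
    rw [sq.w, Category.comp_id]
  let k := ha.rep.snd (𝟙 ((yon S).obj U))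
  have : IsOpenImmersion k.left := ha.2 _ _ _ sq
  have hsurj : Function.Surjective k.left := fun v => by
    obtain ⟨x, hx⟩ := hs (AlgSp.Points.schemeHomeo U v)
    obtain ⟨w, hw⟩ : ∃ w, AlgSp.Points.map (ha.rep.fst (𝟙 ((yon S).obj U))) w = x :=
      ⟨AlgSp.Points.map (inv (ha.rep.fst (𝟙 ((yon S).obj U)))) x, by
        rw [← AlgSp.Points.map_comp, IsIso.inv_hom_id, AlgSp.Points.map_id]⟩
    obtain ⟨w, rfl⟩ := (AlgSp.Points.schemeHomeo _).surjective w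
    refine ⟨w, (AlgSp.Points.schemeHomeo U).injective ?_⟩
    rw [← AlgSp.Points.map_yon_map_apply, ← he, AlgSp.Points.map_comp, hw, hx]
  have : Epi k.left.base := (TopCat.epi_iff_surjective _).2 hsurj
  have : IsIso k.left := IsOpenImmersion.isIso k.left
  have : IsIso ((Over.forget S).map k) := ‹IsIso k.left›
  have : IsIso k := isIso_of_reflects_iso k (Over.forget S)
  have : IsIso (ha.rep.fst (𝟙 ((yon S).obj U)) ≫ a) := by rw [he]; infer_instance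
  exact IsIso.of_isIso_comp_left (ha.rep.fst (𝟙 ((yon S).obj U))) a

/-- An open substack is cut out by its points. -/
theorem eq_ptsIn_range (h𝒳 : AlgSt.IsAlgStack K₀ 𝒳) {Q : 𝒳.obj → Prop} (hQ : AlgSt.IsOpenSubstack 𝒳 Q K₀) :
    Q = PtsIn (Set.range (AlgSt.Points.map (AlgSt.subIncl 𝒳 Q))) := by
  funext x
  refine propext ⟨fun hx => ptsIn_map (T := Set.range (AlgSt.Points.map (AlgSt.subIncl 𝒳 Q))) h𝒳.isStack.1 hQ.2.1.isStack.1 (AlgSt.subIncl 𝒳 Q)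
    (fun w => ⟨w, rfl⟩) (⟨x, hx⟩ : (AlgSt.fullSub 𝒳 Q).obj), fun hx => ?_⟩
  obtain ⟨z, i, -⟩ := exists_overCat_obj h𝒳.isStack.1 x rfl
  let incl := AlgSt.subIncl 𝒳 Q
  have hfg := hQ.2.1.isStack.1
  have hsurj : AlgSt.IsSurjective (FibCat.fpFst z incl) := fun v => by
    obtain ⟨t, rfl⟩ := ptAt_surjective (𝒳.p.obj x) v
    obtain ⟨w, hw⟩ : AlgSt.Points.ofChart z t ∈ Set.range (AlgSt.Points.map incl) :=
      (ptsIn_chart_iff h𝒳.isStack.1 z (Over.mk (𝟙 _))).1 (ptsIn_of_hom i.hom hx) t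
    obtain ⟨o, ho, -⟩ := exists_pts_fp hfg h𝒳.isStack.1 (isFibGrpd_overCat _) incl z (ptAt _ t) w
      (by rw [← ofChart_eq_map]; exact hw.symm)
    exact ⟨o, ho⟩
  obtain ⟨F, e, he, hP⟩ := hQ.2.2 (𝒳.p.obj x) z
  have hs : IsSurjectiveMor (AlgSt.spMapOfOver (BasedFunctor.comp e (FibCat.fpFst z incl))) := fun q => by
    obtain ⟨w, hw⟩ := hsurj (ptAt _ (AlgSp.Points.toScheme _ q))
    obtain ⟨w', rfl⟩ := (pts_bijective_of_isEquivOver he).2 w
    refine ⟨spPt w', (AlgSp.Points.schemeEquiv _).symm.injective ?_⟩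
    show AlgSp.Points.toScheme _ _ = AlgSp.Points.toScheme _ q
    rw [← toSch_map, pts_map_comp, hw, toSch_ptAt]
  have := isIso_of_isOpenImm_surjective hP hs
  have hq : FibCat.IsEquivOver (BasedFunctor.comp e (FibCat.fpFst z incl)) :=
    isEquivOver_of_iso (isoSpMapOfOver _).symm
      (isEquivOver_comp (isEquivOver_ofSpMap _) (isEquivOver_toOverCat _))
  obtain ⟨g, -, -, ⟨j⟩⟩ := isEquivOver_inv hq
  let o := e.obj (g.obj (Over.mk (𝟙 (𝒳.p.obj x))))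
  exact hQ.1.of_iso (o.obj.iso.symm ≪≫ z.toFunctor.mapIso (isoApp j (Over.mk (𝟙 _))) ≪≫ i) o.obj.snd.property

theorem bijOn_openSubstack (h𝒳 : AlgSt.IsAlgStack K₀ 𝒳) :
    Set.BijOn (fun Q : 𝒳.obj → Prop => Set.range (AlgSt.Points.map (AlgSt.subIncl 𝒳 Q)))
        {Q | AlgSt.IsOpenSubstack 𝒳 Q K₀} {T | IsOpen T} ∧
      ∀ (Q Q' : 𝒳.obj → Prop), AlgSt.IsOpenSubstack 𝒳 Q K₀ → AlgSt.IsOpenSubstack 𝒳 Q' K₀ →
        ((∀ y, Q y → Q' y) ↔
          Set.range (AlgSt.Points.map (AlgSt.subIncl 𝒳 Q)) ⊆ Set.range (AlgSt.Points.map (AlgSt.subIncl 𝒳 Q'))) := by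
  refine ⟨⟨fun Q hQ => isOpen_range_of_isOpenImm hQ.2.1 h𝒳 hQ.2.2, fun Q hQ Q' hQ' h => ?_,
    fun T hT => ⟨PtsIn T, isOpenSubstack_ptsIn h𝒳 hT, range_subIncl_ptsIn⟩⟩, fun Q Q' hQ hQ' => ⟨?_, fun h y hy => ?_⟩⟩
  · exact (eq_ptsIn_range h𝒳 hQ).trans ((congrArg PtsIn h).trans (eq_ptsIn_range h𝒳 hQ').symm)
  · rintro h _ ⟨w, rfl⟩
    obtain ⟨p, rfl⟩ := AlgSt.Points.mk_surjective w
    exact ⟨AlgSt.Points.mk { K := p.K, str := p.str, obj := ⟨p.obj.obj, h _ p.obj.property⟩, lies := p.lies }, rfl⟩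
  · rw [eq_ptsIn_range h𝒳 hQ'] 
    exact fun p φ => h (((eq_ptsIn_range h𝒳 hQ) ▸ hy : PtsIn (Set.range (AlgSt.Points.map (AlgSt.subIncl 𝒳 Q))) y) p φ)

end Groth.Agent.AlgStLib
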