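import Groth.Agent.AlgStLib.Bootstrap
import Groth.Agent.AlgStLib.OpenSub
import Groth.Agent.AlgSpDec.Glue

/-! # A stack covered by open substacks fibred in setoids is fibred in setoids -/

set_option backward.isDefEq.respectTransparency false
set_option backward.isDefEq.respectTransparency.types false

universe w u

open CategoryTheory CategoryTheory.Functor CategoryTheory.Limits AlgebraicGeometry Opposite AlgSp
open Groth.Agent.FibBase Groth.Agent.AlgSpLib Groth.Agent.AlgSpDec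

namespace Groth.Agent.AlgStLib

variable {S : Scheme.{u}} {𝒳 : AlgSt.Cat S}

theorem isFibSetoid_of_openSubstack_cover (h𝒳 : AlgSt.IsAlgStack Scheme.fppfPrecoverage 𝒳) {ι : Type w}
    (Q : ι → 𝒳.obj → Prop) (hQ : ∀ i, AlgSt.IsOpenSubstack 𝒳 (Q i) Scheme.fppfPrecoverage)
    (hcov : ⋃ i, Set.range (AlgSt.Points.map (AlgSt.subIncl 𝒳 (Q i))) = Set.univ)
    (hset : ∀ i, FibCat.IsFibSetoid (AlgSt.fullSub 𝒳 (Q i)).p) : FibCat.IsFibSetoid 𝒳.p := by
  have hg := h𝒳.isStack.1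
  refine ⟨hg, fun U a b => ⟨fun φ ψ => ?_⟩⟩
  have := fiber_isGroupoid hg U
  -- it is enough that vertical automorphisms are trivial
  suffices H : ∀ (c : 𝒳.p.Fiber U) (χ : c ⟶ c), χ = 𝟙 c by
    have h := H a (φ ≫ inv ψ)
    calc φ = (φ ≫ inv ψ) ≫ ψ := by simp
      _ = ψ := by rw [h, Category.id_comp]
  intro c χ
  obtain ⟨G, e, he⟩ := exists_overCat_obj hg c.1 c.2
  have : 𝒳.p.IsHomLift (𝟙 U) χ.1 := χ.2
  have : 𝒳.p.IsHomLift (𝟙 U) e.inv := IsHomLift.lift_id_inv 𝒳.p _ e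
  let t := e.hom ≫ χ.1 ≫ e.inv
  have ht : 𝒳.p.IsHomLift (𝟙 U) t := inferInstanceAs (𝒳.p.IsHomLift (𝟙 U) (e.hom ≫ χ.1 ≫ e.inv))
  let α : G ⟶ G := homOfEval (preserves_of_isFibGrpd hg G) t ht
  -- the covering sieve
  have hi : ∀ u : ↥U.left, ∃ i, AlgSt.Points.ofChart G u ∈
      Set.range (AlgSt.Points.map (AlgSt.subIncl 𝒳 (Q i))) := fun u =>
    Set.mem_iUnion.1 (hcov.symm ▸ Set.mem_univ (AlgSt.Points.ofChart G u))
  choose idx hidx using hi
  let T : ↥U.left → Set (AlgSt.Points 𝒳) := fun u => Set.range (AlgSt.Points.map (AlgSt.subIncl 𝒳 (Q (idx u))))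
  let V : ↥U.left → U.left.Opens := fun u => ⟨AlgSt.Points.ofChart G ⁻¹' T u,
    (isOpen_range_of_isOpenImm (hQ (idx u)).2.1 h𝒳 (hQ (idx u)).2.2).preimage (continuous_ofChart hg h𝒳.atlas G)⟩
  let R : Sieve U :=
    { arrows := fun X v => ∃ u, ∀ x : ↥X.left, v.left x ∈ V u
      downward_closed := by
        rintro X Y v ⟨u, hu⟩ g
        refine ⟨u, fun x => ?_⟩
        rw [Over.comp_left, Scheme.Hom.comp_apply]
        exact hu _ }
  have hcovU : TopologicalSpace.IsOpenCover V :=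
    TopologicalSpace.Opens.ext (Set.eq_univ_of_forall fun u => by
      simp only [TopologicalSpace.Opens.coe_iSup, Set.mem_iUnion]
      exact ⟨u, hidx u⟩)
  have hR : R ∈ J S U :=
    mem_J_of_openCover (Scheme.openCoverOfIsOpenCover U.left V hcovU) R fun u => ⟨u, fun x => x.2⟩
  have hf : (Stk.resSieve R 𝒳).Faithful := by
    have : (Stk.resSieve R 𝒳).IsEquivalence := h𝒳.isStack.2 R hR
    infer_instance
  have hres : (Stk.resSieve R 𝒳).map α = (Stk.resSieve R 𝒳).map (𝟙 G) := by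
    apply BasedNatTrans.homCategory.ext
    ext v
    obtain ⟨u, hu⟩ := v.property
    let a' : Over U := v.obj
    have hQa : Q (idx u) (G.obj a') := by
      rw [eq_ptsIn_range h𝒳 (hQ (idx u))]
      exact (ptsIn_chart_iff hg G a').2 hu
    let oa : (AlgSt.fullSub 𝒳 (Q (idx u))).obj := ⟨G.obj a', hQa⟩
    have hfu := (isFibSetoid_iff.1 (hset (idx u))).2
    have hα : 𝒳.p.IsHomLift (𝟙 a'.left) (α.toNatTrans.app a') := BasedNatTrans.isHomLift α rfl
    have h1 : (ObjectProperty.homMk (α.toNatTrans.app a') : oa ⟶ oa) = 𝟙 oa := hfu.map_injective (by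
      show 𝒳.p.map (α.toNatTrans.app a') = (AlgSt.fullSub 𝒳 (Q (idx u))).p.map (𝟙 oa)
      rw [CategoryTheory.Functor.map_id, map_eq_of_isHomLift_id (isHomLift_id_congr (G.w_obj a').symm hα)]
      rfl)
    exact congrArg (fun s => s.hom) h1
  have hα1 : α.toNatTrans.app (Over.mk (𝟙 U)) = 𝟙 _ :=
    congrArg (fun s : G ⟶ G => s.toNatTrans.app (Over.mk (𝟙 U))) (hf.map_injective hres)
  rw [homOfEval_app] at hα1
  apply Subtype.ext
  show χ.1 = 𝟙 c.1
  rw [← cancel_epi e.hom, ← cancel_mono e.inv, Category.assoc]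
  refine hα1.trans ?_
  exact (e.hom_inv_id.symm.trans (congrArg (fun m => m ≫ e.inv) (Category.comp_id e.hom).symm))

end Groth.Agent.AlgStLib
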