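import Groth.Agent.AlgStLib.Faithful
import Groth.Agent.AlgStLib.Descent
import Groth.Agent.AlgStLib.LocEss
import Groth.Agent.AlgStLib.OpenCover

/-! # Faithfulness descends along locally essentially surjective functors -/

set_option backward.isDefEq.respectTransparency false
set_option backward.isDefEq.respectTransparency.types false

universe u

open CategoryTheory CategoryTheory.Functor CategoryTheory.Limits AlgebraicGeometry Opposite AlgSp
open Groth.Agent.FibBase Groth.Agent.AlgSpLib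

namespace Groth.Agent.AlgStLib

variable {S : Scheme.{u}} {𝒳 𝒴 𝒵 : AlgSt.Cat S}

theorem faithful_of_locEssSurj (h𝒳 : Stk.IsPrestack (J S) 𝒳) (h𝒴 : FibCat.IsFibGrpd 𝒴.p) {f : 𝒳 ⥤ᵇ 𝒴}
    {w : 𝒵 ⥤ᵇ 𝒴} (hw : LocEssSurj w) (hset : (FibCat.fp w f).p.Faithful) : f.toFunctor.Faithful := by
  have hg := h𝒳.1
  refine (faithful_iff_trivial_kernel hg h𝒴 f).2 fun c χ hχ hfχ => ?_
  obtain ⟨G, e, he⟩ := exists_overCat_obj hg c rfl
  have hl : 𝒳.p.IsHomLift (𝟙 (𝒳.p.obj c)) χ := hχ ▸ IsHomLift.map 𝒳.p χ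
  have : 𝒳.p.IsHomLift (𝟙 (𝒳.p.obj c)) e.inv := IsHomLift.lift_id_inv 𝒳.p _ e
  let t := e.hom ≫ χ ≫ e.inv
  have ht : 𝒳.p.IsHomLift (𝟙 (𝒳.p.obj c)) t :=
    inferInstanceAs (𝒳.p.IsHomLift (𝟙 (𝒳.p.obj c)) (e.hom ≫ χ ≫ e.inv))
  have hft : f.map t = 𝟙 _ := by
    simp only [t, f.toFunctor.map_comp, hfχ, Category.id_comp]
    rw [← f.toFunctor.map_comp, e.hom_inv_id, f.toFunctor.map_id]
  let α : G ⟶ G := homOfEval (preserves_of_isFibGrpd hg G) t ht
  let y := BasedFunctor.comp G f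
  have hfα : ∀ a : Over (𝒳.p.obj c), f.map (α.toNatTrans.app a) = 𝟙 (f.obj (G.obj a)) := fun a =>
    congrArg (fun s : y ⟶ y => s.toNatTrans.app a) (evalAtId_hom_ext (preserves_of_isFibGrpd h𝒴 y)
      (α := (⟨Functor.whiskerRight α.toNatTrans f.toFunctor, fun a => by
        have := BasedNatTrans.isHomLift α (a := a) (S := a.left) rfl
        exact f.preserves_isHomLift (𝟙 a.left) (α.toNatTrans.app a)⟩ : y ⟶ y))
      (β := 𝟙 y) (by
        show f.map (α.toNatTrans.app _) = 𝟙 _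
        rw [homOfEval_app, hft]))
  obtain ⟨R, hR, hz⟩ := hw _ y
  have hres : (Stk.resSieve R 𝒳).map α = (Stk.resSieve R 𝒳).map (𝟙 G) := by
    apply BasedNatTrans.homCategory.ext
    ext v
    let a' : Over (𝒳.p.obj c) := v.obj
    obtain ⟨z, ⟨iz⟩⟩ := hz a'.hom v.property
    let b : Over (𝒳.p.obj c) := (AlgSt.overMap a'.hom).obj (Over.mk (𝟙 a'.left))
    let i : b ≅ a' := Over.isoMk (Iso.refl a'.left) (by
      show 𝟙 a'.left ≫ a'.hom = 𝟙 a'.left ≫ a'.hom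
      rfl)
    let j : w.obj (z.obj (Over.mk (𝟙 a'.left))) ≅ f.obj (G.obj b) := isoApp iz (Over.mk (𝟙 a'.left))
    have hj : 𝒴.p.IsHomLift (𝟙 a'.left) j.hom := BasedNatTrans.isHomLift iz.hom rfl
    let o : (FibCat.fp w f).obj := ⟨⟨z.obj (Over.mk (𝟙 a'.left)), G.obj b, j⟩,
      isHomLift_id_congr (z.w_obj (Over.mk (𝟙 a'.left))).symm hj⟩
    have hb : α.toNatTrans.app b = 𝟙 _ := by
      have hαb : 𝒳.p.IsHomLift (𝟙 b.left) (α.toNatTrans.app b) := BasedNatTrans.isHomLift α rfl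
      let m : o ⟶ o := ObjectProperty.homMk ⟨𝟙 _, α.toNatTrans.app b, by
        show w.map (𝟙 _) ≫ j.hom = j.hom ≫ f.map (α.toNatTrans.app b)
        rw [hfα, w.toFunctor.map_id, Category.id_comp, Category.comp_id]⟩
      have hm : m = 𝟙 o := hset.map_injective (by
        show 𝒵.p.map (𝟙 _) = 𝒵.p.map (𝟙 o.obj.fst)
        rfl)
      exact congrArg (fun s => s.hom.snd) hm
    show α.toNatTrans.app a' = 𝟙 _
    have hn := α.toNatTrans.naturality i.hom
    rw [← cancel_epi (G.map i.hom), hn, hb, Category.id_comp, Category.comp_id]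
  have hα1 : α.toNatTrans.app (Over.mk (𝟙 _)) = 𝟙 _ :=
    congrArg (fun s : G ⟶ G => s.toNatTrans.app (Over.mk (𝟙 _))) ((h𝒳.2 R hR).2.map_injective hres)
  rw [homOfEval_app] at hα1
  rw [← cancel_epi e.hom, ← cancel_mono e.inv, Category.assoc]
  exact hα1.trans (e.hom_inv_id.symm.trans (congrArg (fun m => m ≫ e.inv) (Category.comp_id e.hom).symm))

/-- A morphism of algebraic stacks is representable once its base change to a flat cover is a space. -/
theorem repByAlgSp1_of_flat_cover (h𝒳 : AlgSt.IsAlgStack Scheme.fppfPrecoverage 𝒳)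
    (h𝒴 : AlgSt.IsAlgStack Scheme.fppfPrecoverage 𝒴) {f : 𝒳 ⥤ᵇ 𝒴} {w : 𝒵 ⥤ᵇ 𝒴} (hw : LocEssSurj w)
    (h : AlgSt.RepByAlgSp (FibCat.fp w f)) : AlgSt.RepByAlgSp1 f :=
  have := faithful_of_locEssSurj (Groth.Agent.StkLib.isPrestack_of_isStack h𝒳.isStack) h𝒴.isStack.1 hw
    (isFibSetoid_iff.1 (isFibSetoid_of_repByAlgSp h)).2
  repByAlgSp1_of_faithful h𝒳 h𝒴 f

end Groth.Agent.AlgStLib
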