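import Groth.Agent.AlgStLib.ClosedSubReduced
import Groth.Agent.AlgStLib.SmoothBootstrap
import Groth.Agent.AlgSpDec.ClosedSub
import Groth.Agent.AlgSpDec.MonoScheme
import Groth.Agent.AlgSpDec.RedInduced
import Groth.Agent.AlgSpDec.SmoothSheafCover
import Groth.Agent.DescLib.Reduced

/-!
# Reduced closed substacks on closed sets of points
-/

set_option backward.isDefEq.respectTransparency false
set_option backward.isDefEq.respectTransparency.types false

universe u

open CategoryTheory CategoryTheory.Functor CategoryTheory.Limits AlgebraicGeometry Opposite AlgSp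

namespace Groth.Agent.AlgStLib.RedSub

open Groth.Agent.FibBase Groth.Agent.AlgSpLib

variable {S : Scheme.{u}} {𝒳 : AlgSt.Cat S} {U ZU : Over S}

local notation "K₀" => Scheme.fppfPrecoverage

/-- `φ` factors through `i`. -/
def Fac (i : ZU ⟶ U) {T : Over S} (φ : T ⟶ U) : Prop := ∃ l : T ⟶ ZU, l ≫ i = φ

theorem Fac.comp {i : ZU ⟶ U} {T T' : Over S} {φ : T ⟶ U} (h : Fac i φ) (ψ : T' ⟶ T) : Fac i (ψ ≫ φ) := by
  obtain ⟨l, rfl⟩ := h
  exact ⟨ψ ≫ l, Category.assoc _ _ _⟩

/-- Factoring through a monomorphism is local for fppf coverings. -/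
theorem fac_of_local {i : ZU ⟶ U} [Mono i.left] {T T' : Over S} {φ : T ⟶ U} (ψ : T' ⟶ T)
    [Flat ψ.left] [LocallyOfFinitePresentation ψ.left] [Surjective ψ.left] (h : Fac i (ψ ≫ φ)) : Fac i φ := by
  obtain ⟨l, hl⟩ := h
  let P : Over S := Over.mk (pullback.fst φ.left i.left ≫ T.hom)
  let k : P ⟶ T := Over.homMk (pullback.fst φ.left i.left) rfl
  let m : P ⟶ ZU := Over.homMk (pullback.snd φ.left i.left) (by
    show _ = pullback.fst φ.left i.left ≫ T.hom
    rw [← Over.w φ, ← Over.w i, pullback.condition_assoc])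
  have hkm : k ≫ φ = m ≫ i := Over.OverMorphism.ext pullback.condition
  let s : T' ⟶ P := Over.homMk (pullback.lift ψ.left l.left (congrArg CommaMorphism.left hl.symm)) (by
    show _ ≫ pullback.fst φ.left i.left ≫ T.hom = T'.hom
    rw [pullback.lift_fst_assoc, Over.w ψ])
  have hs : s ≫ k = ψ := Over.OverMorphism.ext (pullback.lift_fst _ _ _)
  have : Mono k.left := inferInstanceAs (Mono (pullback.fst φ.left i.left))
  have : Mono k := (Over.forget S).mono_of_mono_map (inferInstanceAs (Mono k.left))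
  have : Sheaf.IsLocallySurjective ((yon S).map ψ) := isLocallySurjective_of_lifts _ fun T₂ g => by
    obtain ⟨g, rfl⟩ := (yon S).map_surjective g
    let P₂ : Over S := Over.mk (pullback.fst g.left ψ.left ≫ T₂.hom)
    let p₁ : P₂ ⟶ T₂ := Over.homMk (pullback.fst g.left ψ.left) rfl
    let p₂ : P₂ ⟶ T' := Over.homMk (pullback.snd g.left ψ.left) (by
      show _ = pullback.fst g.left ψ.left ≫ T₂.hom
      rw [← Over.w g, ← Over.w ψ, pullback.condition_assoc])
    have : Flat p₁.left := MorphismProperty.pullback_fst _ _ ‹Flat ψ.left›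
    have : LocallyOfFinitePresentation p₁.left :=
      MorphismProperty.pullback_fst _ _ ‹LocallyOfFinitePresentation ψ.left›
    have : Surjective p₁.left := MorphismProperty.pullback_fst _ _ ‹Surjective ψ.left›
    refine ⟨P₂, p₁, (yon S).map p₂, fppf_of p₁.left, ?_⟩
    rw [← Functor.map_comp, ← Functor.map_comp]
    exact congrArg _ (Over.OverMorphism.ext pullback.condition.symm)
  have : Epi ((yon S).map ψ) := Sheaf.epi_of_isLocallySurjective _
  have : Epi ((yon S).map k) := epi_of_epi_fac (f := (yon S).map s) (h := (yon S).map ψ) (by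
    rw [← Functor.map_comp, hs])
  have : Mono ((yon S).map k) := (yon S).map_mono k
  have : IsIso ((yon S).map k) := isIso_of_mono_of_epi _
  have : IsIso k := isIso_of_fully_faithful (yon S) k
  exact ⟨inv k ≫ m, by rw [Category.assoc, ← hkm, IsIso.inv_hom_id_assoc]⟩

/-- Functors from a slice whose values at the identity map compatibly to one object are isomorphic. -/
theorem iso_of_hom (h𝒳 : FibCat.IsFibGrpd 𝒳.p) {V : Over S} {G H : FibCat.overCat V ⥤ᵇ 𝒳} {o : 𝒳.obj}
    {W : Over S} (m : V ⟶ W) (φ : G.obj (Over.mk (𝟙 V)) ⟶ o) (ψ : H.obj (Over.mk (𝟙 V)) ⟶ o)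
    [𝒳.p.IsHomLift m φ] [𝒳.p.IsHomLift m ψ] : Nonempty (G ≅ H) := by
  obtain ⟨e, he, -⟩ := exists_iso_of_lifts (hp := h𝒳) m ψ φ
  exact exists_iso_of_eval h𝒳 G H e.hom he

theorem overOfMap_comp_iso {V : Over S} {F : Sp S} (p : (yon S).obj V ⟶ F) (Φ : AlgSt.ofSp F ⥤ᵇ FibCat.overCat U)
    (w : V ⟶ U) (hw : (yon S).map w = p ≫ AlgSt.spMapOfOver Φ) :
    Nonempty (BasedFunctor.comp (overOfMap p) Φ ≅ AlgSt.overMap w) :=
  ⟨whiskerLeftIso (overOfMap p) (isoSpMapOfOver Φ) ≪≫
      overIso _ _ (fun x => by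
        let a := AlgSt.spMapOfOver Φ
        have : ((yon S).map w).hom.app (op x.left) ⟨x.hom⟩ = a.hom.app (op x.left) (p.hom.app (op x.left) ⟨x.hom⟩) := by
          rw [hw]; rfl
        have h' : (⟨x.hom ≫ w⟩ : ULift (x.left ⟶ U)) = _ := this
        show 𝟙 x.left ≫ (x.hom ≫ w) = (a.hom.app (op x.left) (p.hom.app (op x.left) ⟨x.hom⟩)).down
        rw [← h', Category.id_comp])⟩

/-- The objects cut out by a closed subscheme of an atlas. -/
def Cut (u : FibCat.overCat U ⥤ᵇ 𝒳) (i : ZU ⟶ U) : 𝒳.obj → Prop :=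
  fun x => ∀ (c : Over U) (_ : u.obj c ⟶ x), Fac i c.hom

/-- Invariance of the closed subscheme. -/
def Compat (u : FibCat.overCat U ⥤ᵇ 𝒳) (i : ZU ⟶ U) : Prop :=
  ∀ (T : Over S) (x y : T ⟶ U),
    Nonempty (BasedFunctor.comp (AlgSt.overMap x) u ≅ BasedFunctor.comp (AlgSt.overMap y) u) → Fac i x → Fac i y

variable {u : FibCat.overCat U ⥤ᵇ 𝒳} {i : ZU ⟶ U}

theorem cut_of_hom ⦃y x : 𝒳.obj⦄ (φ : y ⟶ x) (h : Cut u i x) : Cut u i y := fun c ψ => h c (ψ ≫ φ)

theorem closedUnderIso_cut : ObjectProperty.IsClosedUnderIsomorphisms (Cut u i) :=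
  ⟨fun e h => cut_of_hom e.inv h⟩

theorem cut_iff (h𝒳 : FibCat.IsFibGrpd 𝒳.p) {V : Over S} (G : FibCat.overCat V ⥤ᵇ 𝒳) :
    Cut u i (G.obj (Over.mk (𝟙 V))) ↔ ∀ (T : Over S) (π : T ⟶ V) (v : T ⟶ U),
      Nonempty (BasedFunctor.comp (AlgSt.overMap v) u ≅ BasedFunctor.comp (AlgSt.overMap π) G) → Fac i v := by
  constructor
  · rintro h T π v ⟨e⟩
    let m : (AlgSt.overMap π).obj (Over.mk (𝟙 T)) ⟶ Over.mk (𝟙 V) := Over.homMk π (by
      show π ≫ 𝟙 V = 𝟙 T ≫ π
      simp)
    obtain ⟨l, hl⟩ := h _ ((isoApp e (Over.mk (𝟙 T))).hom ≫ G.map m)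
    exact ⟨l, hl.trans (Category.id_comp v)⟩
  · intro h c φ
    let π : c.left ⟶ V := eqToHom (u.w_obj c).symm ≫ 𝒳.p.map φ ≫ eqToHom (G.w_obj (Over.mk (𝟙 V)))
    have hφ : 𝒳.p.IsHomLift π φ :=
      IsHomLift.of_fac _ _ _ (u.w_obj c) (G.w_obj (Over.mk (𝟙 V))) rfl
    let m : (AlgSt.overMap π).obj (Over.mk (𝟙 c.left)) ⟶ Over.mk (𝟙 V) := Over.homMk π (by
      show π ≫ 𝟙 V = 𝟙 c.left ≫ π
      simp)
    let n : (AlgSt.overMap c.hom).obj (Over.mk (𝟙 c.left)) ⟶ c := Over.homMk (𝟙 c.left) rfl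
    have : 𝒳.p.IsHomLift π (G.map m) := overMap_isHomLift G m
    have : 𝒳.p.IsHomLift (𝟙 c.left) (u.map n) := overMap_isHomLift u n
    have : 𝒳.p.IsHomLift π (u.map n ≫ φ) := IsHomLift.comp_lift_id_left' 𝒳.p c.left (u.map n) π φ
    exact h c.left π c.hom (iso_of_hom h𝒳 (G := BasedFunctor.comp (AlgSt.overMap c.hom) u)
      (H := BasedFunctor.comp (AlgSt.overMap π) G) π (u.map n ≫ φ) (G.map m))

theorem cut_obj {V : Over S} (G : FibCat.overCat V ⥤ᵇ 𝒳) (h : Cut u i (G.obj (Over.mk (𝟙 V))))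
    (a : Over V) : Cut u i (G.obj a) :=
  cut_of_hom (G.map (Over.homMk a.hom (Category.comp_id _) : a ⟶ Over.mk (𝟙 V))) h

theorem cut_congr {V : Over S} {G H : FibCat.overCat V ⥤ᵇ 𝒳} (e : G ≅ H) (a : Over V) :
    Cut u i (G.obj a) ↔ Cut u i (H.obj a) :=
  ⟨cut_of_hom (isoApp e a).inv, cut_of_hom (isoApp e a).hom⟩

/-- The substack is detected on an etale covering which lifts to the atlas. -/
theorem cut_iff_cover (h𝒳 : FibCat.IsFibGrpd 𝒳.p) (hc : Compat u i) [Mono i.left]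
    {V W : Over S} {G : FibCat.overCat V ⥤ᵇ 𝒳} {h : W ⟶ V} [Etale h.left] [Surjective h.left] {g : W ⟶ U}
    (e : BasedFunctor.comp (AlgSt.overMap g) u ≅ BasedFunctor.comp (AlgSt.overMap h) G) :
    Cut u i (G.obj (Over.mk (𝟙 V))) ↔ Fac i g := by
  rw [cut_iff h𝒳 G]
  refine ⟨fun H => H W h g ⟨e⟩, fun hg T π v ⟨e'⟩ => ?_⟩
  let P : Over S := Over.mk (pullback.fst π.left h.left ≫ T.hom)
  let p₁ : P ⟶ T := Over.homMk (pullback.fst π.left h.left) rfl
  let p₂ : P ⟶ W := Over.homMk (pullback.snd π.left h.left) (by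
    show _ = pullback.fst π.left h.left ≫ T.hom
    rw [← Over.w π, ← Over.w h, pullback.condition_assoc])
  have hP : p₁ ≫ π = p₂ ≫ h := Over.OverMorphism.ext pullback.condition
  have : Etale p₁.left := MorphismProperty.pullback_fst _ _ ‹Etale h.left›
  have : Surjective p₁.left := MorphismProperty.pullback_fst _ _ ‹Surjective h.left›
  refine fac_of_local p₁ (hc P (p₂ ≫ g) (p₁ ≫ v) ⟨?_⟩ (hg.comp p₂))
  exact whiskerRightIso (overMapCompIso p₂ g).symm u ≪≫ whiskerLeftIso (AlgSt.overMap p₂) e ≪≫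
    whiskerRightIso (overMapCompIso p₂ h ≪≫ eqToIso (congrArg AlgSt.overMap hP.symm) ≪≫
      (overMapCompIso p₁ π).symm) G ≪≫
    whiskerLeftIso (AlgSt.overMap p₁) e'.symm ≪≫ whiskerRightIso (overMapCompIso p₁ v) u

/-- The equivalence of a closed subscheme with the fibre product with the substack. -/
theorem exists_equiv {V Vs : Over S} (G : FibCat.overCat V ⥤ᵇ 𝒳) {j : Vs ⟶ V} [Mono j.left]
    (hj : ∀ a : Over V, Cut u i (G.obj a) ↔ Fac j a.hom) :
    ∃ e : FibCat.overCat Vs ⥤ᵇ FibCat.fp G (AlgSt.subIncl 𝒳 (Cut u i)),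
      FibCat.IsEquivOver e ∧ BasedFunctor.comp e (FibCat.fpFst G (AlgSt.subIncl 𝒳 (Cut u i))) = AlgSt.overMap j := by
  have hmem : ∀ c : Over Vs, Cut u i (G.obj ((AlgSt.overMap j).obj c)) := fun c =>
    (hj _).2 ⟨c.hom, rfl⟩
  let y' : FibCat.overCat Vs ⥤ᵇ AlgSt.fullSub 𝒳 (Cut u i) :=
    { toFunctor := ObjectProperty.lift _ (BasedFunctor.comp (AlgSt.overMap j) G).toFunctor hmem
      w := (BasedFunctor.comp (AlgSt.overMap j) G).w }
  let e : FibCat.overCat Vs ⥤ᵇ FibCat.fp G (AlgSt.subIncl 𝒳 (Cut u i)) :=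
    FibCat.fpLift (AlgSt.overMap j) y' (Iso.refl (BasedFunctor.comp (AlgSt.overMap j) G))
  refine ⟨e, isEquivOver_of_exists_iso _ ⟨fun {a b} t => ?_⟩ ⟨fun {a b} t t' h => ?_⟩ fun η => ?_, rfl⟩
  · have hw : t.hom.fst.left ≫ b.hom ≫ j = a.hom ≫ j := Over.w t.hom.fst
    have hm : t.hom.fst.left ≫ b.hom = a.hom := by
      refine Over.OverMorphism.ext ((cancel_mono j.left).1 ?_)
      have := congrArg CommaMorphism.left hw
      simp only [Over.comp_left] at this ⊢
      exact (Category.assoc _ _ _).trans this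
    let φ : a ⟶ b := Over.homMk t.hom.fst.left hm
    have hfst : (AlgSt.overMap j).map φ = t.hom.fst := Over.OverMorphism.ext rfl
    refine ⟨φ, ?_⟩
    refine ObjectProperty.hom_ext _ (CategoricalPullback.hom_ext hfst (ObjectProperty.hom_ext _ ?_))
    have h := t.hom.w
    have h' : G.map t.hom.fst ≫ 𝟙 _ = 𝟙 _ ≫ t.hom.snd.hom := h
    show G.map ((AlgSt.overMap j).map φ) = t.hom.snd.hom
    rw [hfst]
    exact ((Category.comp_id _).symm.trans h').trans (Category.id_comp _)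
  · have := congrArg (fun k => k.hom.fst.left) h
    exact Over.OverMorphism.ext this
  · let a := η.obj.fst
    obtain ⟨l, hl⟩ := (hj a).1 (cut_of_hom η.obj.iso.hom η.obj.snd.property)
    let i₁ : (AlgSt.overMap j).obj (Over.mk l) ≅ a := Over.isoMk (Iso.refl a.left)
      ((Category.id_comp _).trans hl.symm)
    let i₂ : y'.obj (Over.mk l) ≅ η.obj.snd := ObjectProperty.isoMk _ (G.toFunctor.mapIso i₁ ≪≫ η.obj.iso)
    refine ⟨Over.mk l, fpIsoMk (x := e.obj (Over.mk l)) (y := η) i₁ i₂ ?_, ?_⟩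
    · show G.map i₁.hom ≫ η.obj.iso.hom = 𝟙 _ ≫ (G.map i₁.hom ≫ η.obj.iso.hom)
      simp
    · exact fp_isHomLift (𝟙 _) _ (h := IsHomLift.of_fac _ _ _ rfl rfl (by
        show 𝟙 a.left = 𝟙 _ ≫ 𝟙 a.left ≫ 𝟙 _
        simp))

/-- A monomorphism locally of finite type to an etale cover descends, as soon as it is invariant. -/
theorem exists_descent {V W ZW : Over S} {h : W ⟶ V} [Etale h.left] [Surjective h.left] {iW : ZW ⟶ W}
    [Mono iW.left] [LocallyOfFiniteType iW.left]
    (hc : ∀ (T : Over S) (x y : T ⟶ W), x ≫ h = y ≫ h → Fac iW x → Fac iW y) :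
    ∃ (Vs : Over S) (k : Vs ⟶ V) (q : ZW ⟶ Vs), Mono k.left ∧
      IsPullback ((yon S).map q) ((yon S).map iW) ((yon S).map k) ((yon S).map h) := by
  have : Mono iW := (Over.forget S).mono_of_mono_map (inferInstanceAs (Mono iW.left))
  have hc' : ∀ (T : Over S) (x y : T ⟶ W), (yon S).map x ≫ (yon S).map h = (yon S).map y ≫ (yon S).map h →
      (∃ l, l ≫ iW = x) → ∃ l, l ≫ iW = y := fun T x y hxy => hc T x y ((yon S).map_injective (by
    rwa [Functor.map_comp, Functor.map_comp]))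
  let a := (yon S).map h
  let Z₀ : Sp S := ⟨(AlgSpDec.closedSubfunctor a iW).toFunctor, AlgSpDec.isSheaf_closedSubfunctor a iW⟩
  let j : Z₀ ⟶ (yon S).obj V := ObjectProperty.homMk (AlgSpDec.closedSubfunctor a iW).ι
  have : Mono j :=
    (sheafToPresheaf (J S) (Type (u + 1))).mono_of_mono_map (inferInstanceAs (Mono (AlgSpDec.closedSubfunctor a iW).ι))
  have hfac : ∀ {T : Over S} (g : (yon S).obj T ⟶ (yon S).obj V), AlgSpDec.FactorsThrough a iW g →
      ∃ g₀, g₀ ≫ j = g := by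
    intro T g hg
    refine ⟨(J S).uliftYonedaEquiv.symm
      (⟨(J S).uliftYonedaEquiv g, show AlgSpDec.FactorsThrough a iW _ by rwa [Equiv.symm_apply_apply]⟩ :
        (AlgSpDec.closedSubfunctor a iW).toFunctor.obj (op T)), ?_⟩
    apply (J S).uliftYonedaEquiv.injective
    rw [GrothendieckTopology.uliftYonedaEquiv_comp, Equiv.apply_symm_apply]
    rfl
  obtain ⟨q, hq⟩ := hfac _ ((AlgSpDec.factorsThrough_iff hc' iW).2 ⟨𝟙 _, Category.id_comp iW⟩)
  let c : (yon S).obj ZW ⟶ pullback j a := pullback.lift q ((yon S).map iW) hq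
  have : Mono ((yon S).map iW) := (yon S).map_mono iW
  have : Mono c := by
    have h : c ≫ pullback.snd j a = (yon S).map iW := pullback.lift_snd _ _ _
    exact mono_of_mono_fac h
  have : Sheaf.IsLocallySurjective c := by
    refine isLocallySurjective_of_lifts c fun T t => ?_
    obtain ⟨φ, hφ⟩ := (yon S).map_surjective (t ≫ pullback.snd j a)
    have hF : AlgSpDec.FactorsThrough a iW ((yon S).map φ ≫ a) := by
      have hmem := ((J S).uliftYonedaEquiv (t ≫ pullback.fst j a)).2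
      change AlgSpDec.FactorsThrough a iW _ at hmem
      rw [hφ, Category.assoc, ← pullback.condition, ← Category.assoc]
      have e : ((J S).uliftYonedaEquiv (t ≫ pullback.fst j a)).1 =
          (J S).uliftYonedaEquiv ((t ≫ pullback.fst j a) ≫ j) := by
        rw [GrothendieckTopology.uliftYonedaEquiv_comp]
        rfl
      rwa [e, Equiv.symm_apply_apply] at hmem
    obtain ⟨l, hl⟩ := (AlgSpDec.factorsThrough_iff hc' φ).1 hF
    refine ⟨T, 𝟙 _, (yon S).map l, fppf_of_etale (𝟙 T.left), ?_⟩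
    rw [CategoryTheory.Functor.map_id, Category.id_comp]
    have h2 : ((yon S).map l ≫ c) ≫ pullback.snd j a = t ≫ pullback.snd j a := by
      rw [Category.assoc, pullback.lift_snd, ← Functor.map_comp, hl, hφ]
    refine pullback.hom_ext ?_ h2
    rw [← cancel_mono j]
    simp only [Category.assoc] at h2 ⊢
    rw [pullback.condition, reassoc_of% h2]
  have := isIso_of_mono_of_locallySurjective c
  have sq : IsPullback q ((yon S).map iW) j a :=
    IsPullback.of_iso_pullback ⟨hq⟩ (asIso c) (pullback.lift_fst _ _ _) (pullback.lift_snd _ _ _)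
  obtain ⟨Vs, ⟨φ⟩⟩ := AlgSpDec.exists_rep_of_mono h sq
  obtain ⟨k, hk⟩ := (yon S).map_surjective (φ.hom ≫ j)
  obtain ⟨q', hq'⟩ := (yon S).map_surjective (q ≫ φ.inv)
  have : Mono ((yon S).map k) := by rw [hk]; infer_instance
  have : Mono k := (yon S).mono_of_mono_map ‹_›
  refine ⟨Vs, k, q', inferInstanceAs (Mono ((Over.forget S).map k)), ?_⟩
  rw [hk, hq']
  exact sq.of_iso (Iso.refl _) φ.symm (Iso.refl _) (Iso.refl _) (by simp) (by simp) (by simp) (by simp [a])

/-- Base change of the substack cut out by an invariant subscheme of an atlas to a scheme. -/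
theorem exists_cut_chart (h𝒳 : FibCat.IsFibGrpd 𝒳.p) (hu : AlgSt.RepByAlgSpWith (LocP @Smooth) u)
    (hus : AlgSt.RepByAlgSpWith IsSurjectiveMor u) (hc : Compat u i) [Mono i.left] [LocallyOfFiniteType i.left]
    {V : Over S} (G : FibCat.overCat V ⥤ᵇ 𝒳) :
    ∃ (Vs : Over S) (k : Vs ⟶ V) (e : AlgSt.ofSp ((yon S).obj Vs) ⥤ᵇ FibCat.fp G (AlgSt.subIncl 𝒳 (Cut u i))),
      FibCat.IsEquivOver e ∧
      AlgSt.spMapOfOver (BasedFunctor.comp e (FibCat.fpFst G (AlgSt.subIncl 𝒳 (Cut u i)))) = (yon S).map k ∧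
      ∃ (W ZW : Over S) (h : W ⟶ V) (g : W ⟶ U) (q : ZW ⟶ Vs) (iW : ZW ⟶ W) (mW : ZW ⟶ ZU),
        Etale h.left ∧ Surjective h.left ∧ IsPullback mW.left iW.left i.left g.left ∧
        IsPullback ((yon S).map q) ((yon S).map iW) ((yon S).map k) ((yon S).map h) := by
  obtain ⟨W₀, h₀, g₀, hsm, hsu, ⟨e₀⟩⟩ := exists_smooth_lift hu hus G
  obtain ⟨W, h, σ, _, _, hσ⟩ := AlgSpDec.exists_etale_section h₀
  obtain ⟨g, ⟨ig⟩⟩ := exists_mapB (BasedFunctor.comp (AlgSt.overMap σ) g₀)
  let e : BasedFunctor.comp (AlgSt.overMap g) u ≅ BasedFunctor.comp (AlgSt.overMap h) G :=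
    whiskerRightIso (show AlgSt.overMap g ≅ BasedFunctor.comp (AlgSt.overMap σ) g₀ from ig) u ≪≫
      whiskerLeftIso (AlgSt.overMap σ) e₀ ≪≫
      whiskerRightIso (overMapCompIso σ h₀ ≪≫ eqToIso (congrArg AlgSt.overMap hσ)) G
  let ZW : Over S := Over.mk (pullback.fst g.left i.left ≫ W.hom)
  let iW : ZW ⟶ W := Over.homMk (pullback.fst g.left i.left) rfl
  let mW : ZW ⟶ ZU := Over.homMk (pullback.snd g.left i.left) (by
    show _ = pullback.fst g.left i.left ≫ W.hom
    rw [← Over.w g, ← Over.w i, pullback.condition_assoc])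
  have hW : iW ≫ g = mW ≫ i := Over.OverMorphism.ext pullback.condition
  have : Mono iW.left := inferInstanceAs (Mono (pullback.fst g.left i.left))
  have : LocallyOfFiniteType iW.left := MorphismProperty.pullback_fst _ _ ‹LocallyOfFiniteType i.left›
  have hfacW : ∀ {T : Over S} (x : T ⟶ W), Fac iW x ↔ Fac i (x ≫ g) := fun {T} x => by
    refine ⟨fun ⟨l, hl⟩ => ⟨l ≫ mW, by rw [← hl, Category.assoc, Category.assoc, hW]⟩, fun ⟨l, hl⟩ => ?_⟩
    refine ⟨Over.homMk (pullback.lift x.left l.left (congrArg CommaMorphism.left hl.symm)) ?_,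
      Over.OverMorphism.ext (pullback.lift_fst _ _ _)⟩
    show _ ≫ pullback.fst g.left i.left ≫ W.hom = T.hom
    rw [pullback.lift_fst_assoc, Over.w x]
  obtain ⟨Vs, k, q, hk, sq⟩ := exists_descent (h := h) (iW := iW) (fun T x y hxy hx => by
    refine (hfacW y).2 (hc T (x ≫ g) (y ≫ g) ⟨?_⟩ ((hfacW x).1 hx))
    exact whiskerRightIso (overMapCompIso x g).symm u ≪≫ whiskerLeftIso (AlgSt.overMap x) e ≪≫
      whiskerRightIso (overMapCompIso x h ≪≫ eqToIso (congrArg AlgSt.overMap hxy) ≪≫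
        (overMapCompIso y h).symm) G ≪≫
      whiskerLeftIso (AlgSt.overMap y) e.symm ≪≫ whiskerRightIso (overMapCompIso y g) u)
  have hcut : ∀ a : Over V, Cut u i (G.obj a) ↔ Fac k a.hom := by
    intro a
    let Ga := BasedFunctor.comp (AlgSt.overMap a.hom) G
    let P : Over S := Over.mk (pullback.fst a.hom.left h.left ≫ a.left.hom)
    let p₁ : P ⟶ a.left := Over.homMk (pullback.fst a.hom.left h.left) rfl
    let p₂ : P ⟶ W := Over.homMk (pullback.snd a.hom.left h.left) (by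
      show _ = pullback.fst a.hom.left h.left ≫ a.left.hom
      rw [← Over.w a.hom, ← Over.w h, pullback.condition_assoc])
    have hP : p₁ ≫ a.hom = p₂ ≫ h := Over.OverMorphism.ext pullback.condition
    have : Etale p₁.left := MorphismProperty.pullback_fst _ _ ‹Etale h.left›
    have : Surjective p₁.left := MorphismProperty.pullback_fst _ _ ‹Surjective h.left›
    let eP : BasedFunctor.comp (AlgSt.overMap (p₂ ≫ g)) u ≅ BasedFunctor.comp (AlgSt.overMap p₁) Ga :=
      whiskerRightIso (overMapCompIso p₂ g).symm u ≪≫ whiskerLeftIso (AlgSt.overMap p₂) e ≪≫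
        whiskerRightIso (overMapCompIso p₂ h ≪≫ eqToIso (congrArg AlgSt.overMap hP.symm) ≪≫
          (overMapCompIso p₁ a.hom).symm) G
    have h1 : Cut u i (G.obj a) ↔ Cut u i (Ga.obj (Over.mk (𝟙 a.left))) := by
      let ι : (AlgSt.overMap a.hom).obj (Over.mk (𝟙 a.left)) ≅ a :=
        Over.isoMk (Iso.refl a.left) (by
          show 𝟙 a.left ≫ a.hom = 𝟙 a.left ≫ a.hom
          rfl)
      exact ⟨cut_of_hom (G.map ι.hom), cut_of_hom (G.map ι.inv)⟩
    rw [h1, cut_iff_cover h𝒳 hc eP, ← hfacW]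
    constructor
    · rintro ⟨l, hl⟩
      refine fac_of_local p₁ ⟨l ≫ q, (yon S).map_injective ?_⟩
      rw [Functor.map_comp, Functor.map_comp, Category.assoc, sq.w, ← Functor.map_comp_assoc, hl,
        ← Functor.map_comp, hP]
    · rintro ⟨l, hl⟩
      refine ⟨(yon S).preimage (sq.lift ((yon S).map (p₁ ≫ l)) ((yon S).map p₂) (by
        rw [← Functor.map_comp, ← Functor.map_comp, Category.assoc, hl, hP])), ?_⟩
      apply (yon S).map_injective
      simp
  obtain ⟨E, hE, hEf⟩ := exists_equiv (u := u) (i := i) G (j := k) hcut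
  refine ⟨Vs, k, BasedFunctor.comp (AlgSt.toOverCat Vs) E, isEquivOver_comp (isEquivOver_toOverCat Vs) hE, ?_,
    W, ZW, h, g, q, iW, mW, ‹Etale h.left›, ‹Surjective h.left›,
    (IsPullback.of_hasPullback g.left i.left).flip, sq⟩
  rw [spMapOfOver_congr ((eqToIso (congrArg (BasedFunctor.comp (AlgSt.toOverCat _)) hEf) :
      BasedFunctor.comp (BasedFunctor.comp (AlgSt.toOverCat _) E) (FibCat.fpFst G _) ≅
        BasedFunctor.comp (AlgSt.toOverCat _) (AlgSt.overMap k)) ≪≫ toOverCatMapIso k),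
    spMapOfOver_ofSpMap_toOverCat]

/-- The substack cut out by an invariant monomorphism locally of finite type is representable over the stack. -/
theorem repByAlgSp1_cut (h𝒳 : FibCat.IsFibGrpd 𝒳.p) (hu : AlgSt.RepByAlgSpWith (LocP @Smooth) u)
    (hus : AlgSt.RepByAlgSpWith IsSurjectiveMor u) (hc : Compat u i) [Mono i.left] [LocallyOfFiniteType i.left] :
    AlgSt.RepByAlgSp1 (AlgSt.subIncl 𝒳 (Cut u i)) := fun V G => by
  obtain ⟨Vs, k, e, he, -⟩ := exists_cut_chart h𝒳 hu hus hc G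
  exact ⟨⟨_, IsAlgSpace.yon_obj Vs⟩, e, he⟩

/-- The substack cut out by an invariant closed subscheme of an atlas is closed. -/
theorem isClosedImm_cut (h𝒳 : FibCat.IsFibGrpd 𝒳.p) (hu : AlgSt.RepByAlgSpWith (LocP @Smooth) u)
    (hus : AlgSt.RepByAlgSpWith IsSurjectiveMor u) (hc : Compat u i) [IsClosedImmersion i.left] :
    AlgSt.IsClosedImm (AlgSt.subIncl 𝒳 (Cut u i)) := fun V G => by
  obtain ⟨Vs, k, e, he, hk, W, ZW, h, g, q, iW, mW, _, _, sqg, sq⟩ := exists_cut_chart h𝒳 hu hus hc G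
  refine ⟨⟨_, IsAlgSpace.yon_obj Vs⟩, e, he, ?_⟩
  rw [hk]
  exact AlgSpDec.repWith_isClosedImmersion_of_etale_cover ((repWith_yon_map_iff _ h).2 ‹Etale h.left›)
    ((repWith_yon_map_iff _ h).2 ‹Surjective h.left›) sq
    ((repWith_yon_map_iff _ iW).2 (MorphismProperty.of_isPullback sqg ‹IsClosedImmersion i.left›))

/-- The reduced closed subscheme of an atlas on an invariant closed set is invariant. -/
theorem compat_of_reduced (h𝒳 : AlgSt.IsAlgStack K₀ 𝒳) (hu : AlgSt.RepByAlgSpWith (LocP @Smooth) u)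
    {T : Set (AlgSt.Points 𝒳)} [IsClosedImmersion i.left] [IsReduced ZU.left]
    (hi : Set.range i.left = AlgSt.Points.ofChart u ⁻¹' T) : Compat u i := by
  rintro T₀ x y ⟨θ⟩ ⟨lx, hlx⟩
  obtain ⟨F, e, he, hsm⟩ := hu U u
  obtain ⟨g, -, -, ⟨ie⟩⟩ := isEquivOver_inv he
  obtain ⟨R, p, hp, hp'⟩ := F.property.atlas
  let a₁ := AlgSt.spMapOfOver (BasedFunctor.comp e (FibCat.fpFst u u))
  let a₂ := AlgSt.spMapOfOver (BasedFunctor.comp e (FibCat.fpSnd u u))
  obtain ⟨s, hs⟩ := (yon S).map_surjective (p ≫ a₁)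
  obtain ⟨t, ht⟩ := (yon S).map_surjective (p ≫ a₂)
  obtain ⟨is⟩ := overOfMap_comp_iso p (BasedFunctor.comp e (FibCat.fpFst u u)) s hs
  obtain ⟨it⟩ := overOfMap_comp_iso p (BasedFunctor.comp e (FibCat.fpSnd u u)) t ht
  let θR : BasedFunctor.comp (AlgSt.overMap s) u ≅ BasedFunctor.comp (AlgSt.overMap t) u :=
    whiskerRightIso is.symm u ≪≫ whiskerLeftIso (BasedFunctor.comp (overOfMap p) e) (FibCat.fpIso u u) ≪≫
      whiskerRightIso it u
  have : Smooth s.left := locP_yon_map (hs ▸ locP_comp (IsAlgSpace.yon_obj R) F.property (IsAlgSpace.yon_obj U)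
    (locP_mono (P := @Etale) etale_le_smooth (locP_of_repWith hp)) hsm)
  let L : FibCat.overCat T₀ ⥤ᵇ FibCat.fp u u := FibCat.fpLift (AlgSt.overMap x) (AlgSt.overMap y) θ
  let l := spHom (BasedFunctor.comp (AlgSt.toOverCat T₀) (BasedFunctor.comp L g))
  have hl₁ : l ≫ a₁ = (yon S).map x := by
    rw [← spMapOfOver_comp, ← spMapOfOver_ofSpMap_toOverCat ((yon S).map x)]
    exact spMapOfOver_congr (whiskerLeftIso (BasedFunctor.comp (AlgSt.toOverCat T₀) L)
      (whiskerRightIso ie (FibCat.fpFst u u)) ≪≫ toOverCatMapIso x)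
  have hl₂ : l ≫ a₂ = (yon S).map y := by
    rw [← spMapOfOver_comp, ← spMapOfOver_ofSpMap_toOverCat ((yon S).map y)]
    exact spMapOfOver_congr (whiskerLeftIso (BasedFunctor.comp (AlgSt.toOverCat T₀) L)
      (whiskerRightIso ie (FibCat.fpSnd u u)) ≪≫ toOverCatMapIso y)
  let π := hp.rep.snd l
  let r := hp.rep.fst' l
  have sqr : IsPullback ((yon S).map r) ((yon S).map π) p l := hp.rep.isPullback' l
  have : Etale π.left := hp.property_snd l
  have : Surjective π.left := hp'.property _ _ _ (hp.rep.isPullback l)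
  have hrs : r ≫ s = π ≫ x := (yon S).map_injective (by
    rw [Functor.map_comp, Functor.map_comp, hs, reassoc_of% sqr.w, hl₁])
  have hrt : r ≫ t = π ≫ y := (yon S).map_injective (by
    rw [Functor.map_comp, Functor.map_comp, ht, reassoc_of% sqr.w, hl₂])
  let Z₁ : Over S := Over.mk (pullback.snd i.left s.left ≫ R.hom)
  let z₁ : Z₁ ⟶ R := Over.homMk (pullback.snd i.left s.left) rfl
  have : Smooth (pullback.fst i.left s.left) := MorphismProperty.pullback_fst _ _ ‹Smooth s.left›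
  have : IsReduced (pullback i.left s.left) :=
    DescLib.isReduced_of_smooth_of_isReduced (pullback.fst i.left s.left)
  obtain ⟨M, hM⟩ := AlgSpDec.exists_factor_closed i.left (pullback.snd i.left s.left ≫ t.left) (by
    rintro _ ⟨z, rfl⟩
    rw [hi]
    change AlgSt.Points.ofChart u (t.left (pullback.snd i.left s.left z)) ∈ T
    have e₁ : AlgSt.Points.ofChart u (t.left (pullback.snd i.left s.left z)) =
        AlgSt.Points.ofChart u (i.left (pullback.fst i.left s.left z)) := by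
      rw [← Scheme.Hom.comp_apply (pullback.fst i.left s.left) i.left, pullback.condition, Scheme.Hom.comp_apply,
        ← ofChart_overMap t u, ← ofChart_overMap s u, ofChart_eq_map, ofChart_eq_map]
      exact (pts_map_congr θR _).symm
    rw [e₁]
    exact (hi.subset (Set.mem_range_self _) :))
  refine fac_of_local π ?_
  rw [← hrt]
  let n : (hp.rep.pullback l).left ⟶ pullback i.left s.left := pullback.lift (π ≫ lx).left r.left (by
    rw [← Over.comp_left, ← Over.comp_left, Category.assoc, hlx, hrs])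
  refine ⟨Over.homMk (n ≫ M) ?_, Over.OverMorphism.ext ?_⟩
  · rw [← Over.w i, ← Category.assoc, Category.assoc n M, hM, pullback.lift_snd_assoc, Category.assoc, Over.w t,
      Over.w r]
  · show (n ≫ M) ≫ i.left = r.left ≫ t.left
    rw [Category.assoc, hM, pullback.lift_snd_assoc]

theorem smLocal_isReduced : SmLocal.{u} (fun T => IsReduced T) := by
  intro U R hR
  refine ⟨fun hU V g hg => ?_, fun h => ?_⟩
  · have : Smooth g := hR.2 hg
    exact DescLib.isReduced_of_smooth_of_isReduced g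
  · choose Z g hRg hWg hx using fun x : U => Groth.Agent.SrcDescent.exists_family hR x
    have : ∀ x, Flat (g x) := fun x => by
      have : Smooth (g x) := hWg x
      infer_instance
    have : ∀ x, IsReduced (Z x) := fun x => h (g x) (hRg x)
    exact DescLib.isReduced_of_jointly_surjective g fun x => ⟨x, hx x⟩

theorem exists_reduced_closedSubstack (h𝒳 : AlgSt.IsAlgStack K₀ 𝒳) (T : Set (AlgSt.Points 𝒳))
    (hT : IsClosed T) :
    ∃ Q : 𝒳.obj → Prop, AlgSt.IsClosedSubstack 𝒳 Q K₀ ∧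
      Set.range (AlgSt.Points.map (AlgSt.subIncl 𝒳 Q)) = T ∧
      AlgSt.SmoothLocally (fun X => IsReduced X) (AlgSt.fullSub 𝒳 Q) := by
  have hg := h𝒳.isStack.1
  obtain ⟨U, u, hu, hus⟩ := id h𝒳.atlas
  let C : TopologicalSpace.Closeds ↥U.left :=
    ⟨AlgSt.Points.ofChart u ⁻¹' T, hT.preimage (continuous_ofChart hg h𝒳.atlas u)⟩
  let I := Scheme.IdealSheafData.vanishingIdeal C
  let ZU : Over S := Over.mk (I.subschemeι ≫ U.hom)
  let i : ZU ⟶ U := CategoryTheory.Over.homMk I.subschemeι rfl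
  have : IsClosedImmersion i.left := inferInstanceAs (IsClosedImmersion I.subschemeι)
  have hr : IsReduced ZU.left := inferInstanceAs (IsReduced (Scheme.IdealSheafData.vanishingIdeal C).subscheme)
  have hi : Set.range i.left = AlgSt.Points.ofChart u ⁻¹' T := H23.RedSub.range_vanishingIdeal C
  have hc : Compat u i := compat_of_reduced h𝒳 hu hi
  have hcut : ∀ a : Over U, Cut u i (u.obj a) ↔ Fac i a.hom := fun a => by
    refine ⟨fun h => h a (𝟙 _), fun ha c φ => ?_⟩
    let π : c.left ⟶ a.left := eqToHom (u.w_obj c).symm ≫ 𝒳.p.map φ ≫ eqToHom (u.w_obj a)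
    have hφ : 𝒳.p.IsHomLift π φ := IsHomLift.of_fac _ _ _ (u.w_obj c) (u.w_obj a) rfl
    let n : (AlgSt.overMap c.hom).obj (Over.mk (𝟙 c.left)) ⟶ c := Over.homMk (𝟙 c.left) rfl
    let m : (AlgSt.overMap (π ≫ a.hom)).obj (Over.mk (𝟙 c.left)) ⟶ a := Over.homMk π (by
      show π ≫ a.hom = 𝟙 c.left ≫ π ≫ a.hom
      simp)
    have : 𝒳.p.IsHomLift (𝟙 c.left) (u.map n) := overMap_isHomLift u n
    have : 𝒳.p.IsHomLift π (u.map m) := overMap_isHomLift u m
    have : 𝒳.p.IsHomLift π (u.map n ≫ φ) := IsHomLift.comp_lift_id_left' 𝒳.p c.left (u.map n) π φ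
    exact hc _ _ _ (iso_of_hom hg (G := BasedFunctor.comp (AlgSt.overMap (π ≫ a.hom)) u)
      (H := BasedFunctor.comp (AlgSt.overMap c.hom) u) π (u.map m) (u.map n ≫ φ)) (ha.comp π)
  let incl := AlgSt.subIncl 𝒳 (Cut u i)
  have himm := isClosedImm_cut hg hu hus hc
  have halg : AlgSt.IsAlgStack K₀ (AlgSt.fullSub 𝒳 (Cut u i)) :=
    isAlgStack_of_repByAlgSp1 (isFibGrpd_fullSub hg cut_of_hom) h𝒳 (repByAlgSp1_of_repByAlgSpWith himm)
  obtain ⟨E, hE, hEf⟩ := exists_equiv (u := u) (i := i) u (j := i) hcut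
  let z := BasedFunctor.comp (BasedFunctor.comp E (fpSwap u incl)) (FibCat.fpFst incl u)
  have hsw : FibCat.IsEquivOver (BasedFunctor.comp E (fpSwap u incl)) :=
    isEquivOver_comp hE (fpSwap_isEquivOver u incl)
  have hz : AlgSt.RepByAlgSpWith (LocP @Smooth) z :=
    repByAlgSpWith_precomp hsw (repByAlgSpWith_fpFst incl hu)
  have hzs : AlgSt.RepByAlgSpWith IsSurjectiveMor z :=
    repByAlgSpWith_precomp hsw (repByAlgSpWith_fpFst incl hus)
  refine ⟨Cut u i, ⟨closedUnderIso_cut, halg, himm⟩, ?_,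
    (smoothLocally_iff_exists smLocal_isReduced halg).2 ⟨ZU, z, hz, hzs, hr⟩⟩
  have key : ∀ w : ↥ZU.left, AlgSt.Points.map incl (AlgSt.Points.ofChart z w) =
      AlgSt.Points.ofChart u (i.left w) := fun w => by
    rw [map_ofChart, ← ofChart_overMap i u w, ofChart_eq_map, ofChart_eq_map]
    exact pts_map_congr ((whiskerLeftIso E (FibCat.fpIso u incl)).symm ≪≫
      eqToIso (congrArg (fun Φ => BasedFunctor.comp Φ u) hEf)) _
  ext x
  constructor
  · rintro ⟨w, rfl⟩
    obtain ⟨t, rfl⟩ := ofChart_surjective halg.isStack.1 hzs w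
    rw [key]
    exact (hi.subset (Set.mem_range_self t) :)
  · intro hx
    obtain ⟨v, rfl⟩ := ofChart_surjective hg hus x
    obtain ⟨w, hw⟩ : v ∈ Set.range i.left := hi.symm.subset hx
    exact ⟨AlgSt.Points.ofChart z w, by rw [key, hw]⟩

end Groth.Agent.AlgStLib.RedSub
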