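import Groth.Agent.AlgStLib.UnivPts

/-!
# Universally injective functors and surjective diagonals
-/

set_option backward.isDefEq.respectTransparency false
set_option backward.isDefEq.respectTransparency.types false

universe u

open CategoryTheory CategoryTheory.Functor CategoryTheory.Limits AlgebraicGeometry Opposite AlgSp

namespace Groth.Agent.AlgStLib

open Groth.Agent.FibBase Groth.Agent.AlgSpLib

variable {S : Scheme.{u}} {𝒳 𝒴 𝒵 : AlgSt.Cat S}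

local notation "K₀" => Scheme.fppfPrecoverage

/-- Points in the image of the diagonal, detected after a base change. -/
theorem mem_range_diag_of_baseChange (h𝒳 : FibCat.IsFibGrpd 𝒳.p) (h𝒴 : FibCat.IsFibGrpd 𝒴.p)
    (h𝒵 : FibCat.IsFibGrpd 𝒵.p) {f : 𝒳 ⥤ᵇ 𝒴} {g : 𝒵 ⥤ᵇ 𝒴} (h : AlgSt.IsSurjective (FibCat.diag (FibCat.fpFst g f)))
    (u : AlgSt.Points (FibCat.fp f f))
    (hu : AlgSt.Points.map f (AlgSt.Points.map (FibCat.fpFst f f) u) ∈ Set.range (AlgSt.Points.map g)) :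
    u ∈ Set.range (AlgSt.Points.map (FibCat.diag f)) := by
  obtain ⟨z, hz⟩ := hu
  obtain ⟨w, -, hw⟩ := exists_pts_fp h𝒳 h𝒴 h𝒵 f g z _ hz
  obtain ⟨p, -, hp⟩ := exists_pts_fp (fp_isFibGrpd h𝒳 h𝒳 h𝒴) h𝒳 (fp_isFibGrpd h𝒵 h𝒳 h𝒴)
    (FibCat.fpFst f f) (FibCat.fpSnd g f) w u hw
  obtain ⟨v, rfl⟩ := (pts_bijective_of_isEquivOver (sqLift_isEquivOver f g)).2 p
  obtain ⟨x, rfl⟩ := h v
  refine ⟨AlgSt.Points.map (FibCat.fpSnd g f) x, ?_⟩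
  rw [← pts_map_comp, ← pts_map_congr diagSqIso, ← hp, ← pts_map_comp, ← pts_map_comp]
  rfl

theorem isSurjective_diag_fpFst (h𝒳 : FibCat.IsFibGrpd 𝒳.p) (h𝒴 : FibCat.IsFibGrpd 𝒴.p)
    (h𝒵 : FibCat.IsFibGrpd 𝒵.p) {f : 𝒳 ⥤ᵇ 𝒴} (g : 𝒵 ⥤ᵇ 𝒴) (h : AlgSt.IsSurjective (FibCat.diag f)) :
    AlgSt.IsSurjective (FibCat.diag (FibCat.fpFst g f)) := fun v => by
  have hgf := fp_isFibGrpd (F := g) (G := f) h𝒵 h𝒳 h𝒴
  have hff := fp_isFibGrpd (F := f) (G := f) h𝒳 h𝒳 h𝒴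
  let G := FibCat.fpSnd (FibCat.fpSnd g f) (FibCat.fpFst f f)
  obtain ⟨p, hp⟩ := pts_surjective_fpFst h𝒳 hff (fp_isFibGrpd (F := FibCat.fpSnd g f) (G := FibCat.fpFst f f)
    hgf hff h𝒳) G h (AlgSt.Points.map (sqLift f g) v)
  obtain ⟨x, rfl⟩ := (pts_bijective_of_isEquivOver (diagPullback_isEquivOver f g)).2 p
  refine ⟨x, (pts_bijective_of_isEquivOver (sqLift_isEquivOver f g)).1 ?_⟩
  rw [← pts_map_comp, pts_map_congr (diagLiftIso f g), pts_map_comp, hp]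

theorem isSurjective_diag_of_injective (f : 𝒳 ⥤ᵇ 𝒴)
    (h : Function.Injective (AlgSt.Points.map (FibCat.fpFst f f))) : AlgSt.IsSurjective (FibCat.diag f) :=
  fun u => ⟨AlgSt.Points.map (FibCat.fpFst f f) u, h (by
    rw [← pts_map_comp]
    exact pts_map_id _)⟩

theorem injective_of_isSurjective_diag (h𝒳 : FibCat.IsFibGrpd 𝒳.p) (h𝒴 : FibCat.IsFibGrpd 𝒴.p)
    (f : 𝒳 ⥤ᵇ 𝒴) (h : AlgSt.IsSurjective (FibCat.diag f)) : Function.Injective (AlgSt.Points.map f) := by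
  intro x y hxy
  obtain ⟨u, hu₁, hu₂⟩ := exists_pts_fp h𝒳 h𝒴 h𝒳 f f x y hxy
  obtain ⟨w, rfl⟩ := h u
  rw [← hu₁, ← hu₂, ← pts_map_comp, ← pts_map_comp]
  rfl

theorem isUnivInjective_iff_isSurjective_diag (h𝒳 : AlgSt.IsAlgStack K₀ 𝒳) (h𝒴 : FibCat.IsFibGrpd 𝒴.p)
    (f : 𝒳 ⥤ᵇ 𝒴) : AlgSt.IsUnivInjective K₀ f ↔ AlgSt.IsSurjective (FibCat.diag f) :=
  ⟨fun h => isSurjective_diag_of_injective f (h 𝒳 h𝒳 f),
    fun h _ h𝒵 g => injective_of_isSurjective_diag (fp_isFibGrpd h𝒵.isStack.1 h𝒳.isStack.1 h𝒴) h𝒵.isStack.1 _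
      (isSurjective_diag_fpFst h𝒳.isStack.1 h𝒴 h𝒵.isStack.1 g h)⟩

theorem isUnivInjective_of_affine (h𝒳 : AlgSt.IsAlgStack K₀ 𝒳) (h𝒴 : AlgSt.IsAlgStack K₀ 𝒴) (f : 𝒳 ⥤ᵇ 𝒴)
    (h : ∀ (Z : Over S) [IsAffine Z.left] (z : FibCat.overCat Z ⥤ᵇ 𝒴),
      AlgSt.IsUnivInjective K₀ (FibCat.fpFst z f)) : AlgSt.IsUnivInjective K₀ f := by
  refine (isUnivInjective_iff_isSurjective_diag h𝒳 h𝒴.isStack.1 f).2 fun u => ?_
  obtain ⟨p, hp⟩ := AlgSt.Points.mk_surjective (AlgSt.Points.map f (AlgSt.Points.map (FibCat.fpFst f f) u))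
  obtain ⟨z, hz⟩ := exists_ofChart_eq h𝒴.isStack.1 p
  have : IsAffine (Over.mk p.str).left := inferInstanceAs (IsAffine (Spec _))
  refine mem_range_diag_of_baseChange h𝒳.isStack.1 h𝒴.isStack.1 (isFibGrpd_overCat _)
    ((isUnivInjective_iff_isSurjective_diag
      (isAlgStack_fp (isAlgStack_overCat _) h𝒳 h𝒴.isStack h𝒴.diag z f) (isFibGrpd_overCat _) _).1 (h _ z)) u ?_
  refine ⟨ptAt _ (IsLocalRing.closedPoint p.K), ?_⟩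
  rw [← ofChart_eq_map, hz, hp]

theorem isUnivInjective_of_surjective (h𝒳 : AlgSt.IsAlgStack K₀ 𝒳) (h𝒴 : AlgSt.IsAlgStack K₀ 𝒴)
    (h𝒵 : AlgSt.IsAlgStack K₀ 𝒵) (f : 𝒳 ⥤ᵇ 𝒴) {w : 𝒵 ⥤ᵇ 𝒴} (hw : AlgSt.IsSurjective w)
    (h : AlgSt.IsUnivInjective K₀ (FibCat.fpFst w f)) : AlgSt.IsUnivInjective K₀ f :=
  (isUnivInjective_iff_isSurjective_diag h𝒳 h𝒴.isStack.1 f).2 fun u =>
    mem_range_diag_of_baseChange h𝒳.isStack.1 h𝒴.isStack.1 h𝒵.isStack.1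
      ((isUnivInjective_iff_isSurjective_diag (isAlgStack_fp h𝒵 h𝒳 h𝒴.isStack h𝒴.diag w f) h𝒵.isStack.1 _).1 h)
      u (hw _)

end Groth.Agent.AlgStLib
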