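import Groth.Agent.AlgStLib.DiagLFT
import Groth.Agent.AlgStLib.RedSubstack
import Groth.Agent.AlgStLib.UnivInj
import Groth.Agent.H23.QCCrit

/-!
# Lifting points with values in algebraically closed fields
-/

set_option backward.isDefEq.respectTransparency false
set_option backward.isDefEq.respectTransparency.types false

universe u

open CategoryTheory CategoryTheory.Functor CategoryTheory.Limits AlgebraicGeometry Opposite AlgSp

namespace Groth.Agent.AlgStLib.GeomLift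

open Groth.Agent.FibBase Groth.Agent.AlgSpLib

variable {S : Scheme.{u}} {𝒳 𝒴 : AlgSt.Cat S}

/-- A surjection locally of finite type lifts points with values in an algebraically closed field. -/
theorem exists_iso_of_surjective (h𝒳 : FibCat.IsFibGrpd 𝒳.p) (h𝒴 : FibCat.IsFibGrpd 𝒴.p) {f : 𝒳 ⥤ᵇ 𝒴}
    (hf : AlgSt.RepByAlgSpWith (LocP @LocallyOfFiniteType) f) (hs : AlgSt.IsSurjective f)
    (k : Type u) [Field k] [IsAlgClosed k] (s : Spec (CommRingCat.of k) ⟶ S) (y : 𝒴.obj)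
    (hy : 𝒴.p.obj y = Over.mk s) :
    ∃ (x : 𝒳.obj) (i : f.obj x ≅ y), 𝒳.p.obj x = Over.mk s ∧ 𝒴.p.IsHomLift (𝟙 (Over.mk s)) i.hom := by
  obtain ⟨Y, i, hi⟩ := exists_overCat_obj h𝒴 y hy
  obtain ⟨F, e, he, hF⟩ := hf (Over.mk s) Y
  let Φ := BasedFunctor.comp e (FibCat.fpFst Y f)
  let t : ↥(Over.mk s).left := IsLocalRing.closedPoint k
  obtain ⟨z, -⟩ := pts_surjective_fpFst h𝒳 h𝒴 (isFibGrpd_overCat _) Y hs (ptAt (Over.mk s) t)
  obtain ⟨w, -⟩ := (pts_bijective_of_isEquivOver he).2 z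
  obtain ⟨V, p, hp, hp'⟩ := F.property.atlas
  obtain ⟨v, -⟩ := surjective_overOfMap hp' w
  obtain ⟨c, hc⟩ := (yon S).map_surjective (p ≫ AlgSt.spMapOfOver Φ)
  have hlft : LocallyOfFiniteType (c.left : V.left ⟶ Spec (CommRingCat.of k)) := locP_yon_map
    (hc ▸ locP_comp (IsAlgSpace.yon_obj V) F.property (IsAlgSpace.yon_obj _)
      (locP_mono (P := @Etale) (fun _ _ g (_ : Etale g) => inferInstanceAs (LocallyOfFiniteType g))
        (locP_of_repWith hp)) hF)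
  have hsurj : Surjective (c.left : V.left ⟶ Spec (CommRingCat.of k)) :=
    ⟨fun x => ⟨v, Subsingleton.elim (α := PrimeSpectrum k) _ _⟩⟩
  obtain ⟨σ, hσ⟩ := Groth.Agent.H23.QCCrit.exists_geomPoint_lift (c.left : V.left ⟶ Spec (CommRingCat.of k)) k (𝟙 _)
  let σ' : Over.mk s ⟶ V := Over.homMk σ (by
    show σ ≫ V.hom = s
    rw [← Over.w c, ← Category.assoc]
    erw [hσ]
    exact Category.id_comp _)
  have hσ' : σ' ≫ c = 𝟙 _ := Over.OverMorphism.ext hσ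
  let E := BasedFunctor.comp (overOfMap ((yon S).map σ' ≫ p)) e
  obtain ⟨j⟩ : Nonempty (BasedFunctor.comp E (FibCat.fpFst Y f) ≅ AlgSt.overMap (𝟙 (Over.mk s))) :=
    RedSub.overOfMap_comp_iso ((yon S).map σ' ≫ p) Φ (𝟙 _)
      (by rw [Category.assoc, ← hc, ← Functor.map_comp, hσ'])
  let one : (FibCat.overCat (Over.mk s) : AlgSt.Cat S).obj := Over.mk (𝟙 _)
  let o := E.obj one
  let one' : (AlgSt.overMap (𝟙 (Over.mk s)) : _ ⥤ᵇ FibCat.overCat (Over.mk s)).obj one ≅ one :=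
    Over.isoMk (Iso.refl _) (by show 𝟙 _ ≫ 𝟙 _ = 𝟙 _ ≫ 𝟙 _; rfl)
  have h₀ : (FibCat.overCat (Over.mk s) : AlgSt.Cat S).p.IsHomLift (𝟙 (Over.mk s)) one'.hom :=
    IsHomLift.of_fac' _ _ _ rfl rfl (by simp [one']; rfl)
  have h₁ : 𝒴.p.IsHomLift (𝟙 (Over.mk s)) o.obj.iso.hom := isHomLift_id_congr (E.w_obj one) o.property
  have h₁' : 𝒴.p.IsHomLift (𝟙 (Over.mk s)) o.obj.iso.inv := IsHomLift.lift_id_inv 𝒴.p _ o.obj.iso
  have h₂ : (FibCat.overCat (Over.mk s) : AlgSt.Cat S).p.IsHomLift (𝟙 (Over.mk s)) (isoApp j one).hom :=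
    BasedNatTrans.isHomLift j.hom rfl
  have h₃ : 𝒴.p.IsHomLift (𝟙 (Over.mk s)) (Y.map ((isoApp j one).hom ≫ one'.hom)) :=
    Y.preserves_isHomLift (𝟙 (Over.mk s)) _
  have h₄ : 𝒴.p.IsHomLift (𝟙 (Over.mk s) ≫ 𝟙 (Over.mk s) ≫ 𝟙 (Over.mk s))
      (o.obj.iso.inv ≫ Y.map ((isoApp j one).hom ≫ one'.hom) ≫ i.hom) := inferInstance
  rw [Category.id_comp, Category.id_comp] at h₄
  exact ⟨o.obj.snd, o.obj.iso.symm ≪≫ Y.toFunctor.mapIso (isoApp j one ≪≫ one') ≪≫ i,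
    (snd_proj o).trans (E.w_obj one), h₄⟩

theorem isSurjective_diag_iff (h𝒳 : AlgSt.IsAlgStack Scheme.fppfPrecoverage 𝒳)
    (h𝒴 : AlgSt.IsAlgStack Scheme.fppfPrecoverage 𝒴) (f : 𝒳 ⥤ᵇ 𝒴) :
    AlgSt.IsSurjective (FibCat.diag f) ↔
      ∀ (k : Type u) [Field k] [IsAlgClosed k] (s : Spec (CommRingCat.of k) ⟶ S) (a₁ a₂ : 𝒳.obj)
        (_ : 𝒳.p.obj a₁ = Over.mk s) (_ : 𝒳.p.obj a₂ = Over.mk s) (β : f.obj a₁ ⟶ f.obj a₂),
        𝒴.p.IsHomLift (𝟙 (Over.mk s)) β →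
          ∃ α : a₁ ⟶ a₂, 𝒳.p.IsHomLift (𝟙 (Over.mk s)) α ∧ f.map α = β := by
  have hX := h𝒳.isStack.1
  have hY := h𝒴.isStack.1
  have hff := fp_isFibGrpd (F := f) (G := f) hX hX hY
  constructor
  · intro hd k _ _ s a₁ a₂ h₁ h₂ β hβ
    have : IsIso β := isIso_of_lift (p := 𝒴.p) (hp := hY) (𝟙 (Over.mk s)) β
    let η : (FibCat.fp f f).obj := ⟨⟨a₁, a₂, asIso β⟩, isHomLift_id_congr h₁.symm hβ⟩
    obtain ⟨x, i, hx, hi⟩ := exists_iso_of_surjective hX hff (repByAlgSpWith_lft_diag h𝒳 h𝒴 f) hd k s η h₁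
    let i₁ : x ≅ a₁ := (FibCat.fpFst f f).toFunctor.mapIso i
    let i₂ : x ≅ a₂ := (FibCat.fpSnd f f).toFunctor.mapIso i
    have w : f.map i₁.hom ≫ β = 𝟙 _ ≫ f.map i₂.hom := i.hom.hom.w
    rw [Category.id_comp] at w
    have hl₁ : 𝒳.p.IsHomLift (𝟙 (Over.mk s)) i₁.hom := (FibCat.fpFst f f).preserves_isHomLift _ _
    have hl₂ : 𝒳.p.IsHomLift (𝟙 (Over.mk s)) i₂.hom := (FibCat.fpSnd f f).preserves_isHomLift _ _
    have hl₁' : 𝒳.p.IsHomLift (𝟙 (Over.mk s)) i₁.inv := IsHomLift.lift_id_inv 𝒳.p _ i₁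
    refine ⟨i₁.inv ≫ i₂.hom, inferInstance, ?_⟩
    rw [f.toFunctor.map_comp, ← w, ← f.toFunctor.map_comp_assoc, i₁.inv_hom_id, f.toFunctor.map_id]
    exact Category.id_comp β
  · intro H u
    obtain ⟨p, rfl⟩ := AlgSt.Points.mk_surjective u
    let K := AlgebraicClosure p.K
    let g : Over.mk (Spec.map (CommRingCat.ofHom (algebraMap p.K K)) ≫ p.str) ⟶ Over.mk p.str :=
      Over.homMk (Spec.map (CommRingCat.ofHom (algebraMap p.K K))) rfl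
    obtain ⟨r, φ, hr, -⟩ := exists_pullback_fpt hff p (K := K) g
    have h₁ : 𝒳.p.obj r.obj.obj.fst = Over.mk (Spec.map (CommRingCat.ofHom (algebraMap p.K K)) ≫ p.str) := hr
    have h₂ : 𝒳.p.obj r.obj.obj.snd = Over.mk (Spec.map (CommRingCat.ofHom (algebraMap p.K K)) ≫ p.str) :=
      (snd_proj r.obj).trans hr
    have hβ := isHomLift_id_congr h₁ r.obj.property
    obtain ⟨α, hα, hαβ⟩ := H K (Spec.map (CommRingCat.ofHom (algebraMap p.K K)) ≫ p.str) r.obj.obj.fst r.obj.obj.snd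
      h₁ h₂ r.obj.obj.iso.hom hβ
    have : IsIso α :=
      isIso_of_lift (p := 𝒳.p) (hp := hX) (R := Over.mk (Spec.map (CommRingCat.ofHom (algebraMap p.K K)) ≫ p.str)) (𝟙 (Over.mk (Spec.map (CommRingCat.ofHom (algebraMap p.K K)) ≫ p.str))) α
    let a : r.obj ≅ (FibCat.diag f).obj r.obj.obj.snd := fpIsoMk (asIso α) (Iso.refl _) (by
      show f.map α ≫ 𝟙 _ = r.obj.obj.iso.hom ≫ f.map (𝟙 _)
      simp [hαβ])
    refine ⟨AlgSt.Points.mk { K := K, str := _, obj := r.obj.obj.snd, lies := h₂ }, ?_⟩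
    exact (pts_eq_of_hom (p := r) (q := AlgSt.FPt.map (FibCat.diag f)
      { K := K, str := _, obj := r.obj.obj.snd, lies := h₂ }) a.hom).symm.trans (pts_eq_of_hom φ)

end Groth.Agent.AlgStLib.GeomLift
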