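import Groth.Agent.AlgStLib.OnePointSt
import Groth.Agent.GerbFlat.Section
import Groth.Agent.AlgSpLib.FlatMono
import Groth.Agent.AlgSpPts.Misc
import Groth.Agent.AlgStLib.SheafGlue

/-!
# Morphisms of gerbes which are isomorphisms on a field valued chart
-/

set_option backward.isDefEq.respectTransparency false
set_option backward.isDefEq.respectTransparency.types false

universe u

open CategoryTheory CategoryTheory.Functor CategoryTheory.Limits AlgebraicGeometry Opposite AlgSp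

namespace Groth.Agent.AlgStLib.GerbEq

open Groth.Agent.FibBase Groth.Agent.AlgSpLib

variable {S : Scheme.{u}} {𝒳 𝒴 𝒵 : AlgSt.Cat S}

local notation "K₀" => Scheme.fppfPrecoverage

/-- The isomorphism of images underlying a pair comes from exactly one morphism. -/
def UniqAt (g : 𝒳 ⥤ᵇ 𝒴) (η : (FibCat.fp g g).obj) : Prop :=
  ∃! ψ : η.obj.fst ⟶ η.obj.snd, g.map ψ = η.obj.iso.hom

/-- Invariance of unique lifting under isomorphisms of the two objects. -/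
theorem existsUnique_conj (g : 𝒳 ⥤ᵇ 𝒴) {a b a' b' : 𝒳.obj} (u₁ : a ≅ a') (u₂ : b ≅ b')
    (φ : g.obj a' ⟶ g.obj b') (h : ∃! ψ : a ⟶ b, g.map ψ = g.map u₁.hom ≫ φ ≫ g.map u₂.inv) :
    ∃! ψ : a' ⟶ b', g.map ψ = φ := by
  obtain ⟨ψ, hψ, hu⟩ := h
  refine ⟨u₁.inv ≫ ψ ≫ u₂.hom, ?_, fun ψ' h' => ?_⟩
  · simp only [Functor.map_comp, hψ, Category.assoc]
    rw [← g.toFunctor.map_comp, u₂.inv_hom_id, g.toFunctor.map_id, ← g.toFunctor.map_comp_assoc,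
      u₁.inv_hom_id, g.toFunctor.map_id, Category.id_comp]
    exact Category.comp_id φ
  · rw [← hu (u₁.hom ≫ ψ' ≫ u₂.inv) (by simp only [Functor.map_comp, h'])]
    simp

/-- The comparison being an equivalence gives unique liftings. -/
theorem existsUnique_of_weaken (h𝒳 : FibCat.IsFibGrpd 𝒳.p) {p : 𝒵 ⥤ᵇ 𝒳} {g : 𝒳 ⥤ᵇ 𝒴} (hc : FibCat.IsEquivOver (weaken p p g))
    {α β : 𝒵.obj} (φ : g.obj (p.obj α) ≅ g.obj (p.obj β))
    (hφ : 𝒴.p.IsHomLift (𝟙 (𝒵.p.obj α)) φ.hom) : ∃! ψ : p.obj α ⟶ p.obj β, g.map ψ = φ.hom := by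
  let η : (FibCat.fp (BasedFunctor.comp p g) (BasedFunctor.comp p g)).obj := ⟨⟨α, β, φ⟩, hφ⟩
  obtain ⟨ξ, i, -⟩ := exists_iso_over_of_isEquivOver hc (η := η) rfl
  let u₁ : p.obj ξ.obj.fst ≅ p.obj α :=
    p.toFunctor.mapIso ((FibCat.fpFst (BasedFunctor.comp p g) (BasedFunctor.comp p g)).toFunctor.mapIso i)
  let u₂ : p.obj ξ.obj.snd ≅ p.obj β :=
    p.toFunctor.mapIso ((FibCat.fpSnd (BasedFunctor.comp p g) (BasedFunctor.comp p g)).toFunctor.mapIso i)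
  have w : g.map u₁.hom ≫ φ.hom = g.map ξ.obj.iso.hom ≫ g.map u₂.hom := i.hom.hom.w
  refine existsUnique_conj g u₁ u₂ φ.hom ⟨ξ.obj.iso.hom, ?_, fun ψ hψ => ?_⟩
  · rw [← Category.assoc, w, Category.assoc, ← g.toFunctor.map_comp, u₂.hom_inv_id, g.toFunctor.map_id]
    exact (Category.comp_id _).symm
  · rw [← Category.assoc, w, Category.assoc, ← g.toFunctor.map_comp, u₂.hom_inv_id, g.toFunctor.map_id,
      Category.comp_id] at hψ
    have hl : 𝒳.p.IsHomLift (𝟙 (𝒵.p.obj ξ.obj.fst)) ξ.obj.iso.hom := ξ.property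
    have hψl : 𝒳.p.IsHomLift (𝟙 (𝒵.p.obj ξ.obj.fst)) ψ := by
      rw [← g.isHomLift_iff, hψ]
      exact g.preserves_isHomLift _ _
    have : IsIso ψ := isIso_of_lift (p := 𝒳.p) (hp := h𝒳) (𝟙 (𝒵.p.obj ξ.obj.fst)) ψ
    let x' : (FibCat.fp p p).obj := ⟨⟨ξ.obj.fst, ξ.obj.snd, asIso ψ⟩, hψl⟩
    let t₀ : (weaken p p g).obj x' ⟶ (weaken p p g).obj ξ := ObjectProperty.homMk
      ⟨𝟙 ξ.obj.fst, 𝟙 ξ.obj.snd, by
        show g.map (p.map (𝟙 _)) ≫ g.map ξ.obj.iso.hom = g.map ψ ≫ g.map (p.map (𝟙 _))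
        simp [hψ]⟩
    have := full_of_isEquivOver hc
    obtain ⟨t, ht⟩ := (weaken p p g).toFunctor.map_surjective t₀
    have h₁ : t.hom.fst = 𝟙 ξ.obj.fst := congrArg (fun s => s.hom.fst) ht
    have h₂ : t.hom.snd = 𝟙 ξ.obj.snd := congrArg (fun s => s.hom.snd) ht
    have w' : p.map t.hom.fst ≫ ξ.obj.iso.hom = ψ ≫ p.map t.hom.snd := t.hom.w
    rw [h₁, h₂, p.toFunctor.map_id, p.toFunctor.map_id, Category.id_comp] at w'
    exact (w'.trans (Category.comp_id ψ)).symm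

/-- Existence of a lift to the diagonal. -/
theorem exists_diag_obj (h𝒳 : FibCat.IsFibGrpd 𝒳.p) {g : 𝒳 ⥤ᵇ 𝒴} {T : Over S}
    (G : FibCat.overCat T ⥤ᵇ FibCat.fp g g) (c : (FibCat.overCat T : AlgSt.Cat S).obj)
    (h : UniqAt g (G.obj c)) :
    ∃ (d : 𝒳.obj) (i : G.obj c ≅ (FibCat.diag g).obj d),
      (FibCat.fp g g).p.IsHomLift (𝟙 ((FibCat.overCat T : AlgSt.Cat S).p.obj c)) i.hom := by
  obtain ⟨ψ, hψ, -⟩ := h
  let η := G.obj c
  have hη : 𝒴.p.IsHomLift (𝟙 (𝒳.p.obj η.obj.fst)) η.obj.iso.hom := η.property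
  have hl : 𝒳.p.IsHomLift (𝟙 (𝒳.p.obj η.obj.fst)) ψ := by
    rw [← g.isHomLift_iff, hψ]; exact hη
  have : IsIso ψ := isIso_of_lift (p := 𝒳.p) (hp := h𝒳) (𝟙 (𝒳.p.obj η.obj.fst)) ψ
  let ι : η ≅ (FibCat.diag g).obj η.obj.snd := fpIsoMk (asIso ψ) (Iso.refl _) (by
    show g.map ψ ≫ 𝟙 _ = η.obj.iso.hom ≫ g.map (𝟙 _)
    simp [hψ, η])
  exact ⟨η.obj.snd, ι, fp_isHomLift (F := g) (G := g) _ _
    (h := isHomLift_id_congr (G.w_obj c) hl)⟩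

/-- Uniqueness of lifts to the diagonal. -/
theorem exists_diag_iso {g : 𝒳 ⥤ᵇ 𝒴} {T : Over S} (G : FibCat.overCat T ⥤ᵇ FibCat.fp g g)
    (o o' : (FibCat.fp G (FibCat.diag g)).obj) (s : o.obj.fst ≅ o'.obj.fst) {W : Over S}
    (hs : (FibCat.overCat T : AlgSt.Cat S).p.IsHomLift (𝟙 W) s.hom) (h : UniqAt g (G.obj o.obj.fst)) :
    ∃ i : o ≅ o', (FibCat.fp G (FibCat.diag g)).p.IsHomLift (𝟙 W) i.hom := by
  let ι₁ := (FibCat.fpFst g g).toFunctor.mapIso o.obj.iso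
  let ι₂ := (FibCat.fpSnd g g).toFunctor.mapIso o.obj.iso
  let ι₁' := (FibCat.fpFst g g).toFunctor.mapIso o'.obj.iso
  let ι₂' := (FibCat.fpSnd g g).toFunctor.mapIso o'.obj.iso
  let s₁ := (BasedFunctor.comp G (FibCat.fpFst g g)).toFunctor.mapIso s
  let s₂ := (BasedFunctor.comp G (FibCat.fpSnd g g)).toFunctor.mapIso s
  let φ := (G.obj o.obj.fst).obj.iso
  let φ' := (G.obj o'.obj.fst).obj.iso
  have w : g.map ι₁.hom ≫ 𝟙 _ = φ.hom ≫ g.map ι₂.hom := o.obj.iso.hom.hom.w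
  have w' : g.map ι₁'.hom ≫ 𝟙 _ = φ'.hom ≫ g.map ι₂'.hom := o'.obj.iso.hom.hom.w
  have ws : g.map s₁.hom ≫ φ'.hom = φ.hom ≫ g.map s₂.hom := (G.map s.hom).hom.w
  rw [Category.comp_id] at w w'
  let ψ : (G.obj o.obj.fst).obj.fst ⟶ (G.obj o.obj.fst).obj.snd := ι₁.hom ≫ ι₂.inv
  let ψ' : (G.obj o.obj.fst).obj.fst ⟶ (G.obj o.obj.fst).obj.snd :=
    s₁.hom ≫ ι₁'.hom ≫ ι₂'.inv ≫ s₂.inv
  have e : ψ = ψ' := by
    refine h.unique ?_ ?_
    · show g.map (ι₁.hom ≫ ι₂.inv) = φ.hom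
      rw [g.toFunctor.map_comp, w, Category.assoc, ← g.toFunctor.map_comp, ι₂.hom_inv_id]
      exact (congrArg (φ.hom ≫ ·) (g.toFunctor.map_id _)).trans (Category.comp_id _)
    · show g.map (s₁.hom ≫ ι₁'.hom ≫ ι₂'.inv ≫ s₂.inv) = φ.hom
      simp only [g.toFunctor.map_comp]
      rw [reassoc_of% w', ← g.toFunctor.map_comp_assoc ι₂'.hom, ι₂'.hom_inv_id, g.toFunctor.map_id,
        Category.id_comp, reassoc_of% ws, ← g.toFunctor.map_comp, s₂.hom_inv_id]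
      exact (congrArg (φ.hom ≫ ·) (g.toFunctor.map_id _)).trans (Category.comp_id _)
  let κ : o.obj.snd ≅ o'.obj.snd := ι₂.symm ≪≫ s₂ ≪≫ ι₂'
  have key : G.map s.hom ≫ o'.obj.iso.hom = o.obj.iso.hom ≫ (FibCat.diag g).map κ.hom := by
    refine ObjectProperty.hom_ext _ (CategoricalPullback.hom_ext ?_ ?_)
    · show s₁.hom ≫ ι₁'.hom = ι₁.hom ≫ ι₂.inv ≫ s₂.hom ≫ ι₂'.hom
      have e' := congrArg (fun t => t ≫ s₂.hom ≫ ι₂'.hom) e
      simp only [ψ, ψ', Category.assoc, Iso.inv_hom_id_assoc, Iso.inv_hom_id, Category.comp_id] at e'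
      exact e'.symm
    · show s₂.hom ≫ ι₂'.hom = ι₂.hom ≫ ι₂.inv ≫ s₂.hom ≫ ι₂'.hom
      simp
  exact ⟨fpIsoMk s κ key, fp_isHomLift (F := G) (G := FibCat.diag g) _ _ (h := hs)⟩

theorem secHom_eq_of_lift {T W : Over S} {F : Sp S} (Φ : AlgSt.ofSp F ⥤ᵇ FibCat.overCat T)
    {x : F.obj.obj (op W)} {c : (FibCat.overCat T : AlgSt.Cat S).obj} (j : Φ.obj ⟨W, x⟩ ⟶ c)
    (hj : (FibCat.overCat T : AlgSt.Cat S).p.IsHomLift (𝟙 W) j) :
    AlgSt.secHom Φ ⟨W, x⟩ = eqToHom (IsHomLift.codomain_eq (FibCat.overCat T : AlgSt.Cat S).p (𝟙 W) j).symm ≫ c.hom := by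
  have hf : j.left = eqToHom (IsHomLift.domain_eq (FibCat.overCat T : AlgSt.Cat S).p (𝟙 W) j) ≫ 𝟙 W ≫
      eqToHom (IsHomLift.codomain_eq (FibCat.overCat T : AlgSt.Cat S).p (𝟙 W) j).symm :=
    IsHomLift.fac' (FibCat.overCat T : AlgSt.Cat S).p (𝟙 W) j
  show eqToHom _ ≫ (Φ.obj _).hom = _
  rw [← Over.w j, hf]
  simp

theorem overMk_secHom {T : Over S} {F : Sp S} (Φ : AlgSt.ofSp F ⥤ᵇ FibCat.overCat T) (a : (AlgSt.ofSp F).obj) :
    Over.mk (AlgSt.secHom Φ a) = Φ.obj a := by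
  have key : ∀ (c : Over T) (W : Over S) (hc : c.left = W), Over.mk (eqToHom hc.symm ≫ c.hom) = c := by
    intro c W hc
    subst hc
    simp
    rfl
  exact key _ _ (Φ.w_obj a)

/-- A map of spaces over which the lifts are unique is an isomorphism after base change. -/
theorem isIso_pullback_of_uniqAt (h𝒳 : FibCat.IsFibGrpd 𝒳.p) {g : 𝒳 ⥤ᵇ 𝒴} {T T' : Over S}
    (G : FibCat.overCat T ⥤ᵇ FibCat.fp g g) {F : AlgSp.Space S}
    (e : AlgSt.ofSp F.obj ⥤ᵇ FibCat.fp G (FibCat.diag g)) (he : FibCat.IsEquivOver e) (r : T' ⟶ T)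
    (hr : ∀ (W : Over S) (l : W ⟶ T'), UniqAt g (G.obj (Over.mk (l ≫ r)))) :
    IsIso (pullback.snd (AlgSt.spMapOfOver (BasedFunctor.comp e (FibCat.fpFst G (FibCat.diag g))))
      ((yon S).map r)) := by
  let Φ := BasedFunctor.comp e (FibCat.fpFst G (FibCat.diag g))
  let m := AlgSt.spMapOfOver Φ
  have := full_of_isEquivOver he
  have := faithful_of_isEquivOver he
  -- sections over `r`
  have hex : ∀ (W : Over S) (t : W ⟶ T), UniqAt g (G.obj (Over.mk t)) →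
      ∃ x : F.obj.obj.obj (op W), AlgSt.secHom Φ ⟨W, x⟩ = t := fun W t h => by
    obtain ⟨d, ι, hι⟩ := exists_diag_obj h𝒳 G (Over.mk t) h
    let o : (FibCat.fp G (FibCat.diag g)).obj := ⟨⟨Over.mk t, d, ι⟩, hι⟩
    obtain ⟨⟨W₀, x⟩, i, hi⟩ := exists_iso_over_of_isEquivOver he (S := W) (η := o) rfl
    have hW : W₀ = W :=
      (e.w_obj _).symm.trans (IsHomLift.domain_eq (FibCat.fp G (FibCat.diag g)).p (𝟙 W) i.hom)
    subst hW
    refine ⟨x, ?_⟩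
    have hjl : (FibCat.overCat T : AlgSt.Cat S).p.IsHomLift (𝟙 W₀)
        ((FibCat.fpFst G (FibCat.diag g)).map i.hom) :=
      haveI := hi
      (FibCat.fpFst G (FibCat.diag g)).preserves_isHomLift (𝟙 W₀) i.hom
    exact secHom_eq_of_lift Φ ((FibCat.fpFst G (FibCat.diag g)).map i.hom) hjl
  have huniq : ∀ (W : Over S) (x x' : F.obj.obj.obj (op W)),
      AlgSt.secHom Φ ⟨W, x⟩ = AlgSt.secHom Φ ⟨W, x'⟩ →
      UniqAt g (G.obj (Over.mk (AlgSt.secHom Φ ⟨W, x⟩))) → x = x' := fun W x x' hxx h => by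
    let o := e.obj ⟨W, x⟩
    let o' := e.obj ⟨W, x'⟩
    have hw₁ := Φ.w_obj ⟨W, x⟩
    have hw₂ := Φ.w_obj ⟨W, x'⟩
    let σ : o.obj.fst ≅ o'.obj.fst := Over.isoMk (eqToIso (hw₁.trans hw₂.symm)) (by
      have hxx' : eqToHom hw₁.symm ≫ o.obj.fst.hom = eqToHom hw₂.symm ≫ o'.obj.fst.hom := hxx
      show eqToHom (hw₁.trans hw₂.symm) ≫ o'.obj.fst.hom = o.obj.fst.hom
      rw [← cancel_epi (eqToHom hw₁.symm), hxx', ← Category.assoc, eqToHom_trans])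
    have hσ : (FibCat.overCat T : AlgSt.Cat S).p.IsHomLift (𝟙 W) σ.hom :=
      IsHomLift.of_fac' _ _ _ hw₁ hw₂ (by
        show eqToHom (hw₁.trans hw₂.symm) = eqToHom hw₁ ≫ 𝟙 W ≫ eqToHom hw₂.symm
        simp)
    have h' : UniqAt g (G.obj o.obj.fst) := by rw [overMk_secHom] at h; exact h
    obtain ⟨i, hi⟩ := exists_diag_iso G o o' σ hσ h'
    obtain ⟨φ, hφ⟩ := e.toFunctor.map_surjective
      (X := (⟨W, x⟩ : (AlgSt.ofSp F.obj).obj)) (Y := ⟨W, x'⟩) i.hom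
    have hl : (AlgSt.ofSp F.obj).p.IsHomLift (𝟙 W) φ := by
      rw [← e.isHomLift_iff, hφ]; exact hi
    have hφ' : φ.hom = 𝟙 W := map_eq_of_isHomLift_id hl
    have hsec := φ.map_sec
    rw [hφ'] at hsec
    simpa using hsec.symm
  obtain ⟨x₀, hx₀⟩ := hex T' r (by simpa using hr T' (𝟙 T'))
  let z : (yon S).obj T' ⟶ F.obj := (J S).uliftYonedaEquiv.symm x₀
  -- the value of a point
  have hval : ∀ {W : Over S} (w : (yon S).obj W ⟶ F.obj) (t : W ⟶ T), w ≫ m = (yon S).map t →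
      AlgSt.secHom Φ ⟨W, (J S).uliftYonedaEquiv w⟩ = t := fun {W} w t hw => by
    have h1 := congrArg (J S).uliftYonedaEquiv hw
    rw [GrothendieckTopology.uliftYonedaEquiv_comp] at h1
    have h2 : (⟨AlgSt.secHom Φ ⟨W, (J S).uliftYonedaEquiv w⟩⟩ : ULift (W ⟶ T)) = ⟨𝟙 W ≫ t⟩ := h1
    exact (congrArg ULift.down h2).trans (Category.id_comp t)
  have hz : z ≫ m = (yon S).map r := by
    apply (J S).uliftYonedaEquiv.injective
    rw [GrothendieckTopology.uliftYonedaEquiv_comp, Equiv.apply_symm_apply]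
    show (⟨AlgSt.secHom Φ ⟨T', x₀⟩⟩ : ULift (T' ⟶ T)) = ⟨𝟙 T' ≫ r⟩
    rw [hx₀, Category.id_comp]
  let P := pullback m ((yon S).map r)
  let sec : (yon S).obj T' ⟶ P := pullback.lift z (𝟙 _) (hz.trans (Category.id_comp _).symm)
  refine ⟨sec, SheafGlue.hom_ext_points fun W w => ?_, pullback.lift_snd _ _ _⟩
  obtain ⟨l, hl⟩ := (yon S).map_surjective (w ≫ pullback.snd m ((yon S).map r))
  rw [Category.comp_id, ← Category.assoc w]
  refine pullback.hom_ext ?_ (by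
    simp only [Category.assoc]
    erw [pullback.lift_snd]
    exact congrArg (w ≫ ·) (Category.comp_id _))
  rw [Category.assoc, pullback.lift_fst, ← hl]
  apply (J S).uliftYonedaEquiv.injective
  have h₁ : ((yon S).map l ≫ z) ≫ m = (yon S).map (l ≫ r) := by rw [Category.assoc, hz, ← Functor.map_comp]
  have h₂ : (w ≫ pullback.fst m ((yon S).map r)) ≫ m = (yon S).map (l ≫ r) := by
    rw [Category.assoc, pullback.condition, ← Category.assoc, ← hl, ← Functor.map_comp]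
  refine huniq W _ _ ((hval _ _ h₁).trans (hval _ _ h₂).symm) ?_
  rw [hval _ _ h₁]
  exact hr W l

/-- A functor represented by isomorphisms is an equivalence. -/
theorem isEquivOver_of_rep_iso {f : 𝒳 ⥤ᵇ 𝒴} (h𝒴 : FibCat.IsFibGrpd 𝒴.p)
    (hf : AlgSt.RepByAlgSpWith (MorphismProperty.isomorphisms (Sp S)) f) : FibCat.IsEquivOver f := by
  have hm : AlgSt.IsMono f := repByAlgSpWith_mono
    (fun _ _ m (h : IsIso m) => (inferInstance : Mono m)) hf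
  obtain ⟨_, _⟩ := full_faithful_of_isMono h𝒴 hm
  refine isEquivOver_of_exists_iso f inferInstance inferInstance fun y => ?_
  obtain ⟨Y, i, hi⟩ := exists_overCat_obj h𝒴 y rfl
  obtain ⟨F, e, he, hP⟩ := hf (𝒴.p.obj y) Y
  have : IsIso (AlgSt.spMapOfOver (BasedFunctor.comp e (FibCat.fpFst Y f))) := hP
  have hq : FibCat.IsEquivOver (BasedFunctor.comp e (FibCat.fpFst Y f)) :=
    isEquivOver_of_iso (isoSpMapOfOver _).symm
      (isEquivOver_comp (isEquivOver_ofSpMap _) (isEquivOver_toOverCat _))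
  obtain ⟨g, -, -, ⟨j⟩⟩ := isEquivOver_inv hq
  let o := e.obj (g.obj (Over.mk (𝟙 (𝒴.p.obj y))))
  let c : (FibCat.overCat (𝒴.p.obj y) : AlgSt.Cat S).obj := Over.mk (𝟙 (𝒴.p.obj y))
  have h₁ : 𝒴.p.IsHomLift (𝟙 (𝒴.p.obj y)) o.obj.iso.hom :=
    isHomLift_id_congr ((e.w_obj _).trans (g.w_obj c)) o.property
  have h₁' : 𝒴.p.IsHomLift (𝟙 (𝒴.p.obj y)) o.obj.iso.inv := IsHomLift.lift_id_inv 𝒴.p _ o.obj.iso
  have h₂ : (FibCat.overCat (𝒴.p.obj y) : AlgSt.Cat S).p.IsHomLift (𝟙 (𝒴.p.obj y)) (isoApp j c).hom :=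
    BasedNatTrans.isHomLift j.hom rfl
  have h₃ : 𝒴.p.IsHomLift (𝟙 (𝒴.p.obj y)) (Y.map (isoApp j c).hom) :=
    Y.preserves_isHomLift (𝟙 (𝒴.p.obj y)) _
  have h₄ : 𝒴.p.IsHomLift (𝟙 (𝒴.p.obj y) ≫ 𝟙 (𝒴.p.obj y) ≫ 𝟙 (𝒴.p.obj y))
      (o.obj.iso.inv ≫ Y.map (isoApp j c).hom ≫ i.hom) := inferInstance
  rw [Category.id_comp, Category.id_comp] at h₄
  exact ⟨o.obj.snd, o.obj.iso.symm ≪≫ Y.toFunctor.mapIso (isoApp j c) ≪≫ i, h₄⟩

variable {k k₁ : Type u} [Field k] [Field k₁] {a : Spec (CommRingCat.of k) ⟶ S}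
  {a₁ : Spec (CommRingCat.of k₁) ⟶ S}

/-- Two field valued charts with the same point have a common extension. -/
theorem exists_common_field (h𝒳 : FibCat.IsFibGrpd 𝒳.p) (pA : FibCat.overCat (Over.mk a) ⥤ᵇ 𝒳)
    (p₁ : FibCat.overCat (Over.mk a₁) ⥤ᵇ 𝒳) [Subsingleton (AlgSt.Points 𝒳)] :
    ∃ (Ω : Over S) (σ : Ω ⟶ Over.mk a) (σ₁ : Ω ⟶ Over.mk a₁),
      Flat σ₁.left ∧ Surjective σ₁.left ∧ QuasiCompact σ₁.left ∧
        Nonempty (BasedFunctor.comp (AlgSt.overMap σ) pA ≅ BasedFunctor.comp (AlgSt.overMap σ₁) p₁) := by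
  obtain ⟨w, -, -⟩ := exists_pts_fp (isFibGrpd_overCat (Over.mk a₁)) h𝒳 (isFibGrpd_overCat (Over.mk a)) p₁ pA
    (ptAt (Over.mk a) (IsLocalRing.closedPoint k)) (ptAt (Over.mk a₁) (IsLocalRing.closedPoint k₁))
    (Subsingleton.elim _ _)
  obtain ⟨⟨K, str, o, lies⟩, -⟩ := AlgSt.Points.mk_surjective w
  obtain ⟨⟨⟨L, ⟨⟨⟩⟩, σ⟩, ⟨L₂, ⟨⟨⟩⟩, σ₁⟩, i⟩, hi⟩ := o
  obtain rfl : L = Over.mk str := lies
  obtain rfl : L₂ = Over.mk str := (snd_proj (F := pA) (G := p₁) (⟨⟨_, _, i⟩, hi⟩ : (FibCat.fp pA p₁).obj)).trans rfl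
  have hfl : Flat (σ₁.left : Spec (CommRingCat.of K) ⟶ Spec (CommRingCat.of k₁)) := OnePt.flat_of_field _
  have hsu : Surjective (σ₁.left : Spec (CommRingCat.of K) ⟶ Spec (CommRingCat.of k₁)) :=
    ⟨fun x => ⟨IsLocalRing.closedPoint K, Subsingleton.elim (α := PrimeSpectrum k₁) _ _⟩⟩
  have hq : ∀ f : Spec (CommRingCat.of K) ⟶ Spec (CommRingCat.of k₁), QuasiCompact f := fun f => inferInstance
  have hqc : QuasiCompact (σ₁.left : Spec (CommRingCat.of K) ⟶ Spec (CommRingCat.of k₁)) := hq _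
  refine ⟨Over.mk str, σ, σ₁, hfl, hsu, hqc, ?_⟩
  let c₁ : (AlgSt.overMap σ : _ ⥤ᵇ FibCat.overCat (Over.mk a)).obj (Over.mk (𝟙 _)) ≅ Over.mk σ :=
    Over.isoMk (Iso.refl _) (by show 𝟙 _ ≫ σ = 𝟙 _ ≫ σ; rfl)
  let c₂ : (AlgSt.overMap σ₁ : _ ⥤ᵇ FibCat.overCat (Over.mk a₁)).obj (Over.mk (𝟙 _)) ≅ Over.mk σ₁ :=
    Over.isoMk (Iso.refl _) (by show 𝟙 _ ≫ σ₁ = 𝟙 _ ≫ σ₁; rfl)
  have h₁ : 𝒳.p.IsHomLift (𝟙 (Over.mk str)) (pA.map c₁.hom) := by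
    have : (FibCat.overCat (Over.mk a) : AlgSt.Cat S).p.IsHomLift (𝟙 (Over.mk str)) c₁.hom :=
      IsHomLift.of_fac' _ _ _ rfl rfl (by simp [c₁]; rfl)
    exact pA.preserves_isHomLift _ _
  have h₂ : 𝒳.p.IsHomLift (𝟙 (Over.mk str)) (p₁.map c₂.inv) := by
    have : (FibCat.overCat (Over.mk a₁) : AlgSt.Cat S).p.IsHomLift (𝟙 (Over.mk str)) c₂.inv :=
      IsHomLift.of_fac' _ _ _ rfl rfl (by simp [c₂]; rfl)
    exact p₁.preserves_isHomLift _ _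
  have h₃ : 𝒳.p.IsHomLift (𝟙 (Over.mk str)) i.hom := hi
  have h₄ : 𝒳.p.IsHomLift (𝟙 (Over.mk str) ≫ 𝟙 (Over.mk str) ≫ 𝟙 (Over.mk str))
      (pA.map c₁.hom ≫ i.hom ≫ p₁.map c₂.inv) := inferInstance
  rw [Category.id_comp, Category.id_comp] at h₄
  exact exists_iso_of_eval h𝒳 _ _ (pA.map c₁.hom ≫ i.hom ≫ p₁.map c₂.inv) h₄

theorem isHomLift_over_id {T W : Over S} {c d : (FibCat.overCat T : AlgSt.Cat S).obj} (j : c ⟶ d)
    (hc : c.left = W) (hd : d.left = W) (h : j.left = eqToHom (hc.trans hd.symm)) :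
    (FibCat.overCat T : AlgSt.Cat S).p.IsHomLift (𝟙 W) j :=
  IsHomLift.of_fac' _ _ _ hc hd (by
    show j.left = eqToHom hc ≫ 𝟙 W ≫ eqToHom hd.symm
    simp [h])

/-- Unique lifting on one field valued chart gives full faithfulness. -/
theorem full_faithful_of_chart (hA : AlgSt.IsAlgStack K₀ 𝒳) (hB : AlgSt.IsAlgStack K₀ 𝒴) (g : 𝒳 ⥤ᵇ 𝒴)
    [Subsingleton (AlgSt.Points 𝒳)]
    {p₁ : FibCat.overCat (Over.mk a₁) ⥤ᵇ 𝒳}
    (hlfp : AlgSt.RepByAlgSpWith (LocP @LocallyOfFinitePresentation) p₁)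
    (hsurj : AlgSt.RepByAlgSpWith IsSurjectiveMor p₁) (hflat : AlgSt.RepByAlgSpWith (LocP @Flat) p₁)
    (pA : FibCat.overCat (Over.mk a) ⥤ᵇ 𝒳)
    (hc : ∀ (α β : (FibCat.overCat (Over.mk a) : AlgSt.Cat S).obj) (φ : g.obj (pA.obj α) ≅ g.obj (pA.obj β)),
      𝒴.p.IsHomLift (𝟙 α.left) φ.hom → ∃! ψ : pA.obj α ⟶ pA.obj β, g.map ψ = φ.hom) :
    g.toFunctor.Full ∧ g.toFunctor.Faithful := by
  refine (S6399.result g hA.isStack.1 hB.isStack.1).2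
    (isEquivOver_of_rep_iso (fp_isFibGrpd hA.isStack.1 hA.isStack.1 hB.isStack.1) ?_)
  obtain ⟨Ω, σ, σ₁, hσf, hσs, hσq, ⟨jΩ⟩⟩ := exists_common_field hA.isStack.1 pA p₁
  have hk := isFibGrpd_overCat (S := S) (Over.mk a₁)
  have hA' := hA.isStack.1
  have hB' := hB.isStack.1
  have hl : LocEssSurj (pairMap p₁ p₁ g) := locEssSurj_of_repByAlgSp
    (repByAlgSpWith_fpPair stableBC_locP stableComp_locP (fun _ hG a ha => locP_of_repBySpWith hG a ha)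
      hk hk hA' hA' hB' hflat hflat)
    (repByAlgSpWith_fpPair stableBC_locP stableComp_locP (fun _ hG a ha => locP_of_repBySpWith hG a ha)
      hk hk hA' hA' hB' hlfp hlfp)
    (repByAlgSpWith_fpPair stableBC_isSurjectiveMor stableComp_isSurjectiveMor
      (fun _ hG a ha => isSurjectiveMor_of_repBySpWith hG a ha) hk hk hA' hA' hB' hsurj hsurj)
  have hΔ : AlgSt.RepByAlgSp1 (FibCat.diag g) := repByAlgSp1_diag hA.diag hB.diag g
  refine repByAlgSpWith_of_locEssSurj stableBC_of (isLocalOnBase_fppf_of_fpqc isLocalOnBase_fpqc_isomorphisms)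
    hΔ hl fun U z => ?_
  let G := BasedFunctor.comp z (pairMap p₁ p₁ g)
  obtain ⟨F, e, he⟩ := hΔ U G
  obtain ⟨k', hk', -, ⟨i'⟩⟩ := isEquivOver_inv (pasteVert_isEquivOver z (pairMap p₁ p₁ g) (FibCat.diag g))
  refine RepOver.of_equiv ⟨F, e, he, ?_⟩ k' hk' (whiskerRightIso i' (FibCat.fpFst G (FibCat.diag g)))
  show IsIso (AlgSt.spMapOfOver (BasedFunctor.comp e (FibCat.fpFst G (FibCat.diag g))))
  let q₁ := BasedFunctor.comp z (FibCat.fpFst (BasedFunctor.comp p₁ g) (BasedFunctor.comp p₁ g))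
  let q₂ := BasedFunctor.comp z (FibCat.fpSnd (BasedFunctor.comp p₁ g) (BasedFunctor.comp p₁ g))
  obtain ⟨α, ⟨iα⟩⟩ := GerbFlat.exists_overMap_iso q₁
  obtain ⟨β, ⟨iβ⟩⟩ := GerbFlat.exists_overMap_iso q₂
  let f₁ := pullback.fst α σ₁
  let f₂ := pullback.fst (f₁ ≫ β) σ₁
  let r := f₂ ≫ f₁
  have hfl : Flat r.left := MorphismProperty.comp_mem @Flat _ _
    (MorphismProperty.of_isPullback ((IsPullback.of_hasPullback (f₁ ≫ β) σ₁).flip.map (Over.forget S)) hσf)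
    (MorphismProperty.of_isPullback ((IsPullback.of_hasPullback α σ₁).flip.map (Over.forget S)) hσf)
  have hsu : Surjective r.left := MorphismProperty.comp_mem @Surjective _ _
    (MorphismProperty.of_isPullback ((IsPullback.of_hasPullback (f₁ ≫ β) σ₁).flip.map (Over.forget S)) hσs)
    (MorphismProperty.of_isPullback ((IsPullback.of_hasPullback α σ₁).flip.map (Over.forget S)) hσs)
  have hqc : QuasiCompact r.left := MorphismProperty.comp_mem @QuasiCompact _ _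
    (MorphismProperty.of_isPullback ((IsPullback.of_hasPullback (f₁ ≫ β) σ₁).flip.map (Over.forget S)) hσq)
    (MorphismProperty.of_isPullback ((IsPullback.of_hasPullback α σ₁).flip.map (Over.forget S)) hσq)
  have hT := IsAlgSpace.yon_obj (S := S) (pullback (f₁ ≫ β) σ₁)
  have hU := IsAlgSpace.yon_obj (S := S) U
  have hcov := isFpqcCover_of_qc_flat_surjective hT hU ((yon S).map r)
    (AlgSpPts.isQuasiCompactMor_of_repWith ((repWith_yon_map_iff _ _).2 hqc))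
    (locP_of_repWith ((repWith_yon_map_iff _ _).2 hfl))
    (surjective_map_of_repWith ((repWith_yon_map_iff _ _).2 hsu))
  refine isIso_of_fpqc (p := fun _ : PUnit.{u+1} => pullback.snd _ ((yon S).map r))
    (q := fun _ => pullback.fst _ _) F.property hU (fun _ => hT)
    (fun _ => isAlgSpace_pullback F.property hT hU _ _) hcov (fun _ => IsPullback.of_hasPullback _ _) fun _ => ?_
  refine isIso_pullback_of_uniqAt hA' G e he r fun W l => ?_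
  let t : (FibCat.overCat U : AlgSt.Cat S).obj := Over.mk (l ≫ r)
  let ζ := z.obj t
  let la : W ⟶ Ω := l ≫ f₂ ≫ pullback.snd α σ₁
  let lb : W ⟶ Ω := l ≫ pullback.snd (f₁ ≫ β) σ₁
  have hla : la ≫ σ₁ = (l ≫ r) ≫ α := by
    simp only [la, r, f₁, Category.assoc, pullback.condition]
  have hlb : lb ≫ σ₁ = (l ≫ r) ≫ β := by
    simp only [lb, r, Category.assoc]
    rw [← pullback.condition]
  let ca : (AlgSt.overMap σ₁ : _ ⥤ᵇ FibCat.overCat (Over.mk a₁)).obj (Over.mk la) ≅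
      (AlgSt.overMap α : _ ⥤ᵇ FibCat.overCat (Over.mk a₁)).obj t :=
    Over.isoMk (Iso.refl W) (by show 𝟙 W ≫ (l ≫ r) ≫ α = la ≫ σ₁; simp [hla])
  let cb : (AlgSt.overMap σ₁ : _ ⥤ᵇ FibCat.overCat (Over.mk a₁)).obj (Over.mk lb) ≅
      (AlgSt.overMap β : _ ⥤ᵇ FibCat.overCat (Over.mk a₁)).obj t :=
    Over.isoMk (Iso.refl W) (by show 𝟙 W ≫ (l ≫ r) ≫ β = lb ≫ σ₁; simp [hlb])
  let u₁ : pA.obj ((AlgSt.overMap σ).obj (Over.mk la)) ≅ p₁.obj ζ.obj.fst :=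
    isoApp jΩ (Over.mk la) ≪≫ p₁.toFunctor.mapIso (ca ≪≫ (isoApp iα t).symm)
  let u₂ : pA.obj ((AlgSt.overMap σ).obj (Over.mk lb)) ≅ p₁.obj ζ.obj.snd :=
    isoApp jΩ (Over.mk lb) ≪≫ p₁.toFunctor.mapIso (cb ≪≫ (isoApp iβ t).symm)
  have hu₁ : 𝒳.p.IsHomLift (𝟙 W) u₁.hom := by
    have : (FibCat.overCat (Over.mk a₁) : AlgSt.Cat S).p.IsHomLift (𝟙 W) ca.hom :=
      isHomLift_over_id _ rfl rfl rfl
    have : (FibCat.overCat (Over.mk a₁) : AlgSt.Cat S).p.IsHomLift (𝟙 W) (isoApp iα t).inv :=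
      BasedNatTrans.isHomLift iα.inv rfl
    have : 𝒳.p.IsHomLift (𝟙 W) (p₁.map (ca.hom ≫ (isoApp iα t).inv)) := p₁.preserves_isHomLift _ _
    have : 𝒳.p.IsHomLift (𝟙 W) (isoApp jΩ (Over.mk la)).hom := BasedNatTrans.isHomLift jΩ.hom rfl
    exact IsHomLift.comp_lift_id_right (p := 𝒳.p) (𝟙 W) (isoApp jΩ (Over.mk la)).hom
      (p₁.map (ca.hom ≫ (isoApp iα t).inv))
  have hu₂ : 𝒳.p.IsHomLift (𝟙 W) u₂.hom := by
    have : (FibCat.overCat (Over.mk a₁) : AlgSt.Cat S).p.IsHomLift (𝟙 W) cb.hom :=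
      isHomLift_over_id _ rfl rfl rfl
    have : (FibCat.overCat (Over.mk a₁) : AlgSt.Cat S).p.IsHomLift (𝟙 W) (isoApp iβ t).inv :=
      BasedNatTrans.isHomLift iβ.inv rfl
    have : 𝒳.p.IsHomLift (𝟙 W) (p₁.map (cb.hom ≫ (isoApp iβ t).inv)) := p₁.preserves_isHomLift _ _
    have : 𝒳.p.IsHomLift (𝟙 W) (isoApp jΩ (Over.mk lb)).hom := BasedNatTrans.isHomLift jΩ.hom rfl
    exact IsHomLift.comp_lift_id_right (p := 𝒳.p) (𝟙 W) (isoApp jΩ (Over.mk lb)).hom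
      (p₁.map (cb.hom ≫ (isoApp iβ t).inv))
  have h₂' : 𝒳.p.IsHomLift (𝟙 W) u₂.inv := IsHomLift.lift_id_inv 𝒳.p W u₂
  have hφ : 𝒴.p.IsHomLift (𝟙 W) ζ.obj.iso.hom := isHomLift_id_congr (z.w_obj t) ζ.property
  have hg₁ : 𝒴.p.IsHomLift (𝟙 W) (g.map u₁.hom) := g.preserves_isHomLift _ _
  have hg₂ : 𝒴.p.IsHomLift (𝟙 W) (g.map u₂.inv) := g.preserves_isHomLift _ _
  have h : 𝒴.p.IsHomLift (𝟙 W ≫ 𝟙 W ≫ 𝟙 W) (g.map u₁.hom ≫ ζ.obj.iso.hom ≫ g.map u₂.inv) := inferInstance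
  rw [Category.id_comp, Category.id_comp] at h
  exact existsUnique_conj g u₁ u₂ ζ.obj.iso.hom
    (hc _ _ (g.toFunctor.mapIso u₁ ≪≫ ζ.obj.iso ≪≫ g.toFunctor.mapIso u₂.symm) h)

end Groth.Agent.AlgStLib.GerbEq
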