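import Groth.Agent.AlgStLib.QuasiCompact
import Groth.Agent.AlgStLib.ProdMap

/-!
# Quasi-compactness of diagonals descends along universal homeomorphisms
-/

set_option linter.style.haveILetI false
set_option backward.isDefEq.respectTransparency false
set_option backward.isDefEq.respectTransparency.types false

universe u

open CategoryTheory CategoryTheory.Functor CategoryTheory.Limits AlgebraicGeometry Opposite AlgSp

namespace Groth.Agent.AlgStLib

open Groth.Agent.FibBase Groth.Agent.AlgSpLib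

variable {S : Scheme.{u}} {𝒳 𝒴 : AlgSt.Cat S}

local notation "K₀" => Scheme.fppfPrecoverage

/-- Universal homeomorphisms are quasi-compact. -/
theorem isQuasiCompactMor_of_isUnivHomeo (h𝒳 : AlgSt.IsAlgStack K₀ 𝒳) (h𝒴 : AlgSt.IsAlgStack K₀ 𝒴)
    {f : 𝒳 ⥤ᵇ 𝒴} (hf : AlgSt.IsUnivHomeo K₀ f) : AlgSt.IsQuasiCompactMor K₀ f := fun 𝒯 h𝒯 hq g => by
  have hW := isAlgStack_fp h𝒯 h𝒳 h𝒴.isStack h𝒴.diag g f
  have := (isQuasiCompact_iff_compactSpace_points h𝒯.isStack.1 h𝒯.atlas).1 hq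
  refine (isQuasiCompact_iff_compactSpace_points hW.isStack.1 hW.atlas).2 ?_
  exact (hf 𝒯 h𝒯 g).homeomorph.symm.compactSpace

/-- Quasi-compactness of the diagonal passes to the target of a universal homeomorphism. -/
theorem isQuasiCompactMor_diag_of_isUnivHomeo (h𝒳 : AlgSt.IsAlgStack K₀ 𝒳) (h𝒴 : AlgSt.IsAlgStack K₀ 𝒴)
    {f : 𝒳 ⥤ᵇ 𝒴} (hf : AlgSt.IsUnivHomeo K₀ f) (hs : AlgSt.IsSurjective f)
    (hΔ : AlgSt.IsQuasiCompactMor K₀ (FibCat.diag (FibCat.toSelf 𝒳))) :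
    AlgSt.IsQuasiCompactMor K₀ (FibCat.diag (FibCat.toSelf 𝒴)) := by
  let p' := FibCat.toSelf 𝒴
  rw [show FibCat.toSelf 𝒳 = BasedFunctor.comp f p' from (eq_toSelf _).symm] at hΔ
  have hA := isAlgStack_fp h𝒴 h𝒴 isStack_selfOver repByAlgSpWith_diag_toSelf_selfOver p' p'
  have hB := isAlgStack_fp hA h𝒳 h𝒴.isStack h𝒴.diag (FibCat.fpFst p' p') f
  have hD := isAlgStack_fp h𝒳 h𝒳 isStack_selfOver repByAlgSpWith_diag_toSelf_selfOver
    (BasedFunctor.comp f p') (BasedFunctor.comp f p')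
  have hfq := isQuasiCompactMor_of_isUnivHomeo h𝒳 h𝒴 hf
  have hsteps : AlgSt.IsQuasiCompactMor K₀
      (BasedFunctor.comp (pairStep₂ p' p' f f) (pairStep₁ p' p' f)) :=
    isQuasiCompactMor_comp hB hA.isStack hA.diag
      (isQuasiCompactMor_fpFst (BasedFunctor.comp (pairStep₁ p' p' f) (FibCat.fpSnd p' p')) hfq)
      (isQuasiCompactMor_fpFst (FibCat.fpFst p' p') hfq)
  have hcomp : AlgSt.IsQuasiCompactMor K₀ (BasedFunctor.comp (pairEquiv p' p' f f) (fpPair p' p' f f)) :=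
    isQuasiCompactMor_of_iso (pairIso p' p' f f) hsteps
  haveI : (BasedFunctor.id (FibCat.fp p' p')).toFunctor.Full := inferInstanceAs (𝟭 _).Full
  haveI : (BasedFunctor.id (FibCat.fp p' p')).toFunctor.Faithful := inferInstanceAs (𝟭 _).Faithful
  have hpair : AlgSt.IsQuasiCompactMor K₀ (fpPair p' p' f f) := fun 𝒯 h𝒯 hq g =>
    isQuasiCompact_of_equiv
      (fpMap_isEquivOver (F := g) (G := fpPair p' p' f f) (F' := g)
        (G' := BasedFunctor.comp (pairEquiv p' p' f f) (fpPair p' p' f f)) (a := BasedFunctor.id _)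
        (b := pairEquiv p' p' f f) (c := BasedFunctor.id _) (Iso.refl _) (Iso.refl _)
        isEquivOver_id (pairEquiv_isEquivOver p' p' f f)) (hcomp 𝒯 h𝒯 hq g)
  let d : BasedFunctor.comp (FibCat.diag (BasedFunctor.comp f p')) (fpPair p' p' f f) ≅
      BasedFunctor.comp f (FibCat.diag p') :=
    BasedNatIso.mkNatIso (NatIso.ofComponents (fun x => fpIsoMk (Iso.refl _) (Iso.refl _) (by
        show p'.map (𝟙 _) ≫ 𝟙 _ = 𝟙 _ ≫ p'.map (𝟙 _)
        simp))
      (fun {x z} φ => by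
        refine ObjectProperty.hom_ext _ (CategoricalPullback.hom_ext ?_ ?_)
        · show f.map φ ≫ 𝟙 _ = 𝟙 _ ≫ f.map φ
          simp
        · show f.map φ ≫ 𝟙 _ = 𝟙 _ ≫ f.map φ
          simp))
      (fun x => fp_isHomLift (F := p') (G := p') (𝟙 _) _ (h := IsHomLift.id (p := 𝒴.p) (f.w_obj x)))
  have hfd : AlgSt.IsQuasiCompactMor K₀ (BasedFunctor.comp f (FibCat.diag p')) :=
    isQuasiCompactMor_of_iso d (isQuasiCompactMor_comp hD hA.isStack hA.diag hΔ hpair)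
  intro 𝒯 h𝒯 hq g
  have hP := isAlgStack_fp h𝒯 h𝒴 hA.isStack hA.diag g (FibCat.diag p')
  refine isQuasiCompact_of_surjective (fp_isFibGrpd (F := FibCat.fpSnd g (FibCat.diag p')) (G := f)
      hP.isStack.1 h𝒳.isStack.1 h𝒴.isStack.1) hP
    (pts_surjective_fpFst h𝒳.isStack.1 h𝒴.isStack.1 hP.isStack.1 (FibCat.fpSnd g (FibCat.diag p')) hs) ?_
  exact isQuasiCompact_of_equiv' (pasteHor_isEquivOver g f (FibCat.diag p')) (hfd 𝒯 h𝒯 hq g)

end Groth.Agent.AlgStLib
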