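import Groth.Agent.AlgStLib.DiagLFT

/-!
# Graphs, sections and the comparison of fibre products
-/

set_option backward.isDefEq.respectTransparency false
set_option backward.isDefEq.respectTransparency.types false

universe u

open CategoryTheory CategoryTheory.Functor CategoryTheory.Limits AlgebraicGeometry Opposite AlgSp

namespace Groth.Agent.AlgStLib

open Groth.Agent.FibBase Groth.Agent.AlgSpLib

variable {S : Scheme.{u}} {𝒳 𝒴 𝒵 𝒯 : AlgSt.Cat S} {P : MorphismProperty (Sp S)}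

theorem fpSnd_id_isEquivOver (H : 𝒳 ⥤ᵇ 𝒴) :
    FibCat.IsEquivOver (FibCat.fpSnd (BasedFunctor.id 𝒴) H) :=
  isEquivOver_of_iso (Iso.refl _) (isEquivOver_comp (fpSwap_isEquivOver _ _) (fpFst_id_isEquivOver H))

/-- A graph is a base change of the diagonal. -/
theorem repByAlgSpWith_graph {p : 𝒳 ⥤ᵇ 𝒯} {q : 𝒴 ⥤ᵇ 𝒯} {g : 𝒳 ⥤ᵇ 𝒴}
    (e : BasedFunctor.comp (BasedFunctor.id 𝒳) p ≅ BasedFunctor.comp g q)
    (hq : AlgSt.RepByAlgSpWith P (FibCat.diag q)) :
    AlgSt.RepByAlgSpWith P (FibCat.fpLift (BasedFunctor.id 𝒳) g e) := by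
  have : (BasedFunctor.id 𝒯).toFunctor.Full := inferInstanceAs (𝟭 _).Full
  have : (BasedFunctor.id 𝒯).toFunctor.Faithful := inferInstanceAs (𝟭 _).Faithful
  let b : FibCat.fp (BasedFunctor.comp g q) (BasedFunctor.comp (BasedFunctor.id 𝒴) q) ⥤ᵇ FibCat.fp p q :=
    fpMap (F := p) (G := q) (F' := BasedFunctor.comp g q) (G' := BasedFunctor.comp (BasedFunctor.id 𝒴) q)
      (a := BasedFunctor.id 𝒳) (b := BasedFunctor.id 𝒴) (c := BasedFunctor.id 𝒯) e (Iso.refl _)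
  have hb : FibCat.IsEquivOver b := fpMap_isEquivOver _ _ isEquivOver_id isEquivOver_id
  refine (repByAlgSpWith_iff_of_square (f' := weaken g (BasedFunctor.id 𝒴) q)
    (f := FibCat.fpLift (BasedFunctor.id 𝒳) g e) (a := FibCat.fpFst g (BasedFunctor.id 𝒴)) (b := b)
    (fpFst_id_isEquivOver g) hb ?_).2 (repByAlgSpWith_weaken g (BasedFunctor.id 𝒴) q hq)
  refine BasedNatIso.mkNatIso (NatIso.ofComponents
    (fun x => fpIsoMk (x := (BasedFunctor.comp (weaken g (BasedFunctor.id 𝒴) q) b).obj x)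
      (y := (BasedFunctor.comp (FibCat.fpFst g (BasedFunctor.id 𝒴))
        (FibCat.fpLift (BasedFunctor.id 𝒳) g e)).obj x)
      (Iso.refl _) x.obj.iso.symm ?_) (fun {x z} φ => ?_)) (fun x => ?_)
  · show p.map (𝟙 _) ≫ (isoApp e x.obj.fst).hom =
      ((isoApp e x.obj.fst).hom ≫ q.map x.obj.iso.hom ≫ 𝟙 _) ≫ q.map x.obj.iso.inv
    rw [p.toFunctor.map_id, Category.id_comp, Category.comp_id, Category.assoc, ← q.toFunctor.map_comp,
      Iso.hom_inv_id, q.toFunctor.map_id]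
    exact (Category.comp_id _).symm
  · refine ObjectProperty.hom_ext _ (CategoricalPullback.hom_ext ?_ ?_)
    · show φ.hom.fst ≫ 𝟙 _ = 𝟙 _ ≫ φ.hom.fst
      simp
    · show φ.hom.snd ≫ z.obj.iso.inv = x.obj.iso.inv ≫ g.map φ.hom.fst
      rw [Iso.comp_inv_eq, Category.assoc, Iso.eq_inv_comp]
      exact φ.hom.w.symm
  · exact fp_isHomLift (F := p) (G := q) (𝟙 (𝒳.p.obj x.obj.fst)) _ (h := IsHomLift.id (p := 𝒳.p) rfl)

/-- A section is a base change of the diagonal. -/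
theorem repByAlgSpWith_section {f : 𝒳 ⥤ᵇ 𝒯} {s : 𝒯 ⥤ᵇ 𝒳}
    (e : BasedFunctor.comp s f ≅ BasedFunctor.id 𝒯) (hf : AlgSt.RepByAlgSpWith P (FibCat.diag f)) :
    AlgSt.RepByAlgSpWith P s := by
  have : (BasedFunctor.id 𝒯).toFunctor.Full := inferInstanceAs (𝟭 _).Full
  have : (BasedFunctor.id 𝒯).toFunctor.Faithful := inferInstanceAs (𝟭 _).Faithful
  let b : FibCat.fp (BasedFunctor.comp s f) (BasedFunctor.comp (BasedFunctor.id 𝒳) f) ⥤ᵇ 𝒳 :=
    BasedFunctor.comp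
      (fpMap (F := BasedFunctor.id 𝒯) (G := f) (F' := BasedFunctor.comp s f)
        (G' := BasedFunctor.comp (BasedFunctor.id 𝒳) f) (a := BasedFunctor.id 𝒯) (b := BasedFunctor.id 𝒳)
        (c := BasedFunctor.id 𝒯) e.symm (Iso.refl _))
      (FibCat.fpSnd (BasedFunctor.id 𝒯) f)
  have hb : FibCat.IsEquivOver b :=
    isEquivOver_comp (fpMap_isEquivOver _ _ isEquivOver_id isEquivOver_id) (fpSnd_id_isEquivOver f)
  exact (repByAlgSpWith_iff_of_square (f' := weaken s (BasedFunctor.id 𝒳) f) (f := s)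
    (a := FibCat.fpFst s (BasedFunctor.id 𝒳)) (b := b) (fpFst_id_isEquivOver s) hb
    (FibCat.fpIso s (BasedFunctor.id 𝒳)).symm).2 (repByAlgSpWith_weaken s (BasedFunctor.id 𝒳) f hf)

/-- The comparison of fibre products is a base change of the diagonal. -/
theorem repByAlgSpWith_fpComparison {f : 𝒳 ⥤ᵇ 𝒵} {g : 𝒴 ⥤ᵇ 𝒵} {t : 𝒵 ⥤ᵇ 𝒯}
    (e : BasedFunctor.comp (FibCat.fpFst f g) (BasedFunctor.comp f t) ≅
      BasedFunctor.comp (FibCat.fpSnd f g) (BasedFunctor.comp g t))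
    (he : ∀ x, e.hom.toNatTrans.app x = t.map x.obj.iso.hom) (ht : AlgSt.RepByAlgSpWith P (FibCat.diag t)) :
    AlgSt.RepByAlgSpWith P (FibCat.fpLift (FibCat.fpFst f g) (FibCat.fpSnd f g) e) := by
  have h : e = whiskerRightIso (FibCat.fpIso f g) t := Iso.ext (BasedNatTrans.ext _ _ (by ext x; exact he x))
  subst h
  exact repByAlgSpWith_weaken f g t ht

end Groth.Agent.AlgStLib
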