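import Groth.Prelude.Def_Grpd
import Mathlib.AlgebraicGeometry.Pullbacks

/-!
# Moving the end points of arrows along a subgroupoid which is a kernel pair
-/

set_option backward.isDefEq.respectTransparency false
set_option backward.isDefEq.respectTransparency.types false

universe u

open CategoryTheory CategoryTheory.Limits AlgebraicGeometry Grpd

namespace Groth.Agent.AlgStLib.QuotRestrict

variable {S : Scheme.{u}}

section Calculus

variable (G : GroupoidScheme S) {T T' : Scheme.{u}}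

open Classical in
/-- The composite of two arrows, as a total operation. -/
noncomputable def cmp (α β : T ⟶ G.R) : T ⟶ G.R :=
  if h : α ≫ G.s = β ≫ G.t then pullback.lift α β h ≫ G.c else α

variable {G}

theorem cmp_eq {α β : T ⟶ G.R} (h : α ≫ G.s = β ≫ G.t) : cmp G α β = pullback.lift α β h ≫ G.c := dif_pos h

theorem cmp_s {α β : T ⟶ G.R} (h : α ≫ G.s = β ≫ G.t) : cmp G α β ≫ G.s = β ≫ G.s := by
  rw [cmp_eq h]; exact G.comp_s α β h

theorem cmp_t {α β : T ⟶ G.R} (h : α ≫ G.s = β ≫ G.t) : cmp G α β ≫ G.t = α ≫ G.t := by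
  rw [cmp_eq h]; exact G.comp_t α β h

theorem cmp_assoc {α β γ : T ⟶ G.R} (h₁ : α ≫ G.s = β ≫ G.t) (h₂ : β ≫ G.s = γ ≫ G.t) :
    cmp G (cmp G α β) γ = cmp G α (cmp G β γ) := by
  have := G.assoc α β γ h₁ h₂
  simp only [← cmp_eq] at this
  exact this

theorem comp_cmp (g : T' ⟶ T) {α β : T ⟶ G.R} (h : α ≫ G.s = β ≫ G.t) :
    g ≫ cmp G α β = cmp G (g ≫ α) (g ≫ β) := by
  rw [cmp_eq h, cmp_eq (show (g ≫ α) ≫ G.s = (g ≫ β) ≫ G.t by rw [Category.assoc, Category.assoc, h]),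
    ← Category.assoc]
  congr 1
  apply pullback.hom_ext <;> simp

theorem id_s (a : T ⟶ G.U) : (a ≫ G.e) ≫ G.s = a := by rw [Category.assoc, G.e_s, Category.comp_id]

theorem id_t (a : T ⟶ G.U) : (a ≫ G.e) ≫ G.t = a := by rw [Category.assoc, G.e_t, Category.comp_id]

theorem cmp_id {r : T ⟶ G.R} {a : T ⟶ G.U} (h : r ≫ G.s = a) : cmp G r (a ≫ G.e) = r := by
  subst h
  rw [cmp_eq (id_t _).symm]
  simp only [Category.assoc]
  exact G.comp_e r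

theorem id_cmp {r : T ⟶ G.R} {a : T ⟶ G.U} (h : r ≫ G.t = a) : cmp G (a ≫ G.e) r = r := by
  subst h
  rw [cmp_eq (id_s _)]
  simp only [Category.assoc]
  exact G.e_comp r

theorem inv_s (r : T ⟶ G.R) : (r ≫ G.i) ≫ G.s = r ≫ G.t := by rw [Category.assoc, G.i_s]

theorem inv_t (r : T ⟶ G.R) : (r ≫ G.i) ≫ G.t = r ≫ G.s := by rw [Category.assoc, G.i_t]

theorem cmp_inv (r : T ⟶ G.R) : cmp G r (r ≫ G.i) = (r ≫ G.t) ≫ G.e := by
  rw [cmp_eq (inv_t r).symm]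
  exact (G.comp_i r).trans (Category.assoc _ _ _).symm

theorem inv_cmp (r : T ⟶ G.R) : cmp G (r ≫ G.i) r = (r ≫ G.s) ≫ G.e := by
  rw [cmp_eq (inv_s r)]
  exact (G.i_comp r).trans (Category.assoc _ _ _).symm

theorem inv_unique {r z : T ⟶ G.R} (h : r ≫ G.s = z ≫ G.t) (h' : cmp G r z = (r ≫ G.t) ≫ G.e) :
    z = r ≫ G.i := by
  have a := cmp_assoc (inv_s r) h
  rw [inv_cmp, h', id_cmp h.symm, cmp_id (inv_s r)] at a
  exact a

end Calculus

/-- A subgroupoid which is the kernel pair of a map on objects. -/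
structure Data (G : GroupoidScheme S) where
  /-- the arrows of the subgroupoid -/
  P : Scheme.{u}
  /-- the inclusion -/
  ιP : P ⟶ G.R
  /-- the quotient -/
  V : Scheme.{u}
  /-- the quotient map -/
  π : G.U ⟶ V
  /-- the structure map of the quotient -/
  σ : V ⟶ S
  hσ : π ≫ σ = G.pU
  hP : IsPullback (ιP ≫ G.t) (ιP ≫ G.s) π π
  he : ∃ eP : G.U ⟶ P, eP ≫ ιP = G.e
  hc : ∃ cP : pullback (ιP ≫ G.s) (ιP ≫ G.t) ⟶ P,
      cP ≫ ιP = pullback.map (ιP ≫ G.s) (ιP ≫ G.t) G.s G.t ιP ιP (𝟙 G.U) (Category.comp_id _) (Category.comp_id _) ≫ G.c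

namespace Data

variable {G : GroupoidScheme S} (D : Data G) {T T' : Scheme.{u}}

/-- Two points with the same image in the quotient. -/
abbrev Sim (a b : T ⟶ G.U) : Prop := a ≫ D.π = b ≫ D.π

open Classical in
/-- The arrow of the subgroupoid between two points with the same image. -/
noncomputable def arr (a b : T ⟶ G.U) : T ⟶ G.R :=
  if h : D.Sim a b then D.hP.lift a b h ≫ D.ιP else a ≫ G.e

theorem arr_t {a b : T ⟶ G.U} (h : D.Sim a b) : D.arr a b ≫ G.t = a := by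
  rw [arr, dif_pos h, Category.assoc, D.hP.lift_fst]

theorem arr_s {a b : T ⟶ G.U} (h : D.Sim a b) : D.arr a b ≫ G.s = b := by
  rw [arr, dif_pos h, Category.assoc, D.hP.lift_snd]

theorem eq_arr {z : T ⟶ D.P} {a b : T ⟶ G.U} (h₁ : (z ≫ D.ιP) ≫ G.t = a) (h₂ : (z ≫ D.ιP) ≫ G.s = b) :
    z ≫ D.ιP = D.arr a b := by
  have h : D.Sim a b := by
    show a ≫ D.π = b ≫ D.π
    rw [← h₁, ← h₂, Category.assoc z, Category.assoc z, Category.assoc z, Category.assoc z, D.hP.w]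
  rw [arr, dif_pos h]
  congr 1
  exact D.hP.hom_ext (by rw [D.hP.lift_fst, ← h₁, Category.assoc]) (by rw [D.hP.lift_snd, ← h₂, Category.assoc])

theorem arr_self (a : T ⟶ G.U) : D.arr a a = a ≫ G.e := by
  obtain ⟨eP, he⟩ := D.he
  rw [← he, ← Category.assoc]
  refine (D.eq_arr ?_ ?_).symm
  · rw [Category.assoc a, he, id_t]
  · rw [Category.assoc a, he, id_s]

theorem arr_cmp {a b c : T ⟶ G.U} (h₁ : D.Sim a b) (h₂ : D.Sim b c) :
    cmp G (D.arr a b) (D.arr b c) = D.arr a c := by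
  obtain ⟨cP, hcP⟩ := D.hc
  have h : D.arr a b ≫ G.s = D.arr b c ≫ G.t := (D.arr_s h₁).trans (D.arr_t h₂).symm
  let l : T ⟶ pullback (D.ιP ≫ G.s) (D.ιP ≫ G.t) :=
    pullback.lift (D.hP.lift a b h₁) (D.hP.lift b c h₂) (by rw [D.hP.lift_snd, D.hP.lift_fst])
  have e : (l ≫ cP) ≫ D.ιP = cmp G (D.arr a b) (D.arr b c) := by
    rw [cmp_eq h, Category.assoc, hcP, ← Category.assoc]
    congr 1
    apply pullback.hom_ext <;> simp [l, arr, dif_pos h₁, dif_pos h₂]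
  rw [← e]
  exact D.eq_arr (by rw [e, cmp_t h, D.arr_t h₁]) (by rw [e, cmp_s h, D.arr_s h₂])

theorem comp_arr (g : T' ⟶ T) {a b : T ⟶ G.U} (h : D.Sim a b) : g ≫ D.arr a b = D.arr (g ≫ a) (g ≫ b) := by
  rw [arr, dif_pos h, ← Category.assoc]
  exact D.eq_arr (by rw [Category.assoc, Category.assoc, D.hP.lift_fst]) (by rw [Category.assoc, Category.assoc, D.hP.lift_snd])

/-- Moving the end points of an arrow along the subgroupoid. -/
noncomputable def tr (r : T ⟶ G.R) (a b : T ⟶ G.U) : T ⟶ G.R :=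
  cmp G (cmp G (D.arr a (r ≫ G.t)) r) (D.arr (r ≫ G.s) b)

variable {D}

/-- The end points may be moved. -/
abbrev Mov (D : Data G) (r : T ⟶ G.R) (a b : T ⟶ G.U) : Prop := D.Sim a (r ≫ G.t) ∧ D.Sim (r ≫ G.s) b

theorem tr_h₁ {r : T ⟶ G.R} {a b : T ⟶ G.U} (h : Mov D r a b) :
    D.arr a (r ≫ G.t) ≫ G.s = r ≫ G.t := D.arr_s h.1

theorem tr_h₂ {r : T ⟶ G.R} {a b : T ⟶ G.U} (h : Mov D r a b) :
    cmp G (D.arr a (r ≫ G.t)) r ≫ G.s = D.arr (r ≫ G.s) b ≫ G.t :=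
  (cmp_s (tr_h₁ h)).trans (D.arr_t h.2).symm

theorem tr_t {r : T ⟶ G.R} {a b : T ⟶ G.U} (h : Mov D r a b) : D.tr r a b ≫ G.t = a := by
  rw [tr, cmp_t (tr_h₂ h), cmp_t (tr_h₁ h), D.arr_t h.1]

theorem tr_s {r : T ⟶ G.R} {a b : T ⟶ G.U} (h : Mov D r a b) : D.tr r a b ≫ G.s = b := by
  rw [tr, cmp_s (tr_h₂ h), D.arr_s h.2]

theorem tr_self (r : T ⟶ G.R) : D.tr r (r ≫ G.t) (r ≫ G.s) = r := by
  rw [tr, D.arr_self, D.arr_self, id_cmp rfl, cmp_id rfl]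

theorem comp_tr (g : T' ⟶ T) {r : T ⟶ G.R} {a b : T ⟶ G.U} (h : Mov D r a b) :
    g ≫ D.tr r a b = D.tr (g ≫ r) (g ≫ a) (g ≫ b) := by
  rw [tr, comp_cmp g (tr_h₂ h), comp_cmp g (tr_h₁ h), D.comp_arr g h.1, D.comp_arr g h.2, tr]
  simp only [Category.assoc]

theorem tr_tr {r : T ⟶ G.R} {a b a' b' : T ⟶ G.U} (h : Mov D r a b) (ha : D.Sim a' a) (hb : D.Sim b b') :
    D.tr (D.tr r a b) a' b' = D.tr r a' b' := by
  rw [tr, tr_t h, tr_s h, tr, tr]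
  have e₁ : D.arr a' a ≫ G.s = D.arr a (r ≫ G.t) ≫ G.t := (D.arr_s ha).trans (D.arr_t h.1).symm
  have e₂ : D.arr (r ≫ G.s) b ≫ G.s = D.arr b b' ≫ G.t := (D.arr_s h.2).trans (D.arr_t hb).symm
  rw [← cmp_assoc (show D.arr a' a ≫ G.s = cmp G (D.arr a (r ≫ G.t)) r ≫ G.t by rw [cmp_t (tr_h₁ h), e₁])
      (tr_h₂ h),
    ← cmp_assoc e₁ (tr_h₁ h), D.arr_cmp ha h.1,
    cmp_assoc ((cmp_s (show D.arr a' (r ≫ G.t) ≫ G.s = r ≫ G.t from D.arr_s (ha.trans h.1))).trans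
      (D.arr_t h.2).symm) e₂,
    D.arr_cmp h.2 hb]

/-- Moving the end points is compatible with composition. -/
theorem tr_cmp {x y : T ⟶ G.R} (h : x ≫ G.s = y ≫ G.t) {a b c : T ⟶ G.U} (hx : Mov D x a b) (hy : Mov D y b c) :
    cmp G (D.tr x a b) (D.tr y b c) = D.tr (cmp G x y) a c := by
  have hs : cmp G x y ≫ G.s = y ≫ G.s := cmp_s h
  have ht : cmp G x y ≫ G.t = x ≫ G.t := cmp_t h
  rw [tr, tr, tr, hs, ht]
  set p := D.arr a (x ≫ G.t)
  set q := D.arr (x ≫ G.s) b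
  set p' := D.arr b (y ≫ G.t)
  set q' := D.arr (y ≫ G.s) c
  have hp : p ≫ G.s = x ≫ G.t := tr_h₁ hx
  have hq : cmp G p x ≫ G.s = q ≫ G.t := tr_h₂ hx
  have hp' : p' ≫ G.s = y ≫ G.t := tr_h₁ hy
  have hq' : cmp G p' y ≫ G.s = q' ≫ G.t := tr_h₂ hy
  have hqp : q ≫ G.s = p' ≫ G.t := (D.arr_s hx.2).trans (D.arr_t hy.1).symm
  have key : cmp G q p' = (x ≫ G.s) ≫ G.e := by
    rw [D.arr_cmp hx.2 hy.1, ← h, D.arr_self]
  have hyq : y ≫ G.s = q' ≫ G.t := (D.arr_t hy.2).symm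
  rw [cmp_assoc hp' hyq, cmp_assoc hq (show q ≫ G.s = cmp G p' (cmp G y q') ≫ G.t by
      rw [cmp_t (show p' ≫ G.s = cmp G y q' ≫ G.t by rw [cmp_t hyq, hp']), hqp]),
    ← cmp_assoc hqp (show p' ≫ G.s = cmp G y q' ≫ G.t by rw [cmp_t hyq, hp']), key,
    id_cmp (show cmp G y q' ≫ G.t = x ≫ G.s by rw [cmp_t hyq, h]),
    ← cmp_assoc (show cmp G p x ≫ G.s = y ≫ G.t by rw [cmp_s hp, h]) hyq, cmp_assoc hp h]

end Data

end Groth.Agent.AlgStLib.QuotRestrict
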