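import Groth.Agent.AlgStLib.GrpdQuotRestrict
import Groth.Agent.DescLib.IndQAEff
import Groth.Agent.AlgSpLib.Sheaf

/-!
# The groupoid on the quotient by a finite locally free subgroupoid: descent of the arrows
-/

set_option backward.isDefEq.respectTransparency false
set_option backward.isDefEq.respectTransparency.types false

universe u

open CategoryTheory CategoryTheory.Limits AlgebraicGeometry Grpd Groth.Agent.AlgSpLib

namespace Groth.Agent.AlgStLib.QuotRestrict.Data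

variable {S : Scheme.{u}} {G : GroupoidScheme S} (D : Data G) {T T' : Scheme.{u}}

theorem j_eq_iff {r : T ⟶ G.R} {x : T ⟶ pullback G.pU G.pU} :
    r ≫ G.j = x ↔ r ≫ G.t = x ≫ pullback.fst _ _ ∧ r ≫ G.s = x ≫ pullback.snd _ _ := by
  constructor
  · rintro rfl
    simp [GroupoidScheme.j]
  · rintro ⟨h₁, h₂⟩
    apply pullback.hom_ext <;> simp [GroupoidScheme.j, h₁, h₂]

/-- The square of the quotient map. -/
noncomputable def eB : pullback G.pU G.pU ⟶ pullback D.σ D.σ :=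
  pullback.map _ _ _ _ D.π D.π (𝟙 S) ((Category.comp_id _).trans D.hσ.symm) ((Category.comp_id _).trans D.hσ.symm)

theorem eB_fst : D.eB ≫ pullback.fst _ _ = pullback.fst _ _ ≫ D.π := pullback.lift_fst _ _ _

theorem eB_snd : D.eB ≫ pullback.snd _ _ = pullback.snd _ _ ≫ D.π := pullback.lift_snd _ _ _

theorem mov_of_eq {r : T ⟶ G.R} {x : T ⟶ pullback G.pU G.pU} (h : (r ≫ G.j) ≫ D.eB = x ≫ D.eB) :
    Mov D r (x ≫ pullback.fst _ _) (x ≫ pullback.snd _ _) := by
  have h₁ := congrArg (· ≫ pullback.fst D.σ D.σ) h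
  have h₂ := congrArg (· ≫ pullback.snd D.σ D.σ) h
  simp only [Category.assoc, eB_fst, eB_snd] at h₁ h₂
  simp only [GroupoidScheme.j, pullback.lift_fst_assoc, pullback.lift_snd_assoc] at h₁ h₂
  exact ⟨by simpa [Sim] using h₁.symm, by simpa [Sim] using h₂⟩

/-- Moving an arrow over a point of `U ×_S U`. -/
noncomputable def trX (r : T ⟶ G.R) (x : T ⟶ pullback G.pU G.pU) : T ⟶ G.R :=
  D.tr r (x ≫ pullback.fst _ _) (x ≫ pullback.snd _ _)

theorem trX_j {r : T ⟶ G.R} {x : T ⟶ pullback G.pU G.pU} (h : (r ≫ G.j) ≫ D.eB = x ≫ D.eB) :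
    D.trX r x ≫ G.j = x :=
  j_eq_iff.2 ⟨tr_t (D.mov_of_eq h), tr_s (D.mov_of_eq h)⟩

theorem trX_self {r : T ⟶ G.R} {x : T ⟶ pullback G.pU G.pU} (h : r ≫ G.j = x) : D.trX r x = r := by
  obtain ⟨h₁, h₂⟩ := j_eq_iff.1 h
  rw [trX, ← h₁, ← h₂, tr_self]

theorem trX_trX {r : T ⟶ G.R} {x y : T ⟶ pullback G.pU G.pU} (h : (r ≫ G.j) ≫ D.eB = x ≫ D.eB)
    (h' : x ≫ D.eB = y ≫ D.eB) : D.trX (D.trX r x) y = D.trX r y := by
  have hm := D.mov_of_eq h
  have hm' := D.mov_of_eq (r := D.trX r x) (x := y) (by rw [D.trX_j h, h'])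
  refine tr_tr hm ?_ ?_
  · have := hm'.1
    rwa [trX, tr_t hm] at this
  · have := hm'.2
    rwa [trX, tr_s hm] at this

/-- The descent datum given by moving the end points. -/
noncomputable def dd : Desc.SchDD D.eB where
  obj := Over.mk G.j
  φ _ x₀ x₁ h :=
    { toFun := fun v => ⟨D.trX v.1 x₁, D.trX_j (by rw [show v.1 ≫ G.j = x₀ from v.2, h])⟩
      invFun := fun v => ⟨D.trX v.1 x₀, D.trX_j (by rw [show v.1 ≫ G.j = x₁ from v.2, h])⟩
      left_inv := fun v => Subtype.ext ((D.trX_trX (by rw [show v.1 ≫ G.j = x₀ from v.2, h]) h.symm).trans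
        (D.trX_self v.2))
      right_inv := fun v => Subtype.ext ((D.trX_trX (by rw [show v.1 ≫ G.j = x₁ from v.2, h]) h).trans
        (D.trX_self v.2)) }
  φ_natural _ _ g x₀ x₁ h h' v v' hv' := by
    show D.trX v'.1 (g ≫ x₁) = g ≫ D.trX v.1 x₁
    rw [hv', trX, trX, comp_tr g (D.mov_of_eq (by rw [show v.1 ≫ G.j = x₀ from v.2, h]))]
    simp only [Category.assoc]
  φ_self _ x v := Subtype.ext (D.trX_self v.2)
  φ_comp _ x₀ x₁ x₂ h₀₁ h₁₂ v := Subtype.ext
    (D.trX_trX (by rw [show v.1 ≫ G.j = x₀ from v.2, h₀₁]) h₁₂)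

variable [IsFinite D.π] [Flat D.π] [LocallyOfFinitePresentation D.π] [Surjective D.π]

omit [IsFinite D.π] in
theorem fppf_eB : fppf D.eB :=
  MorphismProperty.pullbackMap (fppf_of D.π) (fppf_of D.π) D.hσ.symm D.hσ.symm

omit [Flat D.π] [LocallyOfFinitePresentation D.π] [Surjective D.π] in
theorem finite_eB : IsFinite D.eB :=
  MorphismProperty.pullbackMap (P := @IsFinite) ‹_› ‹_› D.hσ.symm D.hσ.symm

/-- The arrows descend. -/
theorem exists_arrows [IsSeparated G.j] [LocallyQuasiFinite G.j] [LocallyOfFiniteType G.j] :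
    ∃ (Rb : Scheme.{u}) (jb : Rb ⟶ pullback D.σ D.σ) (fR : G.R ⟶ Rb),
      IsPullback fR G.j jb D.eB ∧
      ∀ {T : Scheme.{u}} (r : T ⟶ G.R) (a b : T ⟶ G.U), Mov D r a b → D.tr r a b ≫ fR = r ≫ fR := by
  obtain ⟨⟨_, _⟩, _⟩ := D.fppf_eB
  have := D.finite_eB
  obtain ⟨U, ⟨e⟩⟩ := DescLib.effective_single DescLib.IndQA.indQA
    (fun _ _ p _ _ _ _ D' h => DescLib.IndQA.effective_indQA_hom p D' h) D.eB D.dd
    (MorLib.IQA.indQA_of_locallyQuasiFinite G.j)
  let eo : pullback D.eB U.hom ≅ G.R :=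
    { hom := e.hom.hom.left
      inv := e.inv.hom.left
      hom_inv_id := congrArg CommaMorphism.left (congrArg Desc.SchDD.Hom.hom e.hom_inv_id)
      inv_hom_id := congrArg CommaMorphism.left (congrArg Desc.SchDD.Hom.hom e.inv_hom_id) }
  have he : eo.inv ≫ pullback.fst D.eB U.hom = G.j := Over.w e.inv.hom
  refine ⟨U.left, U.hom, eo.inv ≫ pullback.snd D.eB U.hom, ?_, fun {T} r a b hm => ?_⟩
  · refine (IsPullback.of_hasPullback D.eB U.hom).flip.of_iso eo (Iso.refl _) (Iso.refl _) (Iso.refl _) ?_ ?_ ?_ ?_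
    · simp
    · rw [← he]; simp
    · simp
    · simp
  · have hw : a ≫ G.pU = b ≫ G.pU := by
      rw [← D.hσ, reassoc_of% hm.1, ← reassoc_of% hm.2, D.hσ, G.t_over, G.s_over]
    let x₁ : T ⟶ pullback G.pU G.pU := pullback.lift a b hw
    have hxe : (r ≫ G.j) ≫ D.eB = x₁ ≫ D.eB := by
      apply pullback.hom_ext
      · simp only [Category.assoc, eB_fst, x₁, pullback.lift_fst_assoc, GroupoidScheme.j]
        simpa [Sim] using hm.1.symm
      · simp only [Category.assoc, eB_snd, x₁, pullback.lift_snd_assoc, GroupoidScheme.j]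
        simpa [Sim] using hm.2
    let v : Desc.Lifts D.dd.obj (r ≫ G.j) := ⟨r, rfl⟩
    have key : _ = D.trX r x₁ ≫ e.inv.hom.left := e.inv.comm (r ≫ G.j) x₁ hxe v (e.inv.push v) rfl
    have key' := congrArg (· ≫ pullback.snd D.eB U.hom) key
    simp only [trX, x₁, pullback.lift_fst, pullback.lift_snd, Category.assoc] at key'
    rw [← key']
    show (Desc.canMap D.eB U (r ≫ G.j) x₁ hxe (e.inv.push v)).1 ≫ pullback.snd D.eB U.hom = _
    simp [Desc.SchDD.Hom.push, v, x₁, eo]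

end Groth.Agent.AlgStLib.QuotRestrict.Data
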