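import Groth.Agent.AlgStLib.GrpdQuotRestrict2

/-!
# The groupoid structure on the quotient by a finite locally free subgroupoid
-/

set_option backward.isDefEq.respectTransparency false
set_option backward.isDefEq.respectTransparency.types false

universe u

open CategoryTheory CategoryTheory.Limits AlgebraicGeometry Grpd Groth.Agent.AlgSpLib

namespace Groth.Agent.AlgStLib.QuotRestrict

variable {S : Scheme.{u}} {G : GroupoidScheme S}

/-- The descended arrows. -/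
structure Arrows (D : Data G) where
  /-- the arrows -/
  Rb : Scheme.{u}
  /-- the map to `V ×_S V` -/
  jb : Rb ⟶ pullback D.σ D.σ
  /-- the map on arrows -/
  fR : G.R ⟶ Rb
  sq : IsPullback fR G.j jb D.eB
  fR_tr : ∀ {T : Scheme.{u}} (r : T ⟶ G.R) (a b : T ⟶ G.U), Data.Mov D r a b → D.tr r a b ≫ fR = r ≫ fR

namespace Arrows

variable {D : Data G} (A : Arrows D) {T T' : Scheme.{u}}

/-- The source. -/
noncomputable def sb : A.Rb ⟶ D.V := A.jb ≫ pullback.snd _ _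

/-- The target. -/
noncomputable def tb : A.Rb ⟶ D.V := A.jb ≫ pullback.fst _ _

@[reassoc] theorem fR_sb : A.fR ≫ A.sb = G.s ≫ D.π := by
  rw [sb, reassoc_of% A.sq.w, D.eB_snd]; simp [GroupoidScheme.j]

@[reassoc] theorem fR_tb : A.fR ≫ A.tb = G.t ≫ D.π := by
  rw [tb, reassoc_of% A.sq.w, D.eB_fst]; simp [GroupoidScheme.j]

theorem mov_of_fR {r r' : T ⟶ G.R} (h : r ≫ A.fR = r' ≫ A.fR) : Data.Mov D r (r' ≫ G.t) (r' ≫ G.s) := by
  constructor
  · have := congrArg (· ≫ A.tb) h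
    simpa [Data.Sim, fR_tb] using this.symm
  · have := congrArg (· ≫ A.sb) h
    simpa [Data.Sim, fR_sb] using this

theorem eq_tr {r r' : T ⟶ G.R} (h : r ≫ A.fR = r' ≫ A.fR) : D.tr r (r' ≫ G.t) (r' ≫ G.s) = r' := by
  have hm := A.mov_of_fR h
  refine A.sq.hom_ext ((A.fR_tr r _ _ hm).trans h) ?_
  rw [Data.j_eq_iff, Data.tr_t hm, Data.tr_s hm]
  simp [GroupoidScheme.j]

/-- The first step of the map of composable pairs. -/
noncomputable def m1 : pullback G.s G.t ⟶ pullback (G.s ≫ D.π) A.tb :=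
  pullback.lift (pullback.fst G.s G.t) (pullback.snd G.s G.t ≫ A.fR) (by
    rw [Category.assoc, fR_tb, pullback.condition_assoc])

@[reassoc (attr := simp)] theorem m1_fst : A.m1 ≫ pullback.fst _ _ = pullback.fst G.s G.t := pullback.lift_fst _ _ _

@[reassoc (attr := simp)] theorem m1_snd : A.m1 ≫ pullback.snd _ _ = pullback.snd G.s G.t ≫ A.fR :=
  pullback.lift_snd _ _ _

theorem isPullback_m1 :
    IsPullback (pullback.snd G.s G.t ≫ G.s) A.m1 D.π (pullback.snd (G.s ≫ D.π) A.tb ≫ A.sb) := by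
  refine ⟨⟨by simp [fR_sb]⟩, ?_⟩
  have hU : ∀ c : PullbackCone D.π (pullback.snd (G.s ≫ D.π) A.tb ≫ A.sb),
      ((c.snd ≫ pullback.fst _ _) ≫ G.s) ≫ G.pU = c.fst ≫ G.pU := fun c => by
    have h₁ := congrArg (c.snd ≫ ·) (pullback.condition (f := G.s ≫ D.π) (g := A.tb))
    have h₂ := c.condition
    simp only [Category.assoc] at h₁ h₂ ⊢
    rw [← D.hσ, reassoc_of% h₁, reassoc_of% h₂]
    simp only [tb, sb, Category.assoc, pullback.condition]
  have hB : ∀ c : PullbackCone D.π (pullback.snd (G.s ≫ D.π) A.tb ≫ A.sb),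
      (c.snd ≫ pullback.snd _ _) ≫ A.jb =
        pullback.lift ((c.snd ≫ pullback.fst _ _) ≫ G.s) c.fst (hU c) ≫ D.eB := fun c => by
    have h₁ := congrArg (c.snd ≫ ·) (pullback.condition (f := G.s ≫ D.π) (g := A.tb))
    have h₂ := c.condition
    apply pullback.hom_ext
    · simp only [Category.assoc, D.eB_fst, pullback.lift_fst_assoc]
      simpa [tb] using h₁.symm
    · simp only [Category.assoc, D.eB_snd, pullback.lift_snd_assoc]
      simpa [sb] using h₂.symm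
  refine ⟨PullbackCone.IsLimit.mk _ (fun c => pullback.lift (c.snd ≫ pullback.fst _ _)
    (A.sq.lift _ _ (hB c)) ?_) (fun c => ?_) (fun c => ?_) (fun c m h₁ h₂ => ?_)⟩
  · rw [(Data.j_eq_iff.1 (A.sq.lift_snd _ _ (hB c))).1, pullback.lift_fst]
  · rw [pullback.lift_snd_assoc, (Data.j_eq_iff.1 (A.sq.lift_snd _ _ (hB c))).2, pullback.lift_snd]
  · apply pullback.hom_ext
    · simp
    · simp [A.sq.lift_fst _ _ (hB c)]
  · apply pullback.hom_ext
    · rw [pullback.lift_fst, ← h₂, Category.assoc, m1_fst]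
    · rw [pullback.lift_snd]
      refine A.sq.hom_ext ?_ ?_
      · rw [A.sq.lift_fst, Category.assoc, ← m1_snd, ← h₂, Category.assoc]
      · rw [A.sq.lift_snd, Data.j_eq_iff, pullback.lift_fst, pullback.lift_snd]
        refine ⟨?_, by simpa using h₁⟩
        rw [← h₂]; simp [pullback.condition]

/-- The map of composable pairs. -/
noncomputable def m2 : pullback G.s G.t ⟶ pullback A.sb A.tb :=
  A.m1 ≫ pullback.map (G.s ≫ D.π) A.tb A.sb A.tb A.fR (𝟙 _) (𝟙 _)
    ((Category.comp_id _).trans A.fR_sb.symm) ((Category.comp_id _).trans (Category.id_comp _).symm)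

theorem lift_m2 {α β : T ⟶ G.R} (h : α ≫ G.s = β ≫ G.t) :
    pullback.lift α β h ≫ A.m2 = pullback.lift (α ≫ A.fR) (β ≫ A.fR)
      (by rw [Category.assoc, Category.assoc, fR_sb, fR_tb, reassoc_of% h]) := by
  apply pullback.hom_ext <;> simp [m2]

section

variable [IsFinite D.π] [Flat D.π] [LocallyOfFinitePresentation D.π] [Surjective D.π]

include A

omit [IsFinite D.π] in
theorem fppf_fR : fppf A.fR := MorphismProperty.of_isPullback A.sq.flip D.fppf_eB

omit [IsFinite D.π] in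
theorem fppf_m1 : fppf A.m1 := MorphismProperty.of_isPullback A.isPullback_m1 (fppf_of D.π)

omit [IsFinite D.π] in
theorem fppf_m2 : fppf A.m2 :=
  MorphismProperty.comp_mem _ _ _ A.fppf_m1 (MorphismProperty.pullbackMap A.fppf_fR (fppf.id_mem _) A.fR_sb.symm
    (Category.id_comp _).symm)

omit [IsFinite D.π] in
theorem exists_c : ∃ cb : pullback A.sb A.tb ⟶ A.Rb, A.m2 ≫ cb = G.c ≫ A.fR := by
  obtain ⟨⟨_, _⟩, _⟩ := A.fppf_m2
  refine ⟨EffectiveEpi.desc A.m2 (G.c ≫ A.fR) (fun {W} g₁ g₂ h => ?_), EffectiveEpi.fac _ _ _⟩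
  have hc : ∀ g : W ⟶ pullback G.s G.t, g ≫ G.c = cmp G (g ≫ pullback.fst _ _) (g ≫ pullback.snd _ _) := fun g => by
    rw [cmp_eq (by rw [Category.assoc, Category.assoc, pullback.condition])]
    congr 1
    apply pullback.hom_ext <;> simp
  have hx := congrArg (· ≫ pullback.fst A.sb A.tb) h
  have hy := congrArg (· ≫ pullback.snd A.sb A.tb) h
  simp only [m2, Category.assoc, limit.lift_π, PullbackCone.mk_π_app, m1_fst_assoc, m1_snd_assoc,
    Category.comp_id] at hx hy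
  rw [← Category.assoc g₁, ← Category.assoc g₂, hc, hc]
  set x := g₁ ≫ pullback.fst G.s G.t with hxd
  set y := g₁ ≫ pullback.snd G.s G.t with hyd
  set x' := g₂ ≫ pullback.fst G.s G.t with hxd'
  set y' := g₂ ≫ pullback.snd G.s G.t with hyd'
  have hxy : x ≫ G.s = y ≫ G.t := by simp [x, y, pullback.condition]
  have hxy' : x' ≫ G.s = y' ≫ G.t := by simp [x', y', pullback.condition]
  have ex : x ≫ A.fR = x' ≫ A.fR := by simpa [x, x'] using hx
  have ey : y ≫ A.fR = y' ≫ A.fR := by simpa [y, y'] using hy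
  have mx := A.mov_of_fR ex
  have my := A.mov_of_fR ey
  conv_rhs => rw [← A.eq_tr ex, ← A.eq_tr ey, hxy']
  rw [hxy'] at mx
  rw [Data.tr_cmp hxy mx my, A.fR_tr]
  exact ⟨by rw [cmp_t hxy]; exact mx.1, by rw [cmp_s hxy]; exact my.2⟩

omit [IsFinite D.π] in
theorem exists_e : ∃ eb : D.V ⟶ A.Rb, D.π ≫ eb = G.e ≫ A.fR := by
  refine ⟨EffectiveEpi.desc D.π (G.e ≫ A.fR) (fun {W} a a' h => ?_), EffectiveEpi.fac _ _ _⟩
  have hm : Data.Mov D (a ≫ G.e) a' a' :=
    ⟨by rw [id_t]; exact h.symm, by rw [id_s]; exact h⟩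
  have key : D.tr (a ≫ G.e) a' a' = a' ≫ G.e := by
    rw [Data.tr, id_t, id_s, cmp_id (D.arr_s h.symm), D.arr_cmp h.symm h, D.arr_self]
  rw [← Category.assoc, ← Category.assoc, ← key, A.fR_tr _ _ _ hm]

omit [IsFinite D.π] in
theorem exists_i : ∃ ib : A.Rb ⟶ A.Rb, A.fR ≫ ib = G.i ≫ A.fR := by
  obtain ⟨⟨_, _⟩, _⟩ := A.fppf_fR
  refine ⟨EffectiveEpi.desc A.fR (G.i ≫ A.fR) (fun {W} r r' h => ?_), EffectiveEpi.fac _ _ _⟩
  have hm := A.mov_of_fR h
  have hm' : Data.Mov D (r ≫ G.i) (r' ≫ G.s) (r' ≫ G.t) :=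
    ⟨by rw [inv_t]; exact hm.2.symm, by rw [inv_s]; exact hm.1.symm⟩
  have key : D.tr (r ≫ G.i) (r' ≫ G.s) (r' ≫ G.t) = r' ≫ G.i := by
    refine inv_unique (Data.tr_t hm').symm ?_
    conv_lhs => rw [← A.eq_tr h, Data.tr_t hm, Data.tr_s hm]
    rw [Data.tr_cmp (inv_t r).symm hm hm', cmp_inv, Data.tr, id_t, id_s,
      cmp_id (D.arr_s hm.1), D.arr_cmp hm.1 hm.1.symm, D.arr_self]
  rw [← Category.assoc, ← Category.assoc, ← key, A.fR_tr _ _ _ hm']

omit [IsFinite D.π] in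
theorem exists_lift (a : T ⟶ A.Rb) :
    ∃ (T' : Scheme.{u}) (k : T' ⟶ T) (α : T' ⟶ G.R), Epi k ∧ α ≫ A.fR = k ≫ a := by
  obtain ⟨⟨_, _⟩, _⟩ : fppf (pullback.fst a A.fR) := MorphismProperty.pullback_fst _ _ A.fppf_fR
  exact ⟨_, pullback.fst a A.fR, pullback.snd a A.fR, inferInstance, pullback.condition.symm⟩

omit [IsFinite D.π] in
theorem exists_extend (α : T ⟶ G.R) (b : T ⟶ A.Rb) (h : (α ≫ A.fR) ≫ A.sb = b ≫ A.tb) :
    ∃ (T' : Scheme.{u}) (k : T' ⟶ T) (β : T' ⟶ G.R), Epi k ∧ (k ≫ α) ≫ G.s = β ≫ G.t ∧ β ≫ A.fR = k ≫ b := by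
  let z : T ⟶ pullback (G.s ≫ D.π) A.tb := pullback.lift α b (by rw [← h, Category.assoc, fR_sb])
  obtain ⟨⟨_, _⟩, _⟩ : fppf (pullback.fst z A.m1) := MorphismProperty.pullback_fst _ _ A.fppf_m1
  refine ⟨_, pullback.fst z A.m1, pullback.snd z A.m1 ≫ pullback.snd G.s G.t, inferInstance, ?_, ?_⟩
  · have := congrArg (· ≫ pullback.fst (G.s ≫ D.π) A.tb) (pullback.condition (f := z) (g := A.m1))
    simp only [Category.assoc, m1_fst, z, pullback.lift_fst] at this
    rw [this]; simp [pullback.condition]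
    rfl
  · have := congrArg (· ≫ pullback.snd (G.s ≫ D.π) A.tb) (pullback.condition (f := z) (g := A.m1))
    simp only [Category.assoc, m1_snd, z, pullback.lift_snd] at this
    rw [Category.assoc, this]

omit [IsFinite D.π] in
theorem exists_groupoid :
    ∃ (H : GroupoidScheme S) (φ : GroupoidScheme.Hom G H),
      (∀ P : ∀ V : Scheme.{u}, (G.U ⟶ V) → (V ⟶ S) → Prop, P D.V D.π D.σ → P H.U φ.fU H.pU) ∧
      IsPullback φ.fR G.j H.j
        (pullback.map G.pU G.pU H.pU H.pU φ.fU φ.fU (𝟙 S)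
          ((Category.comp_id _).trans φ.fU_over.symm) ((Category.comp_id _).trans φ.fU_over.symm)) := by
  obtain ⟨cb, hcb⟩ := A.exists_c
  obtain ⟨eb, heb⟩ := A.exists_e
  obtain ⟨ib, hib⟩ := A.exists_i
  obtain ⟨⟨_, _⟩, _⟩ := A.fppf_fR
  obtain ⟨⟨_, _⟩, _⟩ := A.fppf_m2
  have pair : ∀ {W : Scheme.{u}} (α β : W ⟶ G.R), α ≫ G.s = β ≫ G.t → ∀ (a b : W ⟶ A.Rb)
      (hab : a ≫ A.sb = b ≫ A.tb), α ≫ A.fR = a → β ≫ A.fR = b →
      pullback.lift a b hab ≫ cb = cmp G α β ≫ A.fR := by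
    rintro W α β h a b hab rfl rfl
    rw [← A.lift_m2 h, Category.assoc, hcb, cmp_eq h, Category.assoc]
  have nat : ∀ {W W' : Scheme.{u}} (k : W' ⟶ W) (a b : W ⟶ A.Rb) (hab : a ≫ A.sb = b ≫ A.tb),
      k ≫ pullback.lift a b hab = pullback.lift (k ≫ a) (k ≫ b)
        (by rw [Category.assoc, Category.assoc, hab]) := fun k a b hab => by
    apply pullback.hom_ext <;> simp
  have lift2 : ∀ {W : Scheme.{u}} (a b : W ⟶ A.Rb), a ≫ A.sb = b ≫ A.tb →
      ∃ (W' : Scheme.{u}) (k : W' ⟶ W) (α β : W' ⟶ G.R), Epi k ∧ α ≫ G.s = β ≫ G.t ∧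
        α ≫ A.fR = k ≫ a ∧ β ≫ A.fR = k ≫ b := by
    intro W a b hab
    obtain ⟨W₁, k₁, α, hk₁, hα⟩ := A.exists_lift a
    obtain ⟨W₂, k₂, β, hk₂, hc, hβ⟩ := A.exists_extend α (k₁ ≫ b) (by rw [hα, Category.assoc, hab, Category.assoc])
    exact ⟨W₂, k₂ ≫ k₁, k₂ ≫ α, β, epi_comp _ _, hc, by rw [Category.assoc, hα, Category.assoc],
      by rw [hβ, Category.assoc]⟩
  have cs : ∀ {W : Scheme.{u}} (a b : W ⟶ A.Rb) (h : a ≫ A.sb = b ≫ A.tb),
      (pullback.lift a b h ≫ cb) ≫ A.sb = b ≫ A.sb := by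
    intro W a b h
    obtain ⟨W', k, α, β, hk, hc, ha, hb⟩ := lift2 a b h
    rw [← cancel_epi k, ← Category.assoc k, ← Category.assoc k, nat, pair α β hc _ _ _ ha hb,
      Category.assoc, fR_sb, reassoc_of% (cmp_s hc), ← fR_sb, reassoc_of% hb]
  have ct : ∀ {W : Scheme.{u}} (a b : W ⟶ A.Rb) (h : a ≫ A.sb = b ≫ A.tb),
      (pullback.lift a b h ≫ cb) ≫ A.tb = a ≫ A.tb := by
    intro W a b h
    obtain ⟨W', k, α, β, hk, hc, ha, hb⟩ := lift2 a b h
    rw [← cancel_epi k, ← Category.assoc k, ← Category.assoc k, nat, pair α β hc _ _ _ ha hb,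
      Category.assoc, fR_tb, reassoc_of% (cmp_t hc), ← fR_tb, reassoc_of% ha]
  have ebs : eb ≫ A.sb = 𝟙 D.V := by
    rw [← cancel_epi D.π, reassoc_of% heb, fR_sb, reassoc_of% G.e_s, Category.comp_id]
  have ebt : eb ≫ A.tb = 𝟙 D.V := by
    rw [← cancel_epi D.π, reassoc_of% heb, fR_tb, reassoc_of% G.e_t, Category.comp_id]
  have ibs : ib ≫ A.sb = A.tb := by
    rw [← cancel_epi A.fR, reassoc_of% hib, fR_sb, fR_tb, reassoc_of% G.i_s]
  have ibt : ib ≫ A.tb = A.sb := by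
    rw [← cancel_epi A.fR, reassoc_of% hib, fR_sb, fR_tb, reassoc_of% G.i_t]
  let H : GroupoidScheme S :=
    { U := D.V
      R := A.Rb
      pU := D.σ
      pR := A.sb ≫ D.σ
      s := A.sb
      t := A.tb
      e := eb
      i := ib
      c := cb
      s_over := rfl
      t_over := by simp only [sb, tb, Category.assoc, pullback.condition]
      comp_s := cs
      comp_t := ct
      assoc := fun {W} a b c h₁ h₂ => by
        obtain ⟨W', k, α, β, hk, hc, ha, hb⟩ := lift2 a b h₁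
        obtain ⟨W'', k', γ, hk', hc', hγ⟩ := A.exists_extend β (k ≫ c)
          (by rw [hb, Category.assoc, h₂, Category.assoc])
        have hc₁ : (k' ≫ α) ≫ G.s = (k' ≫ β) ≫ G.t := by rw [Category.assoc, Category.assoc, hc]
        have hka : (k' ≫ α) ≫ A.fR = (k' ≫ k) ≫ a := by rw [Category.assoc, ha, Category.assoc]
        have hkb : (k' ≫ β) ≫ A.fR = (k' ≫ k) ≫ b := by rw [Category.assoc, hb, Category.assoc]
        have hkc : γ ≫ A.fR = (k' ≫ k) ≫ c := by rw [hγ, Category.assoc]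
        have hk₂ : ((k' ≫ k) ≫ a) ≫ A.sb = ((k' ≫ k) ≫ b) ≫ A.tb := by simp only [Category.assoc, h₁]
        have hk₃ : ((k' ≫ k) ≫ b) ≫ A.sb = ((k' ≫ k) ≫ c) ≫ A.tb := by simp only [Category.assoc, h₂]
        rw [← cancel_epi (k' ≫ k)]
        simp only [← Category.assoc (f := k' ≫ k), nat]
        rw [pair (cmp G (k' ≫ α) (k' ≫ β)) γ ((cmp_s hc₁).trans hc') _ _ _
            (pair (k' ≫ α) (k' ≫ β) hc₁ _ _ hk₂ hka hkb).symm hkc,
          pair (k' ≫ α) (cmp G (k' ≫ β) γ) (hc₁.trans (cmp_t hc').symm) _ _ _ hka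
            (pair (k' ≫ β) γ hc' _ _ hk₃ hkb hkc).symm,
          cmp_assoc hc₁ hc']
      e_s := ebs
      e_t := ebt
      comp_e := fun {W} a => by
        obtain ⟨W', k, α, hk, hα⟩ := A.exists_lift a
        rw [← cancel_epi k, ← Category.assoc k, nat, pair α ((α ≫ G.s) ≫ G.e) (id_t _).symm _ _ _ hα (by
          rw [Category.assoc, Category.assoc, ← heb, ← A.fR_sb_assoc, reassoc_of% hα]), cmp_id rfl, hα]
      e_comp := fun {W} a => by
        obtain ⟨W', k, α, hk, hα⟩ := A.exists_lift a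
        rw [← cancel_epi k, ← Category.assoc k, nat, pair ((α ≫ G.t) ≫ G.e) α (id_s _) _ _ _ (by
          rw [Category.assoc, Category.assoc, ← heb, ← A.fR_tb_assoc, reassoc_of% hα]) hα, id_cmp rfl, hα]
      i_s := ibs
      i_t := ibt
      comp_i := fun {W} a => by
        obtain ⟨W', k, α, hk, hα⟩ := A.exists_lift a
        rw [← cancel_epi k, ← Category.assoc k, nat, pair α (α ≫ G.i) (inv_t α).symm _ _ _ hα (by
          rw [Category.assoc, ← hib, reassoc_of% hα]), cmp_inv, Category.assoc, Category.assoc, ← heb,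
          ← A.fR_tb_assoc, reassoc_of% hα]
      i_comp := fun {W} a => by
        obtain ⟨W', k, α, hk, hα⟩ := A.exists_lift a
        rw [← cancel_epi k, ← Category.assoc k, nat, pair (α ≫ G.i) α (inv_s α) _ _ _ (by
          rw [Category.assoc, ← hib, reassoc_of% hα]) hα, inv_cmp, Category.assoc, Category.assoc, ← heb,
          ← A.fR_sb_assoc, reassoc_of% hα] }
  let φ : GroupoidScheme.Hom G H :=
    { fU := D.π
      fR := A.fR
      fU_over := D.hσ
      comm_s := A.fR_sb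
      comm_t := A.fR_tb
      comm_c := fun α β h => by
        rw [Category.assoc, ← hcb, ← Category.assoc, A.lift_m2 h] }
  refine ⟨H, φ, fun _ h => h, ?_⟩
  have hj : H.j = A.jb := by
    apply pullback.hom_ext <;> simp [GroupoidScheme.j, H, sb, tb]
  rw [hj]
  exact A.sq

end

end Arrows

end Groth.Agent.AlgStLib.QuotRestrict
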