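import Groth.Agent.AlgStLib.OpenSub

/-!
# Open substacks spanned by open subspaces of charts
-/

set_option backward.isDefEq.respectTransparency false
set_option backward.isDefEq.respectTransparency.types false

universe u

open CategoryTheory CategoryTheory.Functor CategoryTheory.Limits AlgebraicGeometry Opposite AlgSp

namespace Groth.Agent.AlgStLib

open Groth.Agent.FibBase Groth.Agent.AlgSpLib

variable {S : Scheme.{u}} {𝒳 𝒵 : AlgSt.Cat S}

local notation "K₀" => Scheme.fppfPrecoverage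

theorem cancels_mono {P : MorphismProperty (Sp S)} (hP : StableBC P) :
    Cancels P (MorphismProperty.monomorphisms (Sp S)) := fun X Y Z hX hY hZ a b hab hb => by
  have : Mono b := hb
  refine hP hX hZ hX hY (a ≫ b) b a (𝟙 X) ⟨⟨by rw [Category.id_comp]⟩,
    ⟨PullbackCone.IsLimit.mk _ (fun s => s.fst) (fun s => Category.comp_id _) (fun s => ?_) ?_⟩⟩ hab
  · rw [← cancel_mono b, Category.assoc]
    exact s.condition
  · intro s m h1 _
    simpa using h1

/-- The image of an open subspace of a smooth chart is an open substack with that subspace as a chart. -/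
theorem exists_openImm_of_open_subspace (h𝒳 : AlgSt.IsAlgStack K₀ 𝒳) (U : AlgSp.Space S)
    (u : AlgSt.ofSp U.obj ⥤ᵇ 𝒳) (hu₁ : AlgSt.RepByAlgSpWith (LocP @Smooth) u) (V : AlgSp.Space S) (j : V ⟶ U)
    (hj : RepWith @IsOpenImmersion j.hom) :
    ∃ (𝒴 : AlgSt.Cat S) (i : 𝒴 ⥤ᵇ 𝒳) (g : AlgSt.ofSp V.obj ⥤ᵇ 𝒴),
      AlgSt.IsAlgStack K₀ 𝒴 ∧ AlgSt.IsOpenImm i ∧
        AlgSt.RepByAlgSpWith (LocP @Smooth) g ∧ AlgSt.RepByAlgSpWith IsSurjectiveMor g ∧
          Nonempty (BasedFunctor.comp g i ≅ BasedFunctor.comp (AlgSt.ofSpMap j.hom) u) := by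
  let F := BasedFunctor.comp (AlgSt.ofSpMap j.hom) u
  let T := Set.range (AlgSt.Points.map F)
  have hjr : AlgSt.RepByAlgSpWith (RepWith @IsOpenImmersion) (AlgSt.ofSpMap j.hom) :=
    repByAlgSpWith_ofSpMap (stableBC_of (P := RepWith @IsOpenImmersion)) V.property U.property j.hom hj
  have hjs : AlgSt.RepByAlgSpWith (LocP @Smooth) (AlgSt.ofSpMap j.hom) :=
    repByAlgSpWith_mono (fun _ _ _ h => locP_of_repWith (repWith_mono
      (fun _ _ g (_ : IsOpenImmersion g) => inferInstanceAs (Smooth g)) _ h)) hjr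
  have hF : AlgSt.RepByAlgSpWith (LocP @Smooth) F :=
    repByAlgSpWith_locP_comp (isFibGrpd_ofSp V.obj) (isFibGrpd_ofSp U.obj) hjs hu₁
  have hT : IsOpen T := (isOpenMap_pts_map_ofSp h𝒳.isStack.1 V (repByAlgSpWith_flat_of_smooth hF)
    (repByAlgSpWith_lfp_of_smooth hF)).isOpen_range
  obtain ⟨-, h𝒴, hi⟩ := isOpenSubstack_ptsIn h𝒳 hT
  have hmem : ∀ a, PtsIn T (F.obj a) :=
    ptsIn_map (T := T) h𝒳.isStack.1 (isFibGrpd_ofSp V.obj) F fun w => ⟨w, rfl⟩
  let g : AlgSt.ofSp V.obj ⥤ᵇ AlgSt.fullSub 𝒳 (PtsIn T) :=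
    { toFunctor := ObjectProperty.lift _ F.toFunctor hmem
      w := F.w }
  let k : BasedFunctor.comp g (AlgSt.subIncl 𝒳 (PtsIn T)) ≅ F := Iso.refl _
  have hmono := isMono_of_isImm (repByAlgSpWith_mono
    (fun _ _ _ h => repWith_mono (fun _ _ g (_ : IsOpenImmersion g) => inferInstanceAs (IsImmersion g)) _ h) hi)
  have hg : AlgSt.RepByAlgSpWith (LocP @Smooth) g :=
    repByAlgSpWith_of_comp stableBC_locP (cancels_mono stableBC_locP) hmono (repByAlgSpWith_of_iso k.symm hF)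
  refine ⟨_, _, g, h𝒴, hi, hg, repByAlgSpWith_surjective_of_isSurjective (isFibGrpd_ofSp V.obj) h𝒴.isStack.1
    (repByAlgSp1_of_repByAlgSpWith hg) (fun w => ?_), ⟨k⟩⟩
  have hw : AlgSt.Points.map (AlgSt.subIncl 𝒳 (PtsIn T)) w ∈ T := range_subIncl_ptsIn.subset ⟨w, rfl⟩
  obtain ⟨v, hv⟩ := hw
  exact ⟨v, pts_map_injective_of_isMono h𝒴.isStack.1 h𝒳.isStack.1 hmono
    ((pts_map_comp g _ v).symm.trans ((pts_map_congr k v).trans hv))⟩

end Groth.Agent.AlgStLib
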