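import Groth.Agent.AlgStLib.LargestOpenCart
import Groth.Agent.AlgStLib.OpenSubChart
import Groth.Agent.AlgStLib.DiagLFT

/-!
# The largest open substack with a property
-/

set_option linter.style.haveILetI false
set_option linter.unusedSectionVars false
set_option backward.isDefEq.respectTransparency false
set_option backward.isDefEq.respectTransparency.types false

universe u

open CategoryTheory CategoryTheory.Functor CategoryTheory.Limits AlgebraicGeometry Opposite AlgSp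

noncomputable section

namespace Groth.Agent.AlgStLib

open Groth.Agent.FibBase Groth.Agent.AlgSpLib

variable {S : Scheme.{u}} {𝒳 𝒴 : AlgSt.Cat S} {f : 𝒳 ⥤ᵇ 𝒴} {P Q R : MorphismProperty (Sp S)}

local notation "K₀" => Scheme.fppfPrecoverage

/-- `w` is the largest open subspace on which `φ` has `P`. -/
def IsLargest (P : MorphismProperty (Sp S)) {X Y W : AlgSp.Space S} (φ : X ⟶ Y) (w : W ⟶ X) : Prop :=
  RepWith @IsOpenImmersion w.hom ∧ P (w ≫ φ).hom ∧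
    ∀ (W₁ : AlgSp.Space S) (w₁ : W₁ ⟶ X), RepWith @IsOpenImmersion w₁.hom → P (w₁ ≫ φ).hom →
      ∃ k : W₁ ⟶ W, k ≫ w = w₁

/-- The first hypothesis: largest open subspaces exist. -/
def HasLargest (P Q : MorphismProperty (Sp S)) : Prop :=
  ∀ (X Y : AlgSp.Space S) (f : X ⟶ Y), Q f.hom → ∃ (W : AlgSp.Space S) (w : W ⟶ X), IsLargest P f w

/-- The second hypothesis: largest open subspaces are compatible with base change along `R`. -/
def LargestBC (P Q R : MorphismProperty (Sp S)) : Prop :=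
  ∀ (X Y X' Y' : AlgSp.Space S) (f : X ⟶ Y) (g : Y' ⟶ Y) (f' : X' ⟶ Y') (g' : X' ⟶ X),
    IsPullback g'.hom f'.hom f.hom g.hom → Q f.hom → R g.hom →
    ∀ (W : AlgSp.Space S) (w : W ⟶ X), IsLargest P f w →
      ∀ (W' : AlgSp.Space S) (w' : W' ⟶ X') (k : W' ⟶ W), IsPullback k.hom w'.hom w.hom g'.hom →
        IsLargest P f' w'

theorem IsLargest.range_subset {X Y W W₁ : AlgSp.Space S} {φ : X ⟶ Y} {w : W ⟶ X} (h : IsLargest P φ w)
    (w₁ : W₁ ⟶ X) (h₁ : RepWith @IsOpenImmersion w₁.hom) (h₂ : P (w₁ ≫ φ).hom) :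
    Set.range (AlgSt.Points.map (AlgSt.ofSpMap w₁.hom)) ⊆ Set.range (AlgSt.Points.map (AlgSt.ofSpMap w.hom)) := by
  obtain ⟨k, rfl⟩ := h.2.2 W₁ w₁ h₁ h₂
  rintro _ ⟨z, rfl⟩
  refine ⟨AlgSt.Points.map (AlgSt.ofSpMap k.hom) z, spPt_bijective.1 ?_⟩
  rw [spPt_map_ofSpMap, spPt_map_ofSpMap, spPt_map_ofSpMap]
  exact (AlgSp.Points.map_comp _ _ _).symm

/-- An open subspace factors through one with a larger set of points. -/
theorem exists_factor_of_range_subset {G A B : Sp S} (hG : IsAlgSpace G) (hA : IsAlgSpace A) (hB : IsAlgSpace B)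
    {j : A ⟶ G} {w : B ⟶ G} (hw : RepWith @IsOpenImmersion w)
    (h : Set.range (AlgSt.Points.map (AlgSt.ofSpMap j)) ⊆ Set.range (AlgSt.Points.map (AlgSt.ofSpMap w))) :
    ∃ k : A ⟶ B, k ≫ w = j := by
  have sq := IsPullback.of_hasPullback w j
  have : IsIso (pullback.snd w j) := AlgSpDec.isIso_of_openImm_surjective hA (repWith_of_isPullback sq hw) fun x => by
    obtain ⟨x', rfl⟩ := spPt_bijective.2 x
    obtain ⟨b, hb⟩ := h ⟨x', rfl⟩
    have hb' : AlgSp.Points.map w (spPt b) = AlgSp.Points.map j (spPt x') := by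
      rw [← spPt_map_ofSpMap, ← spPt_map_ofSpMap, hb]
    obtain ⟨z, -, hz⟩ := exists_point_of_isPullback sq hb'
    exact ⟨z, hz⟩
  exact ⟨inv (pullback.snd w j) ≫ pullback.fst w j, by rw [Category.assoc, pullback.condition, IsIso.inv_hom_id_assoc]⟩

/-- The base change of an open substack to a representing space. -/
theorem exists_sub (h𝒳 : AlgSt.IsAlgStack K₀ 𝒳) {Q₁ : 𝒳.obj → Prop} (hQ₁ : AlgSt.IsOpenSubstack 𝒳 Q₁ K₀)
    {V : Over S} (v : FibCat.overCat V ⥤ᵇ 𝒴) {F : AlgSp.Space S} (e : AlgSt.ofSp F.obj ⥤ᵇ FibCat.fp v f)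
    (he : FibCat.IsEquivOver e) :
    ∃ (W : AlgSp.Space S) (w : W ⟶ F)
      (E : AlgSt.ofSp W.obj ⥤ᵇ FibCat.fp v (BasedFunctor.comp (AlgSt.subIncl 𝒳 Q₁) f)),
      RepWith @IsOpenImmersion w.hom ∧ FibCat.IsEquivOver E ∧
      AlgSt.spMapOfOver (BasedFunctor.comp E (FibCat.fpFst v _)) =
        w.hom ≫ AlgSt.spMapOfOver (BasedFunctor.comp e (FibCat.fpFst v f)) ∧
      Set.range (AlgSt.Points.map (AlgSt.ofSpMap w.hom)) =
        AlgSt.Points.map (BasedFunctor.comp e (FibCat.fpSnd v f)) ⁻¹'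
          Set.range (AlgSt.Points.map (AlgSt.subIncl 𝒳 Q₁)) := by
  let incl := AlgSt.subIncl 𝒳 Q₁
  let z₀ := BasedFunctor.comp e (FibCat.fpSnd v f)
  have hfg := hQ₁.2.1.isStack.1
  obtain ⟨W, e', he'⟩ := exists_space_fp_equiv hfg h𝒳.isStack.1
    (repByAlgSp1_of_repByAlgSpWith hQ₁.2.2) F z₀
  let w : W ⟶ F := ObjectProperty.homMk (spHom (BasedFunctor.comp e' (FibCat.fpFst z₀ incl)))
  let m := fpMap (F := FibCat.fpSnd v f) (G := incl) (F' := z₀) (G' := incl) (a := e) (b := BasedFunctor.id _)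
    (c := BasedFunctor.id _) (Iso.refl _) (Iso.refl _)
  let E := BasedFunctor.comp e' (BasedFunctor.comp m (pasteHor v incl f))
  have hw : RepWith @IsOpenImmersion w.hom :=
    property_spHom_fpFst stableBC_of (fun _ _ a ha => repWith_of_repBySpWith a ha) F.property W.property
      hQ₁.2.2 e' he'
  refine ⟨W, w, E, hw, isEquivOver_comp he' (isEquivOver_comp (fpMap_isEquivOver _ _ he isEquivOver_id)
    (pasteHor_isEquivOver v incl f)), ?_, ?_⟩
  · rw [show w.hom = spHom (BasedFunctor.comp e' (FibCat.fpFst z₀ incl)) from rfl, ← spMapOfOver_comp]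
    rfl
  · refine Set.Subset.antisymm ?_ ?_
    · rintro _ ⟨a, rfl⟩
      refine ⟨AlgSt.Points.map (FibCat.fpSnd z₀ incl) (AlgSt.Points.map e' a), ?_⟩
      show _ = AlgSt.Points.map z₀ (AlgSt.Points.map (AlgSt.ofSpMap (spHom _)) a)
      rw [← pts_map_congr (isoOfSpMap (BasedFunctor.comp e' (FibCat.fpFst z₀ incl))) a]
      obtain ⟨p, rfl⟩ := AlgSt.Points.mk_surjective a
      exact (pts_map_congr (FibCat.fpIso z₀ incl) (AlgSt.Points.mk (p.map e'))).symm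
    · rintro b ⟨x, hx⟩
      obtain ⟨r, hr, -⟩ := exists_pts_fp hfg h𝒳.isStack.1 (isFibGrpd_ofSp F.obj) incl z₀ b x hx.symm
      obtain ⟨a, rfl⟩ := (pts_bijective_of_isEquivOver he').2 r
      refine ⟨a, ?_⟩
      show AlgSt.Points.map (AlgSt.ofSpMap (spHom _)) a = b
      rw [← pts_map_congr (isoOfSpMap (BasedFunctor.comp e' (FibCat.fpFst z₀ incl))) a, pts_map_comp, hr]

variable (hPb : StableBC P) (hQb : StableBC Q) (hP : IsLocalOnBase IsFppfCover P)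
  (h₂ : ∀ (X Y : AlgSp.Space S) (g : X ⟶ Y), LocP @Smooth g.hom → R g.hom)
  (h₄ : LargestBC P Q R) (hf : AlgSt.RepByAlgSpWith Q f)
  (h𝒳 : AlgSt.IsAlgStack K₀ 𝒳) (h𝒴 : AlgSt.IsAlgStack K₀ 𝒴)

include hQb h₂ h₄ hf h𝒳 h𝒴 in
/-- The largest open subspace over an atlas is saturated for the map to the stack. -/
theorem saturated_largest {V : Over S} {v : FibCat.overCat V ⥤ᵇ 𝒴} (hv : AlgSt.RepByAlgSpWith (LocP @Smooth) v)
    {F : AlgSp.Space S} (e : AlgSt.ofSp F.obj ⥤ᵇ FibCat.fp v f) (he : FibCat.IsEquivOver e)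
    {W : AlgSp.Space S} (w : W ⟶ F)
    (hw : IsLargest P (Y := (⟨(yon S).obj V, IsAlgSpace.yon_obj V⟩ : AlgSp.Space S))
      (ObjectProperty.homMk (AlgSt.spMapOfOver (BasedFunctor.comp e (FibCat.fpFst v f)))) w)
    (z z' : AlgSt.Points (AlgSt.ofSp F.obj)) (hz' : z' ∈ Set.range (AlgSt.Points.map (AlgSt.ofSpMap w.hom)))
    (h : AlgSt.Points.map (BasedFunctor.comp e (FibCat.fpSnd v f)) z =
      AlgSt.Points.map (BasedFunctor.comp e (FibCat.fpSnd v f)) z') :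
    z ∈ Set.range (AlgSt.Points.map (AlgSt.ofSpMap w.hom)) := by
  let Y : AlgSp.Space S := ⟨(yon S).obj V, IsAlgSpace.yon_obj V⟩
  let φ : F ⟶ Y := ObjectProperty.homMk (AlgSt.spMapOfOver (BasedFunctor.comp e (FibCat.fpFst v f)))
  have hφ : Q φ.hom := (RepOver.property_of_stableBC hQb (hf V v) e he).2
  obtain ⟨G, eG, heG, hG₁⟩ := hv V v
  have hG₂ : LocP @Smooth (AlgSt.spMapOfOver (BasedFunctor.comp eG (FibCat.fpSnd v v))) :=
    (RepOver.property_of_stableBC stableBC_locP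
      (RepOver.of_equiv (p' := FibCat.fpSnd v v) (hv V v) (fpSwap v v) (fpSwap_isEquivOver v v) (Iso.refl _)) eG heG).2
  obtain ⟨U', p, hp, hps⟩ := G.property.atlas
  obtain ⟨k, hk⟩ := (yon S).map_surjective (p ≫ AlgSt.spMapOfOver (BasedFunctor.comp eG (FibCat.fpFst v v)))
  obtain ⟨l, hl⟩ := (yon S).map_surjective (p ≫ AlgSt.spMapOfOver (BasedFunctor.comp eG (FibCat.fpSnd v v)))
  have hps' : LocP @Smooth p := locP_mono etale_le_smooth (locP_of_repWith hp)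
  have hks : LocP @Smooth ((yon S).map k) :=
    hk ▸ locP_comp (IsAlgSpace.yon_obj U') G.property (IsAlgSpace.yon_obj V) hps' hG₁
  have hls : LocP @Smooth ((yon S).map l) :=
    hl ▸ locP_comp (IsAlgSpace.yon_obj U') G.property (IsAlgSpace.yon_obj V) hps' hG₂
  let E := BasedFunctor.comp (overOfMap p) eG
  let ik : BasedFunctor.comp E (FibCat.fpFst v v) ≅ AlgSt.overMap k :=
    overMapPullIso p (BasedFunctor.comp eG (FibCat.fpFst v v)) k hk
  let il : BasedFunctor.comp E (FibCat.fpSnd v v) ≅ AlgSt.overMap l :=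
    overMapPullIso p (BasedFunctor.comp eG (FibCat.fpSnd v v)) l hl
  let i : BasedFunctor.comp (AlgSt.overMap k) v ≅ BasedFunctor.comp (AlgSt.overMap l) v :=
    (whiskerRightIso ik v).symm ≪≫ whiskerLeftIso E (FibCat.fpIso v v) ≪≫ whiskerRightIso il v
  let c := FibCat.fpLift (AlgSt.overMap k) (AlgSt.overMap l) i
  have hc : Function.Surjective (AlgSt.Points.map c) := fun x => by
    obtain ⟨x', rfl⟩ := (pts_bijective_of_isEquivOver heG).2 x
    obtain ⟨s, rfl⟩ := surjective_overOfMap hps x'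
    refine ⟨ptAt U' s, ?_⟩
    rw [← pts_map_comp]
    obtain ⟨q, hq⟩ := AlgSt.Points.mk_surjective (ptAt U' s)
    rw [← hq]
    refine pts_eq_of_hom (p := q.map c) (q := q.map E) ?_
    refine (fpIsoMk (x := E.obj q.obj) (y := c.obj q.obj) (isoApp ik q.obj) (isoApp il q.obj) ?_).inv
    show v.map (isoApp ik q.obj).hom ≫ (v.map (isoApp ik q.obj).inv ≫ (E.obj q.obj).obj.iso.hom ≫
      v.map (isoApp il q.obj).hom) = _
    rw [← v.toFunctor.map_comp_assoc, Iso.hom_inv_id, CategoryTheory.Functor.map_id, Category.id_comp]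
  obtain ⟨F', e', he', hφ'⟩ := hf U' (BasedFunctor.comp (AlgSt.overMap k) v)
  obtain ⟨g₁, hg₁, hg₁p⟩ := exists_cart k (Iso.refl (BasedFunctor.comp (AlgSt.overMap k) v)) e he e' he'
  obtain ⟨g₂, hg₂, hg₂p⟩ := exists_cart l i e he e' he'
  let Y' : AlgSp.Space S := ⟨(yon S).obj U', IsAlgSpace.yon_obj U'⟩
  let φ' : F' ⟶ Y' := ObjectProperty.homMk (AlgSt.spMapOfOver (BasedFunctor.comp e' (FibCat.fpFst _ f)))
  let W₁ : AlgSp.Space S := ⟨pullback w.hom g₁, isAlgSpace_pullback W.property F'.property F.property _ _⟩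
  let W₂ : AlgSp.Space S := ⟨pullback w.hom g₂, isAlgSpace_pullback W.property F'.property F.property _ _⟩
  let w₁ : W₁ ⟶ F' := ObjectProperty.homMk (pullback.snd w.hom g₁)
  let w₂ : W₂ ⟶ F' := ObjectProperty.homMk (pullback.snd w.hom g₂)
  have hL₁ : IsLargest P φ' w₁ := h₄ F Y F' Y' φ (ObjectProperty.homMk ((yon S).map k)) φ'
    (ObjectProperty.homMk g₁) hg₁ hφ (h₂ Y' Y (ObjectProperty.homMk ((yon S).map k)) hks) W w hw W₁ w₁
    (ObjectProperty.homMk (pullback.fst w.hom g₁)) (IsPullback.of_hasPullback _ _)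
  have hL₂ : IsLargest P φ' w₂ := h₄ F Y F' Y' φ (ObjectProperty.homMk ((yon S).map l)) φ'
    (ObjectProperty.homMk g₂) hg₂ hφ (h₂ Y' Y (ObjectProperty.homMk ((yon S).map l)) hls) W w hw W₂ w₂
    (ObjectProperty.homMk (pullback.fst w.hom g₂)) (IsPullback.of_hasPullback _ _)
  rw [pts_map_comp, pts_map_comp] at h
  obtain ⟨r, hr₁, hr₂⟩ := exists_pts_baseMap (f := f) i h𝒳.isStack.1 h𝒴.isStack.1 hc _ _ h
  obtain ⟨r, rfl⟩ := (pts_bijective_of_isEquivOver he').2 r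
  rw [← hg₁p r] at hr₁
  rw [← hg₂p r] at hr₂
  replace hr₁ := (pts_bijective_of_isEquivOver he).1 hr₁
  replace hr₂ := (pts_bijective_of_isEquivOver he).1 hr₂
  obtain ⟨a, ha⟩ := hz'
  have hmem : r ∈ Set.range (AlgSt.Points.map (AlgSt.ofSpMap w₂.hom)) := by
    obtain ⟨t, -, ht⟩ := exists_point_of_isPullback (IsPullback.of_hasPullback w.hom g₂)
      (show AlgSp.Points.map w.hom (spPt a) = AlgSp.Points.map g₂ (spPt r) by
        rw [← spPt_map_ofSpMap, ← spPt_map_ofSpMap, ha, hr₂])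
    obtain ⟨t, rfl⟩ := spPt_bijective.2 t
    exact ⟨t, spPt_bijective.1 ((spPt_map_ofSpMap _ t).trans ht)⟩
  obtain ⟨t, ht⟩ := hL₁.range_subset w₂ hL₂.1 hL₂.2.1 hmem
  refine ⟨AlgSt.Points.map (AlgSt.ofSpMap (pullback.fst w.hom g₁)) t, spPt_bijective.1 ?_⟩
  rw [← hr₁, ← ht, spPt_map_ofSpMap, spPt_map_ofSpMap, spPt_map_ofSpMap, spPt_map_ofSpMap,
    ← AlgSp.Points.map_comp, ← AlgSp.Points.map_comp, pullback.condition]
  rfl

include hPb hQb hP h₂ h₄ hf h𝒳 h𝒴 in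
/-- The image of the largest open subspace over an atlas is an open substack with the property. -/
theorem property_image_largest {V : Over S} {v : FibCat.overCat V ⥤ᵇ 𝒴}
    (hv : AlgSt.RepByAlgSpWith (LocP @Smooth) v) (hvs : AlgSt.RepByAlgSpWith IsSurjectiveMor v)
    {F : AlgSp.Space S} (e : AlgSt.ofSp F.obj ⥤ᵇ FibCat.fp v f) (he : FibCat.IsEquivOver e)
    {W : AlgSp.Space S} (w : W ⟶ F)
    (hw : IsLargest P (Y := (⟨(yon S).obj V, IsAlgSpace.yon_obj V⟩ : AlgSp.Space S))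
      (ObjectProperty.homMk (AlgSt.spMapOfOver (BasedFunctor.comp e (FibCat.fpFst v f)))) w) :
    let T := Set.range (AlgSt.Points.map
      (BasedFunctor.comp (AlgSt.ofSpMap w.hom) (BasedFunctor.comp e (FibCat.fpSnd v f))))
    IsOpen T ∧ AlgSt.RepByAlgSpWith P (BasedFunctor.comp (AlgSt.subIncl 𝒳 (PtsIn T)) f) := by
  intro T₀
  let Y : AlgSp.Space S := ⟨(yon S).obj V, IsAlgSpace.yon_obj V⟩
  let φ : F ⟶ Y := ObjectProperty.homMk (AlgSt.spMapOfOver (BasedFunctor.comp e (FibCat.fpFst v f)))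
  let ψ := BasedFunctor.comp e (FibCat.fpSnd v f)
  let C := BasedFunctor.comp (AlgSt.ofSpMap w.hom) ψ
  let T := Set.range (AlgSt.Points.map C)
  have hwsm : AlgSt.RepByAlgSpWith (LocP @Smooth) (AlgSt.ofSpMap w.hom) :=
    repByAlgSpWith_ofSpMap stableBC_locP W.property F.property w.hom
      (locP_of_repWith (repWith_mono (fun _ _ g (_ : IsOpenImmersion g) => inferInstanceAs (Smooth g)) _ hw.1))
  have hψ : AlgSt.RepByAlgSpWith (LocP @Smooth) ψ :=
    (repByAlgSpWith_iff_of_square (a := e) (b := BasedFunctor.id 𝒳) (f' := ψ) he isEquivOver_id (Iso.refl _)).1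
      (repByAlgSpWith_fpSnd f hv)
  have hC : AlgSt.RepByAlgSpWith (LocP @Smooth) C :=
    repByAlgSpWith_locP_comp (isFibGrpd_ofSp W.obj) (isFibGrpd_ofSp F.obj) hwsm hψ
  have hT : IsOpen T := (isOpenMap_pts_map_ofSp h𝒳.isStack.1 W (repByAlgSpWith_flat_of_smooth hC)
    (repByAlgSpWith_lfp_of_smooth hC)).isOpen_range
  have hQ₀ := isOpenSubstack_ptsIn h𝒳 hT
  refine ⟨hT, ?_⟩
  obtain ⟨W₀, w₀, E₀, hw₀, hE₀, hE₀φ, hr₀⟩ := exists_sub h𝒳 hQ₀ v e he
  have hsub : Set.range (AlgSt.Points.map (AlgSt.ofSpMap w₀.hom)) ⊆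
      Set.range (AlgSt.Points.map (AlgSt.ofSpMap w.hom)) := fun b hb => by
    rw [hr₀, range_subIncl_ptsIn] at hb
    obtain ⟨a, ha⟩ := hb
    exact saturated_largest hQb h₂ h₄ hf h𝒳 h𝒴 hv e he w hw b _ ⟨a, rfl⟩
      (ha.symm.trans (pts_map_comp _ _ _))
  have hsup : Set.range (AlgSt.Points.map (AlgSt.ofSpMap w.hom)) ⊆
      Set.range (AlgSt.Points.map (AlgSt.ofSpMap w₀.hom)) := by
    rintro _ ⟨a, rfl⟩
    rw [hr₀, range_subIncl_ptsIn]
    exact ⟨a, pts_map_comp _ _ _⟩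
  obtain ⟨k₁, hk₁⟩ := exists_factor_of_range_subset F.property W₀.property W.property hw.1 hsub
  obtain ⟨k₂, hk₂⟩ := exists_factor_of_range_subset F.property W.property W₀.property hw₀ hsup
  have := AlgSpDec.mono_of_openImm hw.1
  have := AlgSpDec.mono_of_openImm hw₀
  have : IsIso k₁ := ⟨k₂, by rw [← cancel_mono w₀.hom, Category.assoc, hk₂, hk₁, Category.id_comp],
    by rw [← cancel_mono w.hom, Category.assoc, hk₁, hk₂, Category.id_comp]⟩
  have hP₀ : P (w₀.hom ≫ φ.hom) := by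
    rw [← hk₁, Category.assoc]
    exact hPb.precomp W.property (IsAlgSpace.yon_obj V) k₁ hw.2.1
  refine repByAlgSpWith_of_locEssSurj hPb hP (repByAlgSp1_comp hQ₀.2.1.isStack.1 h𝒳.isStack.1
    (repByAlgSp1_of_repByAlgSpWith hQ₀.2.2) (repByAlgSp1_of_repByAlgSpWith hf))
    (locEssSurj_of_atlas hv hvs) ?_
  refine (repByAlgSpWith_iff_of_square (f' := AlgSt.ofSpMap (w₀.hom ≫ φ.hom)) (a := E₀)
    (b := AlgSt.toOverCat V) hE₀ (isEquivOver_toOverCat V) ?_).2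
    (repByAlgSpWith_ofSpMap hPb W₀.property (IsAlgSpace.yon_obj V) _ hP₀)
  exact (isoSpMapOfOver (BasedFunctor.comp E₀ (FibCat.fpFst v _)) ≪≫
    whiskerRightIso (eqToIso (congrArg (fun a => AlgSt.ofSpMap a) hE₀φ)) _).symm

include hPb hQb hP h₂ h₄ hf h𝒳 h𝒴 in
/-- There is a largest open substack on which a representable morphism has the property. -/
theorem exists_largest_openSubstack (h₃ : HasLargest P Q) :
    ∃ Q₀ : 𝒳.obj → Prop, AlgSt.IsOpenSubstack 𝒳 Q₀ K₀ ∧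
      AlgSt.RepByAlgSpWith P (BasedFunctor.comp (AlgSt.subIncl 𝒳 Q₀) f) ∧
        ∀ Q₁ : 𝒳.obj → Prop, AlgSt.IsOpenSubstack 𝒳 Q₁ K₀ →
          AlgSt.RepByAlgSpWith P (BasedFunctor.comp (AlgSt.subIncl 𝒳 Q₁) f) → ∀ y, Q₁ y → Q₀ y := by
  obtain ⟨V, v, hv, hvs⟩ := h𝒴.atlas
  obtain ⟨F, e, he, hQφ⟩ := hf V v
  let Y : AlgSp.Space S := ⟨(yon S).obj V, IsAlgSpace.yon_obj V⟩
  let φ : F ⟶ Y := ObjectProperty.homMk (AlgSt.spMapOfOver (BasedFunctor.comp e (FibCat.fpFst v f)))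
  obtain ⟨W, w, hw⟩ := h₃ F Y φ hQφ
  let T := Set.range (AlgSt.Points.map
    (BasedFunctor.comp (AlgSt.ofSpMap w.hom) (BasedFunctor.comp e (FibCat.fpSnd v f))))
  obtain ⟨hT, hTP⟩ := property_image_largest hPb hQb hP h₂ h₄ hf h𝒳 h𝒴 hv hvs e he w hw
  refine ⟨PtsIn T, isOpenSubstack_ptsIn h𝒳 hT, hTP, fun Q₁ hQ₁ hQ₁P => ?_⟩
  rw [eq_ptsIn_range h𝒳 hQ₁]
  refine fun x hx p α => ?_
  obtain ⟨W₁, w₁, E₁, hw₁, hE₁, hE₁φ, hr₁⟩ := exists_sub h𝒳 hQ₁ v e he
  have hP₁ : P (w₁ ≫ φ).hom := by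
    show P (w₁.hom ≫ φ.hom)
    rw [show φ.hom = AlgSt.spMapOfOver (BasedFunctor.comp e (FibCat.fpFst v f)) from rfl, ← hE₁φ]
    exact (RepOver.property_of_stableBC hPb (hQ₁P V v) E₁ hE₁).2
  obtain ⟨u, hu⟩ := (pts_surjective_fpSnd (isFibGrpd_overCat V) h𝒴.isStack.1 h𝒳.isStack.1 f
    (isSurjective_of_repByAlgSpWith (isFibGrpd_overCat V) h𝒴.isStack.1 (isAlgStack_overCat _).atlas hvs)) (AlgSt.Points.mk p)
  obtain ⟨u, rfl⟩ := (pts_bijective_of_isEquivOver he).2 u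
  rw [← pts_map_comp] at hu
  have hmem : u ∈ Set.range (AlgSt.Points.map (AlgSt.ofSpMap w₁.hom)) := by
    rw [hr₁, Set.mem_preimage, hu]
    exact hx p α
  obtain ⟨a, ha⟩ := hw.range_subset w₁ hw₁ hP₁ hmem
  exact ⟨a, (pts_map_comp _ _ _).trans ((congrArg _ ha).trans hu)⟩

end Groth.Agent.AlgStLib
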