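import Groth.Agent.AlgStLib.LargestOpen

/-!
# Base change of the largest open substack with a property
-/

set_option linter.style.haveILetI false
set_option linter.unusedSectionVars false
set_option backward.isDefEq.respectTransparency false
set_option backward.isDefEq.respectTransparency.types false

universe u

open CategoryTheory CategoryTheory.Functor CategoryTheory.Limits AlgebraicGeometry Opposite AlgSp

noncomputable section

namespace Groth.Agent.AlgStLib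

open Groth.Agent.FibBase Groth.Agent.AlgSpLib

variable {S : Scheme.{u}} {𝒳 𝒴 𝒵 : AlgSt.Cat S} {f : 𝒳 ⥤ᵇ 𝒴} {P Q R : MorphismProperty (Sp S)}

local notation "K₀" => Scheme.fppfPrecoverage

theorem ptsIn_preimage_iff {𝒲 : AlgSt.Cat S} (h𝒳 : FibCat.IsFibGrpd 𝒳.p) (h𝒲 : FibCat.IsFibGrpd 𝒲.p)
    (G : 𝒲 ⥤ᵇ 𝒳) (T : Set (AlgSt.Points 𝒳)) (b : 𝒲.obj) :
    PtsIn (AlgSt.Points.map G ⁻¹' T) b ↔ PtsIn T (G.obj b) := by
  refine ⟨fun h p φ => ?_, fun h p φ => h (p.map G) (G.map φ)⟩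
  let m : Over.mk p.str ⟶ 𝒲.p.obj b := eqToHom p.lies.symm ≫ 𝒳.p.map φ ≫ eqToHom (G.w_obj b)
  obtain ⟨o, ψ, hψ⟩ := h𝒲.exists_lift (x := b) m
  have hp : 𝒲.p.obj o = Over.mk p.str := IsHomLift.domain_eq 𝒲.p m ψ
  have h₁ : 𝒳.p.IsHomLift m φ := IsHomLift.of_fac 𝒳.p m φ p.lies (G.w_obj b) rfl
  have h₂ : 𝒳.p.IsHomLift m (G.map ψ) := G.preserves_isHomLift m ψ
  obtain ⟨j, -, -⟩ := exists_iso_of_lifts (hp := h𝒳) m (G.map ψ) φ
  let q : AlgSt.FPt 𝒲 := { K := p.K, str := p.str, obj := o, lies := hp }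
  rw [show AlgSt.Points.mk p = AlgSt.Points.map G (AlgSt.Points.mk q) from pts_eq_of_hom (q := q.map G) j.hom]
  exact h q ψ

/-- The restriction of a base change to the preimage of a full subcategory is a base change. -/
theorem repByAlgSpWith_fpFst_restrict {Q₀ : 𝒳.obj → Prop} (hQc : ObjectProperty.IsClosedUnderIsomorphisms Q₀)
    (z : 𝒵 ⥤ᵇ 𝒴) (h : AlgSt.RepByAlgSpWith P (BasedFunctor.comp (AlgSt.subIncl 𝒳 Q₀) f)) :
    AlgSt.RepByAlgSpWith P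
      (BasedFunctor.comp (AlgSt.subIncl (FibCat.fp z f) fun b ↦ Q₀ b.obj.snd) (FibCat.fpFst z f)) := by
  let I := AlgSt.subIncl (FibCat.fp z f) fun b ↦ Q₀ b.obj.snd
  let L : AlgSt.fullSub (FibCat.fp z f) (fun b ↦ Q₀ b.obj.snd) ⥤ᵇ AlgSt.fullSub 𝒳 Q₀ :=
    { toFunctor := ObjectProperty.lift _ (BasedFunctor.comp I (FibCat.fpSnd z f)).toFunctor fun b => b.property
      w := (BasedFunctor.comp I (FibCat.fpSnd z f)).w }
  let Λ : AlgSt.fullSub (FibCat.fp z f) (fun b ↦ Q₀ b.obj.snd) ⥤ᵇ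
      FibCat.fp z (BasedFunctor.comp (AlgSt.subIncl 𝒳 Q₀) f) :=
    FibCat.fpLift (BasedFunctor.comp I (FibCat.fpFst z f)) L (whiskerLeftIso I (FibCat.fpIso z f))
  have hΛ : FibCat.IsEquivOver Λ := by
    refine isEquivOver_of_exists_iso _ ⟨fun {x y} t => ?_⟩ ⟨fun {x y} t t' h => ?_⟩ fun η => ?_
    · exact ⟨ObjectProperty.homMk (ObjectProperty.homMk ⟨t.hom.fst, t.hom.snd.hom, t.hom.w⟩),
        ObjectProperty.hom_ext _ (CategoricalPullback.hom_ext rfl rfl)⟩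
    · exact ObjectProperty.hom_ext _ (ObjectProperty.hom_ext _ (CategoricalPullback.hom_ext
        (congrArg (fun s => s.hom.fst) h) (congrArg (fun s => s.hom.snd.hom) h)))
    · let o : (FibCat.fp z f).obj := ⟨⟨η.obj.fst, η.obj.snd.obj, η.obj.iso⟩, η.property⟩
      exact ⟨⟨o, η.obj.snd.property⟩, fpIsoMk (Iso.refl _) (Iso.refl _) (by
        show z.map (𝟙 _) ≫ η.obj.iso.hom = η.obj.iso.hom ≫ f.map (𝟙 _)
        simp
        exact (Category.comp_id _).symm), fp_isHomLift (F := z) (G := BasedFunctor.comp (AlgSt.subIncl 𝒳 Q₀) f) (𝟙 _) _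
          (h := IsHomLift.id (p := 𝒵.p) rfl)⟩
  exact (repByAlgSpWith_iff_of_square (f' := BasedFunctor.comp I (FibCat.fpFst z f)) (a := Λ)
    (b := BasedFunctor.id 𝒵) hΛ isEquivOver_id (Iso.refl _)).1 (repByAlgSpWith_fpFst z h)

/-- The largest open substack with a property pulls back along morphisms with `R`. -/
theorem largest_openSubstack_baseChange (hPb : StableBC P) (hQb : StableBC Q) (hP : IsLocalOnBase IsFppfCover P)
    (h₂ : ∀ (X Y : AlgSp.Space S) (g : X ⟶ Y), LocP @Smooth g.hom → R g.hom) (h₃ : HasLargest P Q)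
    (h₄ : LargestBC P Q R) (hf : AlgSt.RepByAlgSpWith Q f) (h𝒳 : AlgSt.IsAlgStack K₀ 𝒳)
    (h𝒴 : AlgSt.IsAlgStack K₀ 𝒴) (h𝒵 : AlgSt.IsAlgStack K₀ 𝒵)
    {Q₀ : 𝒳.obj → Prop} (hQ₀ : AlgSt.IsOpenSubstack 𝒳 Q₀ K₀)
    (hQ₀P : AlgSt.RepByAlgSpWith P (BasedFunctor.comp (AlgSt.subIncl 𝒳 Q₀) f))
    (hQ₀max : ∀ Q₁ : 𝒳.obj → Prop, AlgSt.IsOpenSubstack 𝒳 Q₁ K₀ →
      AlgSt.RepByAlgSpWith P (BasedFunctor.comp (AlgSt.subIncl 𝒳 Q₁) f) → ∀ y, Q₁ y → Q₀ y)
    (z : 𝒵 ⥤ᵇ 𝒴) (hz : AlgSt.RepByAlgSpWith R z) :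
    AlgSt.IsOpenSubstack (FibCat.fp z f) (fun b ↦ Q₀ b.obj.snd) K₀ ∧
      AlgSt.RepByAlgSpWith P
        (BasedFunctor.comp (AlgSt.subIncl (FibCat.fp z f) fun b ↦ Q₀ b.obj.snd) (FibCat.fpFst z f)) ∧
        ∀ Q₁ : (FibCat.fp z f).obj → Prop, AlgSt.IsOpenSubstack (FibCat.fp z f) Q₁ K₀ →
          AlgSt.RepByAlgSpWith P (BasedFunctor.comp (AlgSt.subIncl (FibCat.fp z f) Q₁) (FibCat.fpFst z f)) →
            ∀ b, Q₁ b → Q₀ b.obj.snd := by
  have h𝒲 := isAlgStack_fp h𝒵 h𝒳 h𝒴.isStack h𝒴.diag z f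
  let T₀ := Set.range (AlgSt.Points.map (AlgSt.subIncl 𝒳 Q₀))
  have hT₀ : IsOpen T₀ := isOpen_range_of_isOpenImm hQ₀.2.1 h𝒳 hQ₀.2.2
  let T' := AlgSt.Points.map (FibCat.fpSnd z f) ⁻¹' T₀
  have heq : PtsIn T' = fun b => Q₀ b.obj.snd := funext fun b => propext
    ((ptsIn_preimage_iff h𝒳.isStack.1 h𝒲.isStack.1 (FibCat.fpSnd z f) T₀ b).trans
      (iff_of_eq (congrFun (eq_ptsIn_range h𝒳 hQ₀) b.obj.snd).symm))
  refine ⟨?_, repByAlgSpWith_fpFst_restrict hQ₀.1 z hQ₀P, fun Q₁ hQ₁ hQ₁P b hb => ?_⟩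
  · rw [← heq]
    exact isOpenSubstack_ptsIn h𝒲 (hT₀.preimage (continuous_pts_map h𝒳.isStack.1 h𝒳.atlas _))
  refine (congrFun heq b).mp fun p α => ?_
  have hpQ : AlgSt.Points.mk p ∈ Set.range (AlgSt.Points.map (AlgSt.subIncl (FibCat.fp z f) Q₁)) := by
    rw [eq_ptsIn_range h𝒲 hQ₁] at hb
    exact hb p α
  obtain ⟨V, v, hv, hvs⟩ := h𝒴.atlas
  obtain ⟨F, e, he, hQφ⟩ := hf V v
  let Y : AlgSp.Space S := ⟨(yon S).obj V, IsAlgSpace.yon_obj V⟩
  let φ : F ⟶ Y := ObjectProperty.homMk (AlgSt.spMapOfOver (BasedFunctor.comp e (FibCat.fpFst v f)))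
  obtain ⟨W, w, hw⟩ := h₃ F Y φ hQφ
  let ψ := BasedFunctor.comp e (FibCat.fpSnd v f)
  obtain ⟨hT, hTP⟩ := property_image_largest hPb hQb hP h₂ h₄ hf h𝒳 h𝒴 hv hvs e he w hw
  have hsub : Set.range (AlgSt.Points.map (BasedFunctor.comp (AlgSt.ofSpMap w.hom) ψ)) ⊆ T₀ := by
    have := ((bijOn_openSubstack h𝒳).2 _ Q₀ (isOpenSubstack_ptsIn h𝒳 hT) hQ₀).1
      (hQ₀max _ (isOpenSubstack_ptsIn h𝒳 hT) hTP)
    rwa [range_subIncl_ptsIn] at this
  obtain ⟨G, eG, heG, hG⟩ := hz V v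
  obtain ⟨U, q, hq, hqs⟩ := G.property.atlas
  let φG : G.obj ⟶ (yon S).obj V := AlgSt.spMapOfOver (BasedFunctor.comp eG (FibCat.fpFst v z))
  obtain ⟨k, hk⟩ := (yon S).map_surjective (q ≫ φG)
  let E := BasedFunctor.comp (overOfMap q) eG
  let ik : BasedFunctor.comp E (FibCat.fpFst v z) ≅ AlgSt.overMap k :=
    overMapPullIso q (BasedFunctor.comp eG (FibCat.fpFst v z)) k hk
  let uZ := BasedFunctor.comp E (FibCat.fpSnd v z)
  let i : BasedFunctor.comp uZ z ≅ BasedFunctor.comp (AlgSt.overMap k) v :=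
    (whiskerLeftIso E (FibCat.fpIso v z)).symm ≪≫ whiskerRightIso ik v
  obtain ⟨F', e', he', hQφ'⟩ := hf U (BasedFunctor.comp uZ z)
  obtain ⟨g, hg, hgp⟩ := exists_cart k i e he e' he'
  obtain ⟨inv', hinv, -, ⟨j⟩⟩ := isEquivOver_inv (pasteVert_isEquivOver uZ z f)
  let e'' := BasedFunctor.comp e' inv'
  have he'' : FibCat.IsEquivOver e'' := isEquivOver_comp he' hinv
  obtain ⟨W₁, w₁, E₁, hw₁, hE₁, hE₁φ, hr₁⟩ := exists_sub h𝒲 hQ₁ uZ e'' he''
  -- the largest open subspace over `U` is the preimage of `W`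
  let Y' : AlgSp.Space S := ⟨(yon S).obj U, IsAlgSpace.yon_obj U⟩
  let φ' : F' ⟶ Y' := ObjectProperty.homMk (AlgSt.spMapOfOver (BasedFunctor.comp e' (FibCat.fpFst _ f)))
  let FG : AlgSp.Space S :=
    ⟨pullback φ.hom φG, isAlgSpace_pullback F.property G.property (IsAlgSpace.yon_obj V) _ _⟩
  have sqG := IsPullback.of_hasPullback φ.hom φG
  let φFG : FG ⟶ G := ObjectProperty.homMk (pullback.snd φ.hom φG)
  let g₀ : FG ⟶ F := ObjectProperty.homMk (pullback.fst φ.hom φG)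
  let g₁ : F'.obj ⟶ FG.obj := pullback.lift g (φ'.hom ≫ q) (by
    rw [Category.assoc, ← hk]
    exact hg.w)
  have sq₁ : IsPullback g₁ φ'.hom φFG.hom q := by
    refine IsPullback.of_right ?_ (pullback.lift_snd _ _ _) sqG
    rw [show g₁ ≫ pullback.fst φ.hom φG = g from pullback.lift_fst _ _ _, ← hk]
    exact hg
  let WG : AlgSp.Space S := ⟨pullback w.hom g₀.hom, isAlgSpace_pullback W.property FG.property F.property _ _⟩
  let wG : WG ⟶ FG := ObjectProperty.homMk (pullback.snd w.hom g₀.hom)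
  have hLG : IsLargest P φFG wG := h₄ F Y FG G φ (ObjectProperty.homMk φG) φFG g₀ sqG hQφ hG W w hw WG wG
    (ObjectProperty.homMk (pullback.fst w.hom g₀.hom)) (IsPullback.of_hasPullback _ _)
  let W' : AlgSp.Space S := ⟨pullback wG.hom g₁, isAlgSpace_pullback WG.property F'.property FG.property _ _⟩
  let w' : W' ⟶ F' := ObjectProperty.homMk (pullback.snd wG.hom g₁)
  have hL' : IsLargest P φ' w' := h₄ FG G F' Y' φFG (ObjectProperty.homMk q) φ'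
    (ObjectProperty.homMk g₁) sq₁ (hQb F.property (IsAlgSpace.yon_obj V) FG.property G.property _ _ _ _ sqG hQφ)
    (h₂ Y' G (ObjectProperty.homMk q) (locP_mono etale_le_smooth (locP_of_repWith hq))) WG wG hLG W' w'
    (ObjectProperty.homMk (pullback.fst wG.hom g₁)) (IsPullback.of_hasPullback _ _)
  have hP₁ : P (w₁ ≫ φ').hom := by
    have hφeq : AlgSt.spMapOfOver (BasedFunctor.comp e'' (FibCat.fpFst uZ (FibCat.fpFst z f))) = φ'.hom :=
      spMapOfOver_congr (whiskerRightIso (whiskerLeftIso e' j) (FibCat.fpFst (BasedFunctor.comp uZ z) f))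
    show P (w₁.hom ≫ φ'.hom)
    rw [← hφeq, ← hE₁φ]
    exact (RepOver.property_of_stableBC hPb (hQ₁P U uZ) E₁ hE₁).2
  -- lift the point
  have huZ : AlgSt.IsSurjective uZ := fun x => by
    obtain ⟨r, hr⟩ := pts_surjective_fpSnd (isFibGrpd_overCat V) h𝒴.isStack.1 h𝒵.isStack.1 z
      (isSurjective_of_repByAlgSpWith (isFibGrpd_overCat V) h𝒴.isStack.1 (isAlgStack_overCat _).atlas hvs) x
    obtain ⟨r, rfl⟩ := (pts_bijective_of_isEquivOver heG).2 r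
    obtain ⟨s, rfl⟩ := surjective_overOfMap hqs r
    exact ⟨ptAt U s, by rw [pts_map_comp E, pts_map_comp (overOfMap q)]; exact hr⟩
  obtain ⟨c, hc⟩ := pts_surjective_fpSnd (isFibGrpd_overCat U) h𝒵.isStack.1 h𝒲.isStack.1 (FibCat.fpFst z f)
    huZ (AlgSt.Points.mk p)
  obtain ⟨a, rfl⟩ := (pts_bijective_of_isEquivOver he'').2 c
  rw [← pts_map_comp] at hc
  have hmem : a ∈ Set.range (AlgSt.Points.map (AlgSt.ofSpMap w₁.hom)) := by
    rw [hr₁, Set.mem_preimage, hc]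
    exact hpQ
  obtain ⟨d, hd⟩ := hL'.range_subset w₁ hw₁ hP₁ hmem
  -- its image lies over the open subspace
  let d' := AlgSt.Points.map (AlgSt.ofSpMap (pullback.fst w.hom g₀.hom))
    (AlgSt.Points.map (AlgSt.ofSpMap (pullback.fst wG.hom g₁)) d)
  have hd' : AlgSt.Points.map (AlgSt.ofSpMap w.hom) d' = AlgSt.Points.map (AlgSt.ofSpMap g) a := by
    apply spPt_bijective.1
    rw [← hd]
    simp only [d', spPt_map_ofSpMap, ← AlgSp.Points.map_comp]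
    congr 1
    rw [Category.assoc, pullback.condition, ← Category.assoc]
    show (pullback.fst wG.hom g₁ ≫ wG.hom) ≫ g₀.hom = pullback.snd wG.hom g₁ ≫ g
    rw [pullback.condition, Category.assoc, show g₁ ≫ g₀.hom = g from pullback.lift_fst _ _ _]
  show AlgSt.Points.map (FibCat.fpSnd z f) (AlgSt.Points.mk p) ∈ T₀
  refine hsub ⟨d', ?_⟩
  rw [pts_map_comp, hd', pts_map_comp, hgp a, ← hc]
  show _ = AlgSt.Points.map (FibCat.fpSnd z f) (AlgSt.Points.map (BasedFunctor.comp e'' (FibCat.fpSnd uZ (FibCat.fpFst z f))) a)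
  rw [← pts_map_comp (baseMap f k i)]
  have e1 : AlgSt.Points.map e' a = AlgSt.Points.map (pasteVert uZ z f) (AlgSt.Points.map e'' a) := by
    rw [← pts_map_comp e'' (pasteVert uZ z f)]
    exact (pts_map_congr (whiskerLeftIso e' j) a).symm
  rw [e1, ← pts_map_comp (pasteVert uZ z f), pts_map_comp e'', ← pts_map_comp (FibCat.fpSnd uZ (FibCat.fpFst z f))]
  rfl

end Groth.Agent.AlgStLib
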