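import Groth.Agent.AlgStLib.Descent
import Groth.Agent.AlgStLib.SpaceCalc
import Groth.Agent.AlgStLib.Charts
import Groth.Agent.AlgSpDec.LimOpen

/-!
# Base changes of representing spaces and lifting of points
-/

set_option linter.style.haveILetI false
set_option linter.unusedSectionVars false
set_option backward.isDefEq.respectTransparency false
set_option backward.isDefEq.respectTransparency.types false

universe u

open CategoryTheory CategoryTheory.Functor CategoryTheory.Limits AlgebraicGeometry Opposite AlgSp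

noncomputable section

namespace Groth.Agent.AlgStLib

open Groth.Agent.FibBase Groth.Agent.AlgSpLib

variable {S : Scheme.{u}} {𝒳 𝒴 : AlgSt.Cat S} {f : 𝒳 ⥤ᵇ 𝒴}

/-- The projection of a base change along a map of slices. -/
def baseMap (f : 𝒳 ⥤ᵇ 𝒴) {U U' : Over S} {y : FibCat.overCat U ⥤ᵇ 𝒴} {y' : FibCat.overCat U' ⥤ᵇ 𝒴}
    (k : U' ⟶ U) (i : y' ≅ BasedFunctor.comp (AlgSt.overMap k) y) : FibCat.fp y' f ⥤ᵇ FibCat.fp y f :=
  FibCat.fpLift (BasedFunctor.comp (FibCat.fpFst y' f) (AlgSt.overMap k)) (FibCat.fpSnd y' f)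
    (whiskerLeftIso (FibCat.fpFst y' f) i.symm ≪≫ FibCat.fpIso y' f)

/-- The representing spaces of a base change form a cartesian square. -/
theorem exists_cart {U U' : Over S} {y : FibCat.overCat U ⥤ᵇ 𝒴} {y' : FibCat.overCat U' ⥤ᵇ 𝒴} (k : U' ⟶ U)
    (i : y' ≅ BasedFunctor.comp (AlgSt.overMap k) y) {F F' : Sp S}
    (e : AlgSt.ofSp F ⥤ᵇ FibCat.fp y f) (he : FibCat.IsEquivOver e)
    (e' : AlgSt.ofSp F' ⥤ᵇ FibCat.fp y' f) (he' : FibCat.IsEquivOver e') :
    ∃ g : F' ⟶ F,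
      IsPullback g (AlgSt.spMapOfOver (BasedFunctor.comp e' (FibCat.fpFst y' f)))
        (AlgSt.spMapOfOver (BasedFunctor.comp e (FibCat.fpFst y f))) ((yon S).map k) ∧
      ∀ z : AlgSt.Points (AlgSt.ofSp F'), AlgSt.Points.map e (AlgSt.Points.map (AlgSt.ofSpMap g) z) =
        AlgSt.Points.map (baseMap f k i) (AlgSt.Points.map e' z) := by
  let a := AlgSt.spMapOfOver (BasedFunctor.comp e (FibCat.fpFst y f))
  let q : FibCat.fp y f ⥤ᵇ AlgSt.ofSch U := BasedFunctor.comp (FibCat.fpFst y f) (AlgSt.ofOverCat U)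
  let iq : BasedFunctor.comp e q ≅ AlgSt.ofSpMap a :=
    isoOfSpMap (BasedFunctor.comp e q) ≪≫
      eqToIso (congrArg (fun m => AlgSt.ofSpMap m) (spMapOfOver_eq (BasedFunctor.comp e (FibCat.fpFst y f))).symm)
  have sq₀ := IsPullback.of_hasPullback a ((yon S).map k)
  let sq := sq₀.map (sheafToPresheaf (J S) (Type (u + 1)))
  have := full_of_isEquivOver (isEquivOver_toOverCat U)
  have := faithful_of_isEquivOver (isEquivOver_toOverCat U)
  let c := compare q e iq sq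
  let m := fpMap (F := AlgSt.overMap k) (G := FibCat.fpFst y f)
    (F' := BasedFunctor.comp (AlgSt.ofOverCat U') (Stk.ofPshMap ((yon S).map k).hom)) (G' := q)
    (a := BasedFunctor.id _) (b := BasedFunctor.id _) (c := AlgSt.toOverCat U)
    (overMapIso k).symm (whiskerLeftIso (FibCat.fpFst y f) (ofOverCatIso U))
  let E : AlgSt.ofSp (pullback a ((yon S).map k)) ⥤ᵇ FibCat.fp (BasedFunctor.comp (AlgSt.overMap k) y) f :=
    BasedFunctor.comp c (BasedFunctor.comp m (pasteVert (AlgSt.overMap k) y f))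
  have hE : FibCat.IsEquivOver E := isEquivOver_comp (compare_isEquivOver q e iq he sq)
    (isEquivOver_comp (fpMap_isEquivOver _ _ isEquivOver_id isEquivOver_id)
      (pasteVert_isEquivOver (AlgSt.overMap k) y f))
  obtain ⟨E', hE', -, ⟨j⟩⟩ := isEquivOver_inv hE
  let T : FibCat.fp y' f ⥤ᵇ FibCat.fp (BasedFunctor.comp (AlgSt.overMap k) y) f :=
    fpMap (F := BasedFunctor.comp (AlgSt.overMap k) y) (G := f) (F' := y') (G' := f) (a := BasedFunctor.id _)
      (b := BasedFunctor.id _) (c := BasedFunctor.id _) i.symm (Iso.refl _)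
  have hT : FibCat.IsEquivOver T := fpMap_isEquivOver _ _ isEquivOver_id isEquivOver_id
  let K := BasedFunctor.comp (BasedFunctor.comp e' T) E'
  have : IsIso (spHom K) := isIso_spHom (Φ := K) (isEquivOver_comp (isEquivOver_comp he' hT) hE')
  have hφ : spHom K ≫ pullback.snd a ((yon S).map k) =
      AlgSt.spMapOfOver (BasedFunctor.comp e' (FibCat.fpFst y' f)) := by
    let jf : BasedFunctor.comp E (FibCat.fpFst (BasedFunctor.comp (AlgSt.overMap k) y) f) ≅
        BasedFunctor.comp (AlgSt.ofSpMap (pullback.snd a ((yon S).map k))) (AlgSt.toOverCat U') :=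
      compareFst q e iq sq
    rw [← spMapOfOver_ofSpMap_toOverCat (pullback.snd a ((yon S).map k)), ← spMapOfOver_congr jf,
      ← spMapOfOver_comp]
    exact spMapOfOver_congr (whiskerRightIso (whiskerLeftIso (BasedFunctor.comp e' T) j)
      (FibCat.fpFst (BasedFunctor.comp (AlgSt.overMap k) y) f))
  refine ⟨spHom K ≫ pullback.fst a ((yon S).map k), ?_, fun z => ?_⟩
  · exact sq₀.of_iso (asIso (spHom K)).symm (Iso.refl _) (Iso.refl _) (Iso.refl _) (by simp) (by simp [← hφ])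
      (by simp [a]) (by simp)
  · have e1 : AlgSt.Points.map E (AlgSt.Points.map (AlgSt.ofSpMap (spHom K)) z) =
        AlgSt.Points.map T (AlgSt.Points.map e' z) := by
      rw [← pts_map_congr (isoOfSpMap K) z]
      show AlgSt.Points.map E (AlgSt.Points.map (BasedFunctor.comp (BasedFunctor.comp e' T) E') z) = _
      rw [pts_map_comp (BasedFunctor.comp e' T) E']
      refine (pts_map_comp E' E _).symm.trans ((pts_map_congr j _).trans ?_)
      rw [pts_map_id, pts_map_comp]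
    have e2 : ∀ w, AlgSt.Points.map e (AlgSt.Points.map (AlgSt.ofSpMap (pullback.fst a ((yon S).map k))) w) =
        AlgSt.Points.map (baseMap f k (Iso.refl (BasedFunctor.comp (AlgSt.overMap k) y))) (AlgSt.Points.map E w) :=
      fun w => by
      obtain ⟨p, rfl⟩ := AlgSt.Points.mk_surjective w
      let x := m.obj (c.obj p.obj)
      let tgt := (baseMap f k (Iso.refl (BasedFunctor.comp (AlgSt.overMap k) y))).obj (E.obj p.obj)
      refine pts_eq_of_hom (p := (p.map (AlgSt.ofSpMap (pullback.fst a ((yon S).map k)))).map e)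
        (q := (p.map E).map (baseMap f k (Iso.refl (BasedFunctor.comp (AlgSt.overMap k) y)))) ?_
      refine (fpIsoMk (x := x.obj.snd) (y := tgt) x.obj.iso.symm (Iso.refl _) ?_).hom
      show y.map x.obj.iso.inv ≫ 𝟙 _ ≫ y.map x.obj.iso.hom ≫ x.obj.snd.obj.iso.hom =
        x.obj.snd.obj.iso.hom ≫ f.map (𝟙 _)
      rw [Category.id_comp, ← y.toFunctor.map_comp_assoc, Iso.inv_hom_id, CategoryTheory.Functor.map_id,
        CategoryTheory.Functor.map_id, Category.id_comp, Category.comp_id]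
    have e3 : ∀ w, AlgSt.Points.map (baseMap f k (Iso.refl (BasedFunctor.comp (AlgSt.overMap k) y)))
        (AlgSt.Points.map T w) = AlgSt.Points.map (baseMap f k i) w := fun w => by
      obtain ⟨p, rfl⟩ := AlgSt.Points.mk_surjective w
      refine pts_eq_of_hom
        (p := (p.map T).map (baseMap f k (Iso.refl (BasedFunctor.comp (AlgSt.overMap k) y))))
        (q := p.map (baseMap f k i)) ?_
      refine (fpIsoMk (x := (baseMap f k (Iso.refl (BasedFunctor.comp (AlgSt.overMap k) y))).obj (T.obj p.obj))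
        (y := (baseMap f k i).obj p.obj) (Iso.refl _) (Iso.refl _) ?_).hom
      show y.map (𝟙 _) ≫ (isoApp i.symm _).hom ≫ p.obj.obj.iso.hom =
        (𝟙 _ ≫ (isoApp i.symm _).hom ≫ p.obj.obj.iso.hom ≫ 𝟙 _) ≫ f.map (𝟙 _)
      simp
    have e0 : AlgSt.Points.map (AlgSt.ofSpMap (spHom K ≫ pullback.fst a ((yon S).map k))) z =
        AlgSt.Points.map (AlgSt.ofSpMap (pullback.fst a ((yon S).map k)))
          (AlgSt.Points.map (AlgSt.ofSpMap (spHom K)) z) := by
      apply spPt_bijective.1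
      rw [spPt_map_ofSpMap, spPt_map_ofSpMap, spPt_map_ofSpMap, AlgSp.Points.map_comp]
    rw [e0, e2, e1, e3]

section Lift

variable {U V U' : Over S} {y : FibCat.overCat U ⥤ᵇ 𝒴} {v : FibCat.overCat V ⥤ᵇ 𝒴}
  {k : U' ⟶ U} {l : U' ⟶ V} (i : BasedFunctor.comp (AlgSt.overMap k) y ≅ BasedFunctor.comp (AlgSt.overMap l) v)

/-- Two points of two base changes with the same image lift to a base change over both. -/
theorem exists_pts_baseMap (h𝒳 : FibCat.IsFibGrpd 𝒳.p) (h𝒴 : FibCat.IsFibGrpd 𝒴.p)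
    (hc : Function.Surjective (AlgSt.Points.map (FibCat.fpLift (AlgSt.overMap k) (AlgSt.overMap l) i)))
    (z : AlgSt.Points (FibCat.fp y f)) (w : AlgSt.Points (FibCat.fp v f))
    (h : AlgSt.Points.map (FibCat.fpSnd y f) z = AlgSt.Points.map (FibCat.fpSnd v f) w) :
    ∃ r, AlgSt.Points.map (baseMap f k (Iso.refl (BasedFunctor.comp (AlgSt.overMap k) y))) r = z ∧
      AlgSt.Points.map (baseMap f l i) r = w := by
  let c := FibCat.fpLift (AlgSt.overMap k) (AlgSt.overMap l) i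
  let N := FibCat.fp (FibCat.fpSnd y f) (FibCat.fpSnd v f)
  let n₁ : N ⥤ᵇ FibCat.fp y f := FibCat.fpFst _ _
  let n₂ : N ⥤ᵇ FibCat.fp v f := FibCat.fpSnd _ _
  let Φ : N ⥤ᵇ FibCat.fp y v :=
    FibCat.fpLift (BasedFunctor.comp n₁ (FibCat.fpFst y f)) (BasedFunctor.comp n₂ (FibCat.fpFst v f))
      (whiskerLeftIso n₁ (FibCat.fpIso y f) ≪≫ whiskerRightIso (FibCat.fpIso (FibCat.fpSnd y f) (FibCat.fpSnd v f)) f ≪≫
        (whiskerLeftIso n₂ (FibCat.fpIso v f)).symm)
  let Ψ : FibCat.fp c Φ ⥤ᵇ FibCat.fp (BasedFunctor.comp (AlgSt.overMap k) y) f :=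
    FibCat.fpLift (FibCat.fpFst c Φ) (BasedFunctor.comp (BasedFunctor.comp (FibCat.fpSnd c Φ) n₁) (FibCat.fpSnd y f))
      (whiskerRightIso (whiskerRightIso (FibCat.fpIso c Φ) (FibCat.fpFst y v)) y ≪≫
        whiskerLeftIso (BasedFunctor.comp (FibCat.fpSnd c Φ) n₁) (FibCat.fpIso y f))
  have hyf := fp_isFibGrpd (F := y) (G := f) (isFibGrpd_overCat U) h𝒳 h𝒴
  have hvf := fp_isFibGrpd (F := v) (G := f) (isFibGrpd_overCat V) h𝒳 h𝒴
  have hyv := fp_isFibGrpd (F := y) (G := v) (isFibGrpd_overCat U) (isFibGrpd_overCat V) h𝒴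
  have hN := fp_isFibGrpd (F := FibCat.fpSnd y f) (G := FibCat.fpSnd v f) hyf hvf h𝒳
  obtain ⟨q, hq₁, hq₂⟩ := exists_pts_fp hvf h𝒳 hyf (FibCat.fpSnd v f) (FibCat.fpSnd y f) z w h
  obtain ⟨t, ht⟩ := hc (AlgSt.Points.map Φ q)
  obtain ⟨r, hr₁, hr₂⟩ := exists_pts_fp hN hyv (isFibGrpd_overCat U') Φ c t q ht
  refine ⟨AlgSt.Points.map Ψ r, ?_, ?_⟩
  · rw [← hq₁, ← hr₂]
    obtain ⟨p, rfl⟩ := AlgSt.Points.mk_surjective r
    refine pts_eq_of_hom (p := (p.map Ψ).map (baseMap f k (Iso.refl (BasedFunctor.comp (AlgSt.overMap k) y))))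
      (q := (p.map (FibCat.fpSnd c Φ)).map n₁) ?_
    let a : ((c.obj p.obj.obj.fst).obj.fst ≅ (Φ.obj p.obj.obj.snd).obj.fst) :=
      (FibCat.fpFst y v).toFunctor.mapIso p.obj.obj.iso
    refine (fpIsoMk (x := (baseMap f k (Iso.refl (BasedFunctor.comp (AlgSt.overMap k) y))).obj (Ψ.obj p.obj))
      (y := n₁.obj p.obj.obj.snd) a (Iso.refl _) ?_).hom
    show y.map a.hom ≫ (n₁.obj p.obj.obj.snd).obj.iso.hom =
      (𝟙 _ ≫ y.map a.hom ≫ (n₁.obj p.obj.obj.snd).obj.iso.hom) ≫ f.map (𝟙 _)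
    simp
  · rw [← hq₂, ← hr₂]
    obtain ⟨p, rfl⟩ := AlgSt.Points.mk_surjective r
    refine pts_eq_of_hom (p := (p.map Ψ).map (baseMap f l i))
      (q := (p.map (FibCat.fpSnd c Φ)).map n₂) ?_
    let a₁ : ((c.obj p.obj.obj.fst).obj.fst ≅ (Φ.obj p.obj.obj.snd).obj.fst) :=
      (FibCat.fpFst y v).toFunctor.mapIso p.obj.obj.iso
    let a₂ : ((c.obj p.obj.obj.fst).obj.snd ≅ (Φ.obj p.obj.obj.snd).obj.snd) :=
      (FibCat.fpSnd y v).toFunctor.mapIso p.obj.obj.iso
    let b := p.obj.obj.snd.obj.iso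
    refine (fpIsoMk (x := (baseMap f l i).obj (Ψ.obj p.obj)) (y := n₂.obj p.obj.obj.snd) a₂ b ?_).hom
    have hj : y.map a₁.hom ≫ ((n₁.obj p.obj.obj.snd).obj.iso.hom ≫ f.map b.hom ≫
        (n₂.obj p.obj.obj.snd).obj.iso.inv) = (isoApp i p.obj.obj.fst).hom ≫ v.map a₂.hom :=
      p.obj.obj.iso.hom.hom.w
    show v.map a₂.hom ≫ (n₂.obj p.obj.obj.snd).obj.iso.hom =
      ((isoApp i p.obj.obj.fst).inv ≫ y.map a₁.hom ≫ (n₁.obj p.obj.obj.snd).obj.iso.hom) ≫ f.map b.hom
    rw [← cancel_epi (isoApp i p.obj.obj.fst).hom, ← Category.assoc, ← hj]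
    simp only [Category.assoc, Iso.inv_hom_id, Category.comp_id, Iso.hom_inv_id_assoc]

end Lift

end Groth.Agent.AlgStLib
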