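import Groth.Agent.AlgStLib.LocQInst
import Groth.Agent.SrcDescent.LocalAtSource
import Groth.Agent.SrcDescent.QsSurj
import Groth.Agent.AlgSpLib.LocalSourceInst

/-!
# Descent of local finite type along fppf surjections of the source
-/

set_option backward.isDefEq.respectTransparency false
set_option backward.isDefEq.respectTransparency.types false

universe u

open CategoryTheory CategoryTheory.Functor CategoryTheory.Limits AlgebraicGeometry Opposite AlgSp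

namespace Groth.Agent.AlgStLib

open Groth.Agent.FibBase Groth.Agent.AlgSpLib

variable {S : Scheme.{u}} {𝒳 𝒴 𝒵 : AlgSt.Cat S}

theorem isLocalAtSource_lft_fppf :
    MorphismProperty.IsLocalAtSource (@LocallyOfFiniteType : MorphismProperty Scheme.{u})
      Scheme.fppfPrecoverage :=
  SrcDescent.isLocalAtSource_of_surjective (W := @Flat ⊓ @LocallyOfFinitePresentation)
    (fun f g hf hg => have := hf.2; MorphismProperty.comp_mem @LocallyOfFiniteType f g inferInstance hg)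
    fun f g hf hs h => have := hf.1; have := hf.2; have := hs; have := h; SrcDescent.locallyOfFiniteType_of_fppf_comp f g

theorem locP_lft_of_comp {X Y Z : Sp S} (hX : IsAlgSpace X) (hY : IsAlgSpace Y) (hZ : IsAlgSpace Z)
    (s : X ⟶ Y) (g : Y ⟶ Z) (hs₁ : LocP @Flat s) (hs₂ : LocP @LocallyOfFinitePresentation s)
    (hs' : IsSurjectiveMor s) (h : LocP @LocallyOfFiniteType (s ≫ g)) : LocP @LocallyOfFiniteType g :=
  have := isLocalAtSource_lft_fppf.{u}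
  (isLocalOnSource_fppf (@LocallyOfFiniteType) (fun _ : PUnit.{u+1} => X) (fun _ => s) hY (fun _ => hX)
    ⟨fun _ => ⟨hs₁, hs₂⟩, fun y => ⟨⟨⟩, hs' y⟩⟩ g hZ).2 fun _ => h

theorem locQ_lft_of_precomp_fppf (h𝒳 : AlgSt.IsAlgStack Scheme.fppfPrecoverage 𝒳)
    (h𝒴 : AlgSt.IsAlgStack Scheme.fppfPrecoverage 𝒴) (h𝒵 : AlgSt.IsAlgStack Scheme.fppfPrecoverage 𝒵)
    {f : 𝒳 ⥤ᵇ 𝒴} {g : 𝒴 ⥤ᵇ 𝒵} (hf₁ : AlgSt.LocQ (LocP @Flat) f)
    (hf₂ : AlgSt.LocQ (LocP @LocallyOfFinitePresentation) f) (hf' : AlgSt.IsSurjective f)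
    (h : AlgSt.LocQ (LocP @LocallyOfFiniteType) (BasedFunctor.comp f g)) :
    AlgSt.LocQ (LocP @LocallyOfFiniteType) g := by
  obtain ⟨U, V, W, z, d, c, hz, hd, hc, hy⟩ := exists_charts_comp h𝒳 h𝒴 h𝒵 f g
  obtain ⟨c', e, hs, -⟩ := exists_chart_comp h𝒳.isStack.1 h𝒴.isStack.1 h𝒵.isStack.1 d c
  refine locQ_of_chart isSmoothLocalST_lft h𝒴 h𝒵 hz.1 hz.2 hd.1 hd.2 ?_
  have := (locQ_iff_locQS isSmoothLocalST_lft h𝒳 h𝒵 _).1 h U W z c' hz.1 (hs hc.1 hd.1)
  rw [e] at this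
  exact locP_lft_of_comp U.property V.property W.property _ _
    ((locQ_iff_locQS isSmoothLocalST_flat h𝒳 h𝒴 f).1 hf₁ U V _ c hy.1 hc.1)
    ((locQ_iff_locQS isSmoothLocalST_lfp h𝒳 h𝒴 f).1 hf₂ U V _ c hy.1 hc.1) (surj_chart h𝒳 h𝒴 hf' hc.2) this

end Groth.Agent.AlgStLib
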