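import Groth.Agent.AlgStLib.LocQ
import Groth.Agent.AlgStLib.Charts

/-!
# Properties read on smooth charts: composition and base change
-/

set_option backward.isDefEq.respectTransparency false
set_option backward.isDefEq.respectTransparency.types false

universe u

open CategoryTheory CategoryTheory.Functor CategoryTheory.Limits AlgebraicGeometry Opposite AlgSp

namespace Groth.Agent.AlgStLib

open Groth.Agent.FibBase Groth.Agent.AlgSpLib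

variable {S : Scheme.{u}} {𝒳 𝒴 𝒵 𝒴' : AlgSt.Cat S} {P : MorphismProperty (Sp S)}

/-- Base change of a chart. -/
theorem exists_chart_baseChange (h𝒳 : FibCat.IsFibGrpd 𝒳.p) (h𝒴 : FibCat.IsFibGrpd 𝒴.p) {f : 𝒳 ⥤ᵇ 𝒴}
    {g : 𝒴' ⥤ᵇ 𝒴} {U V V' : AlgSp.Space S} {y : AlgSt.ofSp V.obj ⥤ᵇ 𝒴} {y' : AlgSt.ofSp V'.obj ⥤ᵇ 𝒴'}
    {k : V'.obj ⟶ V.obj} (β : BasedFunctor.comp y' g ≅ BasedFunctor.comp (AlgSt.ofSpMap k) y)
    (c : AlgSt.ofSp U.obj ⥤ᵇ FibCat.fp f y) :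
    ∃ (D : AlgSp.Space S) (p : D.obj ⟶ U.obj) (q : D.obj ⟶ V'.obj)
      (c' : AlgSt.ofSp D.obj ⥤ᵇ FibCat.fp (FibCat.fpFst g f) y'),
      IsPullback p q (spHom (BasedFunctor.comp c (FibCat.fpSnd f y))) k ∧
      spHom (BasedFunctor.comp c' (FibCat.fpSnd (FibCat.fpFst g f) y')) = q ∧
      (AlgSt.RepByAlgSpWith (LocP @Smooth) c → AlgSt.RepByAlgSpWith (LocP @Smooth) c') ∧
      (AlgSt.RepByAlgSpWith IsSurjectiveMor c → AlgSt.RepByAlgSpWith IsSurjectiveMor c') := by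
  let h := spHom (BasedFunctor.comp c (FibCat.fpSnd f y))
  let D : AlgSp.Space S := ⟨pullback h k, isAlgSpace_pullback U.property V'.property V.property _ _⟩
  obtain ⟨E, hE, -, ⟨je⟩⟩ := exists_spCone (IsPullback.of_hasPullback h k)
  have : (BasedFunctor.id (AlgSt.ofSp V.obj)).toFunctor.Full := inferInstanceAs (𝟭 _).Full
  have : (BasedFunctor.id (AlgSt.ofSp V.obj)).toFunctor.Faithful := inferInstanceAs (𝟭 _).Faithful
  have : (BasedFunctor.id 𝒴).toFunctor.Full := inferInstanceAs (𝟭 _).Full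
  have : (BasedFunctor.id 𝒴).toFunctor.Faithful := inferInstanceAs (𝟭 _).Faithful
  let m := fpMap (F := BasedFunctor.comp c (FibCat.fpSnd f y)) (G := AlgSt.ofSpMap k) (F' := AlgSt.ofSpMap h)
    (G' := AlgSt.ofSpMap k) (a := BasedFunctor.id _) (b := BasedFunctor.id _) (c := BasedFunctor.id _)
    (isoOfSpMap (BasedFunctor.comp c (FibCat.fpSnd f y))) (Iso.refl _)
  let E₁ := BasedFunctor.comp E m
  have hE₁ : FibCat.IsEquivOver E₁ := isEquivOver_comp hE (fpMap_isEquivOver _ _ isEquivOver_id isEquivOver_id)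
  obtain ⟨i₁, hi₁, -, ⟨j₁⟩⟩ := isEquivOver_inv (pasteVert_isEquivOver c (FibCat.fpSnd f y) (AlgSt.ofSpMap k))
  let G := FibCat.fpSnd c (FibCat.fpFst (FibCat.fpSnd f y) (AlgSt.ofSpMap k))
  let m₂ := fpMap (F := f) (G := BasedFunctor.comp y' g) (F' := f)
    (G' := BasedFunctor.comp (AlgSt.ofSpMap k) y) (a := BasedFunctor.id _) (b := BasedFunctor.id _)
    (c := BasedFunctor.id _) (Iso.refl _) β.symm
  obtain ⟨i₂, hi₂, -, ⟨j₂⟩⟩ := isEquivOver_inv (pasteVert_isEquivOver y' g f)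
  let tail := BasedFunctor.comp (pasteHor f (AlgSt.ofSpMap k) y)
    (BasedFunctor.comp m₂ (BasedFunctor.comp (fpSwap f (BasedFunctor.comp y' g))
      (BasedFunctor.comp i₂ (fpSwap y' (FibCat.fpFst g f)))))
  have htail : FibCat.IsEquivOver tail := isEquivOver_comp (pasteHor_isEquivOver _ _ _)
    (isEquivOver_comp (fpMap_isEquivOver _ _ isEquivOver_id isEquivOver_id)
      (isEquivOver_comp (fpSwap_isEquivOver _ _) (isEquivOver_comp hi₂ (fpSwap_isEquivOver _ _))))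
  refine ⟨D, pullback.fst h k, pullback.snd h k,
    BasedFunctor.comp (BasedFunctor.comp (BasedFunctor.comp E₁ i₁) G) tail, IsPullback.of_hasPullback h k, ?_,
    fun hc => repByAlgSpWith_postcomp htail (repByAlgSpWith_precomp (isEquivOver_comp hE₁ hi₁)
      (repByAlgSpWith_fpSnd _ hc)),
    fun hc => repByAlgSpWith_postcomp htail (repByAlgSpWith_precomp (isEquivOver_comp hE₁ hi₁)
      (repByAlgSpWith_fpSnd _ hc))⟩
  let i : BasedFunctor.comp (BasedFunctor.comp (BasedFunctor.comp (BasedFunctor.comp E₁ i₁) G) tail)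
      (FibCat.fpSnd (FibCat.fpFst g f) y') ≅ BasedFunctor.comp E (FibCat.fpSnd _ _) :=
    whiskerRightIso (whiskerLeftIso (BasedFunctor.comp (BasedFunctor.comp (BasedFunctor.comp E₁ i₁) G)
        (BasedFunctor.comp (pasteHor f (AlgSt.ofSpMap k) y)
          (BasedFunctor.comp m₂ (fpSwap f (BasedFunctor.comp y' g))))) j₂)
        (FibCat.fpFst (BasedFunctor.comp y' g) f) ≪≫
      whiskerRightIso (whiskerLeftIso E₁ j₁)
        (FibCat.fpSnd (BasedFunctor.comp c (FibCat.fpSnd f y)) (AlgSt.ofSpMap k))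
  rw [spHom_congr i, spHom_congr je, spHom_ofSpMap]

/-- A chart of a composite. -/
theorem exists_chart_comp (h𝒳 : FibCat.IsFibGrpd 𝒳.p) (h𝒴 : FibCat.IsFibGrpd 𝒴.p) (h𝒵 : FibCat.IsFibGrpd 𝒵.p)
    {f : 𝒳 ⥤ᵇ 𝒴} {g : 𝒴 ⥤ᵇ 𝒵} {U V W : AlgSp.Space S} {z : AlgSt.ofSp W.obj ⥤ᵇ 𝒵}
    (d : AlgSt.ofSp V.obj ⥤ᵇ FibCat.fp g z)
    (c : AlgSt.ofSp U.obj ⥤ᵇ FibCat.fp f (BasedFunctor.comp d (FibCat.fpFst g z))) :
    ∃ c' : AlgSt.ofSp U.obj ⥤ᵇ FibCat.fp (BasedFunctor.comp f g) z,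
      spHom (BasedFunctor.comp c' (FibCat.fpSnd (BasedFunctor.comp f g) z)) =
        spHom (BasedFunctor.comp c (FibCat.fpSnd f _)) ≫ spHom (BasedFunctor.comp d (FibCat.fpSnd g z)) ∧
      (AlgSt.RepByAlgSpWith (LocP @Smooth) c → AlgSt.RepByAlgSpWith (LocP @Smooth) d →
        AlgSt.RepByAlgSpWith (LocP @Smooth) c') ∧
      (AlgSt.RepByAlgSpWith IsSurjectiveMor c → AlgSt.RepByAlgSpWith IsSurjectiveMor d →
        AlgSt.RepByAlgSpWith IsSurjectiveMor c') := by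
  obtain ⟨i₁, hi₁, -, ⟨j₁⟩⟩ := isEquivOver_inv (pasteHor_isEquivOver f d (FibCat.fpFst g z))
  let q := FibCat.fpFst (FibCat.fpSnd f (FibCat.fpFst g z)) d
  have hgq := fp_isFibGrpd (F := FibCat.fpSnd f (FibCat.fpFst g z)) (G := d)
    (fp_isFibGrpd h𝒳 (fp_isFibGrpd h𝒴 (isFibGrpd_ofSp W.obj) h𝒵) h𝒴) (isFibGrpd_ofSp V.obj)
    (fp_isFibGrpd h𝒴 (isFibGrpd_ofSp W.obj) h𝒵)
  refine ⟨BasedFunctor.comp (BasedFunctor.comp (BasedFunctor.comp c i₁) q) (pasteVert f g z), ?_,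
    fun hc hd => repByAlgSpWith_postcomp (pasteVert_isEquivOver f g z)
      (repByAlgSpWith_locP_comp (isFibGrpd_ofSp U.obj) hgq (repByAlgSpWith_postcomp hi₁ hc)
        (repByAlgSpWith_fpFst _ hd)),
    fun hc hd => repByAlgSpWith_postcomp (pasteVert_isEquivOver f g z)
      (repByAlgSpWith_isSurjectiveMor_comp (isFibGrpd_ofSp U.obj) hgq (repByAlgSpWith_postcomp hi₁ hc)
        (repByAlgSpWith_fpFst _ hd))⟩
  rw [← spHom_comp]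
  exact spHom_congr
    (whiskerRightIso (whiskerLeftIso (BasedFunctor.comp c i₁) (FibCat.fpIso (FibCat.fpSnd f (FibCat.fpFst g z)) d))
        (FibCat.fpSnd g z) ≪≫
      whiskerRightIso (whiskerLeftIso c j₁)
        (BasedFunctor.comp (FibCat.fpSnd f (BasedFunctor.comp d (FibCat.fpFst g z)))
          (BasedFunctor.comp d (FibCat.fpSnd g z))))

/-- An algebraic stack has an atlas from an algebraic space. -/
theorem exists_space_atlas {K : Precoverage Scheme.{u}} (h : AlgSt.IsAlgStack K 𝒳) :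
    ∃ (U : AlgSp.Space S) (x : AlgSt.ofSp U.obj ⥤ᵇ 𝒳),
      AlgSt.RepByAlgSpWith (LocP @Smooth) x ∧ AlgSt.RepByAlgSpWith IsSurjectiveMor x := by
  obtain ⟨U, x, hx, hx'⟩ := h.atlas
  exact ⟨⟨_, IsAlgSpace.yon_obj U⟩, BasedFunctor.comp (AlgSt.toOverCat U) x,
    repByAlgSpWith_precomp (isEquivOver_toOverCat U) hx, repByAlgSpWith_precomp (isEquivOver_toOverCat U) hx'⟩

theorem exists_space_atlas_fp (h𝒳 : AlgSt.IsAlgStack Scheme.fppfPrecoverage 𝒳)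
    (h𝒴 : AlgSt.IsAlgStack Scheme.fppfPrecoverage 𝒴) (f : 𝒳 ⥤ᵇ 𝒴) {V : AlgSp.Space S}
    (y : AlgSt.ofSp V.obj ⥤ᵇ 𝒴) :
    ∃ (U : AlgSp.Space S) (c : AlgSt.ofSp U.obj ⥤ᵇ FibCat.fp f y),
      AlgSt.RepByAlgSpWith (LocP @Smooth) c ∧ AlgSt.RepByAlgSpWith IsSurjectiveMor c :=
  exists_space_atlas (isAlgStack_fp h𝒳 (isAlgStack_ofSp V) h𝒴.isStack h𝒴.diag f y)

/-- One chart of a base change to a smooth surjective chart decides. -/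
theorem locQ_of_chart (hP : IsSmoothLocalST P) (h𝒳 : AlgSt.IsAlgStack Scheme.fppfPrecoverage 𝒳)
    (h𝒴 : AlgSt.IsAlgStack Scheme.fppfPrecoverage 𝒴) {f : 𝒳 ⥤ᵇ 𝒴} {U V : AlgSp.Space S}
    {y : AlgSt.ofSp V.obj ⥤ᵇ 𝒴} {c : AlgSt.ofSp U.obj ⥤ᵇ FibCat.fp f y}
    (hy : AlgSt.RepByAlgSpWith (LocP @Smooth) y) (hy' : AlgSt.RepByAlgSpWith IsSurjectiveMor y)
    (hc : AlgSt.RepByAlgSpWith (LocP @Smooth) c) (hc' : AlgSt.RepByAlgSpWith IsSurjectiveMor c)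
    (h : P (spHom (BasedFunctor.comp c (FibCat.fpSnd f y)))) : AlgSt.LocQ P f :=
  have hg := fp_isFibGrpd (F := f) (G := y) h𝒳.isStack.1 (isFibGrpd_ofSp V.obj) h𝒴.isStack.1
  (locQ_iff_some hP h𝒳 h𝒴 f).2 ⟨U, V, BasedFunctor.comp c (FibCat.fpFst f y), y,
    ObjectProperty.homMk (spHom (BasedFunctor.comp c (FibCat.fpSnd f y))),
    whiskerLeftIso c (FibCat.fpIso f y) ≪≫ whiskerRightIso (isoOfSpMap (BasedFunctor.comp c (FibCat.fpSnd f y))) y,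
    repByAlgSpWith_locP_comp (isFibGrpd_ofSp U.obj) hg hc (repByAlgSpWith_fpFst f hy),
    repByAlgSpWith_isSurjectiveMor_comp (isFibGrpd_ofSp U.obj) hg hc' (repByAlgSpWith_fpFst f hy'), hy, h⟩

/-- Charts for a pair of composable functors. -/
theorem exists_charts_comp (h𝒳 : AlgSt.IsAlgStack Scheme.fppfPrecoverage 𝒳)
    (h𝒴 : AlgSt.IsAlgStack Scheme.fppfPrecoverage 𝒴) (h𝒵 : AlgSt.IsAlgStack Scheme.fppfPrecoverage 𝒵)
    (f : 𝒳 ⥤ᵇ 𝒴) (g : 𝒴 ⥤ᵇ 𝒵) :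
    ∃ (U V W : AlgSp.Space S) (z : AlgSt.ofSp W.obj ⥤ᵇ 𝒵) (d : AlgSt.ofSp V.obj ⥤ᵇ FibCat.fp g z)
      (c : AlgSt.ofSp U.obj ⥤ᵇ FibCat.fp f (BasedFunctor.comp d (FibCat.fpFst g z))),
      (AlgSt.RepByAlgSpWith (LocP @Smooth) z ∧ AlgSt.RepByAlgSpWith IsSurjectiveMor z) ∧
      (AlgSt.RepByAlgSpWith (LocP @Smooth) d ∧ AlgSt.RepByAlgSpWith IsSurjectiveMor d) ∧
      (AlgSt.RepByAlgSpWith (LocP @Smooth) c ∧ AlgSt.RepByAlgSpWith IsSurjectiveMor c) ∧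
      (AlgSt.RepByAlgSpWith (LocP @Smooth) (BasedFunctor.comp d (FibCat.fpFst g z)) ∧
        AlgSt.RepByAlgSpWith IsSurjectiveMor (BasedFunctor.comp d (FibCat.fpFst g z))) := by
  obtain ⟨W, z, hz, hz'⟩ := exists_space_atlas h𝒵
  obtain ⟨V, d, hd, hd'⟩ := exists_space_atlas_fp h𝒴 h𝒵 g z
  obtain ⟨U, c, hc, hc'⟩ := exists_space_atlas_fp h𝒳 h𝒴 f (BasedFunctor.comp d (FibCat.fpFst g z))
  have hg := fp_isFibGrpd (F := g) (G := z) h𝒴.isStack.1 (isFibGrpd_ofSp W.obj) h𝒵.isStack.1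
  exact ⟨U, V, W, z, d, c, ⟨hz, hz'⟩, ⟨hd, hd'⟩, ⟨hc, hc'⟩,
    repByAlgSpWith_locP_comp (isFibGrpd_ofSp V.obj) hg hd (repByAlgSpWith_fpFst g hz),
    repByAlgSpWith_isSurjectiveMor_comp (isFibGrpd_ofSp V.obj) hg hd' (repByAlgSpWith_fpFst g hz')⟩

theorem locQ_comp (hP : IsSmoothLocalST P) (hPc : StableComp P)
    (h𝒳 : AlgSt.IsAlgStack Scheme.fppfPrecoverage 𝒳) (h𝒴 : AlgSt.IsAlgStack Scheme.fppfPrecoverage 𝒴)
    (h𝒵 : AlgSt.IsAlgStack Scheme.fppfPrecoverage 𝒵) {f : 𝒳 ⥤ᵇ 𝒴} {g : 𝒴 ⥤ᵇ 𝒵} (hf : AlgSt.LocQ P f)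
    (hg : AlgSt.LocQ P g) : AlgSt.LocQ P (BasedFunctor.comp f g) := by
  obtain ⟨U, V, W, z, d, c, hz, hd, hc, hy⟩ := exists_charts_comp h𝒳 h𝒴 h𝒵 f g
  obtain ⟨c', e, hs, hs'⟩ := exists_chart_comp h𝒳.isStack.1 h𝒴.isStack.1 h𝒵.isStack.1 d c
  refine locQ_of_chart hP h𝒳 h𝒵 hz.1 hz.2 (hs hc.1 hd.1) (hs' hc.2 hd.2) ?_
  rw [e]
  exact hPc U.property V.property W.property _ _
    ((locQ_iff_locQS hP h𝒳 h𝒴 f).1 hf U V _ c hy.1 hc.1) ((locQ_iff_locQS hP h𝒴 h𝒵 g).1 hg V W z d hz.1 hd.1)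

theorem locQ_fpFst (hP : IsSmoothLocalST P) (hPb : StableBC P)
    (h𝒳 : AlgSt.IsAlgStack Scheme.fppfPrecoverage 𝒳) (h𝒴 : AlgSt.IsAlgStack Scheme.fppfPrecoverage 𝒴)
    (h𝒴' : AlgSt.IsAlgStack Scheme.fppfPrecoverage 𝒴') {f : 𝒳 ⥤ᵇ 𝒴} (g : 𝒴' ⥤ᵇ 𝒴) (hf : AlgSt.LocQ P f) :
    AlgSt.LocQ P (FibCat.fpFst g f) := by
  obtain ⟨V, y, hy, hy'⟩ := exists_space_atlas h𝒴
  obtain ⟨U, c, hc, hc'⟩ := exists_space_atlas_fp h𝒳 h𝒴 f y
  obtain ⟨V', d, hd, hd'⟩ := exists_space_atlas_fp h𝒴' h𝒴 g y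
  obtain ⟨D, p, q, c', sq, e, hs, hs'⟩ := exists_chart_baseChange (g := g) (V' := V')
    (y' := BasedFunctor.comp d (FibCat.fpFst g y)) h𝒳.isStack.1 h𝒴.isStack.1
    (whiskerLeftIso d (FibCat.fpIso g y) ≪≫ whiskerRightIso (isoOfSpMap (BasedFunctor.comp d (FibCat.fpSnd g y))) y) c
  have hg := fp_isFibGrpd (F := g) (G := y) h𝒴'.isStack.1 (isFibGrpd_ofSp V.obj) h𝒴.isStack.1
  refine locQ_of_chart hP (isAlgStack_fp h𝒴' h𝒳 h𝒴.isStack h𝒴.diag g f) h𝒴'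
    (repByAlgSpWith_locP_comp (isFibGrpd_ofSp V'.obj) hg hd (repByAlgSpWith_fpFst g hy))
    (repByAlgSpWith_isSurjectiveMor_comp (isFibGrpd_ofSp V'.obj) hg hd' (repByAlgSpWith_fpFst g hy'))
    (hs hc) (hs' hc') ?_
  rw [e]
  exact hPb U.property V.property D.property V'.property _ _ q p sq
    ((locQ_iff_locQS hP h𝒳 h𝒴 f).1 hf U V y c hy hc)

end Groth.Agent.AlgStLib
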