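import Groth.Agent.AlgStLib.SelfProd
import Groth.Agent.AlgStLib.SheafGlue
import Groth.Agent.AlgSpDec.LqfScheme
import Groth.Agent.AlgSpDec.LqfQuot
import Groth.Agent.SrcDescent.SchemeFppf
import Mathlib.AlgebraicGeometry.Sites.Fpqc

/-!
# Factorisation of a morphism with flat kernel pair as an fppf surjection followed by a monomorphism
-/

set_option backward.isDefEq.respectTransparency false
set_option backward.isDefEq.respectTransparency.types false

universe u

open CategoryTheory CategoryTheory.Limits Opposite AlgebraicGeometry AlgSp Groth.Agent.AlgSpLib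
  Groth.Agent.AlgSpPts Groth.Agent.AlgSpDec

namespace Groth.Agent.AlgStLib.MonoFactor

variable {X Y : Scheme.{u}}

/-- A morphism locally of finite presentation with flat kernel pair factors as an fppf surjection
followed by a monomorphism. -/
theorem exists_factor (f : X ⟶ Y) [LocallyOfFinitePresentation f] [Flat (pullback.fst f f)] :
    ∃ (X' : Scheme.{u}) (f' : X ⟶ X') (f'' : X' ⟶ Y),
      Surjective f' ∧ Flat f' ∧ LocallyOfFinitePresentation f' ∧ Mono f'' ∧ f' ≫ f'' = f := by
  let U : Over Y := Over.mk f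
  let T : Over Y := Over.mk (𝟙 Y)
  let R : Over Y := Over.mk (pullback.fst f f ≫ f)
  let t : R ⟶ U := CategoryTheory.Over.homMk (pullback.fst f f) rfl
  let s : R ⟶ U := CategoryTheory.Over.homMk (pullback.snd f f) pullback.condition.symm
  have hfs : Flat (pullback.snd f f) := by
    rw [← pullbackSymmetry_hom_comp_fst]; infer_instance
  have : Flat t.left := inferInstanceAs (Flat (pullback.fst f f))
  have : Flat s.left := hfs
  have : LocallyOfFinitePresentation t.left := inferInstanceAs (LocallyOfFinitePresentation (pullback.fst f f))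
  have : LocallyOfFinitePresentation s.left := inferInstanceAs (LocallyOfFinitePresentation (pullback.snd f f))
  have pair : ∀ (W : Over Y) (a b : W ⟶ U), ∃ r : W ⟶ R, r ≫ t = a ∧ r ≫ s = b := fun W a b => by
    refine ⟨CategoryTheory.Over.homMk (pullback.lift a.left b.left ((Over.w a).trans (Over.w b).symm)) ?_, ?_, ?_⟩
    · show _ ≫ pullback.fst f f ≫ f = W.hom
      rw [pullback.lift_fst_assoc]; exact Over.w a
    · exact Over.OverMorphism.ext (pullback.lift_fst _ _ _)
    · exact Over.OverMorphism.ext (pullback.lift_snd _ _ _)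
  have hR : IsEqvRel s t := by
    refine ⟨fun W r r' h₁ h₂ => Over.OverMorphism.ext (pullback.hom_ext ?_ ?_), fun W => ⟨fun a => pair W a a,
      fun {a b} _ => pair W b a, fun {a b c} _ _ => pair W a c⟩⟩
    · simpa [t] using congrArg CommaMorphism.left h₁
    · simpa [s] using congrArg CommaMorphism.left h₂
  let Q := QuotSh.quot Scheme.fppfPrecoverage s t
  let p : (yon Y).obj U ⟶ Q := quotMap s t
  have hls : Sheaf.IsLocallySurjective p := by
    have : Epi (QuotSh.quotπ Scheme.fppfPrecoverage s t) := by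
      unfold QuotSh.quotπ
      infer_instance
    exact (CategoryTheory.Sheaf.isLocallySurjective_iff_epi p).2 (epi_comp _ _)
  have sq : IsPullback ((yon Y).map t) ((yon Y).map s) p p := isPullback_quotMap hR
  have hQ : IsAlgSpace Q := isAlgSpace_of_flat_kernelPair sq
  have hsub : ∀ {W : Over Y} (a b : (yon Y).obj W ⟶ Q), a = b := fun {W} a b => by
    obtain ⟨W₁, k₁, x, hk₁, hx⟩ := exists_fppf_lift_of_locallySurjective p a
    obtain ⟨W₂, k₂, y, hk₂, hy⟩ := exists_fppf_lift_of_locallySurjective p ((yon Y).map k₁ ≫ b)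
    obtain ⟨x, rfl⟩ := (yon Y).map_surjective x
    obtain ⟨y, rfl⟩ := (yon Y).map_surjective y
    obtain ⟨r, hr₁, hr₂⟩ := pair W₂ (k₂ ≫ x) y
    refine hom_ext_of_fppf (k₂ ≫ k₁) (MorphismProperty.comp_mem _ _ _ hk₂ hk₁) _ _ ?_
    have h := congrArg (fun z => (yon Y).map r ≫ z) sq.w
    simp only [← Functor.map_comp_assoc, hr₁, hr₂] at h
    rw [Functor.map_comp, Category.assoc, Category.assoc, ← hx, ← Category.assoc, ← Functor.map_comp, h, hy]
  let q₀ : ∀ W : Over Y, W ⟶ T := fun W => CategoryTheory.Over.homMk W.hom (Category.comp_id _)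
  -- the structure map of the quotient
  let M : (yon Y).obj U ⟶ (yon Y).obj T := (yon Y).map (q₀ U)
  have hM : (yon Y).map t ≫ M = (yon Y).map s ≫ M := by
    rw [← Functor.map_comp, ← Functor.map_comp]
    congr 1
    exact Over.OverMorphism.ext pullback.condition
  have hr : Representable p := representable_of_kernelPair sq
  have := isLocalAtTarget_fppf (@Flat : MorphismProperty Scheme.{u})
  have := isLocalAtTarget_fppf (@LocallyOfFinitePresentation : MorphismProperty Scheme.{u})
  have := isLocalAtTarget_fppf (@Surjective : MorphismProperty Scheme.{u})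
  have hss : Surjective s.left := ⟨fun x => by
    obtain ⟨e, -, he⟩ := exists_rel_lift sq (𝟙 U) (𝟙 U) rfl
    exact ⟨e.left x, by rw [← Scheme.Hom.comp_apply, ← Over.comp_left, he, Over.id_left]; rfl⟩⟩
  have hf := repWith_of_locallySurjective hr _ sq @Flat ((repWith_yon_map_iff _ _).2 hfs)
  have hl := repWith_of_locallySurjective hr _ sq @LocallyOfFinitePresentation
    ((repWith_yon_map_iff _ _).2 ‹LocallyOfFinitePresentation s.left›)
  have hs := repWith_of_locallySurjective hr _ sq @Surjective ((repWith_yon_map_iff _ _).2 hss)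
  -- descend the structure map
  obtain ⟨V₀, a₀, ha₀, ha₀'⟩ := hQ.atlas
  obtain ⟨q, hq⟩ : ∃ q : Q ⟶ (yon Y).obj T, p ≫ q = M := by
    have nat : ∀ {V W : Over Y} (g : V ⟶ W), (QuotSh.repIsoUliftYoneda Scheme.fppfPrecoverage V).hom ≫
        (yon Y).map g = QuotSh.repMap Scheme.fppfPrecoverage g ≫
          (QuotSh.repIsoUliftYoneda Scheme.fppfPrecoverage W).hom := fun {V W} g => by
      have e : (yon Y).map g ≫ (QuotSh.repIsoUliftYoneda Scheme.fppfPrecoverage W).inv =
          (QuotSh.repIsoUliftYoneda Scheme.fppfPrecoverage V).inv ≫ QuotSh.repMap Scheme.fppfPrecoverage g :=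
        ObjectProperty.hom_ext _ (toSheafify_naturality (QuotSh.J Scheme.fppfPrecoverage Y) _)
      rw [← Iso.eq_inv_comp, ← Category.assoc, ← e, Category.assoc, Iso.inv_hom_id, Category.comp_id]
    refine ⟨coequalizer.desc ((QuotSh.repIsoUliftYoneda Scheme.fppfPrecoverage U).hom ≫ M) ?_, ?_⟩
    · rw [← reassoc_of% (nat s), ← reassoc_of% (nat t), hM]
    · simp only [p, Category.assoc]
      unfold QuotSh.quotπ
      rw [coequalizer.π_desc, Iso.inv_hom_id_assoc]
  have hqm : Mono q := ⟨fun {Z} a b _ => Groth.Agent.AlgStLib.SheafGlue.hom_ext_points fun W g => hsub _ _⟩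
  have hlft : LocP @LocallyOfFiniteType q := by
    obtain ⟨g, hg⟩ := (yon Y).map_surjective (a₀ ≫ q)
    refine locP_of_chart (b := 𝟙 _) (h := g) ha₀ ha₀' (repWith_id _ T) (by rw [Category.comp_id, hg]) ?_
    have sqW := hf.rep.isPullback a₀
    let k : hf.rep.pullback a₀ ⟶ V₀ := hf.rep.snd a₀
    obtain ⟨x, hx⟩ := (yon Y).map_surjective (hf.rep.fst a₀)
    have : Etale x.left := (repWith_yon_map_iff _ _).1 (by rw [hx]; exact repWith_of_isPullback sqW.flip ha₀)
    have : Surjective k.left := (repWith_yon_map_iff _ _).1 (repWith_of_isPullback sqW hs)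
    have : Flat k.left := (repWith_yon_map_iff _ _).1 (repWith_of_isPullback sqW hf)
    have : LocallyOfFinitePresentation k.left := (repWith_yon_map_iff _ _).1 (repWith_of_isPullback sqW hl)
    have e : k ≫ g = x ≫ q₀ U := by
      apply (yon Y).map_injective
      rw [Functor.map_comp, Functor.map_comp, hg, hx, ← reassoc_of% sqW.w, hq]
    suffices LocallyOfFiniteType (k.left ≫ g.left) from Groth.Agent.SrcDescent.locallyOfFiniteType_of_fppf_comp k.left g.left
    rw [← Over.comp_left, e, Over.comp_left]
    exact inferInstanceAs (LocallyOfFiniteType (x.left ≫ f))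
  have hqf : LocP (@LocallyQuasiFinite ⊓ @LocallyOfFiniteType) q :=
    lqf_of_selfProd hQ q hlft (locP_of_repWith (repWith_of_isIso _ (pullback.fst q q)))
  obtain ⟨X', ⟨e⟩⟩ := exists_iso_of_lqf_separated hQ q hqf (isSeparatedMor_of_mono q)
  obtain ⟨f', hf'⟩ := (yon Y).map_surjective (p ≫ e.inv)
  have prop : ∀ (P : MorphismProperty Scheme.{u}) [P.IsStableUnderBaseChange] [P.IsStableUnderComposition]
      [P.RespectsIso], RepWith P p → P f'.left := fun P _ _ _ h =>
    (repWith_yon_map_iff P f').1 (by
      rw [hf']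
      have : (RepWith (S := Y) P).RespectsIso := MorphismProperty.IsStableUnderBaseChange.respectsIso
      exact ((RepWith P).cancel_right_of_respectsIso p e.inv).2 h)
  refine ⟨X'.left, f'.left, X'.hom, prop _ hs, prop _ hf, prop _ hl, ⟨fun {Z} a b hab => ?_⟩, Over.w f'⟩
  let Z' : Over Y := Over.mk (a ≫ X'.hom)
  let a' : Z' ⟶ X' := CategoryTheory.Over.homMk a rfl
  let b' : Z' ⟶ X' := CategoryTheory.Over.homMk b hab.symm
  have h : a' = b' := (yon Y).map_injective ((cancel_mono e.hom).1 (hsub _ _))
  exact congrArg CommaMorphism.left h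

end Groth.Agent.AlgStLib.MonoFactor
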