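import Groth.Agent.AlgStLib.MonoQuotGrp
import Groth.Agent.AlgStLib.Noetherian
import Groth.Agent.AlgSpLib.Descends2

/-!
# The image of the graph of a group action
-/

set_option backward.isDefEq.respectTransparency false
set_option backward.isDefEq.respectTransparency.types false

universe u

open CategoryTheory CategoryTheory.Limits AlgebraicGeometry MonoidalCategory CartesianMonoidalCategory MonObj

namespace Groth.Agent.AlgStLib.MonoFactor

variable {S : Scheme.{u}} {G X : Over S} [GrpObj G] (a : AlgGrp.Action G X)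

/-- The graph of an action. -/
noncomputable abbrev graph : G ⊗ X ⟶ X ⊗ X := lift a.act (snd G X)

theorem section_graph : lift (1 : X ⟶ G) (𝟙 X) ≫ graph a = lift (𝟙 X) (𝟙 X) := by
  apply CartesianMonoidalCategory.hom_ext
  · rw [Category.assoc, lift_fst, lift_fst, GrpSchLib.act_one]
  · rw [Category.assoc, lift_snd, lift_snd, lift_snd]

open GrpSchLib in
/-- The kernel pair of the graph of an action, in terms of the stabiliser. -/
theorem isPullback_graph :
    IsPullback (lift (fst G _ * (snd G _ ≫ pullback.fst (graph a) (lift (𝟙 X) (𝟙 X)) ≫ fst G X))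
        (snd G _ ≫ pullback.snd (graph a) (lift (𝟙 X) (𝟙 X))))
      (G ◁ pullback.snd (graph a) (lift (𝟙 X) (𝟙 X))) (graph a) (graph a) := by
  set d := graph a
  set F := pullback d (lift (𝟙 X) (𝟙 X))
  let h : F ⟶ G := pullback.fst d (lift (𝟙 X) (𝟙 X)) ≫ fst G X
  let x : F ⟶ X := pullback.snd d (lift (𝟙 X) (𝟙 X))
  have hx₁ : pullback.fst d (lift (𝟙 X) (𝟙 X)) ≫ snd G X = x := by
    have := congrArg (· ≫ snd X X) (pullback.condition (f := d) (g := lift (𝟙 X) (𝟙 X)))
    simpa [d, x] using this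
  have hstab : lift h x ≫ a.act = x := by
    have := congrArg (· ≫ fst X X) (pullback.condition (f := d) (g := lift (𝟙 X) (𝟙 X)))
    simp only [d, Category.assoc, lift_fst, Category.comp_id] at this
    rw [show lift h x = pullback.fst d (lift (𝟙 X) (𝟙 X)) from by
      apply CartesianMonoidalCategory.hom_ext
      · simp [h]
      · rw [lift_snd, hx₁]]
    exact this
  have hstab' : ∀ {T : Over S} (k : T ⟶ F), lift (k ≫ h) (k ≫ x) ≫ a.act = k ≫ x := fun {T} k => by
    rw [← comp_lift, Category.assoc, hstab]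
  have hd : ∀ {T : Over S} (g : T ⟶ G) (y : T ⟶ X), lift g y ≫ d = lift (lift g y ≫ a.act) y := fun {T} g y => by
    apply CartesianMonoidalCategory.hom_ext <;> simp [d]
  have hk : ∀ {T : Over S} (m : T ⟶ G ⊗ F), m ≫ lift (fst G F * (snd G F ≫ h)) (snd G F ≫ x) =
      lift ((m ≫ fst G F) * ((m ≫ snd G F) ≫ h)) ((m ≫ snd G F) ≫ x) := fun {T} m => by
    simp only [comp_lift, MonObj.comp_mul, Category.assoc]
  have hw : ∀ {T : Over S} (m : T ⟶ G ⊗ F), m ≫ (G ◁ x) = lift (m ≫ fst G F) ((m ≫ snd G F) ≫ x) := fun {T} m => by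
    apply CartesianMonoidalCategory.hom_ext <;> simp
  refine ⟨⟨?_⟩, ⟨PullbackCone.IsLimit.mk _ (fun c => lift (c.snd ≫ fst G X)
    (pullback.lift (lift ((c.snd ≫ fst G X)⁻¹ * (c.fst ≫ fst G X)) (c.snd ≫ snd G X)) (c.snd ≫ snd G X) ?_))
    (fun c => ?_) (fun c => ?_) (fun c m h₁ h₂ => ?_)⟩⟩
  · show lift (fst G F * (snd G F ≫ h)) (snd G F ≫ x) ≫ d = (G ◁ x) ≫ d
    rw [show (G ◁ x) = lift (fst G F) (snd G F ≫ x) from by apply CartesianMonoidalCategory.hom_ext <;> simp,
      hd, hd, ← act_mul, hstab']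
  · have e₁ := congrArg (· ≫ fst X X) c.condition
    have e₂ := congrArg (· ≫ snd X X) c.condition
    simp only [d, Category.assoc, lift_fst, lift_snd] at e₁ e₂
    rw [show c.fst = lift (c.fst ≫ fst G X) (c.snd ≫ snd G X) from by
        apply CartesianMonoidalCategory.hom_ext <;> simp [e₂],
      show c.snd ≫ a.act = lift (c.snd ≫ fst G X) (c.snd ≫ snd G X) ≫ a.act from by
        rw [← comp_lift, lift_fst_snd, Category.comp_id]] at e₁
    rw [hd, comp_lift, Category.comp_id, ← act_mul, e₁, act_mul, inv_mul_cancel, act_one]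
  · show _ ≫ lift (fst G F * (snd G F ≫ h)) (snd G F ≫ x) = c.fst
    have e₂ := congrArg (· ≫ snd X X) c.condition
    simp only [d, Category.assoc, lift_snd] at e₂
    rw [hk, lift_fst, lift_snd]
    simp only [h, x, pullback.lift_fst_assoc, lift_fst, pullback.lift_snd, mul_inv_cancel_left]
    apply CartesianMonoidalCategory.hom_ext <;> simp [e₂]
  · show _ ≫ (G ◁ x) = c.snd
    rw [hw, lift_fst, lift_snd]
    simp only [x, pullback.lift_snd]
    rw [← comp_lift, lift_fst_snd, Category.comp_id]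
  · have h₁' : m ≫ lift (fst G F * (snd G F ≫ h)) (snd G F ≫ x) = c.fst := h₁
    have h₂' : m ≫ (G ◁ x) = c.snd := h₂
    rw [hk] at h₁'
    rw [hw] at h₂'
    have a₁ := congrArg (· ≫ fst G X) h₂'
    have a₂ := congrArg (· ≫ snd G X) h₂'
    have a₃ := congrArg (· ≫ fst G X) h₁'
    simp only [lift_fst, lift_snd] at a₁ a₂ a₃
    apply CartesianMonoidalCategory.hom_ext
    · rw [lift_fst, a₁]
    · rw [lift_snd]
      apply pullback.hom_ext
      · rw [pullback.lift_fst]
        apply CartesianMonoidalCategory.hom_ext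
        · rw [lift_fst, ← a₃, a₁, inv_mul_cancel_left]
          simp [h]
          rfl
        · rw [lift_snd, ← a₂, Category.assoc, hx₁]
      · rw [pullback.lift_snd, ← a₂]

theorem flat_whiskerLeft {F : Over S} (x : F ⟶ X) (h : Flat x.left) : Flat (G ◁ x).left := by
  refine MorphismProperty.of_isPullback (P := @Flat) (g := x.left) (f' := (snd G F).left) (f := (snd G X).left) ?_ h
  refine (IsPullback.of_right (v₁₁ := (snd G F).left) (v₁₂ := (snd G X).left)
    (h₁₁ := (G ◁ x).left) (h₂₁ := x.left) (h₁₂ := (fst G X).left) (h₂₂ := X.hom) ?_ ?_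
    (IsPullback.of_hasPullback G.hom X.hom)).flip
  · rw [Over.w x, ← Over.comp_left, whiskerLeft_fst]
    exact IsPullback.of_hasPullback G.hom F.hom
  · rw [← Over.comp_left, ← Over.comp_left, whiskerLeft_snd]

theorem flat_fst_graph_iff :
    Flat (pullback.fst (graph a).left (graph a).left) ↔
      Flat (pullback.snd (graph a) (lift (𝟙 X) (𝟙 X))).left := by
  constructor
  · intro h
    have hs : Flat (pullback.snd (graph a).left (graph a).left) := by
      rw [← pullbackSymmetry_hom_comp_fst]; infer_instance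
    have sq : IsPullback (pullback.fst (graph a) (lift (𝟙 X) (𝟙 X))).left
        (pullback.snd (graph a) (lift (𝟙 X) (𝟙 X))).left (graph a).left
        (lift (1 : X ⟶ G) (𝟙 X) ≫ graph a).left := by
      rw [section_graph]
      exact (IsPullback.of_hasPullback (graph a) (lift (𝟙 X) (𝟙 X))).map (Over.forget S)
    rw [Over.comp_left] at sq
    exact MorphismProperty.of_isPullback (P := @Flat)
      (IsPullback.of_right (h₁₁ := (IsPullback.of_hasPullback (graph a).left (graph a).left).lift _
        ((pullback.snd (graph a) (lift (𝟙 X) (𝟙 X))).left ≫ (lift (1 : X ⟶ G) (𝟙 X)).left)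
        (sq.w.trans (Category.assoc _ _ _).symm)) (by rw [IsPullback.lift_fst]; exact sq)
        (IsPullback.lift_snd _ _ _ _) (IsPullback.of_hasPullback _ _)) hs
  · intro h
    refine flat_fst_of_flat_snd ?_
    have sq : IsPullback _ (G ◁ pullback.snd (graph a) (lift (𝟙 X) (𝟙 X))).left (graph a).left (graph a).left :=
      (isPullback_graph a).map (Over.forget S)
    rw [← MorphismProperty.cancel_left_of_respectsIso (P := @Flat) sq.isoPullback.hom,
      IsPullback.isoPullback_hom_snd]
    exact flat_whiskerLeft _ h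

theorem graph_proj_props [IsNoetherian S] [Flat G.hom] [LocallyOfFiniteType G.hom] [QuasiCompact G.hom]
    [LocallyOfFiniteType X.hom] {Y : Over S} (ψ : G ⊗ X ⟶ Y) (r : Y ⟶ X)
    [Surjective ψ.left] [Flat ψ.left] [LocallyOfFinitePresentation ψ.left]
    (h : (@Flat ⊓ @LocallyOfFinitePresentation ⊓ @QuasiCompact ⊓ @Surjective : MorphismProperty Scheme.{u}) (ψ ≫ r).left) :
    Surjective r.left ∧ Flat r.left ∧ LocallyOfFinitePresentation r.left ∧ QuasiCompact r.left ∧
      QuasiSeparated r.left := by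
  rw [Over.comp_left] at h
  obtain ⟨⟨⟨h₁, h₂⟩, h₃⟩, h₄⟩ := h
  have hl := Groth.Agent.SrcDescent.locallyOfFinitePresentation_of_fppf_comp ψ.left r.left
  have : IsLocallyNoetherian X.left := LocallyOfFiniteType.isLocallyNoetherian X.hom
  have : IsLocallyNoetherian Y.left := LocallyOfFiniteType.isLocallyNoetherian r.left
  exact ⟨Surjective.of_comp ψ.left r.left, Groth.Agent.SrcDescent.flat_of_fppf_comp ψ.left r.left, hl,
    Groth.Agent.AlgSpLib.quasiCompact_of_comp_surjective ψ.left r.left, inferInstance⟩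

theorem act_props [IsNoetherian S] [Flat G.hom] [LocallyOfFiniteType G.hom] [QuasiCompact G.hom] :
    (@Flat ⊓ @LocallyOfFinitePresentation ⊓ @QuasiCompact ⊓ @Surjective : MorphismProperty Scheme.{u}) a.act.left ∧
    (@Flat ⊓ @LocallyOfFinitePresentation ⊓ @QuasiCompact ⊓ @Surjective : MorphismProperty Scheme.{u}) (snd G X).left := by
  have : LocallyOfFinitePresentation G.hom := locallyOfFinitePresentation_of_isLocallyNoetherian G.hom ‹_›
  have : Surjective G.hom := ⟨fun s => by
    have e : (η[G] : 𝟙_ (Over S) ⟶ G).left ≫ G.hom = 𝟙 S := Over.w η[G]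
    exact ⟨(η[G] : 𝟙_ (Over S) ⟶ G).left s, by rw [← Scheme.Hom.comp_apply, e]; rfl⟩⟩
  exact ⟨⟨⟨⟨GrpSchLib.property_act a @Flat ‹_›, GrpSchLib.property_act a @LocallyOfFinitePresentation ‹_›⟩,
      GrpSchLib.property_act a @QuasiCompact ‹_›⟩, GrpSchLib.property_act a @Surjective ‹_›⟩,
    ⟨⟨MorphismProperty.pullback_snd _ _ ‹Flat G.hom›,
      MorphismProperty.pullback_snd (P := @LocallyOfFinitePresentation) _ _ ‹_›⟩,
      MorphismProperty.pullback_snd (P := @QuasiCompact) _ _ ‹_›⟩,
      MorphismProperty.pullback_snd (P := @Surjective) _ _ ‹_›⟩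

end Groth.Agent.AlgStLib.MonoFactor
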