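import Groth.Agent.AlgStLib.Small

/-!
# The square of diagonals of a monomorphism
-/

set_option backward.isDefEq.respectTransparency false
set_option backward.isDefEq.respectTransparency.types false

universe u

open CategoryTheory CategoryTheory.Functor CategoryTheory.Limits AlgebraicGeometry Opposite AlgSp

namespace Groth.Agent.AlgStLib

open Groth.Agent.FibBase Groth.Agent.AlgSpLib

variable {S : Scheme.{u}} {𝒳 𝒳' 𝒴 : AlgSt.Cat S}

theorem isTwoCartOver_diag_sq (i : 𝒳 ⥤ᵇ 𝒳') (g : 𝒳' ⥤ᵇ 𝒴) [i.toFunctor.Full] [i.toFunctor.Faithful] :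
    FibCat.IsTwoCartOver
      (F := (FibCat.fpLift (BasedFunctor.comp (FibCat.fpFst (BasedFunctor.comp i g) (BasedFunctor.comp i g)) i)
        (BasedFunctor.comp (FibCat.fpSnd (BasedFunctor.comp i g) (BasedFunctor.comp i g)) i)
        (FibCat.fpIso (BasedFunctor.comp i g) (BasedFunctor.comp i g))))
      (G := FibCat.diag g) (FibCat.diag (BasedFunctor.comp i g)) i (Iso.refl _) := by
  refine isEquivOver_of_exists_iso _ ⟨fun {x z} t => ?_⟩ ⟨fun {x z} t t' h => ?_⟩ fun η => ?_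
  · have h := t.hom.w
    have h1 : i.map t.hom.fst.hom.fst ≫ 𝟙 _ = 𝟙 _ ≫ t.hom.snd := congrArg (fun k => k.hom.fst) h
    have h2 : i.map t.hom.fst.hom.snd ≫ 𝟙 _ = 𝟙 _ ≫ t.hom.snd := congrArg (fun k => k.hom.snd) h
    rw [Category.comp_id, Category.id_comp] at h1 h2
    refine ⟨t.hom.fst.hom.fst, ?_⟩
    refine ObjectProperty.hom_ext _ (CategoricalPullback.hom_ext ?_ ?_)
    · refine ObjectProperty.hom_ext _ (CategoricalPullback.hom_ext rfl ?_)
      exact i.toFunctor.map_injective (h1.trans h2.symm)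
    · exact h1
  · exact congrArg (fun k => k.hom.fst.hom.fst) h
  · let θ₁ : i.obj η.obj.fst.obj.fst ≅ η.obj.snd :=
      { hom := η.obj.iso.hom.hom.fst
        inv := η.obj.iso.inv.hom.fst
        hom_inv_id := congrArg (fun k => k.hom.fst) η.obj.iso.hom_inv_id
        inv_hom_id := congrArg (fun k => k.hom.fst) η.obj.iso.inv_hom_id }
    let θ₂ : i.obj η.obj.fst.obj.snd ≅ η.obj.snd :=
      { hom := η.obj.iso.hom.hom.snd
        inv := η.obj.iso.inv.hom.snd
        hom_inv_id := congrArg (fun k => k.hom.snd) η.obj.iso.hom_inv_id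
        inv_hom_id := congrArg (fun k => k.hom.snd) η.obj.iso.inv_hom_id }
    have hw : g.map θ₁.hom = η.obj.fst.obj.iso.hom ≫ g.map θ₂.hom := by
      have : g.map θ₁.hom ≫ 𝟙 _ = η.obj.fst.obj.iso.hom ≫ g.map θ₂.hom := η.obj.iso.hom.hom.w
      exact (Category.comp_id _).symm.trans this
    let δ : η.obj.fst.obj.fst ≅ η.obj.fst.obj.snd := i.toFunctor.preimageIso (θ₁ ≪≫ θ₂.symm)
    have hδ : i.map δ.hom = θ₁.hom ≫ θ₂.inv := i.toFunctor.map_preimage _
    let a : (FibCat.diag (BasedFunctor.comp i g)).obj η.obj.fst.obj.fst ≅ η.obj.fst :=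
      fpIsoMk (F := BasedFunctor.comp i g) (G := BasedFunctor.comp i g) (Iso.refl _) δ (by
        show g.map (i.map (𝟙 _)) ≫ η.obj.fst.obj.iso.hom = 𝟙 _ ≫ g.map (i.map δ.hom)
        rw [hδ, g.toFunctor.map_comp, hw, i.toFunctor.map_id, g.toFunctor.map_id, Category.assoc,
          ← g.toFunctor.map_comp, Iso.hom_inv_id, g.toFunctor.map_id]
        exact congrArg (fun m => 𝟙 _ ≫ m) (Category.comp_id _).symm)
    refine ⟨η.obj.fst.obj.fst, fpIsoMk a θ₁ ?_, ?_⟩
    · refine ObjectProperty.hom_ext _ (CategoricalPullback.hom_ext ?_ ?_)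
      · show i.map (𝟙 _) ≫ θ₁.hom = 𝟙 _ ≫ θ₁.hom
        simp
      · show i.map δ.hom ≫ θ₂.hom = 𝟙 _ ≫ θ₁.hom
        rw [hδ, Category.assoc, Iso.inv_hom_id]
        simp
    · exact fp_isHomLift (𝟙 _) _
        (h := fp_isHomLift (F := BasedFunctor.comp i g) (G := BasedFunctor.comp i g) (𝟙 _) _ (h := IsHomLift.id rfl))

end Groth.Agent.AlgStLib
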