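import Groth.Prelude.Def_AlgSt4
import Groth.Agent.AlgStLib.Stack

/-!
# Points of categories over the base scheme
-/

set_option backward.isDefEq.respectTransparency false
set_option backward.isDefEq.respectTransparency.types false

universe u

open CategoryTheory CategoryTheory.Functor CategoryTheory.Limits AlgebraicGeometry Opposite AlgSp

namespace Groth.Agent.AlgStLib

open Groth.Agent.FibBase Groth.Agent.AlgSpLib

variable {S : Scheme.{u}} {𝒳 𝒴 𝒵 : AlgSt.Cat S}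

/-- A morphism between field-valued points identifies them. -/
theorem pts_eq_of_hom {p q : AlgSt.FPt 𝒳} (φ : p.obj ⟶ q.obj) : AlgSt.Points.mk p = AlgSt.Points.mk q :=
  AlgSt.Points.sound ⟨p, 𝟙 _, φ, trivial⟩

theorem pts_map_congr {F G : 𝒳 ⥤ᵇ 𝒴} (e : F ≅ G) (x : AlgSt.Points 𝒳) :
    AlgSt.Points.map F x = AlgSt.Points.map G x := by
  obtain ⟨p, rfl⟩ := AlgSt.Points.mk_surjective x
  exact pts_eq_of_hom (p := p.map F) (q := p.map G) (isoApp e p.obj).hom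

theorem pts_map_comp (F : 𝒳 ⥤ᵇ 𝒴) (G : 𝒴 ⥤ᵇ 𝒵) (x : AlgSt.Points 𝒳) :
    AlgSt.Points.map (BasedFunctor.comp F G) x = AlgSt.Points.map G (AlgSt.Points.map F x) := by
  obtain ⟨p, rfl⟩ := AlgSt.Points.mk_surjective x
  rfl

theorem pts_map_id (x : AlgSt.Points 𝒳) : AlgSt.Points.map (BasedFunctor.id 𝒳) x = x := by
  obtain ⟨p, rfl⟩ := AlgSt.Points.mk_surjective x
  rfl

theorem pts_bijective_of_isEquivOver {F : 𝒳 ⥤ᵇ 𝒴} (h : FibCat.IsEquivOver F) :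
    Function.Bijective (AlgSt.Points.map F) := by
  obtain ⟨G, -, ⟨i⟩, ⟨j⟩⟩ := isEquivOver_inv h
  refine Function.bijective_iff_has_inverse.2 ⟨AlgSt.Points.map G, fun x => ?_, fun x => ?_⟩
  · rw [← pts_map_comp, pts_map_congr i, pts_map_id]
  · rw [← pts_map_comp, pts_map_congr j, pts_map_id]

/-! ## The equivalence relation -/

/-- Pull a field-valued point back along a field extension. -/
theorem exists_pullback_fpt (h𝒳 : FibCat.IsFibGrpd 𝒳.p) (p : AlgSt.FPt 𝒳) {K : Type u} [Field K]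
    {str : Spec (CommRingCat.of K) ⟶ S} (g : Over.mk str ⟶ Over.mk p.str) :
    ∃ (r : AlgSt.FPt 𝒳) (φ : r.obj ⟶ p.obj), 𝒳.p.obj r.obj = Over.mk str ∧
      𝒳.p.IsHomLift (g ≫ eqToHom p.lies.symm) φ := by
  obtain ⟨y, φ, hφ⟩ := h𝒳.exists_lift (x := p.obj) (g ≫ eqToHom p.lies.symm)
  have hy := IsHomLift.domain_eq 𝒳.p (g ≫ eqToHom p.lies.symm) φ
  exact ⟨{ K := K, str := str, obj := y, lies := hy }, φ, hy, hφ⟩

theorem fpt_rel_equivalence (h𝒳 : FibCat.IsFibGrpd 𝒳.p) : _root_.Equivalence (@AlgSt.FPt.Rel S 𝒳) := by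
  refine ⟨fun p => ⟨p, 𝟙 _, 𝟙 _, trivial⟩, fun ⟨r, a, b, _⟩ => ⟨r, b, a, trivial⟩, ?_⟩
  rintro p q t ⟨r₁, a₁, b₁, -⟩ ⟨r₂, a₂, b₂, -⟩
  let g₁ : Over.mk r₁.str ⟶ Over.mk q.str := eqToHom r₁.lies.symm ≫ 𝒳.p.map b₁ ≫ eqToHom q.lies
  let g₂ : Over.mk r₂.str ⟶ Over.mk q.str := eqToHom r₂.lies.symm ≫ 𝒳.p.map a₂ ≫ eqToHom q.lies
  obtain ⟨Ω, _, i₁, i₂, hi⟩ :=
    AlgSp.FieldPt.exists_amalgamation (Spec.preimage g₁.left).hom (Spec.preimage g₂.left).hom
  let d₁ := Spec.map (CommRingCat.ofHom i₁)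
  let d₂ := Spec.map (CommRingCat.ofHom i₂)
  have hL : d₁ ≫ g₁.left = d₂ ≫ g₂.left := by
    conv_lhs => rw [← Spec.map_preimage g₁.left]
    conv_rhs => rw [← Spec.map_preimage g₂.left]
    rw [← Spec.map_comp, ← Spec.map_comp]
    congr 1
    exact CommRingCat.hom_ext hi
  have e₁ : g₁.left ≫ q.str = r₁.str := Over.w g₁
  have e₂ : g₂.left ≫ q.str = r₂.str := Over.w g₂
  have hw : d₂ ≫ r₂.str = d₁ ≫ r₁.str := by
    rw [← e₁, ← e₂]
    exact ((Category.assoc _ _ _).symm.trans (congrArg (fun m => m ≫ q.str) hL.symm)).trans (Category.assoc _ _ _)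
  let str : Spec (CommRingCat.of Ω) ⟶ S := d₁ ≫ r₁.str
  let D₁ : Over.mk str ⟶ Over.mk r₁.str := Over.homMk d₁ rfl
  let D₂ : Over.mk str ⟶ Over.mk r₂.str := Over.homMk d₂ hw
  have hD : D₁ ≫ g₁ = D₂ ≫ g₂ := Over.OverMorphism.ext hL
  obtain ⟨u₁, φ₁, -, hφ₁⟩ := exists_pullback_fpt h𝒳 r₁ D₁
  obtain ⟨u₂, φ₂, -, hφ₂⟩ := exists_pullback_fpt h𝒳 r₂ D₂
  let G : Over.mk str ⟶ 𝒳.p.obj q.obj := D₁ ≫ g₁ ≫ eqToHom q.lies.symm
  have l₁ : 𝒳.p.IsHomLift G (φ₁ ≫ b₁) := by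
    have : 𝒳.p.IsHomLift ((D₁ ≫ eqToHom r₁.lies.symm) ≫ 𝒳.p.map b₁) (φ₁ ≫ b₁) := inferInstance
    convert! this using 1
    simp [G, g₁]
  have l₂ : 𝒳.p.IsHomLift G (φ₂ ≫ a₂) := by
    have : 𝒳.p.IsHomLift ((D₂ ≫ eqToHom r₂.lies.symm) ≫ 𝒳.p.map a₂) (φ₂ ≫ a₂) := inferInstance
    convert! this using 1
    rw [show G = (D₁ ≫ g₁) ≫ eqToHom q.lies.symm from (Category.assoc _ _ _).symm, hD]
    simp [g₂]
  obtain ⟨j, -, -⟩ := exists_iso_of_lifts (hp := h𝒳) G (φ₂ ≫ a₂) (φ₁ ≫ b₁)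
  exact ⟨u₁, φ₁ ≫ a₁, j.hom ≫ φ₂ ≫ b₂, trivial⟩

theorem pts_mk_eq_iff (h𝒳 : FibCat.IsFibGrpd 𝒳.p) {p q : AlgSt.FPt 𝒳} :
    AlgSt.Points.mk p = AlgSt.Points.mk q ↔ AlgSt.FPt.Rel p q :=
  ⟨fun h => (fpt_rel_equivalence h𝒳).eqvGen_iff.1 (Quot.eqvGen_exact h), AlgSt.Points.sound⟩

/-- A morphism into the image of a field-valued point lifts, up to isomorphism. -/
theorem exists_lift_fpt (h𝒳 : FibCat.IsFibGrpd 𝒳.p) (h𝒴 : FibCat.IsFibGrpd 𝒴.p) (f : 𝒳 ⥤ᵇ 𝒴)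
    (p : AlgSt.FPt 𝒳) (r : AlgSt.FPt 𝒴) (a : r.obj ⟶ f.obj p.obj) :
    ∃ (o : 𝒳.obj) (_ : 𝒳.p.obj o = Over.mk r.str) (_ : o ⟶ p.obj) (j : r.obj ≅ f.obj o),
      𝒴.p.IsHomLift (𝟙 (Over.mk r.str)) j.hom := by
  let G : Over.mk r.str ⟶ 𝒳.p.obj p.obj := eqToHom r.lies.symm ≫ 𝒴.p.map a ≫ eqToHom (f.w_obj p.obj)
  obtain ⟨o, φ, hφ⟩ := h𝒳.exists_lift (x := p.obj) G
  have hp : 𝒳.p.obj o = Over.mk r.str := IsHomLift.domain_eq 𝒳.p G φ
  have h₁ : 𝒴.p.IsHomLift G a := IsHomLift.of_fac 𝒴.p G a r.lies (f.w_obj p.obj) rfl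
  have h₂ : 𝒴.p.IsHomLift G (f.map φ) := f.preserves_isHomLift G φ
  obtain ⟨j, hj, -⟩ := exists_iso_of_lifts (hp := h𝒴) G (f.map φ) a
  exact ⟨o, hp, φ, j, hj⟩

/-! ## Points of fibre products -/

theorem exists_pts_fp (h𝒳 : FibCat.IsFibGrpd 𝒳.p) (h𝒴 : FibCat.IsFibGrpd 𝒴.p) (h𝒵 : FibCat.IsFibGrpd 𝒵.p)
    (f : 𝒳 ⥤ᵇ 𝒴) (g : 𝒵 ⥤ᵇ 𝒴) (z : AlgSt.Points 𝒵) (x : AlgSt.Points 𝒳)
    (h : AlgSt.Points.map g z = AlgSt.Points.map f x) :
    ∃ w : AlgSt.Points (FibCat.fp g f),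
      AlgSt.Points.map (FibCat.fpFst g f) w = z ∧ AlgSt.Points.map (FibCat.fpSnd g f) w = x := by
  obtain ⟨pz, rfl⟩ := AlgSt.Points.mk_surjective z
  obtain ⟨px, rfl⟩ := AlgSt.Points.mk_surjective x
  obtain ⟨r, az, ax, -⟩ := (pts_mk_eq_iff h𝒴).1 h
  obtain ⟨oz, hz, φz, jz, hjz⟩ := exists_lift_fpt h𝒵 h𝒴 g pz r az
  obtain ⟨ox, hx, φx, jx, hjx⟩ := exists_lift_fpt h𝒳 h𝒴 f px r ax
  let o : (FibCat.fp g f).obj := ⟨⟨oz, ox, jz.symm ≪≫ jx⟩, by
    show 𝒴.p.IsHomLift (𝟙 (𝒵.p.obj oz)) (jz.inv ≫ jx.hom)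
    rw [hz]
    infer_instance⟩
  refine ⟨AlgSt.Points.mk { K := r.K, str := r.str, obj := o, lies := hz }, ?_, ?_⟩
  · exact pts_eq_of_hom (p := { K := r.K, str := r.str, obj := oz, lies := hz }) (q := pz) φz
  · exact pts_eq_of_hom (p := { K := r.K, str := r.str, obj := ox, lies := hx }) (q := px) φx

theorem pts_surjective_fpFst (h𝒳 : FibCat.IsFibGrpd 𝒳.p) (h𝒴 : FibCat.IsFibGrpd 𝒴.p)
    (h𝒵 : FibCat.IsFibGrpd 𝒵.p) {f : 𝒳 ⥤ᵇ 𝒴} (g : 𝒵 ⥤ᵇ 𝒴) (hf : AlgSt.IsSurjective f) :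
    AlgSt.IsSurjective (FibCat.fpFst g f) := fun z => by
  obtain ⟨x, hx⟩ := hf (AlgSt.Points.map g z)
  obtain ⟨w, hw, -⟩ := exists_pts_fp h𝒳 h𝒴 h𝒵 f g z x hx.symm
  exact ⟨w, hw⟩

theorem pts_map_injective_of_isMono (h𝒳 : FibCat.IsFibGrpd 𝒳.p) (h𝒴 : FibCat.IsFibGrpd 𝒴.p) {f : 𝒳 ⥤ᵇ 𝒴}
    (hf : AlgSt.IsMono f) : Function.Injective (AlgSt.Points.map f) := by
  obtain ⟨_, _⟩ := full_faithful_of_isMono h𝒴 hf
  intro x y h
  obtain ⟨p, rfl⟩ := AlgSt.Points.mk_surjective x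
  obtain ⟨q, rfl⟩ := AlgSt.Points.mk_surjective y
  obtain ⟨r, a, b, -⟩ := (pts_mk_eq_iff h𝒴).1 h
  obtain ⟨op, hp, φp, jp, -⟩ := exists_lift_fpt h𝒳 h𝒴 f p r a
  obtain ⟨oq, hq, φq, jq, -⟩ := exists_lift_fpt h𝒳 h𝒴 f q r b
  exact AlgSt.Points.sound ⟨{ K := r.K, str := r.str, obj := op, lies := hp }, φp,
    (f.toFunctor.preimageIso (jp.symm ≪≫ jq)).hom ≫ φq, trivial⟩

/-! ## Points of slices -/

/-- The point of a slice at a point of the scheme. -/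
noncomputable def ptAt (U : Over S) (t : ↥U.left) : AlgSt.Points (FibCat.overCat U : AlgSt.Cat S) :=
  AlgSt.Points.ofChart (BasedFunctor.id (FibCat.overCat U : AlgSt.Cat S)) t

theorem ofChart_eq_map {U : Over S} (x : FibCat.overCat U ⥤ᵇ 𝒳) (t : ↥U.left) :
    AlgSt.Points.ofChart x t = AlgSt.Points.map x (ptAt U t) := rfl

/-- The point of a scheme underlying a field-valued point of its slice. -/
noncomputable def schPt {U : Over S} (p : AlgSt.FPt (FibCat.overCat U : AlgSt.Cat S)) : ↥U.left :=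
  ((eqToHom p.lies.symm).left ≫ (p.obj : Over U).hom.left) (IsLocalRing.closedPoint p.K)

theorem schPt_eq_of_hom {U : Over S} {p q : AlgSt.FPt (FibCat.overCat U : AlgSt.Cat S)} (φ : p.obj ⟶ q.obj) :
    schPt p = schPt q := by
  let m : Over.mk p.str ⟶ Over.mk q.str := eqToHom p.lies.symm ≫ (φ : (p.obj : Over U) ⟶ q.obj).left ≫ eqToHom q.lies
  have h : m ≫ eqToHom q.lies.symm ≫ (q.obj : Over U).hom = eqToHom p.lies.symm ≫ (p.obj : Over U).hom := by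
    simp [m, Over.w (φ : (p.obj : Over U) ⟶ q.obj)]
  have h' := congrArg (fun k : Over.mk p.str ⟶ U => k.left (IsLocalRing.closedPoint p.K)) h
  simp only [Over.comp_left, Scheme.Hom.comp_apply] at h'
  simp only [schPt, Scheme.Hom.comp_apply]
  rw [← h']
  congr 2
  exact @Subsingleton.elim _ (inferInstanceAs (Subsingleton (PrimeSpectrum q.K))) _ _

/-- The underlying point of a point of a slice. -/
noncomputable def toSch (U : Over S) : AlgSt.Points (FibCat.overCat U : AlgSt.Cat S) → ↥U.left :=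
  Quot.lift schPt fun _ _ ⟨_, a, b, _⟩ => (schPt_eq_of_hom a).symm.trans (schPt_eq_of_hom b)

theorem toSch_ptAt (U : Over S) (t : ↥U.left) : toSch U (ptAt U t) = t := by
  refine Eq.trans ?_ (Scheme.fromSpecResidueField_apply (X := U.left) t
    (IsLocalRing.closedPoint (U.left.residueField t)))
  show (𝟙 _ ≫ U.left.fromSpecResidueField t) _ = _
  rw [Category.id_comp]

theorem ptAt_surjective (U : Over S) : Function.Surjective (ptAt U) := fun x => by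
  obtain ⟨p, rfl⟩ := AlgSt.Points.mk_surjective x
  let a : Over.mk p.str ⟶ U := eqToHom p.lies.symm ≫ (p.obj : Over U).hom
  let m : Spec (CommRingCat.of p.K) ⟶ U.left := a.left
  refine ⟨m (IsLocalRing.closedPoint p.K), Eq.symm ?_⟩
  have key := Scheme.descResidueField_stalkClosedPointTo_fromSpecResidueField p.K U.left m
  let t := m (IsLocalRing.closedPoint p.K)
  let d : Over.mk p.str ⟶ Over.mk (U.left.fromSpecResidueField t ≫ U.hom) :=
    Over.homMk (Spec.map (U.left.descResidueField (K := p.K) (Scheme.stalkClosedPointTo m)))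
      (((Category.assoc _ _ _).symm.trans (congrArg (· ≫ U.hom) key)).trans (Over.w a))
  refine pts_eq_of_hom (p := p) (q := _) (Over.homMk (eqToHom p.lies ≫ d) (Over.OverMorphism.ext ?_) :
    (p.obj : Over U) ⟶ Over.mk (Over.homMk (U.left.fromSpecResidueField t) rfl :
      Over.mk (U.left.fromSpecResidueField t ≫ U.hom) ⟶ U))
  have e : (eqToHom p.lies ≫ a : _ ⟶ U) = (p.obj : Over U).hom := by simp [a]
  refine Eq.trans ?_ (congrArg CommaMorphism.left e)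
  simp only [Over.comp_left, Category.assoc]
  exact congrArg (fun k => (eqToHom p.lies).left ≫ k) key

theorem toSch_bijective (U : Over S) : Function.Bijective (toSch U) :=
  ⟨fun x y h => by
    obtain ⟨t, rfl⟩ := ptAt_surjective U x
    obtain ⟨t', rfl⟩ := ptAt_surjective U y
    rw [toSch_ptAt, toSch_ptAt] at h
    rw [h], fun t => ⟨_, toSch_ptAt U t⟩⟩

theorem toSch_map_overMap {U V : Over S} (k : V ⟶ U) (x : AlgSt.Points (FibCat.overCat V : AlgSt.Cat S)) :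
    toSch U (AlgSt.Points.map (AlgSt.overMap k) x) = k.left (toSch V x) := by
  obtain ⟨p, rfl⟩ := AlgSt.Points.mk_surjective x
  exact (Scheme.Hom.comp_apply _ _ _).trans ((congrArg (fun m => k.left m) (Scheme.Hom.comp_apply _ _ _).symm))

theorem map_overMap_ptAt {U V : Over S} (k : V ⟶ U) (t : ↥V.left) :
    AlgSt.Points.map (AlgSt.overMap k) (ptAt V t) = ptAt U (k.left t) :=
  (toSch_bijective U).1 (by rw [toSch_map_overMap, toSch_ptAt, toSch_ptAt])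

theorem ofChart_overMap {U V : Over S} (k : V ⟶ U) (x : FibCat.overCat U ⥤ᵇ 𝒳) (t : ↥V.left) :
    AlgSt.Points.ofChart (BasedFunctor.comp (AlgSt.overMap k) x) t = AlgSt.Points.ofChart x (k.left t) := by
  rw [ofChart_eq_map, ofChart_eq_map, pts_map_comp, map_overMap_ptAt]

/-! ## Points of sheaves -/

section OfSp

variable {F G : Sp S}

/-- The field-valued point of a sheaf attached to one of its category. -/
noncomputable def spFPt (p : AlgSt.FPt (AlgSt.ofSp F)) : AlgSp.FieldPt F :=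
  { K := p.K, str := p.str, val := F.obj.map (eqToHom p.lies.symm).op p.obj.sec }

/-- Points of the category of a sheaf as points of the sheaf. -/
noncomputable def spPt : AlgSt.Points (AlgSt.ofSp F) → AlgSp.Points F :=
  Quot.lift (fun p => AlgSp.Points.mk (spFPt p)) fun p q ⟨r, a, b, _⟩ => AlgSp.Points.sound
    ⟨r.K, r.field, r.str, eqToHom r.lies.symm ≫ a.hom ≫ eqToHom p.lies,
      eqToHom r.lies.symm ≫ b.hom ≫ eqToHom q.lies, by
        show F.obj.map _ (F.obj.map (eqToHom p.lies.symm).op p.obj.sec) =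
          F.obj.map _ (F.obj.map (eqToHom q.lies.symm).op q.obj.sec)
        have key : ∀ (q : AlgSt.FPt (AlgSt.ofSp F)) (c : r.obj ⟶ q.obj),
            F.obj.map (eqToHom r.lies.symm ≫ c.hom ≫ eqToHom q.lies).op
              (F.obj.map (eqToHom q.lies.symm).op q.obj.sec) = F.obj.map (eqToHom r.lies.symm).op r.obj.sec :=
          fun q c => by
            refine (res_res F.obj _ _ _).trans ((res_congr F.obj ?_ _).trans ((res_res F.obj c.hom
              (eqToHom r.lies.symm) q.obj.sec).symm.trans (congrArg _ c.map_sec)))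
            simp
        exact (key p a).trans (key q b).symm⟩

theorem spPt_bijective : Function.Bijective (spPt : AlgSt.Points (AlgSt.ofSp F) → AlgSp.Points F) := by
  let inv : AlgSp.Points F → AlgSt.Points (AlgSt.ofSp F) :=
    Quotient.lift (fun p : AlgSp.FieldPt F =>
      AlgSt.Points.mk ({ K := p.K, str := p.str, obj := ⟨Over.mk p.str, p.val⟩, lies := rfl } :
        AlgSt.FPt (AlgSt.ofSp F))) (by
      rintro p q ⟨Ω, _, w, a, b, h⟩
      exact AlgSt.Points.sound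
        ⟨({ K := Ω, str := w, obj := ⟨Over.mk w, F.obj.map a.op p.val⟩, lies := rfl } :
          AlgSt.FPt (AlgSt.ofSp F)), ⟨a, rfl⟩, ⟨b, h.symm⟩, trivial⟩)
  refine Function.bijective_iff_has_inverse.2 ⟨inv, fun x => ?_, fun x => ?_⟩
  · obtain ⟨p, rfl⟩ := AlgSt.Points.mk_surjective x
    refine pts_eq_of_hom (p := ({ K := p.K, str := p.str, obj := ⟨Over.mk p.str, _⟩, lies := rfl } :
      AlgSt.FPt (AlgSt.ofSp F))) (q := p) ?_
    exact ⟨eqToHom p.lies.symm, rfl⟩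
  · induction x using AlgSp.Points.ind with
    | h p =>
      refine congrArg AlgSp.Points.mk ?_
      cases p
      simp [spFPt]

theorem spPt_map_ofSpMap (a : F ⟶ G) (x : AlgSt.Points (AlgSt.ofSp F)) :
    spPt (AlgSt.Points.map (AlgSt.ofSpMap a) x) = AlgSp.Points.map a (spPt x) := by
  obtain ⟨p, rfl⟩ := AlgSt.Points.mk_surjective x
  show AlgSp.Points.mk _ = AlgSp.Points.mk _
  congr 1
  show ({ K := _, str := _, val := _ } : AlgSp.FieldPt G) = { K := _, str := _, val := _ }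
  congr 1
  exact (NatTrans.naturality_apply a.hom (eqToHom p.lies.symm).op p.obj.sec).symm

theorem toSch_map_toOverCat {U : Over S} (x : AlgSt.Points (AlgSt.ofSch U)) :
    toSch U (AlgSt.Points.map (AlgSt.toOverCat U) x) = AlgSp.Points.toScheme U (spPt x) := by
  obtain ⟨p, rfl⟩ := AlgSt.Points.mk_surjective x
  rfl

theorem toSch_map {U : Over S} (Φ : AlgSt.ofSp F ⥤ᵇ FibCat.overCat U) (x : AlgSt.Points (AlgSt.ofSp F)) :
    toSch U (AlgSt.Points.map Φ x) = AlgSp.Points.toScheme U (AlgSp.Points.map (AlgSt.spMapOfOver Φ) (spPt x)) := by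
  rw [pts_map_congr (isoSpMapOfOver Φ), pts_map_comp, toSch_map_toOverCat, spPt_map_ofSpMap]

end OfSp

end Groth.Agent.AlgStLib
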