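import Groth.Agent.AlgStLib.Noetherian
import Groth.Agent.AlgStLib.SpProps
import Groth.Agent.AlgStLib.Graph
import Groth.Agent.FibBase.DiagRep

/-!
# Quasi-compact functors
-/

set_option backward.isDefEq.respectTransparency false
set_option backward.isDefEq.respectTransparency.types false

universe u

open CategoryTheory CategoryTheory.Functor CategoryTheory.Limits AlgebraicGeometry Opposite AlgSp

namespace Groth.Agent.AlgStLib

open Groth.Agent.FibBase Groth.Agent.AlgSpLib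

variable {S : Scheme.{u}} {𝒳 𝒴 𝒵 𝒲 : AlgSt.Cat S}

local notation "K₀" => Scheme.fppfPrecoverage

/-! ## Quasi-compact categories -/

theorem isQuasiCompact_of_equiv {e : 𝒳 ⥤ᵇ 𝒴} (he : FibCat.IsEquivOver e) (h : AlgSt.IsQuasiCompact 𝒳) :
    AlgSt.IsQuasiCompact 𝒴 := by
  obtain ⟨U, x, hU, hx, hx'⟩ := h
  exact ⟨U, BasedFunctor.comp x e, hU, repByAlgSpWith_postcomp he hx, repByAlgSpWith_postcomp he hx'⟩

theorem isQuasiCompact_of_equiv' {e : 𝒳 ⥤ᵇ 𝒴} (he : FibCat.IsEquivOver e) (h : AlgSt.IsQuasiCompact 𝒴) :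
    AlgSt.IsQuasiCompact 𝒳 := by
  obtain ⟨g, hg, -⟩ := isEquivOver_inv he
  exact isQuasiCompact_of_equiv hg h

theorem isQuasiCompact_of_surjective (h𝒲 : FibCat.IsFibGrpd 𝒲.p) (h𝒳 : AlgSt.IsAlgStack K₀ 𝒳) {f : 𝒲 ⥤ᵇ 𝒳}
    (hf : AlgSt.IsSurjective f) (h : AlgSt.IsQuasiCompact 𝒲) : AlgSt.IsQuasiCompact 𝒳 := by
  have hA : AlgSt.HasAtlas (LocP @Smooth) 𝒲 := by
    obtain ⟨U, x, -, hx, hx'⟩ := h
    exact ⟨U, x, hx, hx'⟩
  have := (isQuasiCompact_iff_compactSpace_points h𝒲 hA).1 h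
  refine (isQuasiCompact_iff_compactSpace_points h𝒳.isStack.1 h𝒳.atlas).2 ⟨?_⟩
  rw [← hf.range_eq]
  exact isCompact_range (continuous_pts_map h𝒳.isStack.1 h𝒳.atlas f)

theorem isQuasiCompact_overCat (U : Over S) [CompactSpace U.left] :
    AlgSt.IsQuasiCompact (FibCat.overCat U : AlgSt.Cat S) :=
  isQuasiCompact_of_compactSpace_chart (isFibGrpd_overCat U) (x := BasedFunctor.id _) inferInstance
    (repByAlgSpWith_smooth_of_isEquivOver isEquivOver_id) (repByAlgSpWith_surj_of_isEquivOver isEquivOver_id)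

theorem isQuasiCompact_ofSp (F : AlgSp.Space S) (h : IsQuasiCompactSp F.obj) :
    AlgSt.IsQuasiCompact (AlgSt.ofSp F.obj) := by
  obtain ⟨T, p, hp, hp', hT⟩ := h
  exact isQuasiCompact_of_compactSpace_chart (isFibGrpd_ofSp F.obj) (x := overOfMap p) hT
    (repByAlgSpWith_overOfMap stableBC_locP F.property
      (locP_mono (P := @Etale) etale_le_smooth (locP_of_repWith hp)))
    (repByAlgSpWith_overOfMap stableBC_isSurjectiveMor F.property (surjective_map_of_repWith hp'))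

theorem isQuasiCompactSp_of_ofSp (F : AlgSp.Space S) (h : AlgSt.IsQuasiCompact (AlgSt.ofSp F.obj)) :
    IsQuasiCompactSp F.obj := by
  obtain ⟨U, x, hU, -, hx'⟩ := h
  have := hU
  have hs : Function.Surjective (Points.ofPt (mapOfOver x)) := fun q => by
    obtain ⟨w, rfl⟩ := spPt_bijective.2 q
    obtain ⟨t, rfl⟩ := ofChart_surjective (isFibGrpd_ofSp F.obj) hx' w
    refine ⟨t, ?_⟩
    rw [ofChart_eq_map, pts_map_congr (isoOverOfMap x), spPt_map_overOfMap, ← Points.ofPt_eq_map_ofScheme]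
  have : CompactSpace (Points F.obj) :=
    ⟨by rw [← hs.range_eq]; exact isCompact_range (Points.continuous_ofPt _)⟩
  exact isQuasiCompactSp_of_compactSpace F.property

/-! ## Quasi-compact functors -/

theorem isQuasiCompactMor_of_iso {f f' : 𝒳 ⥤ᵇ 𝒴} (i : f ≅ f') (h : AlgSt.IsQuasiCompactMor K₀ f) :
    AlgSt.IsQuasiCompactMor K₀ f' := fun 𝒯 h𝒯 hq g =>
  isQuasiCompact_of_equiv
    (fpMap_isEquivOver (F := g) (G := f') (F' := g) (G' := f) (a := BasedFunctor.id _) (b := BasedFunctor.id _)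
      (c := BasedFunctor.id _) (Iso.refl _) i isEquivOver_id isEquivOver_id) (h 𝒯 h𝒯 hq g)

theorem isQuasiCompactMor_fpFst (g : 𝒵 ⥤ᵇ 𝒴) {f : 𝒳 ⥤ᵇ 𝒴} (h : AlgSt.IsQuasiCompactMor K₀ f) :
    AlgSt.IsQuasiCompactMor K₀ (FibCat.fpFst g f) := fun 𝒯 h𝒯 hq t =>
  isQuasiCompact_of_equiv' (pasteVert_isEquivOver t g f) (h 𝒯 h𝒯 hq (BasedFunctor.comp t g))

theorem isQuasiCompactMor_fpSnd (g : 𝒵 ⥤ᵇ 𝒴) {f : 𝒳 ⥤ᵇ 𝒴} (h : AlgSt.IsQuasiCompactMor K₀ f) :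
    AlgSt.IsQuasiCompactMor K₀ (FibCat.fpSnd f g) := fun 𝒯 h𝒯 hq t => by
  have : (BasedFunctor.id 𝒵).toFunctor.Full := inferInstanceAs (𝟭 _).Full
  have : (BasedFunctor.id 𝒵).toFunctor.Faithful := inferInstanceAs (𝟭 _).Faithful
  exact isQuasiCompact_of_equiv'
    (fpMap_isEquivOver (F := t) (G := FibCat.fpFst g f) (F' := t) (G' := FibCat.fpSnd f g)
      (a := BasedFunctor.id _) (b := fpSwap f g) (c := BasedFunctor.id _) (Iso.refl _) (Iso.refl _)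
      isEquivOver_id (fpSwap_isEquivOver f g)) (isQuasiCompactMor_fpFst g h 𝒯 h𝒯 hq t)

theorem isQuasiCompactMor_comp (h𝒴 : AlgSt.IsAlgStack K₀ 𝒴) (h𝒵 : Stk.IsStack (QuotSh.J K₀ S) 𝒵)
    (hΔ : AlgSt.RepByAlgSp1 (FibCat.diag (FibCat.toSelf 𝒵))) {f : 𝒳 ⥤ᵇ 𝒴} {g : 𝒴 ⥤ᵇ 𝒵}
    (hf : AlgSt.IsQuasiCompactMor K₀ f) (hg : AlgSt.IsQuasiCompactMor K₀ g) :
    AlgSt.IsQuasiCompactMor K₀ (BasedFunctor.comp f g) := fun 𝒯 h𝒯 hq t =>
  isQuasiCompact_of_equiv (pasteHor_isEquivOver t f g)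
    (hf _ (isAlgStack_fp h𝒯 h𝒴 h𝒵 hΔ t g) (hg 𝒯 h𝒯 hq t) (FibCat.fpSnd t g))

/-- Quasi-compactness of a base change descends along a map surjective on points. -/
theorem isQuasiCompact_fp_of_surjective (h𝒲 : FibCat.IsFibGrpd 𝒲.p) (h𝒵 : AlgSt.IsAlgStack K₀ 𝒵)
    (h𝒳 : AlgSt.IsAlgStack K₀ 𝒳) (h𝒴 : Stk.IsStack (QuotSh.J K₀ S) 𝒴)
    (hΔ : AlgSt.RepByAlgSp1 (FibCat.diag (FibCat.toSelf 𝒴))) {f : 𝒳 ⥤ᵇ 𝒴} {g : 𝒵 ⥤ᵇ 𝒴} {m : 𝒲 ⥤ᵇ 𝒵}
    (hm : AlgSt.IsSurjective m) (h : AlgSt.IsQuasiCompact (FibCat.fp (BasedFunctor.comp m g) f)) :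
    AlgSt.IsQuasiCompact (FibCat.fp g f) := by
  have hfp := isAlgStack_fp h𝒵 h𝒳 h𝒴 hΔ g f
  exact isQuasiCompact_of_surjective (fp_isFibGrpd h𝒲 hfp.isStack.1 h𝒵.isStack.1) hfp
    (pts_surjective_fpSnd h𝒲 h𝒵.isStack.1 hfp.isStack.1 (FibCat.fpFst g f) hm)
    (isQuasiCompact_of_equiv' (pasteVert_isEquivOver m g f) h)

theorem isSurjective_ofChart_atlas (h𝒵 : FibCat.IsFibGrpd 𝒵.p) {U : Over S} {x : FibCat.overCat U ⥤ᵇ 𝒵}
    (hx : AlgSt.RepByAlgSpWith IsSurjectiveMor x) : AlgSt.IsSurjective x := fun z => by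
  obtain ⟨t, rfl⟩ := ofChart_surjective h𝒵 hx z
  exact ⟨ptAt U t, (ofChart_eq_map x t).symm⟩

theorem isQuasiCompactMor_of_affine (h𝒳 : AlgSt.IsAlgStack K₀ 𝒳) (h𝒴 : Stk.IsStack (QuotSh.J K₀ S) 𝒴)
    (hΔ : AlgSt.RepByAlgSp1 (FibCat.diag (FibCat.toSelf 𝒴))) {f : 𝒳 ⥤ᵇ 𝒴}
    (h : ∀ (U : Over S) (u : FibCat.overCat U ⥤ᵇ 𝒴), IsAffine U.left → AlgSt.IsQuasiCompact (FibCat.fp u f)) :
    AlgSt.IsQuasiCompactMor K₀ f := fun 𝒯 h𝒯 hq g => by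
  obtain ⟨U, x, hU, -, hx'⟩ := hq
  exact isQuasiCompact_fp_of_surjective (isFibGrpd_overCat U) h𝒯 h𝒳 h𝒴 hΔ
    (isSurjective_ofChart_atlas h𝒯.isStack.1 hx') (h U _ hU)

theorem isQuasiCompactMor_of_triangle (h𝒳 : AlgSt.IsAlgStack K₀ 𝒳) (h𝒴 : AlgSt.IsAlgStack K₀ 𝒴)
    (h𝒵 : AlgSt.IsAlgStack K₀ 𝒵) {f : 𝒳 ⥤ᵇ 𝒴} {p : 𝒳 ⥤ᵇ 𝒵} {q : 𝒴 ⥤ᵇ 𝒵}
    (e : BasedFunctor.comp f q ≅ p) (hf : AlgSt.IsSurjective f) (hp : AlgSt.IsQuasiCompactMor K₀ p) :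
    AlgSt.IsQuasiCompactMor K₀ q := fun 𝒯 h𝒯 hq t => by
  have hfp := isAlgStack_fp h𝒯 h𝒴 h𝒵.isStack h𝒵.diag t q
  have h1 : AlgSt.IsQuasiCompact (FibCat.fp t (BasedFunctor.comp f q)) :=
    isQuasiCompactMor_of_iso e.symm hp 𝒯 h𝒯 hq t
  exact isQuasiCompact_of_surjective (fp_isFibGrpd hfp.isStack.1 h𝒳.isStack.1 h𝒴.isStack.1) hfp
    (pts_surjective_fpFst h𝒳.isStack.1 h𝒴.isStack.1 hfp.isStack.1 (FibCat.fpSnd t q) hf)
    (isQuasiCompact_of_equiv' (pasteHor_isEquivOver t f q) h1)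

/-- The representing space of a base change to a scheme, as a base change of a map of sheaves. -/
theorem exists_equiv_pullback {f : 𝒳 ⥤ᵇ 𝒴} {U : Over S} (y : FibCat.overCat U ⥤ᵇ 𝒴) {F Z Z' : Sp S}
    (e : AlgSt.ofSp F ⥤ᵇ FibCat.fp y f) (he : FibCat.IsEquivOver e) {g : Z ⟶ (yon S).obj U} {fst : Z' ⟶ F}
    {snd : Z' ⟶ Z}
    (sq : IsPullback fst snd (AlgSt.spMapOfOver (BasedFunctor.comp e (FibCat.fpFst y f))) g) :
    ∃ E : AlgSt.ofSp Z' ⥤ᵇ FibCat.fp (BasedFunctor.comp (BasedFunctor.comp (AlgSt.ofSpMap g) (AlgSt.toOverCat U)) y) f,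
      FibCat.IsEquivOver E := by
  let a := AlgSt.spMapOfOver (BasedFunctor.comp e (FibCat.fpFst y f))
  obtain ⟨k, hk, -, -⟩ := exists_spCone sq
  have := full_of_isEquivOver (isEquivOver_toOverCat U)
  have := faithful_of_isEquivOver (isEquivOver_toOverCat U)
  let m := fpMap (F := BasedFunctor.comp (AlgSt.ofSpMap g) (AlgSt.toOverCat U)) (G := FibCat.fpFst y f)
    (F' := AlgSt.ofSpMap g) (G' := AlgSt.ofSpMap a) (a := BasedFunctor.id _) (b := e) (c := AlgSt.toOverCat U)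
    (Iso.refl _) (isoSpMapOfOver (BasedFunctor.comp e (FibCat.fpFst y f))).symm
  exact ⟨BasedFunctor.comp k (BasedFunctor.comp (fpSwap _ _) (BasedFunctor.comp m (pasteVert _ y f))),
    isEquivOver_comp hk (isEquivOver_comp (fpSwap_isEquivOver _ _)
      (isEquivOver_comp (fpMap_isEquivOver _ _ isEquivOver_id he) (pasteVert_isEquivOver _ y f)))⟩

theorem repByAlgSpWith_isQuasiCompactMor_iff (h𝒳 : AlgSt.IsAlgStack K₀ 𝒳)
    (h𝒴 : Stk.IsStack (QuotSh.J K₀ S) 𝒴) (hΔ : AlgSt.RepByAlgSp1 (FibCat.diag (FibCat.toSelf 𝒴)))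
    {f : 𝒳 ⥤ᵇ 𝒴} (hf : AlgSt.RepByAlgSp1 f) :
    AlgSt.RepByAlgSpWith IsQuasiCompactMor f ↔ AlgSt.IsQuasiCompactMor K₀ f := by
  refine ⟨fun h => isQuasiCompactMor_of_affine h𝒳 h𝒴 hΔ fun U u hU => ?_, fun h U y => ?_⟩
  · obtain ⟨F, e, he, ha⟩ := h U u
    have := hU
    exact isQuasiCompact_of_equiv he (isQuasiCompact_ofSp F
      (ha (IsAlgSpace.yon_obj U) (isQuasiCompactSp_yon U) (𝟙 _) (𝟙 F.obj) _
        (IsPullback.of_horiz_isIso ⟨(Category.id_comp _).trans (Category.comp_id _).symm⟩)))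
  · obtain ⟨F, e, he⟩ := hf U y
    refine ⟨F, e, he, fun Z Z' hZ hZq g fst snd sq => ?_⟩
    obtain ⟨E, hE⟩ := exists_equiv_pullback y e he sq
    exact isQuasiCompactSp_of_ofSp ⟨Z', isAlgSpace_of_isPullback sq F.property hZ (IsAlgSpace.yon_obj U)⟩
      (isQuasiCompact_of_equiv' hE (h _ (isAlgStack_ofSp ⟨Z, hZ⟩) (isQuasiCompact_ofSp ⟨Z, hZ⟩ hZq) _))

theorem isQuasiCompactMor_of_repWith (h𝒳 : AlgSt.IsAlgStack K₀ 𝒳) (h𝒴 : AlgSt.IsAlgStack K₀ 𝒴)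
    {Q : MorphismProperty Scheme.{u}} (hQ : Q ≤ @QuasiCompact) {f : 𝒳 ⥤ᵇ 𝒴}
    (hf : AlgSt.RepByAlgSpWith (RepWith Q) f) : AlgSt.IsQuasiCompactMor K₀ f :=
  (repByAlgSpWith_isQuasiCompactMor_iff h𝒳 h𝒴.isStack h𝒴.diag (repByAlgSp1_of_repByAlgSpWith hf)).1
    (repByAlgSpWith_mono (fun _ _ _ h => AlgSpPts.isQuasiCompactMor_of_repWith (repWith_mono hQ _ h)) hf)

theorem isSurjective_overMap {U V : Over S} (v : U ⟶ V) (h : Function.Surjective v.left) :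
    AlgSt.IsSurjective (AlgSt.overMap v) := fun w => by
  obtain ⟨s, hs⟩ := h (toSch V w)
  refine ⟨ptAt U s, (toSch_bijective V).1 ?_⟩
  rw [toSch_map_overMap, toSch_ptAt, hs]

theorem isQuasiCompactMor_of_cover (h𝒳 : AlgSt.IsAlgStack K₀ 𝒳) (h𝒴 : AlgSt.IsAlgStack K₀ 𝒴) {f : 𝒳 ⥤ᵇ 𝒴}
    (W : AlgSp.Space S) (w : AlgSt.ofSp W.obj ⥤ᵇ 𝒴) (hw₁ : AlgSt.RepByAlgSpWith (LocP @Flat) w)
    (hw₂ : AlgSt.RepByAlgSpWith (LocP @LocallyOfFinitePresentation) w)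
    (hw₃ : AlgSt.RepByAlgSpWith IsSurjectiveMor w)
    (h : AlgSt.IsQuasiCompactMor K₀ (FibCat.fpFst w f)) : AlgSt.IsQuasiCompactMor K₀ f := by
  refine isQuasiCompactMor_of_affine h𝒳 h𝒴.isStack h𝒴.diag fun U u hU => ?_
  obtain ⟨T₀, p, hp, hp'⟩ := W.property.atlas
  have hg := isFibGrpd_ofSp W.obj
  have hT := isFibGrpd_overCat (S := S) T₀
  have hp0 := locP_of_repWith (P := @Etale) hp
  let x := BasedFunctor.comp (overOfMap p) w
  have h₁ : AlgSt.RepByAlgSpWith (LocP @Flat) x := repByAlgSpWith_locP_comp hT hg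
    (repByAlgSpWith_overOfMap stableBC_locP W.property (locP_mono (P := @Etale) etale_le_flat hp0)) hw₁
  have h₂ : AlgSt.RepByAlgSpWith (LocP @LocallyOfFinitePresentation) x := repByAlgSpWith_locP_comp hT hg
    (repByAlgSpWith_overOfMap stableBC_locP W.property (locP_mono (P := @Etale) etale_le_lfp hp0)) hw₂
  have h₃ : AlgSt.RepByAlgSpWith IsSurjectiveMor x := repByAlgSpWith_isSurjectiveMor_comp hT hg
    (repByAlgSpWith_overOfMap stableBC_isSurjectiveMor W.property (surjective_map_of_repWith hp')) hw₃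
  obtain ⟨T, k, l, ⟨i⟩, -, hR, hs⟩ := exists_chart_fp h𝒴.isStack.1 u (repByAlgSp1_of_repByAlgSpWith h₁)
  have hk : IsOpenMap k.left := isOpenMap_of_flat_lfp _ (hR _ etale_le_flat h₁) (hR _ etale_le_lfp h₂)
  have := hU
  obtain ⟨O, hO, e⟩ := hk.exists_opens_image_eq_of_prespectralSpace k.left.continuous (by simp [(hs h₃).range_eq])
    isOpen_univ isCompact_univ
  let O' : T.left.Opens := O
  let o : Over.mk (O'.ι ≫ T.hom) ⟶ T := Over.homMk O'.ι rfl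
  have : CompactSpace (Over.mk (O'.ι ≫ T.hom)).left := isCompact_iff_compactSpace.mp hO
  have hsurj : Function.Surjective (o ≫ k).left := fun t => by
    obtain ⟨s, hs, rfl⟩ := e.ge (Set.mem_univ t)
    exact ⟨⟨s, hs⟩, rfl⟩
  let v := BasedFunctor.comp (AlgSt.overMap o) (BasedFunctor.comp (AlgSt.overMap l) (overOfMap p))
  have h4 : AlgSt.IsQuasiCompact (FibCat.fp (BasedFunctor.comp v w) f) :=
    isQuasiCompact_of_equiv (pasteVert_isEquivOver v w f)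
      (h _ (isAlgStack_overCat _) (isQuasiCompact_overCat _) v)
  let j : BasedFunctor.comp v w ≅ BasedFunctor.comp (AlgSt.overMap (o ≫ k)) u :=
    whiskerLeftIso (AlgSt.overMap o) i.symm ≪≫ whiskerRightIso (overMapCompIso o k) u
  exact isQuasiCompact_fp_of_surjective (isFibGrpd_overCat _) (isAlgStack_overCat U) h𝒳 h𝒴.isStack h𝒴.diag
    (isSurjective_overMap (o ≫ k) hsurj)
    (isQuasiCompact_of_equiv
      (fpMap_isEquivOver (F := BasedFunctor.comp (AlgSt.overMap (o ≫ k)) u) (G := f) (F' := BasedFunctor.comp v w)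
        (G' := f) (a := BasedFunctor.id _) (b := BasedFunctor.id _) (c := BasedFunctor.id _) j.symm (Iso.refl _)
        isEquivOver_id isEquivOver_id) h4)

theorem isQuasiCompactMor_of_fppf_baseChange (h𝒳 : AlgSt.IsAlgStack K₀ 𝒳) (h𝒴 : AlgSt.IsAlgStack K₀ 𝒴)
    (h𝒵 : AlgSt.IsAlgStack K₀ 𝒵) {f : 𝒳 ⥤ᵇ 𝒴} {z : 𝒵 ⥤ᵇ 𝒴} (hz₁ : AlgSt.LocQ (LocP @Flat) z)
    (hz₂ : AlgSt.LocQ (LocP @LocallyOfFinitePresentation) z) (hz₃ : AlgSt.IsSurjective z)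
    (h : AlgSt.IsQuasiCompactMor K₀ (FibCat.fpFst z f)) : AlgSt.IsQuasiCompactMor K₀ f := by
  obtain ⟨V, y, hy, hy'⟩ := exists_space_atlas h𝒴
  obtain ⟨W, w, k, -, ⟨i⟩, hk, hk'⟩ := exists_fppf_chart h𝒵 h𝒴 hz₁ hz₂ hz₃ hy
  have hW := isFibGrpd_ofSp W.obj
  have hV := isFibGrpd_ofSp V.obj
  refine isQuasiCompactMor_of_cover h𝒳 h𝒴 W (BasedFunctor.comp (AlgSt.ofSpMap k) y)
    (repByAlgSpWith_locP_comp hW hV (repByAlgSpWith_ofSpMap stableBC_locP W.property V.property k hk.1)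
      (repByAlgSpWith_flat_of_smooth hy))
    (repByAlgSpWith_locP_comp hW hV (repByAlgSpWith_ofSpMap stableBC_locP W.property V.property k hk.2)
      (repByAlgSpWith_lfp_of_smooth hy))
    (repByAlgSpWith_isSurjectiveMor_comp hW hV
      (repByAlgSpWith_ofSpMap stableBC_isSurjectiveMor W.property V.property k hk') hy') fun 𝒯 h𝒯 hq t => ?_
  refine isQuasiCompact_of_equiv' (pasteVert_isEquivOver t (BasedFunctor.comp (AlgSt.ofSpMap k) y) f) ?_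
  exact isQuasiCompact_of_equiv
    (fpMap_isEquivOver (F := BasedFunctor.comp t (BasedFunctor.comp (AlgSt.ofSpMap k) y)) (G := f)
      (F' := BasedFunctor.comp (BasedFunctor.comp t w) z) (G' := f) (a := BasedFunctor.id _)
      (b := BasedFunctor.id _) (c := BasedFunctor.id _) (whiskerLeftIso t i.symm) (Iso.refl _) isEquivOver_id
      isEquivOver_id)
    (isQuasiCompact_of_equiv (pasteVert_isEquivOver (BasedFunctor.comp t w) z f)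
      (h 𝒯 h𝒯 hq (BasedFunctor.comp t w)))

/-! ## Cancellation along quasi-separated functors -/

theorem isQuasiCompactMor_of_comp (h𝒳 : AlgSt.IsAlgStack K₀ 𝒳) (h𝒴 : AlgSt.IsAlgStack K₀ 𝒴)
    (h𝒵 : Stk.IsStack (QuotSh.J K₀ S) 𝒵) (hΔ : AlgSt.RepByAlgSp1 (FibCat.diag (FibCat.toSelf 𝒵)))
    {f : 𝒳 ⥤ᵇ 𝒴} {g : 𝒴 ⥤ᵇ 𝒵} (h : AlgSt.IsQuasiCompactMor K₀ (BasedFunctor.comp f g))
    (hg : AlgSt.IsQuasiSeparatedMor g) : AlgSt.IsQuasiCompactMor K₀ f := by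
  have hfp := isAlgStack_fp h𝒳 h𝒴 h𝒵 hΔ (BasedFunctor.comp f g) g
  let e₀ : BasedFunctor.comp (BasedFunctor.id 𝒳) (BasedFunctor.comp f g) ≅ BasedFunctor.comp f g := Iso.refl _
  have hgr : AlgSt.RepByAlgSpWith IsQuasiCompactMor (FibCat.fpLift (BasedFunctor.id 𝒳) f e₀) :=
    repByAlgSpWith_mono (fun _ _ _ h => h.1) (repByAlgSpWith_graph e₀ hg)
  have hc : AlgSt.IsQuasiCompactMor K₀ (FibCat.fpLift (BasedFunctor.id 𝒳) f e₀) :=
    (repByAlgSpWith_isQuasiCompactMor_iff h𝒳 hfp.isStack hfp.diag (repByAlgSp1_of_repByAlgSpWith hgr)).1 hgr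
  exact isQuasiCompactMor_of_iso (Iso.refl _)
    (isQuasiCompactMor_comp hfp h𝒴.isStack h𝒴.diag hc (isQuasiCompactMor_fpSnd g h))

/-- Over a quasi-separated base a quasi-compact stack is quasi-compact over the base. -/
theorem isQuasiCompactMor_toSelf [QuasiSeparatedSpace S] (h𝒳 : AlgSt.IsAlgStack K₀ 𝒳)
    (hq : AlgSt.IsQuasiCompact 𝒳) : AlgSt.IsQuasiCompactMor K₀ (FibCat.toSelf 𝒳) := by
  refine isQuasiCompactMor_of_affine h𝒳 isStack_selfOver repByAlgSpWith_diag_toSelf_selfOver fun U u hU => ?_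
  obtain ⟨X₀, x, hX₀, hx, hx'⟩ := hq
  have := hU
  have := hX₀
  have hfp := isAlgStack_fp (isAlgStack_overCat U) h𝒳 isStack_selfOver repByAlgSpWith_diag_toSelf_selfOver u
    (FibCat.toSelf 𝒳)
  refine isQuasiCompact_of_surjective (fp_isFibGrpd hfp.isStack.1 (isFibGrpd_overCat X₀) h𝒳.isStack.1) hfp
    (pts_surjective_fpFst (isFibGrpd_overCat X₀) h𝒳.isStack.1 hfp.isStack.1 (FibCat.fpSnd u (FibCat.toSelf 𝒳))
      (isSurjective_ofChart_atlas h𝒳.isStack.1 hx')) ?_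
  refine isQuasiCompact_of_equiv' (pasteHor_isEquivOver u x (FibCat.toSelf 𝒳)) ?_
  rw [eq_toSelf u, eq_toSelf (BasedFunctor.comp x (FibCat.toSelf 𝒳))]
  have : QuasiCompact X₀.hom := inferInstance
  have : CompactSpace ↥(Limits.pullback U.hom X₀.hom) :=
    QuasiCompact.compactSpace_of_compactSpace (Limits.pullback.fst U.hom X₀.hom)
  have : CompactSpace ↥(U ⨯ X₀).left :=
    (Scheme.homeoOfIso (Over.prodLeftIsoPullback U X₀)).symm.compactSpace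
  exact isQuasiCompact_of_equiv (sliceProd_isEquivOver U X₀) (isQuasiCompact_overCat _)

end Groth.Agent.AlgStLib
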