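import Groth.Agent.AlgSpPts.Quot
import Groth.Agent.GrpdLib.QuotSheaf
import Mathlib.CategoryTheory.EquivalenceRelation

/-!
# Effective quotient sheaves for the fppf and the etale topology
-/

set_option backward.isDefEq.respectTransparency false
set_option backward.isDefEq.respectTransparency.types false

universe u

open CategoryTheory CategoryTheory.Limits AlgebraicGeometry Opposite

namespace Groth.Agent.AlgStLib.QuotShEff

variable {S : Scheme.{u}} {R U Y : Over S} {s t : R ⟶ U}

theorem isEqvRel_of_isEquivalenceRelation [h : IsEquivalenceRelation s t] : AlgSp.IsEqvRel s t := by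
  obtain ⟨e⟩ := h.nonempty_equivalenceRelation
  refine ⟨fun T r r' h₁ h₂ => e.right_cancellation r r' h₂ h₁, fun T => ⟨fun a => ?_, ?_, ?_⟩⟩
  · exact ⟨a ≫ e.r, by rw [Category.assoc, e.reflexivity₂, Category.comp_id],
      by rw [Category.assoc, e.reflexivity₁, Category.comp_id]⟩
  · rintro a b ⟨r, rfl, rfl⟩
    exact ⟨r ≫ e.s, by rw [Category.assoc, e.symmetry₂], by rw [Category.assoc, e.symmetry₁]⟩
  · rintro a b c ⟨r₁, rfl, h⟩ ⟨r₂, h', rfl⟩
    obtain ⟨l, hl₁, hl₂⟩ := PullbackCone.IsLimit.lift' e.isLimit r₂ r₁ (h'.trans h.symm)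
    refine ⟨l ≫ e.t, ?_, ?_⟩
    · rw [Category.assoc, e.transitivity₂, reassoc_of% hl₂]
    · rw [Category.assoc, e.transitivity₁, reassoc_of% hl₁]

theorem repMap_iso (K : Precoverage Scheme.{u}) [(QuotSh.J K S).Subcanonical] {V W : Over S} (g : V ⟶ W) :
    (QuotSh.repIsoUliftYoneda K V).hom ≫ (QuotSh.J K S).uliftYoneda.{u + 1}.map g =
      QuotSh.repMap K g ≫ (QuotSh.repIsoUliftYoneda K W).hom := by
  have e : (QuotSh.J K S).uliftYoneda.{u + 1}.map g ≫ (QuotSh.repIsoUliftYoneda K W).inv =
      (QuotSh.repIsoUliftYoneda K V).inv ≫ QuotSh.repMap K g :=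
    ObjectProperty.hom_ext _ (toSheafify_naturality (QuotSh.J K S) _)
  rw [← Iso.eq_inv_comp, ← Category.assoc, ← e, Category.assoc, Iso.inv_hom_id, Category.comp_id]

theorem repMap_eq_quotπ (K : Precoverage Scheme.{u}) {q : U ⟶ Y} (w : s ≫ q = t ≫ q) :
    QuotSh.quotπ K s t ≫ QuotSh.quotDesc K q w = QuotSh.repMap K q := coequalizer.π_desc _ _

theorem isKernelPair_of_isQuotient (K : Precoverage Scheme.{u}) [(QuotSh.J K S).Subcanonical]
    [IsEquivalenceRelation s t] {q : U ⟶ Y} (h : QuotSh.IsQuotient K s t q) : IsPullback s t q q := by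
  obtain ⟨w, hi⟩ := h
  have h₀ := (Groth.Agent.AlgSpPts.isPullback_quotπ K (isEqvRel_of_isEquivalenceRelation (s := s) (t := t))).flip
  have h₁ : IsPullback (QuotSh.repMap K s) (QuotSh.repMap K t) (QuotSh.repMap K q) (QuotSh.repMap K q) :=
    h₀.of_iso (Iso.refl _) (Iso.refl _) (Iso.refl _) (asIso (QuotSh.quotDesc K q w)) (by simp) (by simp)
      (by simp [repMap_eq_quotπ K w]) (by simp [repMap_eq_quotπ K w])
  refine IsPullback.of_map (QuotSh.J K S).uliftYoneda.{u + 1} w ?_
  exact h₁.of_iso (QuotSh.repIsoUliftYoneda K R) (QuotSh.repIsoUliftYoneda K U) (QuotSh.repIsoUliftYoneda K U)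
    (QuotSh.repIsoUliftYoneda K Y) (repMap_iso K s).symm (repMap_iso K t).symm (repMap_iso K q).symm
    (repMap_iso K q).symm

/-- A property which is fppf local at the target passes from the relation to the quotient map. -/
theorem property_of_isQuotient (K : Precoverage Scheme.{u}) [(QuotSh.J K S).Subcanonical]
    (hK : K.toGrothendieck ≤ Scheme.fppfPrecoverage.toGrothendieck) [IsEquivalenceRelation s t] {q : U ⟶ Y}
    (h : QuotSh.IsQuotient K s t q) (P : MorphismProperty Scheme.{u}) [P.IsStableUnderBaseChange]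
    [P.IsLocalAtTarget Scheme.fppfPrecoverage] (hP : P s.left) : P q.left := by
  have sq := (isKernelPair_of_isQuotient K h).flip.map (Over.forget S)
  obtain ⟨w, hi⟩ := h
  have hepi : Epi (QuotSh.repMap K q) := by
    rw [← repMap_eq_quotπ K w]
    have : Epi (QuotSh.quotπ K s t) := by
      unfold QuotSh.quotπ
      infer_instance
    exact epi_comp _ _
  have hls : Presheaf.IsLocallySurjective (QuotSh.J K S)
      (Functor.whiskerRight (yoneda.map q) uliftFunctor.{u + 1, u}) :=
    (Presheaf.isLocallySurjective_presheafToSheaf_map_iff _ _).1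
      ((Sheaf.isLocallySurjective_iff_epi (QuotSh.repMap K q)).2 hepi)
  have hmem := Presheaf.imageSieve_mem (QuotSh.J K S) (Functor.whiskerRight (yoneda.map q) uliftFunctor.{u + 1, u})
    (U := op Y) ⟨𝟙 Y⟩
  rw [GrothendieckTopology.mem_over_iff] at hmem
  replace hmem := hK _ hmem
  have : (@Flat ⊓ @LocallyOfFinitePresentation : MorphismProperty Scheme.{u}).ContainsIdentities :=
    ⟨fun X => ⟨inferInstanceAs (Flat (𝟙 X)), inferInstanceAs (LocallyOfFinitePresentation (𝟙 X))⟩⟩
  have : Scheme.fppfPrecoverage.HasIsos :=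
    inferInstanceAs (Scheme.precoverage (@Flat ⊓ @LocallyOfFinitePresentation)).HasIsos
  have : Scheme.fppfPrecoverage.HasPullbacks := ⟨fun {X} R f hR => inferInstance⟩
  obtain ⟨Rp, hRp, hle⟩ := Precoverage.mem_toGrothendieck_iff_of_isStableUnderComposition.1 hmem
  refine MorphismProperty.IsLocalAtTarget.of_forall_pullbackSnd hRp fun {Z} g _ hg => ?_
  obtain ⟨⟨l⟩, hl⟩ := (Sieve.overEquiv_iff _ g).1 (hle _ _ hg)
  have hl' : l.left ≫ q.left = g := by
    have := congrArg (fun x : ULift.{u + 1} _ => x.down.left) hl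
    simpa using this
  obtain ⟨a, ha⟩ : ∃ a : Z ⟶ U.left, a ≫ q.left = g := ⟨l.left, hl'⟩
  subst ha
  have sq' : IsPullback (pullback.snd a s.left) (pullback.fst a s.left) s.left a :=
    (IsPullback.of_hasPullback _ _).flip
  have big : IsPullback (pullback.snd a s.left ≫ t.left) (pullback.fst a s.left) q.left (a ≫ q.left) := by
    exact sq'.paste_horiz sq
  rw [← MorphismProperty.cancel_left_of_respectsIso P big.isoPullback.hom, IsPullback.isoPullback_hom_snd]
  exact MorphismProperty.pullback_fst _ _ hP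

end Groth.Agent.AlgStLib.QuotShEff
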