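import Groth.Agent.VarDim.IrredFibres
import Mathlib.RingTheory.Spectrum.Prime.Chevalley
import Mathlib.RingTheory.PolynomialAlgebra
import Mathlib.FieldTheory.IsAlgClosed.Basic
import Mathlib.RingTheory.Localization.FractionRing

/-!
# Transcendental elements and finite type algebras over a field
-/

universe u

open TensorProduct Polynomial Topology

namespace Groth.Agent.AlgStLib.RatPt

variable {k κ : Type u} [Field k] [IsAlgClosed k] [Field κ]

/-- Over an algebraically closed field, a bigger field has two copies with transcendental difference. -/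
theorem exists_transcendental_pair (ι : k →+* κ) (hι : ¬ Function.Surjective ι) :
    ∃ (t : κ) (_ : ∀ c, ι c ≠ t) (L : Type u) (_ : Field L) (a b : κ →+* L),
      a.comp ι = b.comp ι ∧ ∀ q : κ[X], q.eval₂ a (b t) = 0 → q = 0 := by
  algebraize [ι]
  obtain ⟨t, ht⟩ := not_forall.1 hι
  have htr : Function.Injective (aeval (R := k) t) := by
    refine transcendental_iff_injective.1 fun halg => ht ?_
    have hint : IsIntegral k t := halg.isIntegral
    have : Algebra.IsIntegral k ↥(Algebra.adjoin k {t}) := ⟨fun x => by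
      have := Algebra.IsIntegral.adjoin (R := k) (S := ({t} : Set κ)) (by simpa using hint)
      exact this.isIntegral x⟩
    obtain ⟨c, hc⟩ := (IsAlgClosed.algebraMap_bijective_of_isIntegral (k := k)
      (K := ↥(Algebra.adjoin k {t}))).2 ⟨t, Algebra.self_mem_adjoin_singleton k t⟩
    exact ⟨c, congrArg Subtype.val hc⟩
  let a₀ : κ →+* κ ⊗[k] κ := (Algebra.TensorProduct.includeLeft : κ →ₐ[k] κ ⊗[k] κ).toRingHom
  let b₀ : κ →+* κ ⊗[k] κ := (Algebra.TensorProduct.includeRight : κ →ₐ[k] κ ⊗[k] κ).toRingHom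
  let Φ : κ[X] →+* κ ⊗[k] κ := eval₂RingHom a₀ (b₀ t)
  have hΦ : Φ = (Algebra.TensorProduct.map (AlgHom.id k κ) (aeval t)).toRingHom.comp
      (polyEquivTensor k κ).toAlgHom.toRingHom := by
    refine Polynomial.ringHom_ext (fun c => ?_) ?_
    · simp [Φ, a₀]
    · simp [Φ, b₀]
  have hinj : Function.Injective Φ := by
    rw [hΦ]
    have h1 : Function.Injective (Algebra.TensorProduct.map (AlgHom.id k κ) (aeval t)) :=
      Module.Flat.lTensor_preserves_injective_linearMap (M := κ) (aeval (R := k) t).toLinearMap htr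
    exact fun x y hxy => (polyEquivTensor k κ).injective (h1 hxy)
  let M : Submonoid (κ ⊗[k] κ) := (nonZeroDivisors κ[X]).map Φ
  obtain ⟨P, hP, -, hdisj⟩ := Ideal.exists_le_prime_disjoint (⊥ : Ideal (κ ⊗[k] κ)) M (by
    refine Set.disjoint_left.2 fun x hx hxM => ?_
    obtain ⟨q, hq, rfl⟩ := hxM
    exact nonZeroDivisors.ne_zero hq (hinj (by simpa using hx)))
  let π : κ ⊗[k] κ →+* FractionRing (κ ⊗[k] κ ⧸ P) := (algebraMap _ _).comp (Ideal.Quotient.mk P)
  refine ⟨t, fun c hc => ht ⟨c, hc⟩, FractionRing (κ ⊗[k] κ ⧸ P), inferInstance, π.comp a₀, π.comp b₀, ?_,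
    fun q hq => ?_⟩
  · refine RingHom.ext fun c => congrArg π ?_
    exact (Algebra.TensorProduct.includeLeft : κ →ₐ[k] κ ⊗[k] κ).commutes c |>.trans
      ((Algebra.TensorProduct.includeRight : κ →ₐ[k] κ ⊗[k] κ).commutes c).symm
  · by_contra hne
    have h1 : π (Φ q) = 0 := (Polynomial.hom_eval₂ q a₀ π (b₀ t)).trans hq
    have h2 : Ideal.Quotient.mk P (Φ q) = 0 :=
      IsFractionRing.injective (κ ⊗[k] κ ⧸ P) (FractionRing (κ ⊗[k] κ ⧸ P)) (h1.trans (map_zero _).symm)
    exact Set.disjoint_left.1 hdisj (Ideal.Quotient.eq_zero_iff_mem.1 h2)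
      ⟨q, mem_nonZeroDivisors_of_ne_zero hne, rfl⟩

/-- A transcendental element cannot stay transcendental in a finite type algebra through a second copy. -/
theorem false_of_finiteType {A : Type u} [CommRing A] (ι : k →+* κ) (α β : κ →+* A) (hα : α.FiniteType)
    (h : α.comp ι = β.comp ι) (t : κ) (ht : ∀ c, ι c ≠ t) {K : Type u} [Field K] (ρ : A →+* K)
    (hρ : ∀ q : κ[X], q.eval₂ (ρ.comp α) (ρ (β t)) = 0 → q = 0) : False := by
  let g : κ[X] →+* A := eval₂RingHom α (β t)
  have hg : g.FiniteType := RingHom.FiniteType.of_comp_finiteType (f := C) (g := g) (by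
    have : g.comp C = α := RingHom.ext fun c => eval₂_C _ _
    rwa [this])
  have hcons := PrimeSpectrum.isConstructible_range_comap (RingHom.FinitePresentation.of_finiteType.1 hg)
  let Q : PrimeSpectrum A := ⟨RingHom.ker ρ, RingHom.ker_isPrime ρ⟩
  let η : PrimeSpectrum κ[X] := ⟨⊥, Ideal.isPrime_bot⟩
  have hη : η ∈ Set.range (PrimeSpectrum.comap g) := ⟨Q, PrimeSpectrum.ext <| eq_bot_iff.2 fun q hq => by
    refine Ideal.mem_bot.2 (hρ q ?_)
    have : ρ (g q) = 0 := hq
    rwa [coe_eval₂RingHom, Polynomial.hom_eval₂] at this⟩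
  have hgen : ∀ x, η ⤳ x := fun x => (PrimeSpectrum.le_iff_specializes η x).1 bot_le
  obtain ⟨O, hOsub, hO, hηO⟩ := mem_nhds_iff.1 ((Groth.Agent.VarDim.mem_nhds_of_isConstructible hgen hcons).1 hη)
  obtain ⟨_, ⟨r, rfl⟩, hηr, hr⟩ := PrimeSpectrum.isTopologicalBasis_basic_opens.exists_subset_of_mem_open hηO hO
  have hr0 : r ≠ 0 := fun h0 => hηr (h0 ▸ Submodule.zero_mem _)
  have hk : (Set.range ι).Infinite := Set.infinite_range_of_injective ι.injective
  obtain ⟨_, ⟨⟨c, rfl⟩, hc⟩⟩ : ((Set.range ι) \ {x | r.IsRoot x}).Nonempty :=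
    (hk.sdiff (Polynomial.finite_setOfPred_isRoot hr0)).nonempty
  let x : PrimeSpectrum κ[X] := ⟨RingHom.ker (evalRingHom (ι c)), RingHom.ker_isPrime _⟩
  obtain ⟨q, hq⟩ := hOsub (hr (a := x) (by exact hc))
  have hmem : g (X - C (ι c)) ∈ q.asIdeal := by
    have : X - C (ι c) ∈ (PrimeSpectrum.comap g q).asIdeal := by
      rw [hq]
      show evalRingHom (ι c) (X - C (ι c)) = 0
      simp
    exact this
  have : g (X - C (ι c)) = β (t - ι c) := by
    show (X - C (ι c)).eval₂ α (β t) = _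
    rw [eval₂_sub, eval₂_X, eval₂_C, map_sub]
    exact congrArg (β t - ·) (DFunLike.congr_fun h c)
  rw [this] at hmem
  exact q.2.ne_top (Ideal.eq_top_of_isUnit_mem _ hmem ((IsUnit.mk0 _ (sub_ne_zero.2 (ht c).symm)).map β))

end Groth.Agent.AlgStLib.RatPt
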