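import Groth.Agent.AlgStLib.GeomLift
import Groth.Agent.AlgStLib.GerbEquiv
import Groth.Agent.AlgStLib.RatPointAlg

/-!
# Rational points of stacks over an algebraically closed field with surjective diagonal
-/

set_option backward.isDefEq.respectTransparency false
set_option backward.isDefEq.respectTransparency.types false

universe u

open CategoryTheory CategoryTheory.Functor CategoryTheory.Limits AlgebraicGeometry Opposite AlgSp

namespace Groth.Agent.AlgStLib.RatPt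

open Groth.Agent.FibBase Groth.Agent.AlgSpLib

variable {S : Scheme.{u}} {𝒳 𝒴 𝒵 : AlgSt.Cat S}

local notation "K₀" => Scheme.fppfPrecoverage

theorem spMapOfOver_comp_overMap {F : Sp S} {U V : Over S} (Φ : AlgSt.ofSp F ⥤ᵇ FibCat.overCat U) (c : U ⟶ V) :
    AlgSt.spMapOfOver (BasedFunctor.comp Φ (AlgSt.overMap c)) = AlgSt.spMapOfOver Φ ≫ (yon S).map c := by
  apply ObjectProperty.hom_ext
  ext W x
  refine ULift.ext _ _ ?_
  show eqToHom _ ≫ ((Φ.obj _).hom ≫ c) = (eqToHom _ ≫ (Φ.obj _).hom) ≫ c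
  exact (Category.assoc _ _ _).symm

/-- The map of sheaves of an element. -/
theorem symm_comp_spMapOfOver {F : Sp S} {U W : Over S} (Φ : AlgSt.ofSp F ⥤ᵇ FibCat.overCat U)
    (x : F.obj.obj (op W)) (t : W ⟶ U) (h : AlgSt.secHom Φ ⟨W, x⟩ = t) :
    (J S).uliftYonedaEquiv.symm x ≫ AlgSt.spMapOfOver Φ = (yon S).map t := by
  apply (J S).uliftYonedaEquiv.injective
  rw [GrothendieckTopology.uliftYonedaEquiv_comp, Equiv.apply_symm_apply]
  show (⟨AlgSt.secHom Φ ⟨W, x⟩⟩ : ULift (W ⟶ U)) = ⟨𝟙 W ≫ t⟩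
  rw [h, Category.id_comp]

variable {k : Type u} [Field k] [IsAlgClosed k] {s : Spec (CommRingCat.of k) ⟶ S}

/-- An algebraic stack over an algebraically closed field with surjective diagonal has a rational point. -/
theorem exists_section (h𝒵 : AlgSt.IsAlgStack K₀ 𝒵) (π : 𝒵 ⥤ᵇ FibCat.overCat (Over.mk s))
    (hπ : AlgSt.IsSurjective (FibCat.diag π)) [Nonempty (AlgSt.Points 𝒵)] :
    ∃ E : FibCat.overCat (Over.mk s) ⥤ᵇ 𝒵,
      Nonempty (BasedFunctor.comp E π ≅ AlgSt.overMap (𝟙 (Over.mk s))) := by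
  have hg := h𝒵.isStack.1
  obtain ⟨U, x, hx, hx'⟩ := h𝒵.atlas
  obtain ⟨u₀, -⟩ := ofChart_surjective hg hx' (Classical.arbitrary (AlgSt.Points 𝒵))
  obtain ⟨D, hD, huD, -⟩ := exists_isAffineOpen_mem_and_subset (U := (⊤ : U.left.Opens)) (x := u₀) trivial
  have : IsAffine D.toScheme := hD
  obtain ⟨d, -, hd⟩ := (isClosed_univ (X := ↥D.toScheme)).exists_closed_singleton ⟨⟨u₀, huD⟩, trivial⟩
  have hci := (isClosed_singleton_iff_isClosedImmersion (X := D.toScheme)).1 hd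
  have hlft : LocallyOfFiniteType (U.left.fromSpecResidueField (D.ι d)) := by
    have : LocallyOfFiniteType (Spec.map (D.ι.residueFieldMap d) ≫ U.left.fromSpecResidueField (D.ι d)) := by
      rw [D.ι.SpecMap_residueFieldMap_fromSpecResidueField]
      infer_instance
    rwa [← MorphismProperty.cancel_left_of_respectsIso @LocallyOfFiniteType (Spec.map (D.ι.residueFieldMap d))]
  let κ := ↥(U.left.residueField (D.ι d))
  let Ω : Over S := Over.mk (U.left.fromSpecResidueField (D.ι d) ≫ U.hom)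
  let φ : FibCat.overCat Ω ⥤ᵇ 𝒵 :=
    BasedFunctor.comp (AlgSt.overMap (Over.homMk (U.left.fromSpecResidueField (D.ι d)) rfl : Ω ⟶ U)) x
  have hφ : AlgSt.RepByAlgSpWith (LocP @LocallyOfFiniteType) φ := OnePt.overMap_residue h𝒵
    (repByAlgSpWith_mono (fun _ _ _ h => locP_mono (Q := @LocallyOfFiniteType)
      (fun _ _ f (_ : Smooth f) => inferInstanceAs (LocallyOfFiniteType f)) h) hx) _ hlft
  obtain ⟨c, ⟨ic⟩⟩ := GerbFlat.exists_overMap_iso (BasedFunctor.comp φ π)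
  let ι : k →+* κ := (Spec.preimage (c.left : Spec (CommRingCat.of κ) ⟶ Spec (CommRingCat.of k))).hom
  have hι : (c.left : Spec (CommRingCat.of κ) ⟶ Spec (CommRingCat.of k)) = Spec.map (CommRingCat.ofHom ι) :=
    (Spec.map_preimage _).symm
  by_cases hs : Function.Surjective ι
  · let e : k ≃+* κ := RingEquiv.ofBijective ι ⟨ι.injective, hs⟩
    have hid : Spec.map (CommRingCat.ofHom e.symm.toRingHom) ≫
        (c.left : Spec (CommRingCat.of κ) ⟶ Spec (CommRingCat.of k)) = 𝟙 _ := by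
      rw [hι, ← Spec.map_comp, ← Spec.map_id]
      congr 1
      ext z
      exact e.symm_apply_apply z
    let σ : Over.mk s ⟶ Ω := Over.homMk (Spec.map (CommRingCat.ofHom e.symm.toRingHom)) (by
      show Spec.map _ ≫ Ω.hom = s
      rw [← Over.w c, ← Category.assoc]
      erw [hid]
      exact Category.id_comp _)
    have hσ : σ ≫ c = 𝟙 _ := Over.OverMorphism.ext hid
    exact ⟨BasedFunctor.comp (AlgSt.overMap σ) φ, ⟨whiskerLeftIso (AlgSt.overMap σ) ic ≪≫ overMapCompIso σ c ≪≫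
      eqToIso (congrArg AlgSt.overMap hσ)⟩⟩
  exfalso
  obtain ⟨t, ht, L, _, a, b, hab, htr⟩ := exists_transcendental_pair ι hs
  have hΩ : Ω.hom = Spec.map (CommRingCat.ofHom ι) ≫ s := by rw [← hι]; exact (Over.w c).symm
  let Λ : Over S := Over.mk (Spec.map (CommRingCat.ofHom a) ≫ Ω.hom)
  let la : Λ ⟶ Ω := Over.homMk (Spec.map (CommRingCat.ofHom a)) rfl
  have hab' : Spec.map (CommRingCat.ofHom b) ≫ Spec.map (CommRingCat.ofHom ι) =
      Spec.map (CommRingCat.ofHom a) ≫ Spec.map (CommRingCat.ofHom ι) := by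
    rw [← Spec.map_comp, ← Spec.map_comp, ← CommRingCat.ofHom_comp, ← CommRingCat.ofHom_comp, hab]
  let lb : Λ ⟶ Ω := Over.homMk (Spec.map (CommRingCat.ofHom b)) (by
    show Spec.map _ ≫ Ω.hom = Spec.map _ ≫ Ω.hom
    rw [hΩ]
    exact (Category.assoc _ _ _).symm.trans ((congrArg (· ≫ s) hab').trans (Category.assoc _ _ _)))
  have hlc : la ≫ c = lb ≫ c := Over.OverMorphism.ext (by
    exact (congrArg (Spec.map (CommRingCat.ofHom a) ≫ ·) hι).trans
      (hab'.symm.trans (congrArg (Spec.map (CommRingCat.ofHom b) ≫ ·) hι).symm))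
  let Y : FibCat.overCat Λ ⥤ᵇ FibCat.fp (BasedFunctor.comp φ π) (BasedFunctor.comp φ π) :=
    FibCat.fpLift (AlgSt.overMap la) (AlgSt.overMap lb) (whiskerLeftIso (AlgSt.overMap la) ic ≪≫
      overMapCompIso la c ≪≫ eqToIso (congrArg AlgSt.overMap hlc) ≪≫ (overMapCompIso lb c).symm ≪≫
      (whiskerLeftIso (AlgSt.overMap lb) ic).symm)
  have hk := isFibGrpd_overCat (S := S) Ω
  have hT := isFibGrpd_overCat (S := S) (Over.mk s)
  have hweak : AlgSt.IsSurjective (weaken φ φ π) := fun z => by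
    obtain ⟨w, hw⟩ := pts_surjective_fpFst hg (fp_isFibGrpd hg hg hT) (fp_isFibGrpd hk hk hT) (pairMap φ φ π) hπ z
    obtain ⟨w', rfl⟩ := (pts_bijective_of_isEquivOver (diagComparison_isEquivOver φ φ π)).2 w
    exact ⟨w', (pts_map_comp (diagComparison φ φ π) (FibCat.fpFst (pairMap φ φ π) (FibCat.diag π)) w').trans hw⟩
  obtain ⟨z, -⟩ := pts_surjective_fpFst (fp_isFibGrpd hk hk hg) (fp_isFibGrpd hk hk hT) (isFibGrpd_overCat Λ) Y hweak
    (ptAt Λ (IsLocalRing.closedPoint L))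
  obtain ⟨⟨K, str, o, lies⟩, -⟩ := AlgSt.Points.mk_surjective z
  let W : Over S := Over.mk str
  obtain ⟨F, en, hen, hF⟩ := hφ Ω φ
  let Φ₁ := BasedFunctor.comp en (FibCat.fpFst φ φ)
  let Φ₂ := BasedFunctor.comp en (FibCat.fpSnd φ φ)
  let m₁ := AlgSt.spMapOfOver Φ₁
  let m₂ := AlgSt.spMapOfOver Φ₂
  have hm : m₁ ≫ (yon S).map c = m₂ ≫ (yon S).map c := by
    rw [← spMapOfOver_comp_overMap, ← spMapOfOver_comp_overMap]
    exact spMapOfOver_congr ((whiskerLeftIso Φ₁ ic).symm ≪≫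
      whiskerLeftIso en (whiskerRightIso (FibCat.fpIso φ φ) π) ≪≫ whiskerLeftIso Φ₂ ic)
  have hlies : o.obj.fst.left = W := lies
  have hsnd : (FibCat.fp φ φ).p.obj o.obj.snd = W := (snd_proj o).trans lies
  obtain ⟨⟨W₀, ξ⟩, i, hi⟩ := exists_iso_over_of_isEquivOver hen (η := o.obj.snd) hsnd
  have hW₀ : W₀ = W := (en.w_obj _).symm.trans (IsHomLift.domain_eq (FibCat.fp φ φ).p (𝟙 W) i.hom)
  subst hW₀
  let ê : W ⟶ Λ := eqToHom hlies.symm ≫ o.obj.fst.hom
  have ho : (FibCat.fp (BasedFunctor.comp φ π) (BasedFunctor.comp φ π)).p.IsHomLift (𝟙 W) o.obj.iso.hom :=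
    isHomLift_id_congr lies o.property
  have ho' : (FibCat.fp (BasedFunctor.comp φ π) (BasedFunctor.comp φ π)).p.IsHomLift (𝟙 W) o.obj.iso.inv :=
    IsHomLift.lift_id_inv _ _ o.obj.iso
  let P2₁ := FibCat.fpFst (BasedFunctor.comp φ π) (BasedFunctor.comp φ π)
  let P2₂ := FibCat.fpSnd (BasedFunctor.comp φ π) (BasedFunctor.comp φ π)
  have e₁ : AlgSt.secHom Φ₁ ⟨W, ξ⟩ = ê ≫ la := by
    have l₁ : (FibCat.overCat Ω : AlgSt.Cat S).p.IsHomLift (𝟙 W) ((FibCat.fpFst φ φ).map i.hom) :=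
      haveI := hi
      (FibCat.fpFst φ φ).preserves_isHomLift _ _
    have l₂ : (FibCat.overCat Ω : AlgSt.Cat S).p.IsHomLift (𝟙 W) (P2₁.map o.obj.iso.inv) :=
      P2₁.preserves_isHomLift _ _
    refine (GerbEq.secHom_eq_of_lift Φ₁ (c := (AlgSt.overMap la).obj o.obj.fst)
      ((FibCat.fpFst φ φ).map i.hom ≫ P2₁.map o.obj.iso.inv)
      (IsHomLift.comp_lift_id_right (FibCat.overCat Ω : AlgSt.Cat S).p (𝟙 W) _ _)).trans ?_
    exact (Category.assoc _ _ _).symm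
  have e₂ : AlgSt.secHom Φ₂ ⟨W, ξ⟩ = ê ≫ lb := by
    have l₁ : (FibCat.overCat Ω : AlgSt.Cat S).p.IsHomLift (𝟙 W) ((FibCat.fpSnd φ φ).map i.hom) :=
      haveI := hi
      (FibCat.fpSnd φ φ).preserves_isHomLift _ _
    have l₂ : (FibCat.overCat Ω : AlgSt.Cat S).p.IsHomLift (𝟙 W) (P2₂.map o.obj.iso.inv) :=
      P2₂.preserves_isHomLift _ _
    refine (GerbEq.secHom_eq_of_lift Φ₂ (c := (AlgSt.overMap lb).obj o.obj.fst)
      ((FibCat.fpSnd φ φ).map i.hom ≫ P2₂.map o.obj.iso.inv)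
      (IsHomLift.comp_lift_id_right (FibCat.overCat Ω : AlgSt.Cat S).p (𝟙 W) _ _)).trans ?_
    exact (Category.assoc _ _ _).symm
  let zx : (yon S).obj W ⟶ F.obj := (J S).uliftYonedaEquiv.symm ξ
  have hz₁ : zx ≫ m₁ = (yon S).map (ê ≫ la) := symm_comp_spMapOfOver Φ₁ ξ _ e₁
  have hz₂ : zx ≫ m₂ = (yon S).map (ê ≫ lb) := symm_comp_spMapOfOver Φ₂ ξ _ e₂
  obtain ⟨V, p, hp, hp'⟩ := F.property.atlas
  have hV := IsAlgSpace.yon_obj (S := S) V
  obtain ⟨V', a₀, v', -, ha₀, hv'⟩ := exists_chart_over hV F.property p zx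
  obtain ⟨n, -⟩ : IsLocalRing.closedPoint K ∈ Set.range v'.left :=
    (range_chart_over (IsPullback.of_hasPullback p zx) ha₀ hv').ge (surjective_map_of_repWith hp' _)
  obtain ⟨q₁, hq₁⟩ := (yon S).map_surjective (a₀ ≫ pullback.fst p zx)
  obtain ⟨v₁, hv₁⟩ := (yon S).map_surjective (p ≫ m₁)
  obtain ⟨v₂, hv₂⟩ := (yon S).map_surjective (p ≫ m₂)
  let R0 : Over S := Over.mk (V'.left.fromSpecResidueField n ≫ V'.hom)
  let r : R0 ⟶ V' := Over.homMk (V'.left.fromSpecResidueField n) rfl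
  let vv : R0 ⟶ V := r ≫ q₁
  let ee : R0 ⟶ Λ := r ≫ v' ≫ ê
  have hvv₁ : vv ≫ v₁ = ee ≫ la := (yon S).map_injective (by
    simp only [vv, ee, Functor.map_comp, Category.assoc, hq₁, hv₁]
    rw [reassoc_of% pullback.condition (f := p) (g := zx), hz₁, ← hv', Functor.map_comp, Category.assoc])
  have hvv₂ : vv ≫ v₂ = ee ≫ lb := (yon S).map_injective (by
    simp only [vv, ee, Functor.map_comp, Category.assoc, hq₁, hv₂]
    rw [reassoc_of% pullback.condition (f := p) (g := zx), hz₂, ← hv', Functor.map_comp, Category.assoc])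
  have hv₁₂ : v₁ ≫ c = v₂ ≫ c := (yon S).map_injective (by
    rw [Functor.map_comp, Functor.map_comp, hv₁, hv₂, Category.assoc, Category.assoc, hm])
  have hlft₁ : LocallyOfFiniteType v₁.left := locP_yon_map (hv₁ ▸ locP_comp hV F.property (IsAlgSpace.yon_obj _)
    (locP_mono (P := @Etale) (fun _ _ g (_ : Etale g) => inferInstanceAs (LocallyOfFiniteType g))
      (locP_of_repWith hp)) hF)
  let K' := ↥(V'.left.residueField n)
  let vvl : Spec (CommRingCat.of K') ⟶ V.left := vv.left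
  obtain ⟨O, hO, hvO, -⟩ := exists_isAffineOpen_mem_and_subset (U := (⊤ : V.left.Opens))
    (x := vvl (IsLocalRing.closedPoint K')) trivial
  let A := ↥Γ(V.left, O)
  let j : Spec (CommRingCat.of A) ⟶ V.left := hO.fromSpec
  have hrange : Set.range vvl ⊆ Set.range j := by
    rintro _ ⟨y, rfl⟩
    obtain rfl : y = IsLocalRing.closedPoint K' := Subsingleton.elim (α := PrimeSpectrum K') _ _
    exact hO.range_fromSpec.ge hvO
  have : IsOpenImmersion j := hO.isOpenImmersion_fromSpec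
  let ρ : A →+* K' := (Spec.preimage (IsOpenImmersion.lift j vvl hrange)).hom
  let ε : L →+* K' := (Spec.preimage (ee.left : Spec (CommRingCat.of K') ⟶ Spec (CommRingCat.of L))).hom
  let α : κ →+* A := (Spec.preimage (j ≫ (v₁.left : V.left ⟶ Spec (CommRingCat.of κ)))).hom
  let β : κ →+* A := (Spec.preimage (j ≫ (v₂.left : V.left ⟶ Spec (CommRingCat.of κ)))).hom
  have hρ : Spec.map (CommRingCat.ofHom ρ) ≫ j = vvl := by
    simp only [ρ, CommRingCat.ofHom_hom, Spec.map_preimage, IsOpenImmersion.lift_fac]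
  have key : ∀ (f : κ →+* A) (g : κ →+* L) (v : V ⟶ Ω) (l : Λ ⟶ Ω),
      Spec.map (CommRingCat.ofHom f) = j ≫ (v.left : V.left ⟶ Spec (CommRingCat.of κ)) →
      (l.left : Spec (CommRingCat.of L) ⟶ Spec (CommRingCat.of κ)) = Spec.map (CommRingCat.ofHom g) →
      vv ≫ v = ee ≫ l → ρ.comp f = ε.comp g := by
    intro f g v l hf hg hv
    have h : Spec.map (CommRingCat.ofHom ρ) ≫ Spec.map (CommRingCat.ofHom f) =
        Spec.map (CommRingCat.ofHom ε) ≫ Spec.map (CommRingCat.ofHom g) := by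
      rw [hf, reassoc_of% hρ, ← hg]
      simp only [ε, CommRingCat.ofHom_hom, Spec.map_preimage]
      exact congrArg (fun m : R0 ⟶ Ω => m.left) hv
    rw [← Spec.map_comp, ← Spec.map_comp] at h
    exact congrArg CommRingCat.Hom.hom (Spec.map_injective h)
  have hα : Spec.map (CommRingCat.ofHom α) = j ≫ (v₁.left : V.left ⟶ Spec (CommRingCat.of κ)) :=
    Spec.map_preimage _
  have hβ : Spec.map (CommRingCat.ofHom β) = j ≫ (v₂.left : V.left ⟶ Spec (CommRingCat.of κ)) :=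
    Spec.map_preimage _
  have hαft : α.FiniteType := by
    have : LocallyOfFiniteType (Spec.map (CommRingCat.ofHom α)) := by rw [hα]; infer_instance
    exact (HasRingHomProperty.Spec_iff (P := @LocallyOfFiniteType)).1 this
  have hαβ : α.comp ι = β.comp ι := by
    have h : Spec.map (CommRingCat.ofHom α) ≫ Spec.map (CommRingCat.ofHom ι) =
        Spec.map (CommRingCat.ofHom β) ≫ Spec.map (CommRingCat.ofHom ι) := by
      rw [hα, hβ, ← hι, Category.assoc, Category.assoc]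
      exact congrArg (j ≫ ·) (congrArg (fun m : V ⟶ Over.mk s => m.left) hv₁₂)
    rw [← Spec.map_comp, ← Spec.map_comp] at h
    exact congrArg CommRingCat.Hom.hom (Spec.map_injective h)
  refine false_of_finiteType ι α β hαft hαβ t ht ρ fun q hq => htr q (ε.injective ?_)
  rw [map_zero, Polynomial.hom_eval₂, ← key α a v₁ la hα rfl hvv₁, ← RingHom.comp_apply,
    ← key β b v₂ lb hβ rfl hvv₂]
  exact hq

theorem exists_lift_of_surjective_diag (h𝒳 : AlgSt.IsAlgStack K₀ 𝒳) (h𝒴 : AlgSt.IsAlgStack K₀ 𝒴) (f : 𝒳 ⥤ᵇ 𝒴)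
    (hΔ : AlgSt.IsSurjective (FibCat.diag f)) (y : 𝒴.obj) (hy : 𝒴.p.obj y = Over.mk s)
    (h : AlgSt.Points.mk ⟨k, s, y, hy⟩ ∈ Set.range (AlgSt.Points.map f)) :
    ∃ (x : 𝒳.obj) (φ : f.obj x ⟶ y), 𝒳.p.obj x = Over.mk s ∧ 𝒴.p.IsHomLift (𝟙 (Over.mk s)) φ := by
  have hX := h𝒳.isStack.1
  have hY := h𝒴.isStack.1
  obtain ⟨Y, i, hi⟩ := exists_overCat_obj hY y hy
  let p₀ : AlgSt.FPt 𝒴 := ⟨k, s, y, hy⟩
  have hpt : AlgSt.Points.map Y (ptAt (Over.mk s) (IsLocalRing.closedPoint k)) = AlgSt.Points.mk p₀ := by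
    obtain ⟨q, hq⟩ := AlgSt.Points.mk_surjective (ptAt (Over.mk s) (IsLocalRing.closedPoint k))
    let one : (FibCat.overCat (Over.mk s) : AlgSt.Cat S).obj := Over.mk (𝟙 _)
    have : Subsingleton (AlgSt.Points (FibCat.overCat (Over.mk s) : AlgSt.Cat S)) := OnePt.subsingleton_points_field
    rw [Subsingleton.elim (ptAt (Over.mk s) (IsLocalRing.closedPoint k))
      (AlgSt.Points.mk { K := k, str := s, obj := one, lies := rfl })]
    exact pts_eq_of_hom (p := AlgSt.FPt.map Y { K := k, str := s, obj := one, lies := rfl }) (q := p₀) i.hom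
  obtain ⟨x₀, hx₀⟩ := h
  obtain ⟨w, -, -⟩ := exists_pts_fp hX hY (isFibGrpd_overCat _) f Y _ x₀ (hpt.trans hx₀.symm)
  have : Nonempty (AlgSt.Points (FibCat.fp Y f)) := ⟨w⟩
  have hZ := isAlgStack_fp (isAlgStack_overCat (Over.mk s)) h𝒳 h𝒴.isStack h𝒴.diag Y f
  obtain ⟨E, ⟨j⟩⟩ := exists_section hZ (FibCat.fpFst Y f)
    (isSurjective_diag_fpFst hX hY (isFibGrpd_overCat _) Y hΔ)
  let one : (FibCat.overCat (Over.mk s) : AlgSt.Cat S).obj := Over.mk (𝟙 _)
  let o := E.obj one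
  let one' : (AlgSt.overMap (𝟙 (Over.mk s)) : _ ⥤ᵇ FibCat.overCat (Over.mk s)).obj one ≅ one :=
    Over.isoMk (Iso.refl _) (by show 𝟙 _ ≫ 𝟙 _ = 𝟙 _ ≫ 𝟙 _; rfl)
  have h₀ : (FibCat.overCat (Over.mk s) : AlgSt.Cat S).p.IsHomLift (𝟙 (Over.mk s)) one'.hom :=
    IsHomLift.of_fac' _ _ _ rfl rfl (by simp [one']; rfl)
  have h₁ : 𝒴.p.IsHomLift (𝟙 (Over.mk s)) o.obj.iso.hom := isHomLift_id_congr (E.w_obj one) o.property
  have h₁' : 𝒴.p.IsHomLift (𝟙 (Over.mk s)) o.obj.iso.inv := IsHomLift.lift_id_inv 𝒴.p _ o.obj.iso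
  have h₂ : (FibCat.overCat (Over.mk s) : AlgSt.Cat S).p.IsHomLift (𝟙 (Over.mk s)) (isoApp j one).hom :=
    BasedNatTrans.isHomLift j.hom rfl
  have h₃ : 𝒴.p.IsHomLift (𝟙 (Over.mk s)) (Y.map ((isoApp j one).hom ≫ one'.hom)) :=
    Y.preserves_isHomLift (𝟙 (Over.mk s)) _
  have h₄ : 𝒴.p.IsHomLift (𝟙 (Over.mk s) ≫ 𝟙 (Over.mk s) ≫ 𝟙 (Over.mk s))
      (o.obj.iso.inv ≫ Y.map ((isoApp j one).hom ≫ one'.hom) ≫ i.hom) := inferInstance
  rw [Category.id_comp, Category.id_comp] at h₄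
  exact ⟨o.obj.snd, o.obj.iso.inv ≫ Y.map ((isoApp j one).hom ≫ one'.hom) ≫ i.hom,
    (snd_proj o).trans (E.w_obj one), h₄⟩

end Groth.Agent.AlgStLib.RatPt
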