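import Groth.Agent.AlgStLib.SepUnivClosed
import Groth.Agent.S10262

/-!
# Quasi-finiteness is read on the self product; inertia of (quasi-)DM morphisms
-/

set_option backward.isDefEq.respectTransparency false
set_option backward.isDefEq.respectTransparency.types false

universe u

open CategoryTheory CategoryTheory.Functor CategoryTheory.Limits AlgebraicGeometry Opposite AlgSp

namespace Groth.Agent.AlgStLib

open Groth.Agent.FibBase Groth.Agent.AlgSpLib

/-- A morphism locally of finite type is locally quasi-finite when its self product is so over a factor. -/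
theorem locallyQuasiFinite_of_selfProd {U V P : Scheme.{u}} {g : U ⟶ V} [LocallyOfFiniteType g] {p q : P ⟶ U}
    (sq : IsPullback p q g g) [LocallyQuasiFinite p] : LocallyQuasiFinite g := by
  rw [locallyQuasiFinite_iff_isDiscrete_preimage_singleton]
  intro x
  by_cases hx : (g ⁻¹' {x}).Nonempty
  swap
  · rw [Set.not_nonempty_iff_eq_empty.1 hx]
    exact Set.subsingleton_empty.isDiscrete
  obtain ⟨u, rfl⟩ := hx
  let c := pullback.fst (g.fiberToSpecResidueField (g u)) (Spec.map (g.residueFieldMap u))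
  let d := pullback.snd (g.fiberToSpecResidueField (g u)) (Spec.map (g.residueFieldMap u))
  have sq₁ : IsPullback (c ≫ g.fiberι (g u)) d g (U.fromSpecResidueField u ≫ g) := by
    have h := (IsPullback.of_hasPullback (g.fiberToSpecResidueField (g u))
      (Spec.map (g.residueFieldMap u))).flip.paste_vert
      (IsPullback.of_hasPullback g (V.fromSpecResidueField (g u))).flip
    rw [Scheme.Hom.SpecMap_residueFieldMap_fromSpecResidueField] at h
    exact h.flip
  have sq₂ : IsPullback (sq.lift (d ≫ U.fromSpecResidueField u) (c ≫ g.fiberι (g u))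
      (by rw [Category.assoc]; exact sq₁.w.symm)) d p (U.fromSpecResidueField u) := by
    refine IsPullback.of_right ?_ (sq.lift_fst _ _ _) sq.flip
    rw [sq.lift_snd]
    exact sq₁
  have : LocallyQuasiFinite d := MorphismProperty.of_isPullback sq₂ inferInstance
  have : IsLocallyArtinian (pullback (g.fiberToSpecResidueField (g u)) (Spec.map (g.residueFieldMap u))) :=
    .of_locallyQuasiFinite d
  have hc : Topology.IsQuotientMap c := Flat.isQuotientMap_of_surjective c
  have : DiscreteTopology ↥(g.fiber (g u)) :=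
    discreteTopology_iff_forall_isOpen.2 fun s => hc.isOpen_preimage.1 (isOpen_discrete _)
  simpa [Scheme.Hom.range_fiberι] using
    (isDiscrete_univ_iff.mpr inferInstance).image (g.fiberι (g u)).isEmbedding.toIsInducing

variable {S : Scheme.{u}} {𝒳 𝒴 𝒵 : AlgSt.Cat S}

theorem lqf_of_selfProd {F : Sp S} {V : Over S} (hF : IsAlgSpace F) (a : F ⟶ (yon S).obj V)
    (hl : LocP @LocallyOfFiniteType a)
    (h : LocP (@LocallyQuasiFinite ⊓ @LocallyOfFiniteType) (pullback.fst a a)) :
    LocP (@LocallyQuasiFinite ⊓ @LocallyOfFiniteType) a := by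
  obtain ⟨U, a₀, φ, h1, h2, h3⟩ := exists_chart_over hF (IsAlgSpace.yon_obj V) a (𝟙 _)
  let α : (yon S).obj U ⟶ F := a₀ ≫ pullback.fst a (𝟙 _)
  have hid : RepWith @Etale (𝟙 ((yon S).obj V)) := repWith_id _ V
  have hα : RepWith @Etale α := repWith_comp h1 (repWith_fst a hid)
  have hα' : RepWith @Surjective α := repWith_comp h2 (repWith_fst a (repWith_id _ V))
  have w : α ≫ a = (yon S).map φ := by
    rw [Category.assoc, pullback.condition, Category.comp_id, h3]
  have hlf : LocallyOfFiniteType φ.left := hl α (𝟙 _) φ hα hid (by rw [w, Category.comp_id])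
  let P := pullback φ φ
  have sqY := (IsPullback.of_hasPullback φ φ).map (yon S)
  let e : (yon S).obj P ⟶ pullback (α ≫ a) (α ≫ a) :=
    pullback.lift ((yon S).map (pullback.fst φ φ)) ((yon S).map (pullback.snd φ φ)) (by rw [w]; exact sqY.w)
  have : IsIso e := by
    have sqA : IsPullback ((yon S).map (pullback.fst φ φ)) ((yon S).map (pullback.snd φ φ)) (α ≫ a) (α ≫ a) := by
      rw [w]; exact sqY
    exact sqA.isoPullback.isIso_hom
  have hk : RepWith @Etale (AlgSpPts.selfMap α a) := by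
    rw [AlgSpPts.selfMap_eq]
    exact repWith_comp (repWith_of_isPullback (AlgSpPts.isPullback_map_left α a (α ≫ a)) hα)
      (repWith_of_isPullback (AlgSpPts.isPullback_map_right α a a) hα)
  have hk' : RepWith @Etale (e ≫ AlgSpPts.selfMap α a) := repWith_comp (repWith_of_isIso @Etale e) hk
  have hp := h (e ≫ AlgSpPts.selfMap α a) α (pullback.fst φ φ) hk' hα (by
    rw [Category.assoc, pullback.lift_fst, pullback.lift_fst_assoc])
  have : LocallyQuasiFinite (pullback.fst φ φ).left := hp.1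
  have := locallyQuasiFinite_of_selfProd (g := φ.left) (p := (pullback.fst φ φ).left) (q := (pullback.snd φ φ).left)
    ((IsPullback.of_hasPullback φ φ).map (Over.forget S))
  exact locP_of_chart hα hα' hid (by rw [w, Category.comp_id]) ⟨this, hlf⟩

/-- The self product of a base change of the diagonal is a base change of the inertia. -/
theorem repByAlgSpWith_selfProd {P : MorphismProperty (Sp S)} {Δ : 𝒳 ⥤ᵇ 𝒴}
    (hI : AlgSt.RepByAlgSpWith P (FibCat.fpFst Δ Δ)) (y : 𝒵 ⥤ᵇ 𝒴) :
    AlgSt.RepByAlgSpWith P (FibCat.fpFst (FibCat.fpFst y Δ) (FibCat.fpFst y Δ)) := by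
  let q := FibCat.fpFst y Δ
  let t := FibCat.fpSnd y Δ
  have : (BasedFunctor.id 𝒴).toFunctor.Full := inferInstanceAs (𝟭 _).Full
  have : (BasedFunctor.id 𝒴).toFunctor.Faithful := inferInstanceAs (𝟭 _).Faithful
  have h₁ := repByAlgSpWith_fpFst t hI
  have h₂ : AlgSt.RepByAlgSpWith P (FibCat.fpFst (BasedFunctor.comp t Δ) Δ) :=
    (repByAlgSpWith_iff_of_square (f := FibCat.fpFst (BasedFunctor.comp t Δ) Δ)
      (f' := FibCat.fpFst t (FibCat.fpFst Δ Δ)) (a := pasteVert t Δ Δ) (b := BasedFunctor.id _)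
      (pasteVert_isEquivOver t Δ Δ) isEquivOver_id (Iso.refl _)).2 h₁
  have h₃ : AlgSt.RepByAlgSpWith P (FibCat.fpFst (BasedFunctor.comp q y) Δ) :=
    (repByAlgSpWith_iff_of_square (f := FibCat.fpFst (BasedFunctor.comp t Δ) Δ)
      (f' := FibCat.fpFst (BasedFunctor.comp q y) Δ)
      (a := fpMap (F := BasedFunctor.comp t Δ) (G := Δ) (F' := BasedFunctor.comp q y) (G' := Δ)
        (a := BasedFunctor.id _) (b := BasedFunctor.id _) (c := BasedFunctor.id _)
        (FibCat.fpIso y Δ).symm (Iso.refl _))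
      (b := BasedFunctor.id _) (fpMap_isEquivOver _ _ isEquivOver_id isEquivOver_id) isEquivOver_id
      (Iso.refl _)).1 h₂
  exact (repByAlgSpWith_iff_of_square (f := FibCat.fpFst (BasedFunctor.comp q y) Δ) (f' := FibCat.fpFst q q)
    (a := pasteVert q y Δ) (b := BasedFunctor.id _) (pasteVert_isEquivOver q y Δ) isEquivOver_id
    (Iso.refl _)).1 h₃

variable (f : 𝒳 ⥤ᵇ 𝒴)

theorem isDMMor_of_inertia (hΔ : AlgSt.RepByAlgSp1 (FibCat.diag f))
    (hl : AlgSt.RepByAlgSpWith (LocP @LocallyOfFiniteType) (FibCat.diag f))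
    (h : AlgSt.RepByAlgSpWith unr (FibCat.inertiaToBase f)) : AlgSt.IsDMMor f := by
  have hi : AlgSt.RepByAlgSpWith (RepWith @IsOpenImmersion).diagonal (FibCat.inertiaToBase f) :=
    repByAlgSpWith_mono_space (fun hF hG a ha =>
      (S10262.result (ObjectProperty.homMk a : (⟨_, hF⟩ : Space S) ⟶ ⟨_, hG⟩)).1 ha) h
  have hd : AlgSt.RepByAlgSpWith (RepWith @IsOpenImmersion).diagonal (FibCat.diag f) :=
    ((inertia_tfae f (stableBC_of (P := RepWith @IsOpenImmersion))
      (stableBC_of (P := (RepWith @IsOpenImmersion).diagonal)) (fun _ _ a ha => repWith_of_repBySpWith a ha)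
      (fun _ _ _ => Iff.rfl) hΔ).out 0 1).1 hi
  exact repByAlgSpWith_mono_space (fun hF hG a ha =>
    (S10262.result (ObjectProperty.homMk a : (⟨_, hF⟩ : Space S) ⟶ ⟨_, hG⟩)).2 ha.1 ha.2)
    (repByAlgSpWith_and stableBC_locP hl hd)

theorem isQuasiDMMor_of_inertia (hl : AlgSt.RepByAlgSpWith (LocP @LocallyOfFiniteType) (FibCat.diag f))
    (h : AlgSt.RepByAlgSpWith lqf (FibCat.inertiaToBase f)) : AlgSt.IsQuasiDMMor f := by
  let Δ := FibCat.diag f
  have hI : AlgSt.RepByAlgSpWith lqf (FibCat.fpFst Δ Δ) :=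
    (repByAlgSpWith_iff_of_square (f := FibCat.fpFst Δ Δ) (f' := FibCat.inertiaToBase f) (a := inertiaToFp f)
      (b := BasedFunctor.id _) (inertiaToFp_isEquivOver f) isEquivOver_id (Iso.refl _)).2 h
  intro U y
  obtain ⟨F, e, he, hla⟩ := hl U y
  let q := FibCat.fpFst y Δ
  let a := AlgSt.spMapOfOver (BasedFunctor.comp e q)
  let i : BasedFunctor.comp e q ≅ BasedFunctor.comp (AlgSt.ofSpMap a) (AlgSt.toOverCat U) := isoSpMapOfOver _
  have := full_of_isEquivOver (isEquivOver_toOverCat U)
  have := faithful_of_isEquivOver (isEquivOver_toOverCat U)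
  have h₁ : AlgSt.RepByAlgSpWith lqf (FibCat.fpFst (AlgSt.ofSpMap a) (AlgSt.ofSpMap a)) :=
    (repByAlgSpWith_iff_of_square (f := FibCat.fpFst q q) (f' := FibCat.fpFst (AlgSt.ofSpMap a) (AlgSt.ofSpMap a))
      (a := fpMap (F := q) (G := q) (F' := AlgSt.ofSpMap a) (G' := AlgSt.ofSpMap a) i i.symm) (b := e)
      (fpMap_isEquivOver _ _ he he) he (Iso.refl _)).1 (repByAlgSpWith_selfProd hI y)
  let sq := (IsPullback.of_hasPullback a a).map (sheafToPresheaf (J S) (Type (u + 1)))
  have h₂ : AlgSt.RepByAlgSpWith lqf (AlgSt.ofSpMap (pullback.fst a a)) :=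
    (repByAlgSpWith_iff_of_square (f := FibCat.fpFst (AlgSt.ofSpMap a) (AlgSt.ofSpMap a))
      (f' := AlgSt.ofSpMap (pullback.fst a a)) (a := (pshCone sq.w :
          AlgSt.ofSp (pullback a a) ⥤ᵇ FibCat.fp (AlgSt.ofSpMap a) (AlgSt.ofSpMap a)))
      (b := BasedFunctor.id _) (pshCone_isEquivOver sq) isEquivOver_id (Iso.refl _)).1 h₁
  exact ⟨F, e, he, lqf_of_selfProd F.property a hla (property_of_repBySpWith isLocalOnBase_lqf
    (isAlgSpace_pullback F.property F.property (IsAlgSpace.yon_obj U) a a) F.property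
    (repBySpWith_of_repByAlgSpWith (AlgSt.ofSpMap (pullback.fst a a)) (BasedFunctor.id _) stableBC_locP
      isEquivOver_id h₂ (Iso.refl _)))⟩

end Groth.Agent.AlgStLib
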