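import Groth.Agent.AlgStLib.StackUnivClosed
import Groth.Agent.AlgStLib.ProdMap
import Groth.Agent.AlgStLib.LocQInst
import Groth.Agent.AlgStLib.DiagLFT
import Groth.Agent.AlgSpLib.Descent2
import Groth.Agent.AlgSpLib.SmoothLocalInst

/-!
# Descending separatedness along flat universal homeomorphisms
-/

set_option linter.style.haveILetI false
set_option backward.isDefEq.respectTransparency false
set_option backward.isDefEq.respectTransparency.types false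

universe u

open CategoryTheory CategoryTheory.Functor CategoryTheory.Limits AlgebraicGeometry Opposite AlgSp

namespace Groth.Agent.AlgStLib

open Groth.Agent.FibBase Groth.Agent.AlgSpLib

variable {S : Scheme.{u}} {𝒳 𝒴 𝒵 𝒳' 𝒴' 𝒜 ℬ : AlgSt.Cat S}

local notation "K₀" => Scheme.fppfPrecoverage
local notation "UC" => AlgSt.IsUnivClosed K₀

theorem isLocalOnBase_et_isUnivClosedMor : IsLocalOnBase IsEtCover (IsUnivClosedMor (S := S)) := by
  intro ι Y Yi g hY hYi hg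
  have hf : IsFppfCover Yi g := ⟨fun i => ⟨
      locP_mono (P := @Etale) (Q := @Flat) (fun _ _ f (_ : Etale f) => inferInstanceAs (Flat f))
        ((isEtaleMor_iff_locP (hYi i) hY (g i)).1 (hg.1 i)),
      locP_mono (P := @Etale) (Q := @LocallyOfFinitePresentation)
        (fun _ _ f (_ : Etale f) => inferInstanceAs (LocallyOfFinitePresentation f))
        ((isEtaleMor_iff_locP (hYi i) hY (g i)).1 (hg.1 i))⟩, hg.2⟩
  exact isLocalOnBase_fppf_of_fpqc isLocalOnBase_fpqc_isUnivClosedMor Yi g hY hYi hf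

theorem stableComp_isUnivClosedMor : StableComp (IsUnivClosedMor (S := S)) :=
  fun _ _ _ _ h2 h3 _ _ ha hb => Groth.Agent.AlgSpPts.isUnivClosedMor_comp h2 h3 ha hb

/-- A flat, locally finitely presented, surjective, universally injective functor is universally closed. -/
theorem univClosed_of_flat_surj_univInj (h𝒳 : AlgSt.IsAlgStack K₀ 𝒳) (h𝒴 : AlgSt.IsAlgStack K₀ 𝒴)
    {f : 𝒳 ⥤ᵇ 𝒴} (hs : AlgSt.IsSurjective f) (h₁ : AlgSt.LocQ (LocP @Flat) f)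
    (h₂ : AlgSt.LocQ (LocP @LocallyOfFinitePresentation) f) (h₃ : AlgSt.IsUnivInjective K₀ f) : UC f :=
    fun 𝒯 h𝒯 g C hC => by
  have hW := isAlgStack_fp h𝒯 h𝒳 h𝒴.isStack h𝒴.diag g f
  have ho : IsOpenMap (AlgSt.Points.map (FibCat.fpFst g f)) := isOpenMor_of_locQ_flat_lfp hW h𝒯
    (locQ_fpFst isSmoothLocalST_flat stableBC_locP h𝒳 h𝒴 h𝒯 g h₁)
    (locQ_fpFst isSmoothLocalST_lfp stableBC_locP h𝒳 h𝒴 h𝒯 g h₂)
  have hb : Function.Bijective (AlgSt.Points.map (FibCat.fpFst g f)) :=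
    ⟨h₃ 𝒯 h𝒯 g, pts_surjective_fpFst h𝒳.isStack.1 h𝒴.isStack.1 h𝒯.isStack.1 g hs⟩
  rw [← isOpen_compl_iff, ← Set.image_compl_eq hb]
  exact ho _ hC.isOpen_compl

/-- A pair of universally closed functors induces a universally closed map of fibre products. -/
theorem univClosed_fpPair (h𝒳 : AlgSt.IsAlgStack K₀ 𝒳) (h𝒴 : AlgSt.IsAlgStack K₀ 𝒴)
    (h𝒳' : AlgSt.IsAlgStack K₀ 𝒳') (h𝒴' : AlgSt.IsAlgStack K₀ 𝒴') (h𝒵 : AlgSt.IsAlgStack K₀ 𝒵)
    (p : 𝒳' ⥤ᵇ 𝒵) (q : 𝒴' ⥤ᵇ 𝒵) {f : 𝒳 ⥤ᵇ 𝒳'} {g : 𝒴 ⥤ᵇ 𝒴'} (hf : UC f) (hg : UC g) :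
    UC (fpPair p q f g) := by
  have hA := isAlgStack_fp h𝒳' h𝒴' h𝒵.isStack h𝒵.diag p q
  have hB := isAlgStack_fp hA h𝒳 h𝒳'.isStack h𝒳'.diag (FibCat.fpFst p q) f
  have hC := isAlgStack_fp hB h𝒴 h𝒴'.isStack h𝒴'.diag
    (BasedFunctor.comp (pairStep₁ p q f) (FibCat.fpSnd p q)) g
  have hsteps : UC (BasedFunctor.comp (pairStep₂ p q f g) (pairStep₁ p q f)) :=
    univClosed_comp hC hB hA (univClosed_fpFst h𝒴 h𝒴' hB _ hg) (univClosed_fpFst h𝒳 h𝒳' hA _ hf)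
  exact univClosed_of_comp_surjective hC (isAlgStack_fp h𝒳 h𝒴 h𝒵.isStack h𝒵.diag _ _) hA
    (pts_bijective_of_isEquivOver (pairEquiv_isEquivOver p q f g)).2
    (univClosed_of_iso hA hC (pairIso p q f g) hsteps)

/-- Universal closedness of diagonals descends along universally closed surjections. -/
theorem univClosed_diag_of_square (h𝒳 : AlgSt.IsAlgStack K₀ 𝒳) (h𝒴 : AlgSt.IsAlgStack K₀ 𝒴)
    (h𝒜 : AlgSt.IsAlgStack K₀ 𝒜) (hℬ : AlgSt.IsAlgStack K₀ ℬ) {a : 𝒳 ⥤ᵇ 𝒜} {q : 𝒜 ⥤ᵇ ℬ} {f : 𝒳 ⥤ᵇ 𝒴}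
    {b : 𝒴 ⥤ᵇ ℬ} (d : BasedFunctor.comp a q ≅ BasedFunctor.comp f b) (hf : UC f)
    (hs : AlgSt.IsSurjective f) (ha : AlgSt.RepByAlgSpWith IsUnivClosedMor (FibCat.diag a))
    (hq : AlgSt.RepByAlgSpWith IsUnivClosedMor (FibCat.diag q)) : UC (FibCat.diag b) := by
  haveI : (BasedFunctor.id ℬ).toFunctor.Full := inferInstanceAs (𝟭 _).Full
  haveI : (BasedFunctor.id ℬ).toFunctor.Faithful := inferInstanceAs (𝟭 _).Faithful
  have hA := isAlgStack_fp h𝒳 h𝒳 h𝒜.isStack h𝒜.diag a a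
  have hB := isAlgStack_fp h𝒳 h𝒳 hℬ.isStack hℬ.diag (BasedFunctor.comp a q) (BasedFunctor.comp a q)
  have hC := isAlgStack_fp h𝒳 h𝒳 hℬ.isStack hℬ.diag (BasedFunctor.comp f b) (BasedFunctor.comp f b)
  have hD := isAlgStack_fp h𝒴 h𝒴 hℬ.isStack hℬ.diag b b
  let n := fpMap (F := BasedFunctor.comp f b) (G := BasedFunctor.comp f b) (F' := BasedFunctor.comp a q)
    (G' := BasedFunctor.comp a q) (a := BasedFunctor.id _) (b := BasedFunctor.id _) (c := BasedFunctor.id _)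
    d.symm d
  have hn : UC n := univClosed_of_isEquivOver hB hC (fpMap_isEquivOver _ _ isEquivOver_id isEquivOver_id)
  let T := BasedFunctor.comp (BasedFunctor.comp (BasedFunctor.comp (FibCat.diag a) (weaken a a q)) n)
    (fpPair b b f f)
  have hT : UC T := univClosed_comp h𝒳 hC hD
    (univClosed_comp h𝒳 hB hC
      (univClosed_comp h𝒳 hA hB (univClosed_of_repByAlgSpWith h𝒳 hA ha)
        (univClosed_of_repByAlgSpWith hA hB (repByAlgSpWith_weaken a a q hq))) hn)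
    (univClosed_fpPair h𝒳 h𝒳 h𝒴 h𝒴 hℬ b b hf hf)
  let i : T ≅ BasedFunctor.comp f (FibCat.diag b) :=
    BasedNatIso.mkNatIso (NatIso.ofComponents (fun x => fpIsoMk (Iso.refl _) (Iso.refl _) (by
        show b.map (𝟙 _) ≫ 𝟙 _ =
          ((isoApp d x).inv ≫ q.map (𝟙 (a.obj x)) ≫ (isoApp d x).hom) ≫ b.map (𝟙 _)
        erw [q.toFunctor.map_id, Category.id_comp, Iso.inv_hom_id]
        simp))
      (fun {x z} φ => by
        refine ObjectProperty.hom_ext _ (CategoricalPullback.hom_ext ?_ ?_)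
        · show f.map φ ≫ 𝟙 _ = 𝟙 _ ≫ f.map φ
          simp
        · show f.map φ ≫ 𝟙 _ = 𝟙 _ ≫ f.map φ
          simp))
      (fun x => fp_isHomLift (F := b) (G := b) (𝟙 _) _ (h := IsHomLift.id (p := 𝒴.p) (f.w_obj x)))
  exact univClosed_of_comp_surjective h𝒳 h𝒴 hD hs (univClosed_of_iso hD h𝒳 i hT)

/-- Separatedness descends along flat, locally finitely presented, surjective, universally injective
functors with universally closed diagonal. -/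
theorem isSeparatedMor_descends (h𝒳 : AlgSt.IsAlgStack K₀ 𝒳) (h𝒴 : AlgSt.IsAlgStack K₀ 𝒴)
    (h𝒵 : AlgSt.IsAlgStack K₀ 𝒵) {f : 𝒳 ⥤ᵇ 𝒴} {g : 𝒴 ⥤ᵇ 𝒵} (hf₁ : AlgSt.IsSurjective f)
    (hf₂ : AlgSt.LocQ (LocP @Flat) f) (hf₃ : AlgSt.LocQ (LocP @LocallyOfFinitePresentation) f)
    (hf₄ : AlgSt.IsUnivInjective K₀ f) (hf₅ : AlgSt.RepByAlgSpWith IsUnivClosedMor (FibCat.diag f))
    (hh : AlgSt.IsSeparatedMor (BasedFunctor.comp f g)) : AlgSt.IsSeparatedMor g := by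
  have hA := isAlgStack_fp h𝒳 h𝒳 h𝒵.isStack h𝒵.diag (BasedFunctor.comp f g) (BasedFunctor.comp f g)
  have hB := isAlgStack_fp h𝒴 h𝒴 h𝒵.isStack h𝒵.diag g g
  have hf : UC f := univClosed_of_flat_surj_univInj h𝒳 h𝒴 hf₁ hf₂ hf₃ hf₄
  let d : BasedFunctor.comp (FibCat.diag (BasedFunctor.comp f g)) (fpPair g g f f) ≅
      BasedFunctor.comp f (FibCat.diag g) :=
    BasedNatIso.mkNatIso (NatIso.ofComponents (fun x => fpIsoMk (Iso.refl _) (Iso.refl _) (by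
        show g.map (𝟙 _) ≫ 𝟙 _ = 𝟙 _ ≫ g.map (𝟙 _)
        simp))
      (fun {x z} φ => by
        refine ObjectProperty.hom_ext _ (CategoricalPullback.hom_ext ?_ ?_)
        · show f.map φ ≫ 𝟙 _ = 𝟙 _ ≫ f.map φ
          simp
        · show f.map φ ≫ 𝟙 _ = 𝟙 _ ≫ f.map φ
          simp))
      (fun x => fp_isHomLift (F := g) (G := g) (𝟙 _) _ (h := IsHomLift.id (p := 𝒴.p) (f.w_obj x)))
  have hh' : AlgSt.RepByAlgSpWith IsUnivClosedMor (FibCat.diag (BasedFunctor.comp f g)) :=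
    repByAlgSpWith_mono (fun _ _ _ h => h.2.2) hh
  have hΔg : AlgSt.RepByAlgSp1 (FibCat.diag g) := repByAlgSp1_diag h𝒴.diag h𝒵.diag g
  have h₁ : UC (FibCat.diag g) := univClosed_of_comp_surjective h𝒳 h𝒴 hB hf₁
    (univClosed_of_iso hB h𝒳 d (univClosed_comp h𝒳 hA hB (univClosed_of_repByAlgSpWith h𝒳 hA hh')
      (univClosed_fpPair h𝒳 h𝒳 h𝒴 h𝒴 h𝒵 g g hf hf)))
  have hsep : AlgSt.RepByAlgSpWith IsUnivClosedMor (FibCat.diag (FibCat.diag (BasedFunctor.comp f g))) :=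
    (repByAlgSpWith_diag_iff_of_rep stableBC_isUnivClosedMor stableBC_isSeparatedMor
      (fun hF hG _ ha => property_of_repBySpWith_et isLocalOnBase_et_isUnivClosedMor hF hG ha)
      (fun hF hG a => isUnivClosedMor_diagonal_iff hF hG a) (repByAlgSp1_of_repByAlgSpWith hh)).2
      (repByAlgSpWith_mono (fun _ _ _ h => h.1) hh)
  have hq : AlgSt.RepByAlgSpWith IsUnivClosedMor (FibCat.diag (fpPair g g f f)) :=
    repByAlgSpWith_diag_fpPair stableBC_isUnivClosedMor stableComp_isUnivClosedMor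
      isLocalOnBase_et_isUnivClosedMor h𝒳.isStack.1 h𝒳.isStack.1 h𝒴.isStack.1 h𝒴.isStack.1
      h𝒵.isStack.1 hf₅ hf₅
  have hrep₂ : AlgSt.RepByAlgSp1 (FibCat.diag (FibCat.diag g)) := repByAlgSp1_diag h𝒴.diag hB.diag _
  exact repByAlgSpWith_proper_of_univClosed hΔg (repByAlgSpWith_lft_diag h𝒴 h𝒵 g)
    (repByAlgSpWith_of_univClosed h𝒴 hB hΔg h₁)
    (repByAlgSpWith_of_univClosed h𝒴 (isAlgStack_fp h𝒴 h𝒴 hB.isStack hB.diag _ _) hrep₂
      (univClosed_diag_of_square h𝒳 h𝒴 hA hB d hf hf₁ hsep hq))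

end Groth.Agent.AlgStLib
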