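import Groth.Agent.AlgStLib.DiagLFT
import Groth.Agent.AlgStLib.RepDiag
import Groth.Agent.AlgStLib.Graph
import Groth.Agent.FibBase.InertiaFp
import Groth.Agent.AlgSpPts.SepDescent

/-!
# Diagonals of functors representable by algebraic spaces; inertia
-/

set_option backward.isDefEq.respectTransparency false
set_option backward.isDefEq.respectTransparency.types false

universe u

open CategoryTheory CategoryTheory.Functor CategoryTheory.Limits AlgebraicGeometry Opposite AlgSp

namespace Groth.Agent.AlgStLib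

open Groth.Agent.FibBase Groth.Agent.AlgSpLib

variable {S : Scheme.{u}} {𝒳 𝒴 : AlgSt.Cat S} {P D : MorphismProperty (Sp S)}

/-- The diagonal of a map of sheaves, read on the associated categories. -/
noncomputable def diagOfSpIso {F G : Sp S} (a : F ⟶ G) :
    BasedFunctor.comp (AlgSt.ofSpMap (pullback.diagonal a))
        (pshCone ((IsPullback.of_hasPullback a a).map (sheafToPresheaf (J S) (Type (u + 1)))).w :
          AlgSt.ofSp (pullback a a) ⥤ᵇ FibCat.fp (AlgSt.ofSpMap a) (AlgSt.ofSpMap a)) ≅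
      FibCat.diag (AlgSt.ofSpMap a) := by
  refine BasedNatIso.mkNatIso (NatIso.ofComponents (fun x => fpIsoMk
      (x := (BasedFunctor.comp (AlgSt.ofSpMap (pullback.diagonal a))
        (pshCone ((IsPullback.of_hasPullback a a).map (sheafToPresheaf (J S) (Type (u + 1)))).w :
          AlgSt.ofSp (pullback a a) ⥤ᵇ FibCat.fp (AlgSt.ofSpMap a) (AlgSt.ofSpMap a))).obj x)
      (y := (FibCat.diag (AlgSt.ofSpMap a)).obj x) (eltIso (Iso.refl _) ?_) (eltIso (Iso.refl _) ?_) ?_)
      (fun {x z} φ => ?_)) (fun x => ?_)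
  · exact (res_id F.obj (𝟙 x.base) rfl _).trans
      (congrArg (fun m : F ⟶ F => m.hom.app (op x.base) x.sec) (pullback.diagonal_fst a)).symm
  · exact (res_id F.obj (𝟙 x.base) rfl _).trans
      (congrArg (fun m : F ⟶ F => m.hom.app (op x.base) x.sec) (pullback.diagonal_snd a)).symm
  · refine Stk.EltObj.hom_ext ?_
    show 𝟙 x.base ≫ 𝟙 x.base = eqToHom (rfl : x.base = x.base) ≫ 𝟙 x.base
    simp
  · refine ObjectProperty.hom_ext _ (CategoricalPullback.hom_ext ?_ ?_)
    · refine Stk.EltObj.hom_ext ?_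
      show φ.hom ≫ 𝟙 _ = 𝟙 _ ≫ φ.hom
      simp
    · refine Stk.EltObj.hom_ext ?_
      show φ.hom ≫ 𝟙 _ = 𝟙 _ ≫ φ.hom
      simp
  · refine fp_isHomLift (F := AlgSt.ofSpMap a) (G := AlgSt.ofSpMap a) (𝟙 x.base) _ (h := ?_)
    refine isHomLift_id_of_map_eq (p := (AlgSt.ofSp F).p) ?_ ?_ ?_
    · rfl
    · rfl
    · rfl

theorem repBySpWith_diagonal (hPb : StableBC P) {F G : Sp S} (a : F ⟶ G)
    (h : AlgSt.RepByAlgSpWith P (FibCat.diag (AlgSt.ofSpMap a))) :
    RepBySpWith P (pullback.diagonal a).hom := by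
  have h' : AlgSt.RepByAlgSpWith P (AlgSt.ofSpMap (pullback.diagonal a)) :=
    (repByAlgSpWith_iff_of_square (f := FibCat.diag (AlgSt.ofSpMap a))
      (f' := AlgSt.ofSpMap (pullback.diagonal a)) (a := BasedFunctor.id _) (b := pshCone _) isEquivOver_id
      (pshCone_isEquivOver ((IsPullback.of_hasPullback a a).map (sheafToPresheaf (J S) (Type (u + 1)))))
      (diagOfSpIso a)).1 h
  exact repBySpWith_of_repByAlgSpWith (AlgSt.ofSpMap (pullback.diagonal a)) (BasedFunctor.id _) hPb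
    isEquivOver_id h' (Iso.refl _)

/-- For a functor representable by algebraic spaces, properties of the diagonal are read on base changes. -/
theorem repByAlgSpWith_diag_iff_of_rep (hPb : StableBC P) (hDb : StableBC D)
    (hsp : ∀ {F G : Sp S}, IsAlgSpace F → IsAlgSpace G → ∀ (a : F ⟶ G), RepBySpWith P a.hom → P a)
    (hD : ∀ {F G : Sp S}, IsAlgSpace F → IsAlgSpace G → ∀ (a : F ⟶ G), P (pullback.diagonal a) ↔ D a)
    {f : 𝒳 ⥤ᵇ 𝒴} (hf : AlgSt.RepByAlgSp1 f) :
    AlgSt.RepByAlgSpWith P (FibCat.diag f) ↔ AlgSt.RepByAlgSpWith D f := by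
  refine ⟨fun h U y => ?_, fun h => repByAlgSpWith_diag_of_repByAlgSp1 hPb hf ?_⟩
  · obtain ⟨F, e, he⟩ := hf U y
    let q := FibCat.fpFst y f
    let a := AlgSt.spMapOfOver (BasedFunctor.comp e q)
    let i : BasedFunctor.comp e q ≅ BasedFunctor.comp (AlgSt.ofSpMap a) (AlgSt.toOverCat U) := isoSpMapOfOver _
    have := full_of_isEquivOver (isEquivOver_toOverCat U)
    have := faithful_of_isEquivOver (isEquivOver_toOverCat U)
    have h₀ : AlgSt.RepByAlgSpWith P (FibCat.diag (AlgSt.ofSpMap a)) :=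
      (repByAlgSpWith_iff_of_square (f := FibCat.diag q) (f' := FibCat.diag (AlgSt.ofSpMap a)) (a := e)
        (b := fpMap (F := q) (G := q) (F' := AlgSt.ofSpMap a) (G' := AlgSt.ofSpMap a) i i.symm) he
        (fpMap_isEquivOver _ _ he he) (diagMapIso e (AlgSt.toOverCat U) i)).1 (repByAlgSpWith_diag_fpFst h)
    exact ⟨F, e, he, (hD F.property (IsAlgSpace.yon_obj U) a).1 (hsp F.property
      (isAlgSpace_pullback F.property F.property (IsAlgSpace.yon_obj U) a a) _ (repBySpWith_diagonal hPb a h₀))⟩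
  · rintro F U a hF y e he rfl
    exact (hD hF (IsAlgSpace.yon_obj U) _).2 (RepOver.property_of_stableBC hDb (h U y) e he).2

variable (f : 𝒳 ⥤ᵇ 𝒴)

theorem repByAlgSpWith_inertiaToBase (h : AlgSt.RepByAlgSpWith P (FibCat.diag f)) :
    AlgSt.RepByAlgSpWith P (FibCat.inertiaToBase f) :=
  (repByAlgSpWith_iff_of_square (f := FibCat.fpFst (FibCat.diag f) (FibCat.diag f))
    (f' := FibCat.inertiaToBase f) (a := inertiaToFp f) (b := BasedFunctor.id _)
    (inertiaToFp_isEquivOver f) isEquivOver_id (Iso.refl _)).1 (repByAlgSpWith_fpFst _ h)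

/-- The neutral section is the diagonal of the diagonal. -/
def neutralIso : BasedFunctor.comp (FibCat.inertiaNeutral f) (inertiaToFp f) ≅ FibCat.diag (FibCat.diag f) :=
  BasedNatIso.mkNatIso
    (NatIso.ofComponents (fun x => fpIsoMk (x := (BasedFunctor.comp (FibCat.inertiaNeutral f) (inertiaToFp f)).obj x)
      (y := (FibCat.diag (FibCat.diag f)).obj x) (Iso.refl x) (Iso.refl x) (by
        apply ObjectProperty.hom_ext
        apply CategoricalPullback.hom_ext
        · show 𝟙 _ ≫ 𝟙 _ = 𝟙 _ ≫ 𝟙 _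
          rfl
        · show 𝟙 _ ≫ 𝟙 _ = 𝟙 _ ≫ 𝟙 _
          rfl))
      (fun {x z} φ => by
        refine ObjectProperty.hom_ext _ (CategoricalPullback.hom_ext ?_ ?_)
        · show φ ≫ 𝟙 _ = 𝟙 _ ≫ φ
          simp
        · show φ ≫ 𝟙 _ = 𝟙 _ ≫ φ
          simp))
    (fun x => fp_isHomLift (F := FibCat.diag f) (G := FibCat.diag f) (𝟙 _) _ (h := IsHomLift.id rfl))

theorem repByAlgSpWith_inertiaNeutral_iff :
    AlgSt.RepByAlgSpWith P (FibCat.inertiaNeutral f) ↔ AlgSt.RepByAlgSpWith P (FibCat.diag (FibCat.diag f)) :=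
  (repByAlgSpWith_iff_of_square (f := FibCat.diag (FibCat.diag f)) (f' := FibCat.inertiaNeutral f)
    (a := BasedFunctor.id _) (b := inertiaToFp f) isEquivOver_id (inertiaToFp_isEquivOver f)
    (neutralIso f)).symm

theorem repByAlgSpWith_inertiaNeutral (h : AlgSt.RepByAlgSpWith P (FibCat.diag (FibCat.inertiaToBase f))) :
    AlgSt.RepByAlgSpWith P (FibCat.inertiaNeutral f) :=
  repByAlgSpWith_section (f := FibCat.inertiaToBase f) (Iso.refl _) h

theorem repByAlgSp1_inertiaToBase (h : AlgSt.RepByAlgSp1 (FibCat.diag f)) :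
    AlgSt.RepByAlgSp1 (FibCat.inertiaToBase f) :=
  repByAlgSp1_iff_top.2 (repByAlgSpWith_inertiaToBase f (repByAlgSp1_iff_top.1 h))

/-- A property of morphisms that is the diagonal property `D`, on the inertia, the diagonal and the neutral section. -/
theorem inertia_tfae (hPb : StableBC P) (hDb : StableBC D)
    (hsp : ∀ {F G : Sp S}, IsAlgSpace F → IsAlgSpace G → ∀ (a : F ⟶ G), RepBySpWith P a.hom → P a)
    (hD : ∀ {F G : Sp S}, IsAlgSpace F → IsAlgSpace G → ∀ (a : F ⟶ G), P (pullback.diagonal a) ↔ D a)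
    (h : AlgSt.RepByAlgSp1 (FibCat.diag f)) :
    [AlgSt.RepByAlgSpWith D (FibCat.inertiaToBase f), AlgSt.RepByAlgSpWith D (FibCat.diag f),
      AlgSt.RepByAlgSpWith P (FibCat.inertiaNeutral f)].TFAE := by
  tfae_have 2 → 1 := repByAlgSpWith_inertiaToBase f
  tfae_have 1 → 3 := fun h₁ => repByAlgSpWith_inertiaNeutral f
    ((repByAlgSpWith_diag_iff_of_rep hPb hDb hsp hD (repByAlgSp1_inertiaToBase f h)).2 h₁)
  tfae_have 3 → 2 := fun h₃ =>
    (repByAlgSpWith_diag_iff_of_rep hPb hDb hsp hD h).1 ((repByAlgSpWith_inertiaNeutral_iff f).1 h₃)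
  tfae_finish

theorem separated_tfae (h : AlgSt.RepByAlgSp1 (FibCat.diag f)) :
    [AlgSt.RepByAlgSpWith IsSeparatedMor (FibCat.inertiaToBase f),
      AlgSt.RepByAlgSpWith IsSeparatedMor (FibCat.diag f), AlgSt.IsClosedImm (FibCat.inertiaNeutral f)].TFAE :=
  inertia_tfae f (stableBC_of (P := RepWith @IsClosedImmersion)) stableBC_isSeparatedMor
    (fun _ _ a ha => repWith_of_repBySpWith a ha) (fun _ _ _ => Iff.rfl) h

theorem quasiSeparated_tfae (h : AlgSt.RepByAlgSp1 (FibCat.diag f)) :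
    [AlgSt.RepByAlgSpWith IsQuasiSeparatedMor (FibCat.inertiaToBase f),
      AlgSt.RepByAlgSpWith IsQuasiSeparatedMor (FibCat.diag f),
      AlgSt.RepByAlgSpWith IsQuasiCompactMor (FibCat.inertiaNeutral f)].TFAE :=
  inertia_tfae f stableBC_isQuasiCompactMor stableBC_isQuasiSeparatedMor
    (fun hF hG _ ha => property_of_repBySpWith
      (isLocalOnBase_fppf_of_fpqc isLocalOnBase_fpqc_isQuasiCompactMor) hF hG ha)
    (fun hF _ a => ⟨Groth.Agent.AlgSpPts.repWith_quasiCompact (representable_diagonal hF a),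
      Groth.Agent.AlgSpPts.isQuasiCompactMor_of_repWith⟩) h

end Groth.Agent.AlgStLib
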