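import Groth.Agent.AlgStLib.SepDiag
import Groth.Agent.AlgSpPts.UnivClosed

/-!
# Separated morphisms of stacks through universally closed diagonals
-/

set_option backward.isDefEq.respectTransparency false
set_option backward.isDefEq.respectTransparency.types false

universe u

open CategoryTheory CategoryTheory.Functor CategoryTheory.Limits AlgebraicGeometry Opposite AlgSp

namespace Groth.Agent.AlgStLib

open Groth.Agent.FibBase Groth.Agent.AlgSpLib

variable {S : Scheme.{u}} {𝒳 𝒴 : AlgSt.Cat S} {P Q : MorphismProperty (Sp S)}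

theorem repByAlgSpWith_mono_space (h : ∀ {F G : Sp S}, IsAlgSpace F → IsAlgSpace G → ∀ (a : F ⟶ G), P a → Q a)
    {f : 𝒳 ⥤ᵇ 𝒴} (hf : AlgSt.RepByAlgSpWith P f) : AlgSt.RepByAlgSpWith Q f := fun U y => by
  obtain ⟨F, e, he, hP⟩ := hf U y
  exact ⟨F, e, he, h F.property (IsAlgSpace.yon_obj U) _ hP⟩

theorem repByAlgSpWith_and (hPb : StableBC P) {f : 𝒳 ⥤ᵇ 𝒴} (hP : AlgSt.RepByAlgSpWith P f)
    (hQ : AlgSt.RepByAlgSpWith Q f) : AlgSt.RepByAlgSpWith (P ⊓ Q) f := fun U y => by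
  obtain ⟨F, e, he, h⟩ := hQ U y
  exact ⟨F, e, he, (RepOver.property_of_stableBC hPb (hP U y) e he).2, h⟩

theorem stableBC_isUnivClosedMor : StableBC (IsUnivClosedMor (S := S)) :=
  fun _ _ _ _ _ _ _ _ _ _ _ _ sq h => Groth.Agent.AlgSpPts.isUnivClosedMor_of_isPullback sq h

theorem isUnivClosedMor_diagonal_iff {F G : Sp S} (hF : IsAlgSpace F) (hG : IsAlgSpace G) (a : F ⟶ G) :
    IsUnivClosedMor (pullback.diagonal a) ↔ IsSeparatedMor a :=
  ⟨fun h => Groth.Agent.AlgSpPts.repWith_isClosedImmersion_of_univClosed (representable_diagonal hF a)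
      (Groth.Agent.AlgSpPts.diagonal_package hF hG a).2.1 h,
    fun h => (Groth.Agent.AlgSpPts.isProperMor_of_closedImmersion h).2.2⟩

theorem repByAlgSpWith_proper_of_univClosed {f : 𝒳 ⥤ᵇ 𝒴} (hΔ : AlgSt.RepByAlgSp1 f)
    (hl : AlgSt.RepByAlgSpWith (LocP @LocallyOfFiniteType) f) (h₁ : AlgSt.RepByAlgSpWith IsUnivClosedMor f)
    (h₂ : AlgSt.RepByAlgSpWith IsUnivClosedMor (FibCat.diag f)) : AlgSt.RepByAlgSpWith IsProperMor f := by
  have hs : AlgSt.RepByAlgSpWith IsSeparatedMor f :=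
    (repByAlgSpWith_diag_iff_of_rep stableBC_isUnivClosedMor stableBC_isSeparatedMor
      (fun hF hG _ ha => property_of_repBySpWith (isLocalOnBase_fppf_of_fpqc isLocalOnBase_fpqc_isUnivClosedMor)
        hF hG ha)
      (fun hF hG a => isUnivClosedMor_diagonal_iff hF hG a) hΔ).1 h₂
  refine repByAlgSpWith_mono_space (fun hF hG a ha => ?_)
    (repByAlgSpWith_and stableBC_locP hl (repByAlgSpWith_and stableBC_isUnivClosedMor h₁ hs))
  exact ⟨ha.2.2, ⟨ha.1, Groth.Agent.AlgSpPts.isQuasiCompactMor_of_univClosed hF hG ha.2.1⟩, ha.2.1⟩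

end Groth.Agent.AlgStLib
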