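import Groth.Agent.AlgStLib.SmoothLocusSub
import Groth.Agent.AlgStLib.LocQCalc
import Groth.Agent.MorLib.SmoothLocus

/-!
# The smooth locus of a morphism of stacks and flat base change
-/

set_option backward.isDefEq.respectTransparency false
set_option backward.isDefEq.respectTransparency.types false

universe u

open CategoryTheory CategoryTheory.Functor CategoryTheory.Limits AlgebraicGeometry Opposite AlgSp

namespace Groth.Agent.AlgStLib

open Groth.Agent.FibBase Groth.Agent.AlgSpLib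

variable {S : Scheme.{u}} {𝒳 𝒴 𝒴' : AlgSt.Cat S}

/-- Base change of a chart, with the first projection. -/
theorem exists_chart_baseChange' (h𝒳 : FibCat.IsFibGrpd 𝒳.p) (h𝒴 : FibCat.IsFibGrpd 𝒴.p) {f : 𝒳 ⥤ᵇ 𝒴}
    {g : 𝒴' ⥤ᵇ 𝒴} {U V V' : AlgSp.Space S} {y : AlgSt.ofSp V.obj ⥤ᵇ 𝒴} {y' : AlgSt.ofSp V'.obj ⥤ᵇ 𝒴'}
    {k : V'.obj ⟶ V.obj} (β : BasedFunctor.comp y' g ≅ BasedFunctor.comp (AlgSt.ofSpMap k) y)
    (c : AlgSt.ofSp U.obj ⥤ᵇ FibCat.fp f y) :
    ∃ (D : AlgSp.Space S) (p : D.obj ⟶ U.obj) (q : D.obj ⟶ V'.obj)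
      (c' : AlgSt.ofSp D.obj ⥤ᵇ FibCat.fp (FibCat.fpFst g f) y'),
      IsPullback p q (spHom (BasedFunctor.comp c (FibCat.fpSnd f y))) k ∧
      spHom (BasedFunctor.comp c' (FibCat.fpSnd (FibCat.fpFst g f) y')) = q ∧
      (AlgSt.RepByAlgSpWith (LocP @Smooth) c → AlgSt.RepByAlgSpWith (LocP @Smooth) c') ∧
      (AlgSt.RepByAlgSpWith IsSurjectiveMor c → AlgSt.RepByAlgSpWith IsSurjectiveMor c') ∧
      Nonempty (BasedFunctor.comp c' (BasedFunctor.comp (FibCat.fpFst (FibCat.fpFst g f) y') (FibCat.fpSnd g f)) ≅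
        BasedFunctor.comp (AlgSt.ofSpMap p) (BasedFunctor.comp c (FibCat.fpFst f y))) := by
  let h := spHom (BasedFunctor.comp c (FibCat.fpSnd f y))
  let D : AlgSp.Space S := ⟨pullback h k, isAlgSpace_pullback U.property V'.property V.property _ _⟩
  obtain ⟨E, hE, ⟨jf⟩, ⟨je⟩⟩ := exists_spCone (IsPullback.of_hasPullback h k)
  have : (BasedFunctor.id (AlgSt.ofSp V.obj)).toFunctor.Full := inferInstanceAs (𝟭 _).Full
  have : (BasedFunctor.id (AlgSt.ofSp V.obj)).toFunctor.Faithful := inferInstanceAs (𝟭 _).Faithful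
  have : (BasedFunctor.id 𝒴).toFunctor.Full := inferInstanceAs (𝟭 _).Full
  have : (BasedFunctor.id 𝒴).toFunctor.Faithful := inferInstanceAs (𝟭 _).Faithful
  let m := fpMap (F := BasedFunctor.comp c (FibCat.fpSnd f y)) (G := AlgSt.ofSpMap k) (F' := AlgSt.ofSpMap h)
    (G' := AlgSt.ofSpMap k) (a := BasedFunctor.id _) (b := BasedFunctor.id _) (c := BasedFunctor.id _)
    (isoOfSpMap (BasedFunctor.comp c (FibCat.fpSnd f y))) (Iso.refl _)
  let E₁ := BasedFunctor.comp E m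
  have hE₁ : FibCat.IsEquivOver E₁ := isEquivOver_comp hE (fpMap_isEquivOver _ _ isEquivOver_id isEquivOver_id)
  obtain ⟨i₁, hi₁, -, ⟨j₁⟩⟩ := isEquivOver_inv (pasteVert_isEquivOver c (FibCat.fpSnd f y) (AlgSt.ofSpMap k))
  let G := FibCat.fpSnd c (FibCat.fpFst (FibCat.fpSnd f y) (AlgSt.ofSpMap k))
  let m₂ := fpMap (F := f) (G := BasedFunctor.comp y' g) (F' := f)
    (G' := BasedFunctor.comp (AlgSt.ofSpMap k) y) (a := BasedFunctor.id _) (b := BasedFunctor.id _)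
    (c := BasedFunctor.id _) (Iso.refl _) β.symm
  obtain ⟨i₂, hi₂, -, ⟨j₂⟩⟩ := isEquivOver_inv (pasteVert_isEquivOver y' g f)
  let tail := BasedFunctor.comp (pasteHor f (AlgSt.ofSpMap k) y)
    (BasedFunctor.comp m₂ (BasedFunctor.comp (fpSwap f (BasedFunctor.comp y' g))
      (BasedFunctor.comp i₂ (fpSwap y' (FibCat.fpFst g f)))))
  have htail : FibCat.IsEquivOver tail := isEquivOver_comp (pasteHor_isEquivOver _ _ _)
    (isEquivOver_comp (fpMap_isEquivOver _ _ isEquivOver_id isEquivOver_id)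
      (isEquivOver_comp (fpSwap_isEquivOver _ _) (isEquivOver_comp hi₂ (fpSwap_isEquivOver _ _))))
  refine ⟨D, pullback.fst h k, pullback.snd h k,
    BasedFunctor.comp (BasedFunctor.comp (BasedFunctor.comp E₁ i₁) G) tail, IsPullback.of_hasPullback h k, ?_,
    fun hc => repByAlgSpWith_postcomp htail (repByAlgSpWith_precomp (isEquivOver_comp hE₁ hi₁)
      (repByAlgSpWith_fpSnd _ hc)),
    fun hc => repByAlgSpWith_postcomp htail (repByAlgSpWith_precomp (isEquivOver_comp hE₁ hi₁)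
      (repByAlgSpWith_fpSnd _ hc)), ⟨?_⟩⟩
  rotate_left
  · exact whiskerRightIso (whiskerLeftIso (BasedFunctor.comp (BasedFunctor.comp (BasedFunctor.comp E₁ i₁) G)
        (BasedFunctor.comp (pasteHor f (AlgSt.ofSpMap k) y)
          (BasedFunctor.comp m₂ (fpSwap f (BasedFunctor.comp y' g))))) j₂) (FibCat.fpSnd (BasedFunctor.comp y' g) f) ≪≫
      (whiskerRightIso (whiskerLeftIso (BasedFunctor.comp E₁ i₁) (FibCat.fpIso c (FibCat.fpFst (FibCat.fpSnd f y) (AlgSt.ofSpMap k))))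
        (FibCat.fpFst f y)).symm ≪≫
      whiskerRightIso (whiskerLeftIso E₁ j₁)
        (BasedFunctor.comp (FibCat.fpFst (BasedFunctor.comp c (FibCat.fpSnd f y)) (AlgSt.ofSpMap k))
          (BasedFunctor.comp c (FibCat.fpFst f y))) ≪≫
      whiskerRightIso jf (BasedFunctor.comp c (FibCat.fpFst f y))
  let i : BasedFunctor.comp (BasedFunctor.comp (BasedFunctor.comp (BasedFunctor.comp E₁ i₁) G) tail)
      (FibCat.fpSnd (FibCat.fpFst g f) y') ≅ BasedFunctor.comp E (FibCat.fpSnd _ _) :=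
    whiskerRightIso (whiskerLeftIso (BasedFunctor.comp (BasedFunctor.comp (BasedFunctor.comp E₁ i₁) G)
        (BasedFunctor.comp (pasteHor f (AlgSt.ofSpMap k) y)
          (BasedFunctor.comp m₂ (fpSwap f (BasedFunctor.comp y' g))))) j₂)
        (FibCat.fpFst (BasedFunctor.comp y' g) f) ≪≫
      whiskerRightIso (whiskerLeftIso E₁ j₁)
        (FibCat.fpSnd (BasedFunctor.comp c (FibCat.fpSnd f y)) (AlgSt.ofSpMap k))
  rw [spHom_congr i, spHom_congr je, spHom_ofSpMap]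

/-- A map of charts factoring through representable sheaves. -/
def chartMapIso' {U W : Over S} {F : Sp S} {a : (yon S).obj U ⟶ F} {b : F ⟶ (yon S).obj W} {r : U ⟶ W}
    (w : a ≫ b = (yon S).map r) :
    BasedFunctor.comp (BasedFunctor.comp (AlgSt.ofOverCat U) (AlgSt.ofSpMap a))
      (BasedFunctor.comp (AlgSt.ofSpMap b) (AlgSt.toOverCat W)) ≅ AlgSt.overMap r :=
  whiskerLeftIso (AlgSt.ofOverCat U) (whiskerRightIso (isoOfSpMap (BasedFunctor.comp (AlgSt.ofSpMap a)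
      (AlgSt.ofSpMap b)) ≪≫ eqToIso (congrArg (fun t => AlgSt.ofSpMap t)
        ((spHom_comp _ _).trans (by rw [spHom_ofSpMap, spHom_ofSpMap, w])))) (AlgSt.toOverCat W)) ≪≫
    whiskerLeftIso (AlgSt.ofOverCat U) (toOverCatMapIso r).symm ≪≫
    whiskerRightIso (ofOverCatIso U) (AlgSt.overMap r)

/-- Base change of a scheme chart along a map of scheme charts. -/
theorem exists_schemeChart_baseChange (h𝒳 : AlgSt.IsAlgStack Scheme.fppfPrecoverage 𝒳)
    (h𝒴 : AlgSt.IsAlgStack Scheme.fppfPrecoverage 𝒴) (h𝒴' : AlgSt.IsAlgStack Scheme.fppfPrecoverage 𝒴')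
    {f : 𝒳 ⥤ᵇ 𝒴} {g : 𝒴' ⥤ᵇ 𝒴} {U V V' : Over S} {y : FibCat.overCat V ⥤ᵇ 𝒴}
    {y' : FibCat.overCat V' ⥤ᵇ 𝒴'} {k : V' ⟶ V}
    (β : BasedFunctor.comp y' g ≅ BasedFunctor.comp (AlgSt.overMap k) y)
    {c : FibCat.overCat U ⥤ᵇ FibCat.fp f y} {h : U ⟶ V}
    (i : BasedFunctor.comp c (FibCat.fpSnd f y) ≅ AlgSt.overMap h)
    (hc : AlgSt.RepByAlgSpWith (LocP @Smooth) c) (hc' : AlgSt.RepByAlgSpWith IsSurjectiveMor c) :
    ∃ (U' : Over S) (p : U' ⟶ U) (q : U' ⟶ V')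
      (c' : FibCat.overCat U' ⥤ᵇ FibCat.fp (FibCat.fpFst g f) y'),
      IsPullback p.left q.left h.left k.left ∧
      AlgSt.RepByAlgSpWith (LocP @Smooth) c' ∧ AlgSt.RepByAlgSpWith IsSurjectiveMor c' ∧
      Nonempty (BasedFunctor.comp c' (FibCat.fpSnd (FibCat.fpFst g f) y') ≅ AlgSt.overMap q) ∧
      Nonempty (BasedFunctor.comp c' (BasedFunctor.comp (FibCat.fpFst (FibCat.fpFst g f) y') (FibCat.fpSnd g f)) ≅
        BasedFunctor.comp (AlgSt.overMap p) (BasedFunctor.comp c (FibCat.fpFst f y))) := by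
  have : (BasedFunctor.id 𝒴).toFunctor.Full := inferInstanceAs (𝟭 _).Full
  have : (BasedFunctor.id 𝒴).toFunctor.Faithful := inferInstanceAs (𝟭 _).Faithful
  have : (BasedFunctor.id 𝒴').toFunctor.Full := inferInstanceAs (𝟭 _).Full
  have : (BasedFunctor.id 𝒴').toFunctor.Faithful := inferInstanceAs (𝟭 _).Faithful
  let yS := BasedFunctor.comp (AlgSt.toOverCat V) y
  let y'S := BasedFunctor.comp (AlgSt.toOverCat V') y'
  let m := fpMap (F := f) (G := yS) (F' := f) (G' := y) (a := BasedFunctor.id _) (b := AlgSt.ofOverCat V)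
    (c := BasedFunctor.id _) (Iso.refl _) (whiskerRightIso (ofOverCatIso V) y).symm
  have hm : FibCat.IsEquivOver m := fpMap_isEquivOver _ _ isEquivOver_id (isEquivOver_ofOverCat V)
  let cS := BasedFunctor.comp (AlgSt.toOverCat U) (BasedFunctor.comp c m)
  let βS : BasedFunctor.comp y'S g ≅ BasedFunctor.comp (AlgSt.ofSpMap ((yon S).map k)) yS :=
    whiskerLeftIso (AlgSt.toOverCat V') β ≪≫ whiskerRightIso (toOverCatMapIso k) y
  have hcS : spHom (BasedFunctor.comp cS (FibCat.fpSnd f yS)) = (yon S).map h := spHom_toOverCat_comp (G := BasedFunctor.comp c (FibCat.fpSnd f y)) i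
  obtain ⟨D, p₀, q₀, c₀, sq, hq₀, hs, hs', ⟨j₀⟩⟩ := exists_chart_baseChange' h𝒳.isStack.1 h𝒴.isStack.1
    (U := ⟨_, IsAlgSpace.yon_obj U⟩) (V := ⟨_, IsAlgSpace.yon_obj V⟩) (V' := ⟨_, IsAlgSpace.yon_obj V'⟩) βS cS
  rw [hcS] at sq
  let sq' := IsPullback.of_hasPullback h k
  let e := (sq'.map (yon S)).isoIsPullback _ _ sq
  let m' := fpMap (F := FibCat.fpFst g f) (G := y') (F' := FibCat.fpFst g f) (G' := y'S)
    (a := BasedFunctor.id _) (b := AlgSt.toOverCat V') (c := BasedFunctor.id _) (Iso.refl _) (Iso.refl _)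
  have hm' : FibCat.IsEquivOver m' := fpMap_isEquivOver _ _ isEquivOver_id (isEquivOver_toOverCat V')
  let E := BasedFunctor.comp (AlgSt.ofOverCat (pullback h k)) (AlgSt.ofSpMap e.hom)
  have hE : FibCat.IsEquivOver E := isEquivOver_comp (isEquivOver_ofOverCat _) (isEquivOver_ofSpMap e.hom)
  have h1 : e.hom ≫ p₀ = (yon S).map (pullback.fst h k) := (sq'.map (yon S)).isoIsPullback_hom_fst _ _ sq
  have h2 : e.hom ≫ q₀ = (yon S).map (pullback.snd h k) := (sq'.map (yon S)).isoIsPullback_hom_snd _ _ sq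
  have k1 : BasedFunctor.comp c₀ (FibCat.fpSnd (FibCat.fpFst g f) y'S) ≅ AlgSt.ofSpMap q₀ :=
    isoOfSpMap (BasedFunctor.comp c₀ (FibCat.fpSnd (FibCat.fpFst g f) y'S)) ≪≫
      eqToIso (congrArg (fun t => AlgSt.ofSpMap t) hq₀)
  have k2 : BasedFunctor.comp E (BasedFunctor.comp (AlgSt.ofSpMap q₀) (AlgSt.toOverCat V')) ≅
      AlgSt.overMap (pullback.snd h k) := chartMapIso' h2
  have k3 : BasedFunctor.comp E (BasedFunctor.comp (AlgSt.ofSpMap p₀) (AlgSt.toOverCat U)) ≅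
      AlgSt.overMap (pullback.fst h k) := chartMapIso' h1
  let c'' := BasedFunctor.comp (BasedFunctor.comp E c₀) m'
  have k4 : BasedFunctor.comp c'' (FibCat.fpSnd (FibCat.fpFst g f) y') ≅ AlgSt.overMap (pullback.snd h k) :=
    whiskerRightIso (whiskerLeftIso E k1) (AlgSt.toOverCat V') ≪≫ k2
  have k5 : BasedFunctor.comp c'' (BasedFunctor.comp (FibCat.fpFst (FibCat.fpFst g f) y') (FibCat.fpSnd g f)) ≅
      BasedFunctor.comp (AlgSt.overMap (pullback.fst h k)) (BasedFunctor.comp c (FibCat.fpFst f y)) :=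
    whiskerLeftIso E j₀ ≪≫ whiskerRightIso k3 (BasedFunctor.comp c (FibCat.fpFst f y))
  exact ⟨pullback h k, pullback.fst h k, pullback.snd h k, c'', sq'.map (Over.forget S),
    repByAlgSpWith_postcomp hm' (repByAlgSpWith_precomp hE (hs
      (repByAlgSpWith_precomp (isEquivOver_toOverCat U) (repByAlgSpWith_postcomp hm hc)))),
    repByAlgSpWith_postcomp hm' (repByAlgSpWith_precomp hE (hs'
      (repByAlgSpWith_precomp (isEquivOver_toOverCat U) (repByAlgSpWith_postcomp hm hc')))), ⟨k4⟩, ⟨k5⟩⟩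

/-- A point of a chart lies in the smooth locus iff the chart is smooth there. -/
theorem ofChart_mem_smoothPts_iff (h𝒳 : AlgSt.IsAlgStack Scheme.fppfPrecoverage 𝒳)
    (h𝒴 : AlgSt.IsAlgStack Scheme.fppfPrecoverage 𝒴) {f : 𝒳 ⥤ᵇ 𝒴}
    {U V : Over S} {y : FibCat.overCat V ⥤ᵇ 𝒴} {c : FibCat.overCat U ⥤ᵇ FibCat.fp f y} {h : U ⟶ V}
    (i : BasedFunctor.comp c (FibCat.fpSnd f y) ≅ AlgSt.overMap h)
    (hy : AlgSt.RepByAlgSpWith (LocP @Smooth) y) (hc : AlgSt.RepByAlgSpWith (LocP @Smooth) c) (u : ↥U.left) :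
    AlgSt.Points.ofChart (BasedFunctor.comp c (FibCat.fpFst f y)) u ∈ smoothPts f ↔
      ∃ W : U.left.Opens, u ∈ W ∧ Smooth (W.ι ≫ h.left) := by
  let x := BasedFunctor.comp c (FibCat.fpFst f y)
  refine ⟨fun hu => ⟨⟨AlgSt.Points.ofChart x ⁻¹' smoothPts f,
    (isOpen_smoothPts f).preimage (continuous_ofChart h𝒳.isStack.1 h𝒳.atlas _)⟩, hu,
    (smoothOn_smoothPts h𝒳 h𝒴 f).smooth h𝒳 h𝒴 (isOpen_smoothPts f) i hy hc _ fun _ h => h⟩, ?_⟩
  rintro ⟨W, hu, hW⟩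
  have hg := fp_isFibGrpd (F := f) (G := y) h𝒳.isStack.1 (isFibGrpd_overCat V) h𝒴.isStack.1
  let j : Over.mk (W.ι ≫ U.hom) ⟶ U := Over.homMk W.ι rfl
  have hj : AlgSt.RepByAlgSpWith (LocP @Smooth) (AlgSt.overMap j) :=
    repByAlgSpWith_overMap stableBC_locP
      (locP_of_repWith ((repWith_yon_map_iff _ j).2 (inferInstanceAs (Smooth W.ι))))
  have hx : AlgSt.RepByAlgSpWith (LocP @Smooth) x :=
    repByAlgSpWith_locP_comp (isFibGrpd_overCat U) hg hc (repByAlgSpWith_fpFst f hy)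
  have hxW := repByAlgSpWith_locP_comp (isFibGrpd_overCat _) (isFibGrpd_overCat U) hj hx
  let T := Set.range (AlgSt.Points.ofChart (BasedFunctor.comp (AlgSt.overMap j) x))
  have hT : IsOpen T := (isOpenMap_ofChart h𝒳.isStack.1 (repByAlgSpWith_flat_of_smooth hxW)
    (repByAlgSpWith_lfp_of_smooth hxW)).isOpen_range
  let α : BasedFunctor.comp (BasedFunctor.comp (AlgSt.overMap j) x) f ≅
      BasedFunctor.comp (AlgSt.overMap (j ≫ h)) y :=
    whiskerLeftIso (BasedFunctor.comp (AlgSt.overMap j) c) (FibCat.fpIso f y) ≪≫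
      whiskerRightIso (whiskerLeftIso (AlgSt.overMap j) i ≪≫ overMapCompIso j h) y
  refine ⟨T, ⟨hT, smoothOn_of_cover h𝒳 hT α hxW le_rfl hy fun W' _ => ?_⟩, ⟨u, hu⟩, ofChart_overMap j x ⟨u, hu⟩⟩
  have : Smooth (W.ι ≫ h.left) := hW
  show Smooth (W'.ι ≫ W.ι ≫ h.left)
  infer_instance

/-- Smoothness near a point descends along a flat base change. -/
theorem exists_smooth_of_baseChange {X S X' S' : Scheme.{u}} (f : X ⟶ S) (g : S' ⟶ S) (f' : X' ⟶ S') (g' : X' ⟶ X)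
    (hc : IsPullback g' f' f g) [Flat g]
    (hfp : LocallyOfFinitePresentation g ∨ LocallyOfFinitePresentation f) (W : X'.Opens) [Smooth (W.ι ≫ f')]
    (x : X') (hx : x ∈ W) : ∃ O : X.Opens, g' x ∈ O ∧ Smooth (O.ι ≫ f) := by
  have hflat : Flat g' := MorphismProperty.of_isPullback hc.flip ‹_›
  obtain ⟨O₁, hxO₁, hO₁⟩ : ∃ O₁ : X.Opens, g' x ∈ O₁ ∧ LocallyOfFinitePresentation (O₁.ι ≫ f) := by
    rcases hfp with hg | hf
    · have : LocallyOfFinitePresentation g' := MorphismProperty.of_isPullback hc.flip hg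
      let O₁ : X.Opens := ⟨g' '' (W : Set X'), g'.isOpenMap _ W.2⟩
      have hle : W ≤ g' ⁻¹ᵁ O₁ := fun w hw => ⟨w, hw, rfl⟩
      let s := g'.resLE O₁ W hle
      have : Surjective s := ⟨fun v => by
        obtain ⟨w, hw, hwv⟩ := v.2
        refine ⟨⟨w, hw⟩, Subtype.ext ?_⟩
        show O₁.ι (s _) = v.1
        rw [← Scheme.Hom.comp_apply, Scheme.Hom.resLE_comp_ι, Scheme.Hom.comp_apply]
        exact hwv⟩
      have : Flat s := by dsimp only [s]; infer_instance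
      have : LocallyOfFinitePresentation s := by dsimp only [s]; infer_instance
      have : LocallyOfFinitePresentation (s ≫ O₁.ι ≫ f) := by
        simp only [s, Scheme.Hom.resLE_comp_ι_assoc]
        rw [hc.w, ← Category.assoc]
        infer_instance
      exact ⟨O₁, ⟨x, hx, rfl⟩, SrcDescent.locallyOfFinitePresentation_of_fppf_comp s _⟩
    · exact ⟨⊤, trivial, inferInstance⟩
  have hc₁ := (isPullback_morphismRestrict g' O₁).paste_vert hc
  let W₁ : (g' ⁻¹ᵁ O₁).toScheme.Opens := (g' ⁻¹ᵁ O₁).ι ⁻¹ᵁ W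
  have : LocallyOfFinitePresentation ((g' ⁻¹ᵁ O₁).ι ≫ f') := MorphismProperty.of_isPullback hc₁ hO₁
  have hsm : Smooth (W₁.ι ≫ (g' ⁻¹ᵁ O₁).ι ≫ f') := by
    have hle : W₁ ≤ (g' ⁻¹ᵁ O₁).ι ⁻¹ᵁ W := le_rfl
    rw [← Scheme.Hom.resLE_comp_ι_assoc _ hle]
    infer_instance
  let z : (g' ⁻¹ᵁ O₁).toScheme := ⟨x, hxO₁⟩
  have hz : z ∈ ((g' ⁻¹ᵁ O₁).ι ≫ f').smoothLocus := by
    have : (⟨z, hx⟩ : W₁.toScheme) ∈ (W₁.ι ≫ (g' ⁻¹ᵁ O₁).ι ≫ f').smoothLocus := by
      rw [Scheme.Hom.smoothLocus_eq_top]; trivial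
    rwa [← Scheme.Hom.preimage_smoothLocus_eq] at this
  have h := MorLib.SmoothLoc.sm_descend (O₁.ι ≫ f) g _ _ hc₁ z hz
  let O₂ := (O₁.ι ≫ f).smoothLocus
  have hs : Smooth (O₂.ι ≫ O₁.ι ≫ f) := by
    rw [← Scheme.Hom.smoothLocus_eq_top_iff, ← Scheme.Hom.preimage_smoothLocus_eq]
    exact Scheme.Opens.ι_preimage_self O₂
  refine ⟨O₁.ι ''ᵁ O₂, ⟨(g' ∣_ O₁) z, h, ?_⟩, ?_⟩
  · show ((g' ∣_ O₁) ≫ O₁.ι) z = g' x
    rw [morphismRestrict_ι]; rfl
  · have : Smooth ((O₁.ι.isoImage O₂).inv ≫ O₂.ι ≫ O₁.ι ≫ f) := inferInstance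
    rwa [← Category.assoc, ← Category.assoc, Category.assoc (O₁.ι.isoImage O₂).inv, Scheme.Hom.isoImage_inv_ι] at this

theorem smoothPts_fpFst (h𝒳 : AlgSt.IsAlgStack Scheme.fppfPrecoverage 𝒳)
    (h𝒴 : AlgSt.IsAlgStack Scheme.fppfPrecoverage 𝒴) (h𝒴' : AlgSt.IsAlgStack Scheme.fppfPrecoverage 𝒴')
    {f : 𝒳 ⥤ᵇ 𝒴} {g : 𝒴' ⥤ᵇ 𝒴} (hg : AlgSt.LocQ (LocP @Flat) g)
    (hfp : AlgSt.LocQ (LocP @LocallyOfFinitePresentation) g ∨ AlgSt.LocQ (LocP @LocallyOfFinitePresentation) f) :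
    smoothPts (FibCat.fpFst g f) = AlgSt.Points.map (FibCat.fpSnd g f) ⁻¹' smoothPts f := by
  obtain ⟨V, y, hy, hy'⟩ := id h𝒴.atlas
  obtain ⟨U, c, h, i, hc, hc', -, -⟩ := exists_square_atlas h𝒳 h𝒴 f hy hy'
  obtain ⟨V', d, k, ik, hd, -, hyV, hyV'⟩ := exists_square_atlas h𝒴' h𝒴 g hy hy'
  let y' := BasedFunctor.comp d (FibCat.fpFst g y)
  obtain ⟨U', p, q, c', sq, hs, hs', ⟨j⟩, ⟨j'⟩⟩ := exists_schemeChart_baseChange h𝒳 h𝒴 h𝒴'
    (g := g) (y' := y') (k := k) (whiskerLeftIso d (FibCat.fpIso g y) ≪≫ whiskerRightIso ik y) i hc hc'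
  have : Flat k.left := locP_yon_map (((locQ_iff_locQS isSmoothLocalST_flat h𝒴' h𝒴 g).1 hg).scheme d hy hd ik)
  have hfp' : LocallyOfFinitePresentation k.left ∨ LocallyOfFinitePresentation h.left := hfp.imp
    (fun hg => locP_yon_map (((locQ_iff_locQS isSmoothLocalST_lfp h𝒴' h𝒴 g).1 hg).scheme d hy hd ik))
    (fun hf => locP_yon_map (((locQ_iff_locQS isSmoothLocalST_lfp h𝒳 h𝒴 f).1 hf).scheme c hy hc i))
  have halg := isAlgStack_fp h𝒴' h𝒳 h𝒴.isStack h𝒴.diag g f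
  have hgg := fp_isFibGrpd (F := FibCat.fpFst g f) (G := y') halg.isStack.1 (isFibGrpd_overCat V') h𝒴'.isStack.1
  have hx₂ := repByAlgSpWith_isSurjectiveMor_comp (isFibGrpd_overCat U') hgg hs'
    (repByAlgSpWith_fpFst (FibCat.fpFst g f) hyV')
  ext t
  obtain ⟨v, rfl⟩ := isSurjective_of_repByAlgSpWith (isFibGrpd_overCat U') halg.isStack.1
    (isAlgStack_overCat U').atlas hx₂ t
  obtain ⟨u, rfl⟩ := ptAt_surjective U' v
  rw [Set.mem_preimage, ← ofChart_eq_map, map_ofChart, ofChart_eq_map (BasedFunctor.comp _ (FibCat.fpSnd g f)),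
    pts_map_congr (show BasedFunctor.comp (BasedFunctor.comp c' (FibCat.fpFst (FibCat.fpFst g f) y'))
      (FibCat.fpSnd g f) ≅ _ from j'), ← ofChart_eq_map, ofChart_overMap,
    ofChart_mem_smoothPts_iff halg h𝒴' j hyV hs, ofChart_mem_smoothPts_iff h𝒳 h𝒴 i hy hc]
  constructor
  · rintro ⟨W, hu, hW⟩
    exact exists_smooth_of_baseChange h.left k.left q.left p.left sq hfp' W u hu
  · rintro ⟨O, hu, hO⟩
    exact ⟨p.left ⁻¹ᵁ O, hu, MorphismProperty.of_isPullback ((isPullback_morphismRestrict p.left O).paste_vert sq) hO⟩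

end Groth.Agent.AlgStLib
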