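import Groth.Agent.AlgStLib.LocQInst
import Groth.Agent.AlgStLib.OpenSubChart
import Groth.Agent.SrcDescent.SmoothFppf

/-!
# The largest open substack on which a morphism is smooth
-/

set_option backward.isDefEq.respectTransparency false
set_option backward.isDefEq.respectTransparency.types false

universe u

open CategoryTheory CategoryTheory.Functor CategoryTheory.Limits AlgebraicGeometry Opposite AlgSp

namespace Groth.Agent.AlgStLib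

open Groth.Agent.FibBase Groth.Agent.AlgSpLib

variable {S : Scheme.{u}} {𝒳 𝒴 𝒵 : AlgSt.Cat S} {T : Set (AlgSt.Points 𝒳)}

/-- `f` is smooth on the open substack of an open set of points. -/
abbrev SmoothOn (f : 𝒳 ⥤ᵇ 𝒴) (T : Set (AlgSt.Points 𝒳)) : Prop :=
  AlgSt.LocQ (LocP @Smooth) (BasedFunctor.comp (AlgSt.subIncl 𝒳 (PtsIn T)) f)

/-- A chart of the open substack cut out by a chart and a set of points. -/
theorem exists_chart_restrict (h𝒳 : AlgSt.IsAlgStack Scheme.fppfPrecoverage 𝒳) (hT : IsOpen T) {U : Over S}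
    (x : FibCat.overCat U ⥤ᵇ 𝒳) :
    ∃ (W : U.left.Opens) (x' : FibCat.overCat (Over.mk (W.ι ≫ U.hom)) ⥤ᵇ AlgSt.fullSub 𝒳 (PtsIn T)),
      (∀ u, u ∈ W ↔ AlgSt.Points.ofChart x u ∈ T) ∧
      Nonempty (BasedFunctor.comp x' (AlgSt.subIncl 𝒳 (PtsIn T)) ≅
        BasedFunctor.comp (AlgSt.overMap (Over.homMk W.ι rfl : Over.mk (W.ι ≫ U.hom) ⟶ U)) x) ∧
      (AlgSt.RepByAlgSpWith (LocP @Smooth) x → AlgSt.RepByAlgSpWith (LocP @Smooth) x') := by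
  let W : U.left.Opens :=
    ⟨AlgSt.Points.ofChart x ⁻¹' T, hT.preimage (continuous_ofChart h𝒳.isStack.1 h𝒳.atlas x)⟩
  let j : Over.mk (W.ι ≫ U.hom) ⟶ U := Over.homMk W.ι rfl
  have hmem : ∀ c : Over (Over.mk (W.ι ≫ U.hom)), PtsIn T (x.obj ((AlgSt.overMap j).obj c)) := fun c =>
    (ptsIn_chart_iff h𝒳.isStack.1 x _).2 fun w => by
      show AlgSt.Points.ofChart x (W.ι (c.hom.left w)) ∈ T
      exact (c.hom.left w).2
  let x' : FibCat.overCat (Over.mk (W.ι ≫ U.hom)) ⥤ᵇ AlgSt.fullSub 𝒳 (PtsIn T) :=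
    { toFunctor := ObjectProperty.lift _ (BasedFunctor.comp (AlgSt.overMap j) x).toFunctor hmem
      w := (BasedFunctor.comp (AlgSt.overMap j) x).w }
  refine ⟨W, x', fun u => Iff.rfl, ⟨Iso.refl _⟩, fun hx => ?_⟩
  have hmono := isMono_of_isImm (repByAlgSpWith_mono
    (fun _ _ _ h => repWith_mono (fun _ _ g (_ : IsOpenImmersion g) => inferInstanceAs (IsImmersion g)) _ h)
    (isOpenImm_ptsIn h𝒳 hT))
  have hj : AlgSt.RepByAlgSpWith (LocP @Smooth) (AlgSt.overMap j) :=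
    repByAlgSpWith_overMap stableBC_locP
      (locP_of_repWith ((repWith_yon_map_iff _ j).2 (inferInstanceAs (Smooth W.ι))))
  have hcomp := repByAlgSpWith_locP_comp (isFibGrpd_overCat _) (isFibGrpd_overCat U) hj hx
  exact repByAlgSpWith_of_comp stableBC_locP (cancels_mono stableBC_locP) hmono
    (show AlgSt.RepByAlgSpWith (LocP @Smooth) (BasedFunctor.comp x' (AlgSt.subIncl 𝒳 (PtsIn T))) from hcomp)

/-- A smooth chart covering the open substack on which the restriction is smooth. -/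
theorem smoothOn_of_cover (h𝒳 : AlgSt.IsAlgStack Scheme.fppfPrecoverage 𝒳) (hT : IsOpen T) {f : 𝒳 ⥤ᵇ 𝒴}
    {U V : Over S} {x : FibCat.overCat U ⥤ᵇ 𝒳} {y : FibCat.overCat V ⥤ᵇ 𝒴} {h : U ⟶ V}
    (α : BasedFunctor.comp x f ≅ BasedFunctor.comp (AlgSt.overMap h) y)
    (hx : AlgSt.RepByAlgSpWith (LocP @Smooth) x) (hcov : T ⊆ Set.range (AlgSt.Points.ofChart x))
    (hy : AlgSt.RepByAlgSpWith (LocP @Smooth) y)
    (hh : ∀ W : U.left.Opens, (∀ u ∈ W, AlgSt.Points.ofChart x u ∈ T) → Smooth (W.ι ≫ h.left)) :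
    SmoothOn f T := by
  obtain ⟨W, x', hW, ⟨i⟩, hx₁⟩ := exists_chart_restrict h𝒳 hT x
  let j : Over.mk (W.ι ≫ U.hom) ⟶ U := Over.homMk W.ι rfl
  obtain ⟨-, halg, -⟩ := isOpenSubstack_ptsIn h𝒳 hT
  have hsur : AlgSt.RepByAlgSpWith IsSurjectiveMor x' :=
    repByAlgSpWith_surjective_of_isSurjective (isFibGrpd_overCat _) halg.isStack.1
      (repByAlgSp1_of_repByAlgSpWith (hx₁ hx)) fun w => by
        obtain ⟨u, hv⟩ := hcov (range_subIncl_ptsIn.subset ⟨w, rfl⟩)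
        have hu : u ∈ W := (hW u).2 (hv ▸ range_subIncl_ptsIn.subset ⟨w, rfl⟩)
        refine ⟨ptAt (Over.mk (W.ι ≫ U.hom)) ⟨u, hu⟩, ?_⟩
        refine pts_map_injective_of_isMono halg.isStack.1 h𝒳.isStack.1 (isMono_of_isImm (repByAlgSpWith_mono
          (fun _ _ _ h => repWith_mono (fun _ _ g (_ : IsOpenImmersion g) => inferInstanceAs (IsImmersion g)) _ h)
          (isOpenImm_ptsIn h𝒳 hT))) ?_
        rw [← pts_map_comp, pts_map_congr i, ← ofChart_eq_map, ofChart_overMap]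
        exact hv
  refine ⟨_, V, x', y, j ≫ h,
    whiskerRightIso i f ≪≫ whiskerLeftIso (AlgSt.overMap j) α ≪≫ whiskerRightIso (overMapCompIso j h) y,
    hx₁ hx, hsur, hy, locP_of_repWith ((repWith_yon_map_iff _ _).2 ?_)⟩
  exact hh W fun u hu => (hW u).1 hu

/-- A smooth surjective chart on which the restriction is smooth. -/
theorem smoothOn_of_chart (h𝒳 : AlgSt.IsAlgStack Scheme.fppfPrecoverage 𝒳) (hT : IsOpen T) {f : 𝒳 ⥤ᵇ 𝒴}
    {U V : Over S} {x : FibCat.overCat U ⥤ᵇ 𝒳} {y : FibCat.overCat V ⥤ᵇ 𝒴} {h : U ⟶ V}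
    (α : BasedFunctor.comp x f ≅ BasedFunctor.comp (AlgSt.overMap h) y)
    (hx : AlgSt.RepByAlgSpWith (LocP @Smooth) x) (hx' : AlgSt.RepByAlgSpWith IsSurjectiveMor x)
    (hy : AlgSt.RepByAlgSpWith (LocP @Smooth) y)
    (hh : ∀ W : U.left.Opens, (∀ u ∈ W, AlgSt.Points.ofChart x u ∈ T) → Smooth (W.ι ≫ h.left)) :
    SmoothOn f T :=
  smoothOn_of_cover h𝒳 hT α hx (fun t _ => by
    obtain ⟨v, hv⟩ := isSurjective_of_repByAlgSpWith (isFibGrpd_overCat U) h𝒳.isStack.1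
      (isAlgStack_overCat U).atlas hx' t
    obtain ⟨u, rfl⟩ := ptAt_surjective U v
    exact ⟨u, (ofChart_eq_map _ _).trans hv⟩) hy hh

/-- On every chart the restriction is smooth. -/
theorem SmoothOn.smooth (h𝒳 : AlgSt.IsAlgStack Scheme.fppfPrecoverage 𝒳)
    (h𝒴 : AlgSt.IsAlgStack Scheme.fppfPrecoverage 𝒴) (hT : IsOpen T) {f : 𝒳 ⥤ᵇ 𝒴} (H : SmoothOn f T)
    {U V : Over S} {y : FibCat.overCat V ⥤ᵇ 𝒴} {c : FibCat.overCat U ⥤ᵇ FibCat.fp f y} {h : U ⟶ V}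
    (i : BasedFunctor.comp c (FibCat.fpSnd f y) ≅ AlgSt.overMap h)
    (hy : AlgSt.RepByAlgSpWith (LocP @Smooth) y) (hc : AlgSt.RepByAlgSpWith (LocP @Smooth) c)
    (W : U.left.Opens) (hW : ∀ u ∈ W, AlgSt.Points.ofChart (BasedFunctor.comp c (FibCat.fpFst f y)) u ∈ T) :
    Smooth (W.ι ≫ h.left) := by
  obtain ⟨W₁, x', hW₁, ⟨k⟩, -⟩ := exists_chart_restrict h𝒳 hT (BasedFunctor.comp c (FibCat.fpFst f y))
  let incl := AlgSt.subIncl 𝒳 (PtsIn T)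
  let j : Over.mk (W₁.ι ≫ U.hom) ⟶ U := Over.homMk W₁.ι rfl
  let c₁ := (FibCat.fpLift x' (BasedFunctor.comp (AlgSt.overMap j) c) k :
    FibCat.overCat (Over.mk (W₁.ι ≫ U.hom)) ⥤ᵇ FibCat.fp incl (FibCat.fpFst f y))
  obtain ⟨-, halg, himm⟩ := isOpenSubstack_ptsIn h𝒳 hT
  have hmono : AlgSt.IsMono (FibCat.fpSnd incl (FibCat.fpFst f y)) :=
    repByAlgSpWith_fpSnd _ (isMono_of_isImm (repByAlgSpWith_mono
      (fun _ _ _ h => repWith_mono (fun _ _ g (_ : IsOpenImmersion g) => inferInstanceAs (IsImmersion g)) _ h) himm))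
  have hj : AlgSt.RepByAlgSpWith (LocP @Smooth) (AlgSt.overMap j) :=
    repByAlgSpWith_overMap stableBC_locP
      (locP_of_repWith ((repWith_yon_map_iff _ j).2 (inferInstanceAs (Smooth W₁.ι))))
  have hcomp := repByAlgSpWith_locP_comp (isFibGrpd_overCat _) (isFibGrpd_overCat U) hj hc
  have hc₁ : AlgSt.RepByAlgSpWith (LocP @Smooth) c₁ :=
    repByAlgSpWith_of_comp stableBC_locP (cancels_mono stableBC_locP) hmono
      (show AlgSt.RepByAlgSpWith (LocP @Smooth) (BasedFunctor.comp c₁ (FibCat.fpSnd incl (FibCat.fpFst f y))) from hcomp)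
  have key := ((locQ_iff_locQS isSmoothLocalST_smooth halg h𝒴 _).1 H).scheme
    (BasedFunctor.comp c₁ (pasteVert incl f y)) (h := j ≫ h) hy
    (repByAlgSpWith_postcomp (pasteVert_isEquivOver incl f y) hc₁)
    (whiskerLeftIso (AlgSt.overMap j) i ≪≫ overMapCompIso j h)
  have : Smooth (W₁.ι ≫ h.left) := locP_yon_map key
  have hle : W ≤ W₁ := fun u hu => (hW₁ u).2 (hW u hu)
  rw [← Scheme.homOfLE_ι _ hle, Category.assoc]
  infer_instance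

theorem exists_square_atlas (h𝒳 : AlgSt.IsAlgStack Scheme.fppfPrecoverage 𝒳)
    (h𝒴 : AlgSt.IsAlgStack Scheme.fppfPrecoverage 𝒴) (f : 𝒳 ⥤ᵇ 𝒴) {V : Over S}
    {y : FibCat.overCat V ⥤ᵇ 𝒴} (hy : AlgSt.RepByAlgSpWith (LocP @Smooth) y)
    (hy' : AlgSt.RepByAlgSpWith IsSurjectiveMor y) :
    ∃ (U : Over S) (c : FibCat.overCat U ⥤ᵇ FibCat.fp f y) (h : U ⟶ V)
      (_ : BasedFunctor.comp c (FibCat.fpSnd f y) ≅ AlgSt.overMap h),
      AlgSt.RepByAlgSpWith (LocP @Smooth) c ∧ AlgSt.RepByAlgSpWith IsSurjectiveMor c ∧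
      AlgSt.RepByAlgSpWith (LocP @Smooth) (BasedFunctor.comp c (FibCat.fpFst f y)) ∧
      AlgSt.RepByAlgSpWith IsSurjectiveMor (BasedFunctor.comp c (FibCat.fpFst f y)) := by
  obtain ⟨U, c, hc, hc'⟩ := exists_atlas_fp h𝒳 (isAlgStack_overCat V) h𝒴 f y
  obtain ⟨h, ⟨i⟩⟩ := exists_mapB (BasedFunctor.comp c (FibCat.fpSnd f y))
  have hg := fp_isFibGrpd (F := f) (G := y) h𝒳.isStack.1 (isFibGrpd_overCat V) h𝒴.isStack.1
  exact ⟨U, c, h, i.symm, hc, hc', repByAlgSpWith_locP_comp (isFibGrpd_overCat U) hg hc (repByAlgSpWith_fpFst f hy),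
    repByAlgSpWith_isSurjectiveMor_comp (isFibGrpd_overCat U) hg hc' (repByAlgSpWith_fpFst f hy')⟩

/-- The union of all open sets of points on which `f` is smooth. -/
def smoothPts (f : 𝒳 ⥤ᵇ 𝒴) : Set (AlgSt.Points 𝒳) := ⋃₀ {T | IsOpen T ∧ SmoothOn f T}

theorem isOpen_smoothPts (f : 𝒳 ⥤ᵇ 𝒴) : IsOpen (smoothPts f) := isOpen_sUnion fun _ h => h.1

theorem smoothOn_smoothPts (h𝒳 : AlgSt.IsAlgStack Scheme.fppfPrecoverage 𝒳)
    (h𝒴 : AlgSt.IsAlgStack Scheme.fppfPrecoverage 𝒴) (f : 𝒳 ⥤ᵇ 𝒴) : SmoothOn f (smoothPts f) := by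
  obtain ⟨V, y, hy, hy'⟩ := id h𝒴.atlas
  obtain ⟨U, c, h, i, hc, -, hx, hx'⟩ := exists_square_atlas h𝒳 h𝒴 f hy hy'
  refine smoothOn_of_chart h𝒳 (isOpen_smoothPts f) (whiskerLeftIso c (FibCat.fpIso f y) ≪≫ whiskerRightIso i y)
    hx hx' hy fun W hW => ?_
  choose T hT hTu using fun u : ↥W => hW u.1 u.2
  let O : ↥W → U.left.Opens := fun u => W ⊓ ⟨AlgSt.Points.ofChart (BasedFunctor.comp c (FibCat.fpFst f y)) ⁻¹' T u,
    (hT u).1.preimage (continuous_ofChart h𝒳.isStack.1 h𝒳.atlas _)⟩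
  have hO : ⨆ u, W.ι ⁻¹ᵁ O u = ⊤ := top_unique fun u _ => TopologicalSpace.Opens.mem_iSup.2 ⟨u, ⟨u.2, hTu u⟩⟩
  refine IsZariskiLocalAtSource.of_iSup_eq_top (P := @Smooth) _ hO fun u => ?_
  have := (hT u).2.smooth h𝒳 h𝒴 (hT u).1 i hy hc (W.ι ''ᵁ (W.ι ⁻¹ᵁ O u)) (by
    rintro _ ⟨v, hv, rfl⟩
    exact hv.2)
  rw [← Category.assoc, ← Scheme.Hom.isoImage_hom_ι, Category.assoc]
  infer_instance

theorem mem_ptsIn_smoothPts (h𝒳 : AlgSt.IsAlgStack Scheme.fppfPrecoverage 𝒳) (f : 𝒳 ⥤ᵇ 𝒴) {Q : 𝒳.obj → Prop}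
    (hQ : AlgSt.IsOpenSubstack 𝒳 Q Scheme.fppfPrecoverage)
    (hs : AlgSt.LocQ (LocP @Smooth) (BasedFunctor.comp (AlgSt.subIncl 𝒳 Q) f)) {a : 𝒳.obj} (ha : Q a) :
    PtsIn (smoothPts f) a := by
  have hop := isOpen_range_of_isOpenImm hQ.2.1 h𝒳 hQ.2.2
  have he := eq_ptsIn_range h𝒳 hQ
  generalize Set.range (AlgSt.Points.map (AlgSt.subIncl 𝒳 Q)) = T at hop he
  subst he
  exact fun p φ => ⟨T, ⟨hop, hs⟩, ha p φ⟩

theorem exists_largest_smooth (h𝒳 : AlgSt.IsAlgStack Scheme.fppfPrecoverage 𝒳)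
    (h𝒴 : AlgSt.IsAlgStack Scheme.fppfPrecoverage 𝒴) (f : 𝒳 ⥤ᵇ 𝒴) :
    ∃ Q : 𝒳.obj → Prop, AlgSt.IsOpenSubstack 𝒳 Q Scheme.fppfPrecoverage ∧
      AlgSt.LocQ (LocP @Smooth) (BasedFunctor.comp (AlgSt.subIncl 𝒳 Q) f) ∧
      ∀ Q' : 𝒳.obj → Prop, AlgSt.IsOpenSubstack 𝒳 Q' Scheme.fppfPrecoverage →
        AlgSt.LocQ (LocP @Smooth) (BasedFunctor.comp (AlgSt.subIncl 𝒳 Q') f) → ∀ a, Q' a → Q a :=
  ⟨_, isOpenSubstack_ptsIn h𝒳 (isOpen_smoothPts f), smoothOn_smoothPts h𝒳 h𝒴 f,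
    fun _ hQ hs _ ha => mem_ptsIn_smoothPts h𝒳 f hQ hs ha⟩

theorem eq_ptsIn_smoothPts (h𝒳 : AlgSt.IsAlgStack Scheme.fppfPrecoverage 𝒳)
    (h𝒴 : AlgSt.IsAlgStack Scheme.fppfPrecoverage 𝒴) {f : 𝒳 ⥤ᵇ 𝒴} {Q : 𝒳.obj → Prop}
    (hQ₁ : AlgSt.IsOpenSubstack 𝒳 Q Scheme.fppfPrecoverage)
    (hQ₂ : AlgSt.LocQ (LocP @Smooth) (BasedFunctor.comp (AlgSt.subIncl 𝒳 Q) f))
    (hQ₃ : ∀ Q' : 𝒳.obj → Prop, AlgSt.IsOpenSubstack 𝒳 Q' Scheme.fppfPrecoverage →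
      AlgSt.LocQ (LocP @Smooth) (BasedFunctor.comp (AlgSt.subIncl 𝒳 Q') f) → ∀ a, Q' a → Q a) :
    Q = PtsIn (smoothPts f) :=
  funext fun a => propext ⟨fun ha => mem_ptsIn_smoothPts h𝒳 f hQ₁ hQ₂ ha,
    hQ₃ _ (isOpenSubstack_ptsIn h𝒳 (isOpen_smoothPts f)) (smoothOn_smoothPts h𝒳 h𝒴 f) a⟩

theorem ptsIn_preimage_iff (h𝒳 : FibCat.IsFibGrpd 𝒳.p) (h𝒵 : FibCat.IsFibGrpd 𝒵.p) (g : 𝒵 ⥤ᵇ 𝒳)
    (T : Set (AlgSt.Points 𝒳)) (a : 𝒵.obj) : PtsIn T (g.obj a) ↔ PtsIn (AlgSt.Points.map g ⁻¹' T) a := by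
  refine ⟨fun h p φ => h (p.map g) (g.map φ), fun h p φ => ?_⟩
  obtain ⟨z, i, -⟩ := exists_overCat_obj h𝒵 a rfl
  have key : ∀ t, AlgSt.Points.ofChart (BasedFunctor.comp z g) t ∈ T := fun t => by
    rw [← map_ofChart]
    exact (ptsIn_chart_iff h𝒵 z (Over.mk (𝟙 _))).1 (ptsIn_of_hom i.hom h) t
  exact (ptsIn_chart_iff h𝒳 (BasedFunctor.comp z g) (Over.mk (𝟙 _))).2 (fun t => key t) p (φ ≫ g.map i.inv)

/-- Restricting along a smooth morphism the smooth locus pulls back. -/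
theorem smoothPts_comp (h𝒵 : AlgSt.IsAlgStack Scheme.fppfPrecoverage 𝒵)
    (h𝒳 : AlgSt.IsAlgStack Scheme.fppfPrecoverage 𝒳) (h𝒴 : AlgSt.IsAlgStack Scheme.fppfPrecoverage 𝒴)
    {g : 𝒵 ⥤ᵇ 𝒳} (hg : AlgSt.LocQ (LocP @Smooth) g) (f : 𝒳 ⥤ᵇ 𝒴) :
    smoothPts (BasedFunctor.comp g f) = AlgSt.Points.map g ⁻¹' smoothPts f := by
  obtain ⟨W, z, hz, hz'⟩ := id h𝒴.atlas
  obtain ⟨V, d, h₂, i₂, hd, -, hy, hy'⟩ := exists_square_atlas h𝒳 h𝒴 f hz hz'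
  let y := BasedFunctor.comp d (FibCat.fpFst f z)
  obtain ⟨U, c, h₁, i₁, hc, hc', hx, hx'⟩ := exists_square_atlas h𝒵 h𝒳 g hy hy'
  let x := BasedFunctor.comp c (FibCat.fpFst g y)
  let α : BasedFunctor.comp x g ≅ BasedFunctor.comp (AlgSt.overMap h₁) y :=
    whiskerLeftIso c (FibCat.fpIso g y) ≪≫ whiskerRightIso i₁ y
  let β : BasedFunctor.comp x (BasedFunctor.comp g f) ≅ BasedFunctor.comp (AlgSt.overMap (h₁ ≫ h₂)) z :=
    whiskerRightIso α f ≪≫ whiskerLeftIso (BasedFunctor.comp (AlgSt.overMap h₁) d) (FibCat.fpIso f z) ≪≫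
      whiskerRightIso (whiskerLeftIso (AlgSt.overMap h₁) i₂ ≪≫ overMapCompIso h₁ h₂) z
  have hpt : ∀ u, AlgSt.Points.map g (AlgSt.Points.ofChart x u) = AlgSt.Points.ofChart y (h₁.left u) := fun u => by
    rw [map_ofChart, ofChart_eq_map, pts_map_congr α, ← ofChart_eq_map, ofChart_overMap]
  have hh₁ : Smooth h₁.left :=
    locP_yon_map (((locQ_iff_locQS isSmoothLocalST_smooth h𝒵 h𝒳 g).1 hg).scheme c hy hc i₁)
  have hop : IsOpen (AlgSt.Points.map g ⁻¹' smoothPts f) :=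
    (isOpen_smoothPts f).preimage (continuous_pts_map h𝒳.isStack.1 h𝒳.atlas g)
  refine Set.Subset.antisymm ?_ (Set.subset_sUnion_of_mem ⟨hop,
    smoothOn_of_chart h𝒵 hop β hx hx' hz fun W₀ hW₀ => ?_⟩)
  · refine Set.sUnion_subset fun T ⟨hT, hTs⟩ t ht => ?_
    obtain ⟨_, _, _, _, _, γ, hg₁, hg₂, hg₃, hg₄⟩ := id hg
    have hflat : AlgSt.LocQ (LocP @Flat) g := ⟨_, _, _, _, _, γ, hg₁, hg₂, hg₃,
      locP_mono (fun _ _ k (_ : Smooth k) => inferInstanceAs (Flat k)) hg₄⟩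
    have hlfp : AlgSt.LocQ (LocP @LocallyOfFinitePresentation) g := ⟨_, _, _, _, _, γ, hg₁, hg₂, hg₃,
      locP_mono (fun _ _ k (_ : Smooth k) => inferInstanceAs (LocallyOfFinitePresentation k)) hg₄⟩
    have hT' : IsOpen (AlgSt.Points.map g '' T) := isOpenMor_of_locQ_flat_lfp h𝒵 h𝒳 hflat hlfp T hT
    refine Set.mem_sUnion_of_mem (Set.mem_image_of_mem _ ht) ⟨hT', smoothOn_of_chart h𝒳 hT'
      (whiskerLeftIso d (FibCat.fpIso f z) ≪≫ whiskerRightIso i₂ z) hy hy' hz fun W₀ hW₀ => ?_⟩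
    let U₀ : U.left.Opens := h₁.left ⁻¹ᵁ W₀ ⊓ ⟨AlgSt.Points.ofChart x ⁻¹' T,
      hT.preimage (continuous_ofChart h𝒵.isStack.1 h𝒵.atlas _)⟩
    have h₁₂ : Smooth (U₀.ι ≫ (h₁ ≫ h₂).left) := by
      obtain ⟨e₁, he₁, -, ⟨j₁⟩⟩ := isEquivOver_inv (pasteHor_isEquivOver g d (FibCat.fpFst f z))
      let q := FibCat.fpFst (FibCat.fpSnd g (FibCat.fpFst f z)) d
      have hfz := fp_isFibGrpd (F := f) (G := z) h𝒳.isStack.1 (isFibGrpd_overCat W) h𝒴.isStack.1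
      have hgq := fp_isFibGrpd (F := FibCat.fpSnd g (FibCat.fpFst f z)) (G := d)
        (fp_isFibGrpd h𝒵.isStack.1 hfz h𝒳.isStack.1) (isFibGrpd_overCat V) hfz
      let c' := BasedFunctor.comp (BasedFunctor.comp (BasedFunctor.comp c e₁) q) (pasteVert g f z)
      have hc₁ : AlgSt.RepByAlgSpWith (LocP @Smooth) c' :=
        repByAlgSpWith_postcomp (pasteVert_isEquivOver g f z)
          (repByAlgSpWith_locP_comp (isFibGrpd_overCat U) hgq (repByAlgSpWith_postcomp he₁ hc)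
            (repByAlgSpWith_fpFst _ hd))
      let i' : BasedFunctor.comp c' (FibCat.fpSnd (BasedFunctor.comp g f) z) ≅ AlgSt.overMap (h₁ ≫ h₂) :=
        whiskerRightIso (whiskerLeftIso (BasedFunctor.comp c e₁)
            (FibCat.fpIso (FibCat.fpSnd g (FibCat.fpFst f z)) d)) (FibCat.fpSnd f z) ≪≫
          whiskerRightIso (whiskerLeftIso c j₁)
            (BasedFunctor.comp (FibCat.fpSnd g (BasedFunctor.comp d (FibCat.fpFst f z)))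
              (BasedFunctor.comp d (FibCat.fpSnd f z))) ≪≫
          whiskerRightIso i₁ (BasedFunctor.comp d (FibCat.fpSnd f z)) ≪≫
          whiskerLeftIso (AlgSt.overMap h₁) i₂ ≪≫ overMapCompIso h₁ h₂
      let k' : BasedFunctor.comp c' (FibCat.fpFst (BasedFunctor.comp g f) z) ≅ x :=
        whiskerRightIso (whiskerLeftIso c j₁) (FibCat.fpFst g (BasedFunctor.comp d (FibCat.fpFst f z)))
      refine hTs.smooth h𝒵 h𝒴 hT i' hz hc₁ U₀ fun u hu => ?_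
      rw [ofChart_eq_map, pts_map_congr k', ← ofChart_eq_map]
      exact hu.2
    let s : U₀.toScheme ⟶ W₀.toScheme := h₁.left.resLE W₀ U₀ inf_le_left
    have hs : Surjective s := ⟨fun v => by
      obtain ⟨t', ht', hv⟩ := hW₀ v.1 v.2
      obtain ⟨w, hw₁, hw₂⟩ := exists_pts_fp (isFibGrpd_overCat V) h𝒳.isStack.1 h𝒵.isStack.1 y g t' (ptAt V v.1)
        (hv.trans (ofChart_eq_map _ _))
      obtain ⟨w', hw⟩ := isSurjective_of_repByAlgSpWith (isFibGrpd_overCat U)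
        (fp_isFibGrpd h𝒵.isStack.1 (isFibGrpd_overCat V) h𝒳.isStack.1) (isAlgStack_overCat U).atlas hc' w
      obtain ⟨u, rfl⟩ := ptAt_surjective U w'
      have hu₁ : h₁.left u = v.1 := by
        rw [← toSch_ptAt V v.1, ← hw₂, ← hw, ← pts_map_comp, pts_map_congr i₁, toSch_map_overMap, toSch_ptAt]
      have hu₂ : AlgSt.Points.ofChart x u ∈ T := by
        rw [ofChart_eq_map, pts_map_comp, hw, hw₁]
        exact ht'
      refine ⟨⟨u, ⟨show h₁.left u ∈ W₀ from hu₁ ▸ v.2, hu₂⟩⟩, Subtype.ext ?_⟩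
      show W₀.ι (s _) = v.1
      rw [← Scheme.Hom.comp_apply, Scheme.Hom.resLE_comp_ι, Scheme.Hom.comp_apply]
      exact hu₁⟩
    have : Smooth s := by
      dsimp only [s]
      infer_instance
    have : Smooth (s ≫ W₀.ι ≫ h₂.left) := by
      simp only [s, Scheme.Hom.resLE_comp_ι_assoc]
      exact h₁₂
    exact SrcDescent.smooth_of_fppf_comp s _
  · have h₀ := (smoothOn_smoothPts h𝒳 h𝒴 f).smooth h𝒳 h𝒴 (isOpen_smoothPts f) i₂ hz hd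
    let V₀ : V.left.Opens := ⟨AlgSt.Points.ofChart y ⁻¹' smoothPts f,
      (isOpen_smoothPts f).preimage (continuous_ofChart h𝒳.isStack.1 h𝒳.atlas _)⟩
    have := h₀ V₀ fun _ h => h
    have hle : W₀ ≤ h₁.left ⁻¹ᵁ V₀ := fun u hu =>
      show AlgSt.Points.ofChart y (h₁.left u) ∈ smoothPts f from hpt u ▸ hW₀ u hu
    rw [Over.comp_left, ← Scheme.Hom.resLE_comp_ι_assoc h₁.left hle]
    infer_instance

end Groth.Agent.AlgStLib
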