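import Groth.Agent.AlgStLib.Stack

/-!
# Descent along representable covers of the source and of the target
-/

set_option backward.isDefEq.respectTransparency false
set_option backward.isDefEq.respectTransparency.types false

universe u

open CategoryTheory CategoryTheory.Functor CategoryTheory.Limits AlgebraicGeometry Opposite AlgSp

namespace Groth.Agent.AlgStLib

open Groth.Agent.FibBase Groth.Agent.AlgSpLib

variable {S : Scheme.{u}} {𝒳 𝒴 𝒵 : AlgSt.Cat S} {P : MorphismProperty (Sp S)}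

/-- A property local on the source descends along a representable cover of the source. -/
theorem repByAlgSpWith_of_precomp_cover {τ : CovNotion S} (hPb : StableBC P) (hsrc : IsLocalOnSource τ P)
    (h𝒳 : FibCat.IsFibGrpd 𝒳.p) (h𝒴 : FibCat.IsFibGrpd 𝒴.p) {x : 𝒳 ⥤ᵇ 𝒴} {y : 𝒴 ⥤ᵇ 𝒵}
    (hy : AlgSt.RepByAlgSp1 y) (hx : AlgSt.RepByAlgSp1 x)
    (hτ : ∀ {V F : Sp S} (c : V ⟶ F), IsAlgSpace V → IsAlgSpace F →
      (∀ {Q : MorphismProperty (Sp S)}, StableBC Q → AlgSt.RepByAlgSpWith Q x → RepBySpWith Q c.hom) →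
      τ (fun _ : PUnit.{u+1} => V) (fun _ => c))
    (h : AlgSt.RepByAlgSpWith P (BasedFunctor.comp x y)) : AlgSt.RepByAlgSpWith P y := by
  intro U z
  obtain ⟨F, e, he⟩ := hy U z
  refine ⟨F, e, he, ?_⟩
  let K : AlgSt.ofSp F.obj ⥤ᵇ 𝒴 := BasedFunctor.comp e (FibCat.fpSnd z y)
  obtain ⟨V, c, e', he', ⟨i⟩⟩ := exists_space_of_overSpace F.property
    (fp_isFibGrpd (Stk.isFibGrpd_ofPsh _) h𝒳 h𝒴) (FibCat.fpFst K x) (repByAlgSp1_fpFst K hx)
  let k := fpMap (F := FibCat.fpSnd z y) (G := x) (F' := K) (G' := x) (a := e) (b := BasedFunctor.id _)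
    (c := BasedFunctor.id _) (Iso.refl _) (Iso.refl _)
  have hk : FibCat.IsEquivOver k := fpMap_isEquivOver _ _ he isEquivOver_id
  let E := BasedFunctor.comp e' (BasedFunctor.comp k (pasteHor z x y))
  have hP := ((show RepOver P (FibCat.fpFst z (BasedFunctor.comp x y)) from h U z).property_of_stableBC hPb E
    (isEquivOver_comp he' (isEquivOver_comp hk (pasteHor_isEquivOver z x y)))).2
  let j : BasedFunctor.comp E (FibCat.fpFst z (BasedFunctor.comp x y)) ≅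
      BasedFunctor.comp (AlgSt.ofSpMap c) (BasedFunctor.comp e (FibCat.fpFst z y)) :=
    whiskerRightIso i (BasedFunctor.comp e (FibCat.fpFst z y))
  rw [spMapOfOver_congr j, spMapOfOver_comp, spHom_ofSpMap] at hP
  refine (hsrc (fun _ : PUnit.{u+1} => V.obj) (fun _ => c) F.property (fun _ => V.property)
    (hτ c V.property F.property fun hQb hQ =>
      repBySpWith_of_repByAlgSpWith (FibCat.fpFst K x) e' hQb he' (repByAlgSpWith_fpFst K hQ) i)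
    _ (IsAlgSpace.yon_obj U)).2 fun _ => hP

theorem repByAlgSpWith_of_comp_fppf_surjective (hPb : StableBC P) (hsrc : IsLocalOnSource IsFppfCover P)
    (h𝒳 : FibCat.IsFibGrpd 𝒳.p) (h𝒴 : FibCat.IsFibGrpd 𝒴.p) {x : 𝒳 ⥤ᵇ 𝒴} {y : 𝒴 ⥤ᵇ 𝒵}
    (hy : AlgSt.RepByAlgSp1 y) (h₁ : AlgSt.RepByAlgSpWith (LocP @Flat) x)
    (h₂ : AlgSt.RepByAlgSpWith (LocP @LocallyOfFinitePresentation) x)
    (h₃ : AlgSt.RepByAlgSpWith IsSurjectiveMor x) (h : AlgSt.RepByAlgSpWith P (BasedFunctor.comp x y)) :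
    AlgSt.RepByAlgSpWith P y :=
  repByAlgSpWith_of_precomp_cover hPb hsrc h𝒳 h𝒴 hy (repByAlgSp1_of_repByAlgSpWith h₁)
    (fun c _ hF hc => ⟨fun _ => ⟨locP_of_repBySpWith hF c (hc stableBC_locP h₁),
        locP_of_repBySpWith hF c (hc stableBC_locP h₂)⟩,
      fun p => ⟨⟨⟩, isSurjectiveMor_of_repBySpWith hF c (hc stableBC_isSurjectiveMor h₃) p⟩⟩) h

theorem repByAlgSpWith_of_comp_smooth_surjective (hPb : StableBC P) (hsrc : IsLocalOnSource IsSmCover P)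
    (h𝒳 : FibCat.IsFibGrpd 𝒳.p) (h𝒴 : FibCat.IsFibGrpd 𝒴.p) {x : 𝒳 ⥤ᵇ 𝒴} {y : 𝒴 ⥤ᵇ 𝒵}
    (hy : AlgSt.RepByAlgSp1 y) (h₁ : AlgSt.RepByAlgSpWith (LocP @Smooth) x)
    (h₃ : AlgSt.RepByAlgSpWith IsSurjectiveMor x) (h : AlgSt.RepByAlgSpWith P (BasedFunctor.comp x y)) :
    AlgSt.RepByAlgSpWith P y :=
  repByAlgSpWith_of_precomp_cover hPb hsrc h𝒳 h𝒴 hy (repByAlgSp1_of_repByAlgSpWith h₁)
    (fun c _ hF hc => ⟨fun _ => locP_of_repBySpWith hF c (hc stableBC_locP h₁),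
      fun p => ⟨⟨⟩, isSurjectiveMor_of_repBySpWith hF c (hc stableBC_isSurjectiveMor h₃) p⟩⟩) h

theorem repByAlgSpWith_of_comp_etale_surjective (hPb : StableBC P) (hsrc : IsLocalOnSource IsEtCover P)
    (h𝒳 : FibCat.IsFibGrpd 𝒳.p) (h𝒴 : FibCat.IsFibGrpd 𝒴.p) {x : 𝒳 ⥤ᵇ 𝒴} {y : 𝒴 ⥤ᵇ 𝒵}
    (hy : AlgSt.RepByAlgSp1 y) (h₁ : AlgSt.RepByAlgSpWith IsEtaleMor x)
    (h₃ : AlgSt.RepByAlgSpWith IsSurjectiveMor x) (h : AlgSt.RepByAlgSpWith P (BasedFunctor.comp x y)) :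
    AlgSt.RepByAlgSpWith P y :=
  repByAlgSpWith_of_precomp_cover hPb hsrc h𝒳 h𝒴 hy (repByAlgSp1_of_repByAlgSpWith h₁)
    (fun c hV hF hc => ⟨fun _ => (isEtaleMor_iff_locP hV hF c).2
        (locP_of_repBySpWith hF c (hc stableBC_locP (repByAlgSpWith_locP_etale h₁))),
      fun p => ⟨⟨⟩, isSurjectiveMor_of_repBySpWith hF c (hc stableBC_isSurjectiveMor h₃) p⟩⟩) h

/-- A representable property is read on one fppf cover of the target by an algebraic space. -/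
theorem repByAlgSpWith_iff_exists_cover (hPb : StableBC P) (hloc : IsLocalOnBase IsFppfCover P)
    (h𝒳 : FibCat.IsFibGrpd 𝒳.p) (h𝒴 : FibCat.IsFibGrpd 𝒴.p) {f : 𝒳 ⥤ᵇ 𝒴} (hf : AlgSt.RepByAlgSp1 f)
    (W : AlgSp.Space S) (w : AlgSt.ofSp W.obj ⥤ᵇ 𝒴) (hw : LocEssSurj w) :
    AlgSt.RepByAlgSpWith P f ↔
      ∃ (V : AlgSp.Space S) (a : V ⟶ W) (e : AlgSt.ofSp V.obj ⥤ᵇ FibCat.fp w f),
        FibCat.IsEquivOver e ∧
          Nonempty (BasedFunctor.comp e (FibCat.fpFst w f) ≅ AlgSt.ofSpMap a.hom) ∧ P a.hom := by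
  refine ⟨fun h => exists_space_fp hPb hloc h𝒳 h𝒴 h W w, ?_⟩
  rintro ⟨V, a, e, he, ⟨i⟩, hP⟩
  exact repByAlgSpWith_of_locEssSurj hPb hloc hf hw
    ((repByAlgSpWith_iff_of_square (f := FibCat.fpFst w f) (f' := AlgSt.ofSpMap a.hom) (a := e)
      (b := BasedFunctor.id _) he isEquivOver_id i.symm).2
      (repByAlgSpWith_ofSpMap hPb V.property W.property a.hom hP))

end Groth.Agent.AlgStLib
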