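import Groth.Agent.AlgStLib.SpQuotCover
import Groth.Agent.AlgStLib.IsomSheaf

/-!
# The diagonal of a classifying stack with sheaf torsors
-/

set_option backward.isDefEq.respectTransparency false
set_option backward.isDefEq.respectTransparency.types false

universe u

open CategoryTheory CategoryTheory.Functor CategoryTheory.Limits MonoidalCategory CartesianMonoidalCategory MonObj
open Opposite AlgebraicGeometry AlgSp Groth.Agent.AlgSpLib Groth.Agent.FibBase Groth.Agent.AlgSpDec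

namespace Groth.Agent.AlgStLib.SpQuot

variable {S : Scheme.{u}} {B : Sp S} {G : Over B} [GrpObj G]

local notation "K₀" => Scheme.fppfPrecoverage

/-- A map of sheaves bijective on points is invertible. -/
theorem isIso_of_bijective_points {P Q : Sp S} (φ : P ⟶ Q)
    (h : ∀ W (q : (yon S).obj W ⟶ Q), ∃! p : (yon S).obj W ⟶ P, p ≫ φ = q) : IsIso φ := by
  choose r hr hru using fun W q => h W q
  have hn : ∀ ⦃V W : Over S⦄ (k : V ⟶ W) (x : (yon S).obj W ⟶ Q), r V ((yon S).map k ≫ x) = (yon S).map k ≫ r W x :=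
    fun V W k x => (hru V _ _ (show ((yon S).map k ≫ r W x) ≫ φ = _ by rw [Category.assoc, hr W x])).symm
  refine ⟨SheafGlue.homOfPoints r hn, SheafGlue.hom_ext_points fun W p => ?_, SheafGlue.hom_ext_points fun W q => ?_⟩
  · rw [← Category.assoc, SheafGlue.comp_homOfPoints, Category.comp_id]
    exact (hru W (p ≫ φ) p rfl).symm
  · rw [← Category.assoc, SheafGlue.comp_homOfPoints, Category.comp_id]
    exact hr W q

/-- The prestack condition for the classifying stack. -/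
theorem isPrestack_spBG : Stk.IsPrestack (J S) (AlgSt.SpBG K₀ G) :=
  Groth.Agent.StkLib.isPrestack_of_isStack isStack

variable {U : Over S} (y₁ y₂ : FibCat.overCat U ⥤ᵇ AlgSt.SpBG K₀ G)

local notation "I₁₂" => IsomSheaf.isom y₁ y₂ isPrestack_spBG
local notation "πI" => IsomSheaf.isomπ y₁ y₂ isPrestack_spBG

section Trivialised

variable {V : Over S} (v : V ⟶ U) (s₁ : (yon S).obj V ⟶ (tors y₁).P.left)

/-- A translate of the section as a point of the first torsor. -/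
noncomputable abbrev secPt {W : Over S} (g : W ⟶ V) : (AlgSt.ofSp (tors y₁).P.left).obj :=
  ⟨W, (J S).uliftYonedaEquiv ((yon S).map g ≫ s₁)⟩

theorem ptMap_secPt {W : Over S} (g : W ⟶ V) : ptMap y₁ (secPt y₁ s₁ g) = (yon S).map g ≫ s₁ :=
  Equiv.symm_apply_apply _ _

variable (hs₁ : s₁ ≫ torsπ y₁ = (yon S).map v)

include hs₁ in
theorem ptBase_secPt {W : Over S} (g : W ⟶ V) : ptBase y₁ (secPt y₁ s₁ g) = g ≫ v :=
  (yon S).map_injective (by rw [ptBase, Functor.map_preimage, ptMap_secPt, Category.assoc, hs₁, Functor.map_comp])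

/-- The morphism out of the trivial torsor attached to an isomorphism. -/
noncomputable def toHom₂ {W : Over S} (g : W ⟶ V) (x : IsomSheaf.Pt y₁ y₂ W) (hx : x.t = g ≫ v) :
    Q (ptX y₁ (secPt y₁ s₁ g)) ⟶ tors y₂ :=
  (exists_ptIso y₁ (secPt y₁ s₁ g)).choose.inv ≫
    y₁.map (Over.homMk (𝟙 W) ((Category.id_comp _).trans (hx.trans (ptBase_secPt y₁ v s₁ hs₁ g).symm)) :
      (Over.mk (ptBase y₁ (secPt y₁ s₁ g)) : Over U) ⟶ Over.mk x.t) ≫ x.m ≫ y₂.map (toId (Over.mk x.t))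

theorem toHom₂_lift {W : Over S} (g : W ⟶ V) (x : IsomSheaf.Pt y₁ y₂ W) (hx : x.t = g ≫ v) :
    (AlgSt.SpBG K₀ G).p.IsHomLift (g ≫ v) (toHom₂ y₁ y₂ v s₁ hs₁ g x hx) := by
  rw [← hx]
  have := (exists_ptIso y₁ (secPt y₁ s₁ g)).choose_spec.1
  have := IsHomLift.lift_id_inv (AlgSt.SpBG K₀ G).p W (exists_ptIso y₁ (secPt y₁ s₁ g)).choose
  have := x.lift
  let c : (Over.mk (ptBase y₁ (secPt y₁ s₁ g)) : Over U) ⟶ Over.mk x.t :=
    Over.homMk (𝟙 W) ((Category.id_comp _).trans (hx.trans (ptBase_secPt y₁ v s₁ hs₁ g).symm))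
  have : (AlgSt.SpBG K₀ G).p.IsHomLift (𝟙 W) (y₁.map c) := overMap_isHomLift y₁ c
  have : (AlgSt.SpBG K₀ G).p.IsHomLift x.t (y₂.map (toId (Over.mk x.t))) := overMap_isHomLift y₂ (toId (Over.mk x.t))
  show (AlgSt.SpBG K₀ G).p.IsHomLift x.t ((exists_ptIso y₁ (secPt y₁ s₁ g)).choose.inv ≫ y₁.map c ≫ x.m ≫
    y₂.map (toId (Over.mk x.t)))
  have h1 : (AlgSt.SpBG K₀ G).p.IsHomLift x.t (x.m ≫ y₂.map (toId (Over.mk x.t))) :=
    IsHomLift.comp_lift_id_left' _ W x.m x.t _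
  have h2 : (AlgSt.SpBG K₀ G).p.IsHomLift x.t (y₁.map c ≫ x.m ≫ y₂.map (toId (Over.mk x.t))) :=
    IsHomLift.comp_lift_id_left' _ W (y₁.map c) x.t _
  exact IsHomLift.comp_lift_id_left' _ W _ x.t _

/-- The point of the second torsor attached to an isomorphism. -/
noncomputable def toPt₂ {W : Over S} (g : W ⟶ V) (x : IsomSheaf.Pt y₁ y₂ W) (hx : x.t = g ≫ v) :
    (yon S).obj W ⟶ (tors y₂).P.left :=
  (secOfHom (toHom₂ y₁ y₂ v s₁ hs₁ g x hx)).left

theorem toPt₂_π {W : Over S} (g : W ⟶ V) (x : IsomSheaf.Pt y₁ y₂ W) (hx : x.t = g ≫ v) :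
    toPt₂ y₁ y₂ v s₁ hs₁ g x hx ≫ torsπ y₂ = (yon S).map (g ≫ v) := by
  rw [torsπ, ← Category.assoc]
  refine (congrArg (· ≫ _) (congrArg CommaMorphism.left (secOfHom_π (toHom₂ y₁ y₂ v s₁ hs₁ g x hx)))).trans ?_
  show (yon S).map (toHom₂ y₁ y₂ v s₁ hs₁ g x hx).base ≫ _ = _
  have := toHom₂_lift y₁ y₂ v s₁ hs₁ g x hx
  have e := IsHomLift.fac' (AlgSt.SpBG K₀ G).p (g ≫ v) (toHom₂ y₁ y₂ v s₁ hs₁ g x hx)
  rw [← Functor.map_comp, show (toHom₂ y₁ y₂ v s₁ hs₁ g x hx).base = _ from e]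
  simp

theorem toPt₂_nat {W W' : Over S} (k : W' ⟶ W) (g : W ⟶ V) (x : IsomSheaf.Pt y₁ y₂ W) (hx : x.t = g ≫ v)
    (x' : IsomSheaf.Pt y₁ y₂ W') (hx' : x'.t = (k ≫ g) ≫ v) (hr : IsomSheaf.IsRes k x' x) :
    toPt₂ y₁ y₂ v s₁ hs₁ (k ≫ g) x' hx' = (yon S).map k ≫ toPt₂ y₁ y₂ v s₁ hs₁ g x hx := by
  let p : (AlgSt.ofSp (tors y₁).P.left).obj := secPt y₁ s₁ g
  let p' : (AlgSt.ofSp (tors y₁).P.left).obj := secPt y₁ s₁ (k ≫ g)
  let f : p' ⟶ p := ⟨k, by
    show (tors y₁).P.left.obj.map k.op ((J S).uliftYonedaEquiv ((yon S).map g ≫ s₁)) = _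
    rw [uliftYonedaEquiv_precomp, ← Functor.map_comp_assoc]⟩
  let κ := (AlgSt.spQuotMap K₀ G (AlgSt.trivGAction G)).map ((AlgSt.ofSpMap (tors y₁).φ.left).map f)
  have key : κ ≫ toHom₂ y₁ y₂ v s₁ hs₁ g x hx = toHom₂ y₁ y₂ v s₁ hs₁ (k ≫ g) x' hx' := by
    have hw : y₁.map (Over.homMk k (ptBase_comp y₁ f) :
          (Over.mk (ptBase y₁ p') : Over U) ⟶ Over.mk (ptBase y₁ p)) ≫ (exists_ptIso y₁ p).choose.hom =
        (exists_ptIso y₁ p').choose.hom ≫ κ := (ptObjMap y₁ f).hom.w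
    let c : (Over.mk x'.t : Over U) ⟶ Over.mk x.t := Over.homMk k hr.1.symm
    have e := hr.2 c rfl
    rw [toHom₂, toHom₂, ← (exists_ptIso y₁ p').choose.inv_hom_id_assoc κ, ← hw]
    simp only [Category.assoc, Iso.hom_inv_id_assoc]
    refine congrArg (_ ≫ ·) ?_
    rw [← IsomSheaf.map_toId_eq c, y₂.toFunctor.map_comp, ← Category.assoc x'.m, e, Category.assoc]
    simp only [← Category.assoc, ← y₁.toFunctor.map_comp]
    refine congrArg (fun m => (y₁.map m ≫ x.m) ≫ y₂.map (toId (Over.mk x.t))) (Over.OverMorphism.ext ?_)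
    show k ≫ 𝟙 W = 𝟙 W' ≫ k
    simp
  show (secOfHom (toHom₂ y₁ y₂ v s₁ hs₁ (k ≫ g) x' hx')).left = _
  rw [← key, secOfHom_comp]
  rfl

variable (hB1 : ∀ (Z : Sp S) (f g : Z ⟶ B), f = g)

include hB1 in
theorem existsUnique_toPt₂ {W : Over S} (g : W ⟶ V) (q : (yon S).obj W ⟶ (tors y₂).P.left)
    (hq : q ≫ torsπ y₂ = (yon S).map (g ≫ v)) :
    ∃ x : IsomSheaf.Pt y₁ y₂ W, ∃ hx : x.t = g ≫ v, toPt₂ y₁ y₂ v s₁ hs₁ g x hx = q ∧
      ∀ (x' : IsomSheaf.Pt y₁ y₂ W) (hx' : x'.t = g ≫ v), toPt₂ y₁ y₂ v s₁ hs₁ g x' hx' = q → x' = x := by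
  let p : (AlgSt.ofSp (tors y₁).P.left).obj := secPt y₁ s₁ g
  let σ : src (ptX y₁ p) ⟶ (tors y₂).P := Over.homMk q (hB1 _ _ _)
  let n : Q (ptX y₁ p) ⟶ tors y₂ :=
    homOfSec ((g ≫ v) ≫ eqToHom (y₂.w_obj (Over.mk (𝟙 U))).symm) σ (by
      show q ≫ (tors y₂).π.left = _
      rw [← cancel_mono ((yon S).map (eqToHom (y₂.w_obj (Over.mk (𝟙 U))))), Category.assoc]
      refine hq.trans ?_
      rw [← Functor.map_comp, Category.assoc, eqToHom_trans, eqToHom_refl]
      exact congrArg (yon S).map (Category.comp_id _).symm) (toUnit_unique _ _)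
  have hn : (AlgSt.SpBG K₀ G).p.IsHomLift (g ≫ v) n :=
    IsHomLift.of_fac' _ _ n rfl (y₂.w_obj _) (Category.id_comp _).symm
  let t : W ⟶ U := g ≫ v
  let c : (Over.mk t : Over U) ⟶ Over.mk (ptBase y₁ p) :=
    Over.homMk (𝟙 W) ((Category.id_comp _).trans (ptBase_secPt y₁ v s₁ hs₁ g))
  have hlift2 : (AlgSt.SpBG K₀ G).p.IsHomLift t (y₂.map (toId (Over.mk t))) := overMap_isHomLift y₂ (toId (Over.mk t))
  have hspec := (exists_ptIso y₁ p).choose_spec.1
  have hc : (AlgSt.SpBG K₀ G).p.IsHomLift (𝟙 W) (y₁.map c) := overMap_isHomLift y₁ c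
  have h1 : (AlgSt.SpBG K₀ G).p.IsHomLift t ((exists_ptIso y₁ p).choose.hom ≫ n) :=
    IsHomLift.comp_lift_id_left' _ W _ t n
  have h2 : (AlgSt.SpBG K₀ G).p.IsHomLift t (y₁.map c ≫ (exists_ptIso y₁ p).choose.hom ≫ n) :=
    IsHomLift.comp_lift_id_left' _ W _ t _
  have := isSC (hp := isFibGrpd) t (y₂.map (toId (Over.mk t)))
  let m := IsStronglyCartesian.map (AlgSt.SpBG K₀ G).p t (y₂.map (toId (Over.mk t))) (Category.id_comp t).symm
    (y₁.map c ≫ (exists_ptIso y₁ p).choose.hom ≫ n)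
  have hm : m ≫ y₂.map (toId (Over.mk t)) = y₁.map c ≫ (exists_ptIso y₁ p).choose.hom ≫ n :=
    IsStronglyCartesian.fac _ _ _ _ _
  let x : IsomSheaf.Pt y₁ y₂ W := ⟨t, m, inferInstance⟩
  have hcc : ∀ d : (Over.mk (ptBase y₁ p) : Over U) ⟶ Over.mk t, d.left = 𝟙 W → y₁.map d ≫ y₁.map c = 𝟙 _ := fun d hd => by
    rw [← y₁.toFunctor.map_comp, ← y₁.toFunctor.map_id]
    exact congrArg y₁.map (Over.OverMorphism.ext ((congrArg (· ≫ 𝟙 W) hd).trans (Category.id_comp _)))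
  have hx0 : toHom₂ y₁ y₂ v s₁ hs₁ g x rfl = n := by
    show (exists_ptIso y₁ p).choose.inv ≫ y₁.map _ ≫ m ≫ y₂.map (toId (Over.mk t)) = n
    refine (congrArg (fun r => _ ≫ _ ≫ r) hm).trans ?_
    refine (congrArg (_ ≫ ·) ((Category.assoc _ _ _).symm.trans ((congrArg (· ≫ _) (hcc _ rfl)).trans
      (Category.id_comp _)))).trans (Iso.inv_hom_id_assoc _ _)
  refine ⟨x, rfl, ?_, fun x' hx' hq' => ?_⟩
  · show (secOfHom (toHom₂ y₁ y₂ v s₁ hs₁ g x rfl)).left = q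
    rw [hx0, secOfHom_homOfSec]
    rfl
  · obtain ⟨t', m', hm'⟩ := x'
    obtain rfl : t' = t := hx'
    have e : toHom₂ y₁ y₂ v s₁ hs₁ g ⟨t, m', hm'⟩ rfl = toHom₂ y₁ y₂ v s₁ hs₁ g x rfl := by
      rw [hx0]
      refine hom_ext_sec ?_ (Over.OverMorphism.ext ?_)
      · have := toHom₂_lift y₁ y₂ v s₁ hs₁ g ⟨t, m', hm'⟩ rfl
        exact (IsHomLift.fac' (AlgSt.SpBG K₀ G).p (g ≫ v) (toHom₂ y₁ y₂ v s₁ hs₁ g ⟨t, m', hm'⟩ rfl)).trans
          (IsHomLift.fac' (AlgSt.SpBG K₀ G).p (g ≫ v) n).symm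
      · rw [secOfHom_homOfSec]
        exact hq'
    let d : (Over.mk (ptBase y₁ p) : Over U) ⟶ Over.mk t :=
      Over.homMk (𝟙 W) ((Category.id_comp _).trans (ptBase_secPt y₁ v s₁ hs₁ g).symm)
    have e' : y₁.map d ≫ m' ≫ y₂.map (toId (Over.mk t)) = y₁.map d ≫ m ≫ y₂.map (toId (Over.mk t)) := by
      have := congrArg ((exists_ptIso y₁ p).choose.hom ≫ ·) e
      simpa [toHom₂] using this
    have hdc : y₁.map c ≫ y₁.map d = 𝟙 _ := by
      rw [← y₁.toFunctor.map_comp, ← y₁.toFunctor.map_id]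
      exact congrArg y₁.map (Over.OverMorphism.ext (Category.id_comp _))
    have e'' := congrArg (y₁.map c ≫ ·) e'
    simp only [reassoc_of% hdc] at e''
    have : (AlgSt.SpBG K₀ G).p.IsHomLift (𝟙 W) m' := hm'
    have : (AlgSt.SpBG K₀ G).p.IsHomLift (𝟙 W) m := x.lift
    obtain rfl : m' = m := IsStronglyCartesian.ext (AlgSt.SpBG K₀ G).p t (y₂.map (toId (Over.mk t))) (𝟙 W) e''
    rfl

include hs₁ hB1 in
/-- After trivialising the first torsor, the sheaf of isomorphisms is the second torsor. -/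
theorem exists_isom_iso :
    ∃ e : pullback πI ((yon S).map v) ≅ pullback (torsπ y₂) ((yon S).map v),
      e.hom ≫ pullback.snd _ _ = pullback.snd _ _ := by
  let gOf : ∀ (W : Over S), ((yon S).obj W ⟶ pullback πI ((yon S).map v)) → (W ⟶ V) := fun W p =>
    (yon S).preimage (p ≫ pullback.snd _ _)
  let xOf : ∀ (W : Over S), ((yon S).obj W ⟶ pullback πI ((yon S).map v)) → IsomSheaf.Pt y₁ y₂ W := fun W p =>
    (J S).uliftYonedaEquiv (p ≫ pullback.fst _ _)
  have hπ : ∀ (W : Over S) (z : (yon S).obj W ⟶ I₁₂), z ≫ πI =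
      (yon S).map ((J S).uliftYonedaEquiv z : IsomSheaf.Pt y₁ y₂ W).t := fun W z => by
    apply (J S).uliftYonedaEquiv.injective
    rw [GrothendieckTopology.uliftYonedaEquiv_comp, GrothendieckTopology.uliftYonedaEquiv_uliftYoneda_map]
    rfl
  have hx : ∀ W p, (xOf W p).t = gOf W p ≫ v := fun W p => (yon S).map_injective (by
    rw [← hπ, Functor.map_comp, Functor.map_preimage, Category.assoc, Category.assoc, pullback.condition])
  let Φ : ∀ W, ((yon S).obj W ⟶ pullback πI ((yon S).map v)) → ((yon S).obj W ⟶ pullback (torsπ y₂) ((yon S).map v)) :=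
    fun W p => pullback.lift (toPt₂ y₁ y₂ v s₁ hs₁ (gOf W p) (xOf W p) (hx W p)) (p ≫ pullback.snd _ _) (by
      rw [toPt₂_π, Functor.map_comp, Functor.map_preimage, Category.assoc])
  have hcongr : ∀ {W : Over S} {g g' : W ⟶ V} (e : g = g') (x : IsomSheaf.Pt y₁ y₂ W) (h : x.t = g ≫ v) (h' : x.t = g' ≫ v),
      toPt₂ y₁ y₂ v s₁ hs₁ g x h = toPt₂ y₁ y₂ v s₁ hs₁ g' x h' := by
    rintro W g _ rfl x h h'; rfl
  let cmp := SheafGlue.homOfPoints Φ fun W' W k p => by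
    refine pullback.hom_ext ?_ (by simp [Φ])
    simp only [Φ, Category.assoc, pullback.lift_fst]
    have hg : gOf W' ((yon S).map k ≫ p) = k ≫ gOf W p := (yon S).map_injective (by simp [gOf])
    have hr : IsomSheaf.IsRes k (xOf W' ((yon S).map k ≫ p)) (xOf W p) := by
      have e : IsomSheaf.res isPrestack_spBG.1 k (xOf W p) = xOf W' ((yon S).map k ≫ p) := by
        show (IsomSheaf.isom y₁ y₂ isPrestack_spBG).obj.map k.op ((J S).uliftYonedaEquiv _) = (J S).uliftYonedaEquiv _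
        rw [uliftYonedaEquiv_precomp, Category.assoc]
      rw [← e]; exact IsomSheaf.isRes_res _ _ _
    rw [hcongr hg _ _ (hg ▸ hx W' _), toPt₂_nat y₁ y₂ v s₁ hs₁ k (gOf W p) (xOf W p) (hx W p) _ _ hr]
  have hcmp : ∀ W p, p ≫ cmp = Φ W p := fun W p => SheafGlue.comp_homOfPoints Φ _ p
  have : IsIso cmp := isIso_of_bijective_points cmp fun W r => by
    obtain ⟨g, hg⟩ := (yon S).map_surjective (r ≫ pullback.snd _ _)
    have hq : (r ≫ pullback.fst _ _) ≫ torsπ y₂ = (yon S).map (g ≫ v) := by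
      rw [Category.assoc, pullback.condition, ← Category.assoc, ← hg, Functor.map_comp]
    obtain ⟨x, hxt, hxq, hxu⟩ := existsUnique_toPt₂ y₁ y₂ v s₁ hs₁ hB1 g (r ≫ pullback.fst _ _) hq
    let p : (yon S).obj W ⟶ pullback πI ((yon S).map v) :=
      pullback.lift ((J S).uliftYonedaEquiv.symm x) ((yon S).map g) (by
        rw [hπ, Equiv.apply_symm_apply, ← Functor.map_comp, hxt])
    have hgp : gOf W p = g := (yon S).map_injective (by simp [gOf, p])
    have hxp : xOf W p = x := by simp [xOf, p]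
    refine ⟨p, ?_, fun p' hp' => ?_⟩
    · show p ≫ cmp = r
      rw [hcmp]
      refine pullback.hom_ext ?_ (by simp [Φ, p, hg])
      rw [pullback.lift_fst, ← hxq, hcongr hgp _ _ (hgp ▸ hx W p)]
      congr 1
    · change p' ≫ cmp = r at hp'
      rw [hcmp] at hp'
      have hg' : gOf W p' = g := (yon S).map_injective (by
        rw [Functor.map_preimage, hg, ← hp', pullback.lift_snd])
      refine pullback.hom_ext ?_ (by rw [pullback.lift_snd, hg, ← hp', pullback.lift_snd])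
      rw [pullback.lift_fst]
      apply (J S).uliftYonedaEquiv.injective
      rw [Equiv.apply_symm_apply]
      refine hxu (xOf W p') ((hx W p').trans (congrArg (· ≫ v) hg')) ?_
      rw [← hcongr hg' _ (hx W p') _, ← hp', pullback.lift_fst]
  exact ⟨asIso cmp, SheafGlue.hom_ext_points fun W p => by
    rw [← Category.assoc, asIso_hom, hcmp, pullback.lift_snd]⟩

end Trivialised

variable {y₁}

/-- A torsor over `U` has sections over an fppf covering of `U`. -/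
theorem exists_cover (hπ : AlgSt.HasSecLoc K₀ (tors y₁).π.left) :
    ∃ (I : Type u) (V : I → Over S) (v : ∀ i, V i ⟶ U) (s : ∀ i, (yon S).obj (V i) ⟶ (tors y₁).P.left),
      (∀ i, s i ≫ torsπ y₁ = (yon S).map (v i)) ∧
      IsFppfCover (fun i => (yon S).obj (V i)) (fun i => (yon S).map (v i)) := by
  obtain ⟨R, hR, hs⟩ := hπ
  obtain ⟨I, Z, g, rfl⟩ := Presieve.exists_eq_ofArrows R
  rw [mem_fppfPrecoverage_iff] at hR
  let e := y₁.w_obj (Over.mk (𝟙 U))
  choose idx hidx using hR.1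
  choose s hs using fun t => hs (g (idx t)) ⟨idx t⟩
  have : Function.Surjective (eqToHom e).left := fun x => ⟨(eqToHom e.symm).left x, by
    rw [← Scheme.Hom.comp_apply, ← Over.comp_left, eqToHom_trans, eqToHom_refl]; rfl⟩
  choose pre hpre using this
  refine ⟨_, fun x => Over.mk (g (idx (pre x)) ≫ (tors y₁).base.hom), fun x => Over.homMk (g (idx (pre x))) ≫ eqToHom e,
    fun x => s (pre x), fun x => ?_, isFppfCover_yon_map _ _ (fun x => ?_) (fun x => ?_) fun x => ?_⟩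
  · rw [torsπ, reassoc_of% (hs (pre x)), ← Functor.map_comp]
  · obtain ⟨_, _⟩ := hR.2 (idx (pre x))
    show Flat (g (idx (pre x)) ≫ (eqToHom e).left)
    infer_instance
  · obtain ⟨_, _⟩ := hR.2 (idx (pre x))
    show LocallyOfFinitePresentation (g (idx (pre x)) ≫ (eqToHom e).left)
    infer_instance
  · obtain ⟨z, hz⟩ := hidx (pre x)
    exact ⟨x, z, (congrArg (eqToHom e).left hz).trans (hpre x)⟩

variable (y₁)

/-- The sheaf of isomorphisms of torsors is an algebraic space with the properties of the group. -/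
theorem isom_props (hB : IsAlgSpace B) (hG : IsAlgSpace G.left) (hB1 : ∀ (Z : Sp S) (f g : Z ⟶ B), f = g)
    {P : MorphismProperty (Sp S)} (hPb : StableBC P) (hloc : IsLocalOnBase IsFppfCover P) (hP : P G.hom) :
    IsAlgSpace I₁₂ ∧ P πI := by
  obtain ⟨I, V, v, s, hs, hcov⟩ := exists_cover (y₁ := y₁) (tors y₁).loc
  have hT := isAlgSpace_torsor hB hG (tors y₂)
  have hU := IsAlgSpace.yon_obj U
  have hV : ∀ i, IsAlgSpace ((yon S).obj (V i)) := fun i => IsAlgSpace.yon_obj (V i)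
  have hQ : ∀ i, IsAlgSpace (pullback (torsπ y₂) ((yon S).map (v i))) := fun i =>
    isAlgSpace_pullback hT (hV i) hU _ _
  choose e he using fun i => exists_isom_iso y₁ y₂ (v i) (s i) (hs i) hB1
  have hI : ∀ i, IsAlgSpace (pullback πI ((yon S).map (v i))) := fun i => (hQ i).of_iso (e i).symm
  have hIs : IsAlgSpace I₁₂ := isAlgSpace_of_fppf_local hU hV _ hcov πI hI
  refine ⟨hIs, (hloc _ _ hU hV hcov πI hIs _ (fun i => pullback.snd _ _) (fun i => pullback.fst _ _) hI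
    (fun i => IsPullback.of_hasPullback _ _)).2 fun i => ?_⟩
  have hπ₂ : P (torsπ y₂) := hPb hT (IsAlgSpace.yon_obj _) hT hU _
    ((yon S).map (eqToHom (y₂.w_obj (Over.mk (𝟙 U))).symm)) _ (𝟙 _)
    (IsPullback.of_horiz_isIso ⟨by
      rw [torsπ, Category.id_comp, Category.assoc, ← Functor.map_comp, eqToHom_trans, eqToHom_refl]
      exact (Category.comp_id _).symm.trans (congrArg (_ ≫ ·) ((yon S).map_id _).symm)⟩)
    (property_torsπ hB hG hPb hloc hP (tors y₂))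
  exact hPb hT hU (hI i) (hV i) (torsπ y₂) ((yon S).map (v i)) _ ((e i).hom ≫ pullback.fst _ _)
    ((IsPullback.of_hasPullback (torsπ y₂) ((yon S).map (v i))).of_iso (e i).symm (Iso.refl _) (Iso.refl _) (Iso.refl _)
      (by simp) (by simp [← he i]) (by simp) (by simp)) hπ₂

/-- The diagonal of a classifying stack has the properties of the group. -/
theorem repByAlgSpWith_diag_spBG (hB : IsAlgSpace B) (hG : IsAlgSpace G.left) (hB1 : ∀ (Z : Sp S) (f g : Z ⟶ B), f = g)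
    {P : MorphismProperty (Sp S)} (hPb : StableBC P) (hloc : IsLocalOnBase IsFppfCover P) (hP : P G.hom) :
    AlgSt.RepByAlgSpWith P (FibCat.diag (FibCat.toSelf (AlgSt.SpBG K₀ G))) := fun U y =>
  have h := isom_props (IsomSheaf.fstC y) (IsomSheaf.sndC y) hB hG hB1 hPb hloc hP
  ⟨⟨_, h.1⟩, IsomSheaf.isomFun isPrestack_spBG y, IsomSheaf.isomFun_isEquivOver isPrestack_spBG y, by
    rw [IsomSheaf.spMapOfOver_isomFun]
    exact h.2⟩

end Groth.Agent.AlgStLib.SpQuot
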