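import Groth.Prelude.Def_AlgSt6
import Groth.Agent.AlgStLib.StackCrit
import Groth.Agent.AlgStLib.SheafGlue
import Groth.Agent.AlgStLib.FppfSite

/-!
# Quotient stacks with sheaf torsors are stacks
-/

set_option backward.isDefEq.respectTransparency false
set_option backward.isDefEq.respectTransparency.types false

universe u

open CategoryTheory CategoryTheory.Functor CategoryTheory.Limits MonoidalCategory CartesianMonoidalCategory MonObj
open Opposite AlgebraicGeometry AlgSp Groth.Agent.AlgSpLib Groth.Agent.FibBase Groth.Agent.StkLib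

namespace Groth.Agent.AlgStLib.SpQuot

open SheafGlue

variable {S : Scheme.{u}} {B : Sp S} {G : Over B} [GrpObj G] {X : Over B} {aX : GAction G X}

local notation "K₀" => Scheme.fppfPrecoverage

theorem mem_fppfPrecoverage_iff {I₀ : Type (u + 1)} {T : Scheme.{u}} {Z : I₀ → Scheme.{u}} {f : ∀ i, Z i ⟶ T} :
    Presieve.ofArrows Z f ∈ K₀ T ↔
      (∀ x, ∃ i, x ∈ Set.range (f i)) ∧ ∀ i, Flat (f i) ∧ LocallyOfFinitePresentation (f i) :=
  Scheme.ofArrows_mem_precoverage_iff (P := @Flat ⊓ @LocallyOfFinitePresentation)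

omit [GrpObj G] in
/-- Local sections pull back. -/
theorem hasSecLoc_bc {T T' : Over S} {P P' : Sp S} {π : P ⟶ (yon S).obj T} {π' : P' ⟶ (yon S).obj T'}
    {q : P' ⟶ P} {f : T' ⟶ T} (sq : IsPullback q π' π ((yon S).map f)) (h : AlgSt.HasSecLoc K₀ π) :
    AlgSt.HasSecLoc K₀ π' := by
  obtain ⟨R, hR, hs⟩ := h
  obtain ⟨I₀, Z, g, rfl⟩ := Presieve.exists_eq_ofArrows R
  rw [mem_fppfPrecoverage_iff] at hR
  refine ⟨Presieve.ofArrows (fun i => pullback f.left (g i)) (fun i => pullback.fst f.left (g i)),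
    mem_fppfPrecoverage_iff.2 ⟨fun x => ?_, fun i => ?_⟩, ?_⟩
  · obtain ⟨i, y, hy⟩ := hR.1 (f.left x)
    obtain ⟨w, hw, -⟩ := Scheme.Pullback.exists_preimage_pullback x y hy.symm
    exact ⟨i, w, hw⟩
  · obtain ⟨_, _⟩ := hR.2 i
    exact ⟨inferInstance, inferInstance⟩
  · rintro _ _ ⟨i⟩
    obtain ⟨s, hs'⟩ := hs (g i) ⟨i⟩
    let k : Over.mk (pullback.fst f.left (g i) ≫ T'.hom) ⟶ Over.mk (g i ≫ T.hom) :=
      Over.homMk (pullback.snd _ _) (by
        show pullback.snd f.left (g i) ≫ g i ≫ T.hom = _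
        rw [← pullback.condition_assoc, Over.w f]; rfl)
    refine ⟨sq.lift ((yon S).map k ≫ s) ((yon S).map (Over.homMk (pullback.fst f.left (g i)))) ?_, sq.lift_snd _ _ _⟩
    rw [Category.assoc, hs', ← Functor.map_comp, ← Functor.map_comp]
    exact congrArg (yon S).map (Over.OverMorphism.ext pullback.condition.symm)

omit [GrpObj G] in
/-- Local sections glue along an fppf covering. -/
theorem hasSecLoc_of_cover {T : Over S} {P : Sp S} {π : P ⟶ (yon S).obj T} {I₀ : Type u} (V : I₀ → Over S)
    (v : ∀ i, V i ⟶ T) (hv : ∀ i, Flat (v i).left) (hv' : ∀ i, LocallyOfFinitePresentation (v i).left)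
    (hvs : ∀ x : T.left, ∃ i, x ∈ Set.range (v i).left) {Q : I₀ → Sp S} (q : ∀ i, Q i ⟶ P)
    (πQ : ∀ i, Q i ⟶ (yon S).obj (V i)) (hq : ∀ i, q i ≫ π = πQ i ≫ (yon S).map (v i))
    (h : ∀ i, AlgSt.HasSecLoc K₀ (πQ i)) : AlgSt.HasSecLoc K₀ π := by
  choose R hR hs using h
  have hex : ∀ i, ∃ (κ : Type (u + 1)) (Z : κ → Scheme.{u}) (g : ∀ j, Z j ⟶ (V i).left),
      R i = Presieve.ofArrows Z g := fun i => Presieve.exists_eq_ofArrows (R i)
  choose κ Z g hg using hex
  refine ⟨Presieve.ofArrows (fun p : (Σ i : I₀, κ i) => Z p.1 p.2) (fun p => g p.1 p.2 ≫ (v p.1).left),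
    mem_fppfPrecoverage_iff.2 ⟨fun x => ?_, fun p => ?_⟩, ?_⟩
  · obtain ⟨i, y, rfl⟩ := hvs x
    have := hR i
    rw [hg, mem_fppfPrecoverage_iff] at this
    obtain ⟨j, z, rfl⟩ := this.1 y
    exact ⟨⟨i, j⟩, z, rfl⟩
  · have := hR p.1
    rw [hg, mem_fppfPrecoverage_iff] at this
    obtain ⟨_, _⟩ := this.2 p.2
    have := hv p.1
    have := hv' p.1
    exact ⟨inferInstance, inferInstance⟩
  · rintro _ _ ⟨⟨i, j⟩⟩
    obtain ⟨s, hs'⟩ := hs i (g i j) (hg i ▸ ⟨j⟩)
    let k : Over.mk ((g i j ≫ (v i).left) ≫ T.hom) ⟶ Over.mk (g i j ≫ (V i).hom) :=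
      Over.homMk (𝟙 _) (by
        show 𝟙 _ ≫ g i j ≫ (V i).hom = _
        rw [Category.id_comp, ← Over.w (v i), Category.assoc]; rfl)
    refine ⟨(yon S).map k ≫ s ≫ q i, ?_⟩
    have e1 : s ≫ q i ≫ π = (yon S).map (Over.homMk (g i j)) ≫ (yon S).map (v i) := by rw [hq, reassoc_of% hs']
    refine (Category.assoc _ _ _).trans ((congrArg (_ ≫ ·) ((Category.assoc _ _ _).trans e1)).trans ?_)
    rw [← Functor.map_comp, ← Functor.map_comp]
    exact congrArg (yon S).map (Over.OverMorphism.ext (Category.id_comp _))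

/-- The left part of a cartesian square over `B`. -/
theorem map_forget {P Q C D : Over B} {f : P ⟶ Q} {g : P ⟶ C} {h : Q ⟶ D} {i : C ⟶ D} (sq : IsPullback f g h i) :
    IsPullback f.left g.left h.left i.left := sq.map (Over.forget B)

section Lift

variable (A : AlgSt.SpQuotObj K₀ G aX) {V : Over S} (f : V ⟶ A.base)

/-- The base change of an action along a morphism of the base. -/
noncomputable def liftAct : GAction G (pullback A.π (AlgSt.bHom f rfl)) where
  act := pullback.lift ((G ◁ pullback.fst _ _) ≫ A.act.act) (snd G _ ≫ pullback.snd _ _)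
    (by rw [Category.assoc, A.cart.w, whiskerLeft_snd_assoc, pullback.condition, Category.assoc])
  one_act := by
    apply pullback.hom_ext
    · rw [Category.assoc, pullback.lift_fst, ← whisker_exchange_assoc, A.act.one_act, leftUnitor_naturality]
    · rw [Category.assoc, pullback.lift_snd, whiskerRight_snd_assoc, leftUnitor_hom]
  mul_act := by
    apply pullback.hom_ext
    · rw [Category.assoc, pullback.lift_fst, ← whisker_exchange_assoc, A.act.mul_act]
      simp only [Category.assoc, pullback.lift_fst]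
      rw [← MonoidalCategory.whiskerLeft_comp_assoc, pullback.lift_fst, MonoidalCategory.whiskerLeft_comp_assoc,
        associator_naturality_right_assoc]
    · simp only [Category.assoc, pullback.lift_snd, whiskerRight_snd_assoc, whiskerLeft_snd_assoc]
      rw [← Category.assoc, ← Category.assoc]
      refine congrArg (· ≫ pullback.snd _ _) ?_
      simp

/-- The chosen lift of a morphism of the base. -/
noncomputable def liftObj : AlgSt.SpQuotObj K₀ G aX where
  base := V
  b := (yon S).map f ≫ A.b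
  P := pullback A.π (AlgSt.bHom f rfl)
  act := liftAct A f
  π := pullback.snd _ _
  cart := IsPullback.of_right (h₁₂ := pullback.fst _ _) (v₁₃ := A.π) (h₂₂ := AlgSt.bHom f rfl) (by
      have := (AlgSt.isPullback_whiskerLeft' (G := G) (pullback.fst A.π (AlgSt.bHom f rfl))).paste_horiz A.cart
      rw [pullback.condition] at this
      simpa [liftAct] using this)
    (by simp [liftAct]) (IsPullback.of_hasPullback _ _)
  loc := hasSecLoc_bc (map_forget (IsPullback.of_hasPullback _ _)) A.loc
  φ := pullback.fst _ _ ≫ A.φ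
  eqv := by
    rw [liftAct, pullback.lift_fst_assoc, Category.assoc, A.eqv, MonoidalCategory.whiskerLeft_comp, Category.assoc]

/-- The chosen lift. -/
noncomputable def liftHom : liftObj A f ⟶ A :=
  { base := f
    wb := rfl
    top := pullback.fst _ _
    eqv := pullback.lift_fst _ _ _
    cart := IsPullback.of_hasPullback _ _
    wφ := rfl }

end Lift

/-- Quotient categories with sheaf torsors are fibred in groupoids. -/
theorem isFibGrpd : FibCat.IsFibGrpd (AlgSt.SpQuotSt K₀ G aX).p where
  exists_lift {A} {V} f := ⟨liftObj A f, liftHom A f, IsHomLift.map (AlgSt.SpQuotSt K₀ G aX).p (liftHom A f)⟩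
  isStronglyCartesian {A' A} φ :=
    { universal_property' := fun {A''} g φ' hφ' => by
        change AlgSt.SpQuotObj K₀ G aX at A''
        have hg : g ≫ φ.base = φ'.base :=
          IsHomLift.eq_of_isHomLift (AlgSt.SpQuotSt K₀ G aX).p (g ≫ (AlgSt.SpQuotSt K₀ G aX).p.map φ) φ'
        have hb : (yon S).map g ≫ A'.b = A''.b := by
          rw [← φ.wb, ← Functor.map_comp_assoc]
          exact (congrArg (fun t => (yon S).map t ≫ A.b) hg).trans φ'.wb
        have hw : φ'.top ≫ A.π = (A''.π ≫ AlgSt.bHom g hb) ≫ AlgSt.bHom φ.base φ.wb := by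
          rw [φ'.cart.w, Category.assoc]
          refine congrArg (A''.π ≫ ·) (Over.OverMorphism.ext ?_)
          show (yon S).map φ'.base = (yon S).map g ≫ (yon S).map φ.base
          rw [← Functor.map_comp, hg]
        let χ : A'' ⟶ A' :=
          { base := g
            wb := hb
            top := φ.cart.lift φ'.top (A''.π ≫ AlgSt.bHom g hb) hw
            eqv := by
              refine φ.cart.hom_ext ?_ ?_
              · rw [Category.assoc, Category.assoc, φ.cart.lift_fst, φ.eqv, ← MonoidalCategory.whiskerLeft_comp_assoc,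
                  φ.cart.lift_fst, φ'.eqv]
              · rw [Category.assoc, Category.assoc, φ.cart.lift_snd, A'.cart.w, whiskerLeft_snd_assoc,
                  φ.cart.lift_snd, ← Category.assoc, A''.cart.w, Category.assoc]
            cart := IsPullback.of_right (h₁₂ := φ.top) (v₁₃ := A.π) (h₂₂ := AlgSt.bHom φ.base φ.wb) (by
                rw [φ.cart.lift_fst]
                convert φ'.cart using 1
                exact Over.OverMorphism.ext (by
                  show (yon S).map g ≫ (yon S).map φ.base = (yon S).map φ'.base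
                  rw [← Functor.map_comp, hg]))
              (φ.cart.lift_snd _ _ _) φ.cart
            wφ := by rw [← φ.wφ, φ.cart.lift_fst_assoc, φ'.wφ] }
        refine ⟨χ, ⟨IsHomLift.map (AlgSt.SpQuotSt K₀ G aX).p χ, AlgSt.SpQuotObj.hom_ext hg (φ.cart.lift_fst _ _ _)⟩, ?_⟩
        rintro χ' ⟨hχ', hc⟩
        have hb' : χ'.base = g := (IsHomLift.eq_of_isHomLift (AlgSt.SpQuotSt K₀ G aX).p g χ').symm
        subst hb'
        refine AlgSt.SpQuotObj.hom_ext rfl (φ.cart.hom_ext ?_ ?_)
        · rw [φ.cart.lift_fst]; exact congrArg AlgSt.SpQuotObj.Hom.top hc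
        · rw [φ.cart.lift_snd]; exact χ'.cart.w }

variable {U : Over S} {R : Sieve U} (H : Stk.sieveCat R ⥤ᵇ AlgSt.SpQuotSt K₀ G aX)

/-- The diagram of a family of torsors tensored with a fixed object. -/
noncomputable def diag (Y : Over B) : (Stk.sieveCat R).obj ⥤ Sp S where
  obj a := (Y ⊗ (H.obj a).P).left
  map φ := (Y ◁ (H.map φ).top).left
  map_id a := by
    rw [H.toFunctor.map_id]
    exact congrArg CommaMorphism.left (MonoidalCategory.whiskerLeft_id Y _)
  map_comp φ ψ := by
    rw [H.toFunctor.map_comp]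
    exact congrArg CommaMorphism.left (MonoidalCategory.whiskerLeft_comp Y (H.map φ).top (H.map ψ).top)

/-- The diagram of the torsors themselves. -/
noncomputable def diag₀ : (Stk.sieveCat R).obj ⥤ Sp S where
  obj a := (H.obj a).P.left
  map φ := (H.map φ).top.left
  map_id a := by rw [H.toFunctor.map_id]; rfl
  map_comp φ ψ := by rw [H.toFunctor.map_comp]; rfl

/-- The projections of the diagram of torsors. -/
noncomputable def proj₀ (a : (Stk.sieveCat R).obj) : (diag₀ H).obj a ⟶ (yon S).obj a.obj.left :=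
  (H.obj a).π.left ≫ (yon S).map (eqToHom (H.w_obj a))

/-- The projections of the tensored diagram. -/
noncomputable def proj (Y : Over B) (a : (Stk.sieveCat R).obj) : (diag H Y).obj a ⟶ (yon S).obj a.obj.left :=
  (snd Y (H.obj a).P).left ≫ proj₀ H a

theorem map_base {a b : (Stk.sieveCat R).obj} (φ : a ⟶ b) :
    (H.map φ).base = eqToHom (H.w_obj a) ≫ φ.hom.left ≫ eqToHom (H.w_obj b).symm := w_map H φ

theorem isCartesianDiagram₀ : IsCartesianDiagram (diag₀ H) (proj₀ H) := fun a b φ => by
  refine IsPullback.paste_vert (map_forget (H.map φ).cart) (IsPullback.of_vert_isIso ⟨?_⟩)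
  show (yon S).map (H.map φ).base ≫ (yon S).map (eqToHom (H.w_obj b)) = _ ≫ (yon S).map φ.hom.left
  rw [← Functor.map_comp, ← Functor.map_comp, map_base H φ]
  simp

theorem isCartesianDiagram (Y : Over B) : IsCartesianDiagram (diag H Y) (proj H Y) := fun a b φ =>
  (map_forget (AlgSt.isPullback_whiskerLeft' (G := Y) (H.map φ).top)).paste_vert (isCartesianDiagram₀ H φ)

variable {H}

theorem cone_obj_pt (c : SieveCone H) : c.pt.base = U := c.obj_pt

theorem cone_base (c : SieveCone H) (a : (Stk.sieveCat R).obj) :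
    (c.e a).base ≫ eqToHom c.obj_pt = eqToHom (H.w_obj a) ≫ a.obj.hom := by
  have := c.lift a
  have h := IsHomLift.fac' (AlgSt.SpQuotSt K₀ G aX).p a.obj.hom (c.e a)
  change (c.e a).base = _ at h
  rw [h]
  simp

/-- The projection of the point of a cone. -/
noncomputable def ptπ (c : SieveCone H) : c.pt.P.left ⟶ (yon S).obj U :=
  c.pt.π.left ≫ (yon S).map (eqToHom c.obj_pt)

theorem isGlued_cone₀ (c : SieveCone H) : IsGlued (diag₀ H) (proj₀ H) c.pt.P.left (ptπ c) fun a => (c.e a).top.left where
  nat a b φ := congrArg (fun t => t.top.left) (c.nat φ)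
  sq a := by
    refine IsPullback.paste_vert (map_forget (c.e a).cart) (IsPullback.of_vert_isIso ⟨?_⟩)
    show (yon S).map (c.e a).base ≫ (yon S).map (eqToHom _) = _ ≫ (yon S).map a.obj.hom
    rw [← Functor.map_comp, ← Functor.map_comp, cone_base]

theorem isGlued_cone (c : SieveCone H) (Y : Over B) : IsGlued (diag H Y) (proj H Y) (Y ⊗ c.pt.P).left
    ((snd Y c.pt.P).left ≫ ptπ c) fun a => (Y ◁ (c.e a).top).left where
  nat a b φ := by
    show (Y ◁ (H.map φ).top).left ≫ (Y ◁ (c.e b).top).left = _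
    have h : (H.map φ).top ≫ (c.e b).top = (c.e a).top := congrArg AlgSt.SpQuotObj.Hom.top (c.nat φ)
    rw [← Over.comp_left, ← MonoidalCategory.whiskerLeft_comp, h]
  sq a := (map_forget (AlgSt.isPullback_whiskerLeft' (G := Y) (c.e a).top)).paste_vert ((isGlued_cone₀ c).sq a)

variable (hR : R ∈ J S U)

include hR in
/-- Cones of torsors are universal. -/
theorem isUniversal (c : SieveCone H) : c.IsUniversal := fun c' => by
  obtain ⟨ψ, hψ, hψu⟩ := (isGlued_cone₀ c).exists_desc hR (isCartesianDiagram₀ H) (fun a => (c'.e a).top.left)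
    (isGlued_cone₀ c').nat
  let w : c.pt.base = c'.pt.base := c.obj_pt.trans c'.obj_pt.symm
  have hb0 : (yon S).map (eqToHom w) ≫ c'.pt.b = c.pt.b := by
    rw [← cancel_epi ((yon S).map (eqToHom c.obj_pt.symm))]
    refine hom_ext_of_covering _ _ hR fun V f hf => ?_
    let a : (Stk.sieveCat R).obj := ob f hf
    have e : ∀ d : SieveCone H, (yon S).map f ≫ (yon S).map (eqToHom d.obj_pt.symm) ≫ d.pt.b =
        (yon S).map (eqToHom (H.w_obj a).symm) ≫ (H.obj a).b := fun d => by
      rw [← (d.e a).wb, ← Functor.map_comp_assoc, ← Functor.map_comp_assoc]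
      refine congrArg (fun t => (yon S).map t ≫ d.pt.b) ?_
      rw [← cancel_mono (eqToHom d.obj_pt), Category.assoc, Category.assoc, cone_base]
      simp [a]
    rw [e c]
    refine Eq.trans ?_ (e c')
    refine congrArg ((yon S).map f ≫ ·) ?_
    rw [← Functor.map_comp_assoc, eqToHom_trans]
  have hψB : ψ ≫ c'.pt.P.hom = c.pt.P.hom := (isGlued_cone₀ c).hom_ext hR (isCartesianDiagram₀ H) fun a => by
    rw [reassoc_of% (hψ a)]
    exact (Over.w (c'.e a).top).trans (Over.w (c.e a).top).symm
  let top : c.pt.P ⟶ c'.pt.P := Over.homMk ψ hψB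
  have htop : ∀ a, (c.e a).top ≫ top = (c'.e a).top := fun a => Over.OverMorphism.ext (hψ a)
  have : IsIso ψ := (isGlued_cone₀ c).isIso_of_comp (isGlued_cone₀ c') hR (isCartesianDiagram₀ H) ψ hψ
  have : IsIso ((Over.forget B).map top) := ‹IsIso ψ›
  have : IsIso top := isIso_of_reflects_iso top (Over.forget B)
  have hbi : IsIso (AlgSt.bHom (eqToHom w) hb0) := by
    have : IsIso ((Over.forget B).map (AlgSt.bHom (eqToHom w) hb0)) :=
      inferInstanceAs (IsIso ((yon S).map (eqToHom w)))
    exact isIso_of_reflects_iso _ (Over.forget B)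
  let φ : c.pt ⟶ c'.pt :=
    { base := eqToHom w
      wb := hb0
      top := top
      eqv := Over.OverMorphism.ext ((isGlued_cone c G).hom_ext hR (isCartesianDiagram H G) fun a => by
        show (G ◁ (c.e a).top).left ≫ c.pt.act.act.left ≫ top.left =
          (G ◁ (c.e a).top).left ≫ (G ◁ top).left ≫ c'.pt.act.act.left
        simp only [← Over.comp_left]
        refine congrArg CommaMorphism.left ?_
        rw [← Category.assoc, ← (c.e a).eqv, Category.assoc, htop, ← MonoidalCategory.whiskerLeft_comp_assoc, htop,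
          (c'.e a).eqv])
      cart := IsPullback.of_horiz_isIso ⟨Over.OverMorphism.ext ((isGlued_cone₀ c).hom_ext hR (isCartesianDiagram₀ H)
        fun a => by
          show (c.e a).top.left ≫ top.left ≫ c'.pt.π.left =
            (c.e a).top.left ≫ c.pt.π.left ≫ (yon S).map (eqToHom w)
          rw [← cancel_mono ((yon S).map (eqToHom c'.obj_pt))]
          simp only [Category.assoc, ← Functor.map_comp, eqToHom_trans]
          refine ((Category.assoc _ _ _).symm.trans (congrArg (· ≫ _) (hψ a))).trans ?_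
          exact (((isGlued_cone₀ c').sq a).w.trans ((isGlued_cone₀ c).sq a).w.symm))⟩
      wφ := Over.OverMorphism.ext ((isGlued_cone₀ c).hom_ext hR (isCartesianDiagram₀ H) fun a => by
        show (c.e a).top.left ≫ top.left ≫ c'.pt.φ.left = (c.e a).top.left ≫ c.pt.φ.left
        simp only [← Over.comp_left]
        rw [reassoc_of% (htop a), (c'.e a).wφ, (c.e a).wφ]) }
  refine ⟨φ, ⟨IsHomLift.of_fac' _ _ φ c.obj_pt c'.obj_pt (by simp [φ, AlgSt.SpQuotObj.forget]), fun a => ?_⟩, ?_⟩
  · refine AlgSt.SpQuotObj.hom_ext ?_ (htop a)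
    show (c.e a).base ≫ eqToHom w = (c'.e a).base
    rw [← cancel_mono (eqToHom c'.obj_pt), Category.assoc, eqToHom_trans, cone_base, cone_base]
  · rintro φ' ⟨hφ', he⟩
    refine AlgSt.SpQuotObj.hom_ext ?_ (Over.OverMorphism.ext (hψu _ fun a =>
      congrArg (fun t => t.top.left) (he a)))
    have h := IsHomLift.fac' (AlgSt.SpQuotSt K₀ G aX).p (𝟙 U) φ'
    change φ'.base = _ at h
    rw [h]
    simp [φ]

include hR in
/-- Families of torsors glue. -/
theorem exists_cone (H : Stk.sieveCat R ⥤ᵇ AlgSt.SpQuotSt K₀ G aX) : Nonempty (SieveCone H) := by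
  obtain ⟨P₀, π₀, e₀, hg⟩ := exists_glued (D := diag₀ H) (πD := proj₀ H) (isCartesianDiagram₀ H)
  have hD₀ := isCartesianDiagram₀ H
  obtain ⟨b, hb, -⟩ := existsUnique_glue (Z := B) hR
    (fun V k hk => (yon S).map (eqToHom (H.w_obj (ob k hk)).symm) ≫ (H.obj (ob k hk)).b)
    fun V' V g k hk => by
      let φ : ob (g ≫ k) (R.downward_closed hk g) ⟶ ob k hk := arr g rfl
      rw [← (H.map φ).wb, ← Functor.map_comp_assoc, ← Functor.map_comp_assoc, map_base H φ]
      simp [φ]
  have hb' : ∀ a : (Stk.sieveCat R).obj, (yon S).map (eqToHom (H.w_obj a) ≫ a.obj.hom) ≫ b = (H.obj a).b := fun a => by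
    rw [Functor.map_comp, Category.assoc]
    refine (congrArg (_ ≫ ·) (hb a.obj.hom a.property)).trans ?_
    refine ((Category.assoc _ _ _).symm.trans ((congrArg (· ≫ _) ?_).trans (Category.id_comp _)))
    refine ((yon S).map_comp _ _).symm.trans ?_
    exact (congrArg (yon S).map ((eqToHom_trans _ _).trans (eqToHom_refl _ _))).trans ((yon S).map_id _)
  let P : Over B := Over.mk (π₀ ≫ b)
  have he : ∀ a, e₀ a ≫ π₀ ≫ b = (H.obj a).P.hom := fun a => by
    rw [reassoc_of% (hg.sq a).w]
    have h := hb' a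
    rw [Functor.map_comp, Category.assoc] at h
    exact (Category.assoc _ _ _).trans ((congrArg (_ ≫ ·) h).trans (Over.w (H.obj a).π))
  let e : ∀ a, (H.obj a).P ⟶ P := fun a => Over.homMk (e₀ a) (he a)
  let π : P ⟶ Over.mk b := Over.homMk π₀ rfl
  have henat : ∀ ⦃a a' : (Stk.sieveCat R).obj⦄ (φ : a ⟶ a'), (H.map φ).top ≫ e a' = e a := fun a a' φ =>
    Over.OverMorphism.ext (hg.nat φ)
  have hgY : ∀ Y : Over B, IsGlued (diag H Y) (proj H Y) (Y ⊗ P).left ((snd Y P).left ≫ π₀)
      fun a => (Y ◁ e a).left := fun Y =>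
    { nat := fun a a' φ => by
        show (Y ◁ (H.map φ).top).left ≫ (Y ◁ e a').left = _
        rw [← Over.comp_left, ← MonoidalCategory.whiskerLeft_comp, henat φ]
      sq := fun a => (map_forget (AlgSt.isPullback_whiskerLeft' (G := Y) (e a))).paste_vert (hg.sq a) }
  have hextY : ∀ {Y Z : Over B} {f g : Y ⊗ P ⟶ Z}, (∀ a, (Y ◁ e a) ≫ f = (Y ◁ e a) ≫ g) → f = g :=
    fun {Y Z f g} h => Over.OverMorphism.ext ((hgY Y).hom_ext hR (isCartesianDiagram H Y)
      fun a => congrArg CommaMorphism.left (h a))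
  obtain ⟨α, hα, -⟩ := (hgY G).exists_desc hR (isCartesianDiagram H G)
    (fun a => ((H.obj a).act.act ≫ e a).left) fun a a' φ => by
      show (G ◁ (H.map φ).top).left ≫ ((H.obj a').act.act ≫ e a').left = _
      rw [← Over.comp_left]
      refine congrArg CommaMorphism.left ?_
      rw [← Category.assoc, ← (H.map φ).eqv, Category.assoc, henat φ]
  have hαB : α ≫ P.hom = (G ⊗ P).hom := (hgY G).hom_ext hR (isCartesianDiagram H G) fun a => by
    rw [reassoc_of% (hα a)]
    exact (Over.w ((H.obj a).act.act ≫ e a)).trans (Over.w (G ◁ e a)).symm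
  let act : G ⊗ P ⟶ P := Over.homMk α hαB
  have hact : ∀ a, (G ◁ e a) ≫ act = (H.obj a).act.act ≫ e a := fun a => Over.OverMorphism.ext (hα a)
  let aP : GAction G P :=
    { act := act
      one_act := hextY fun a => by
        rw [whisker_exchange_assoc, hact, ← Category.assoc, (H.obj a).act.one_act, ← leftUnitor_naturality]
      mul_act := hextY fun a => by
        rw [whisker_exchange_assoc, hact, ← Category.assoc, (H.obj a).act.mul_act,
          associator_naturality_right_assoc, ← MonoidalCategory.whiskerLeft_comp_assoc, hact,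
          MonoidalCategory.whiskerLeft_comp_assoc, hact]
        simp only [Category.assoc] }
  have heπ : ∀ a, e a ≫ π = (H.obj a).π ≫ AlgSt.bHom (eqToHom (H.w_obj a) ≫ a.obj.hom) (hb' a) := fun a =>
    Over.OverMorphism.ext (by
      show e₀ a ≫ π₀ = (H.obj a).π.left ≫ (yon S).map _
      rw [(hg.sq a).w, Functor.map_comp]
      exact Category.assoc _ _ _)
  have hwact : act ≫ π = snd G P ≫ π := hextY fun a => by
    rw [reassoc_of% (hact a), heπ, ← Category.assoc, (H.obj a).cart.w, Category.assoc, ← heπ, whiskerLeft_snd_assoc]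
  have hcart : IsPullback act (snd G P) π π := by
    let cmp : G ⊗ P ⟶ pullback π π := pullback.lift act (snd G P) hwact
    have hg' : IsGlued (diag H G) (proj H G) (pullback π π).left ((pullback.snd π π).left ≫ π₀)
        fun a => ((G ◁ e a) ≫ cmp).left :=
      { nat := fun a a' φ => by
          show (G ◁ (H.map φ).top).left ≫ ((G ◁ e a') ≫ cmp).left = _
          rw [← Over.comp_left, ← MonoidalCategory.whiskerLeft_comp_assoc, henat φ]
        sq := fun a => by
          refine IsPullback.paste_vert ?_ (hg.sq a)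
          refine IsPullback.of_right (h₁₂ := (pullback.fst π π).left) (v₁₃ := π₀) (h₂₂ := π₀) ?_ ?_
            (map_forget (IsPullback.of_hasPullback π π))
          · have h1 : ((G ◁ e a) ≫ cmp).left ≫ (pullback.fst π π).left = ((H.obj a).act.act).left ≫ e₀ a := by
              rw [← Over.comp_left, Category.assoc, pullback.lift_fst, hact]; rfl
            rw [h1, (hg.sq a).w]
            have h2 : IsPullback ((H.obj a).act.act).left (snd G (H.obj a).P).left (proj₀ H a) (proj₀ H a) :=
              (map_forget (H.obj a).cart).of_iso (Iso.refl _) (Iso.refl _) (Iso.refl _)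
                ((yon S).mapIso (eqToIso (H.w_obj a))) (by simp) (by simp) (by simp [proj₀]) (by simp [proj₀])
            exact h2.paste_horiz (hg.sq a)
          · show ((G ◁ e a) ≫ cmp).left ≫ (pullback.snd π π).left = (snd G (H.obj a).P).left ≫ e₀ a
            rw [← Over.comp_left, Category.assoc, pullback.lift_snd, whiskerLeft_snd]
            rfl }
    have : IsIso ((Over.forget B).map cmp) := (hgY G).isIso_of_comp hg' hR (isCartesianDiagram H G) cmp.left fun a => rfl
    have : IsIso cmp := isIso_of_reflects_iso cmp (Over.forget B)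
    exact IsPullback.of_iso_pullback ⟨hwact⟩ (asIso cmp) (pullback.lift_fst _ _ _) (pullback.lift_snd _ _ _)
  obtain ⟨χ, hχ, -⟩ := hg.exists_desc hR hD₀ (fun a => (H.obj a).φ.left)
    fun a a' φ => congrArg CommaMorphism.left (H.map φ).wφ
  have hχB : χ ≫ X.hom = P.hom := hg.hom_ext hR hD₀ fun a => by
    rw [reassoc_of% (hχ a)]
    exact (Over.w (H.obj a).φ).trans (he a).symm
  let φ : P ⟶ X := Over.homMk χ hχB
  have hφ : ∀ a, e a ≫ φ = (H.obj a).φ := fun a => Over.OverMorphism.ext (hχ a)
  have hloc : AlgSt.HasSecLoc K₀ π.left := by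
    obtain ⟨I₀, V, v, hv, hv', hvs, hvR⟩ := exists_fppf_of_mem_J hR
    refine hasSecLoc_of_cover (fun i => (H.obj (ob (v i) (hvR i))).base)
      (fun i => eqToHom (H.w_obj (ob (v i) (hvR i))) ≫ v i)
      (fun i => ?_) (fun i => ?_) (fun x => ?_) (fun i => e₀ (ob (v i) (hvR i)))
      (fun i => (H.obj (ob (v i) (hvR i))).π.left) (fun i => congrArg CommaMorphism.left (heπ (ob (v i) (hvR i))))
      fun i => (H.obj (ob (v i) (hvR i))).loc
    · have := hv i
      show Flat ((eqToHom (H.w_obj (ob (v i) (hvR i)))).left ≫ (v i).left)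
      infer_instance
    · have := hv' i
      show LocallyOfFinitePresentation ((eqToHom (H.w_obj (ob (v i) (hvR i)))).left ≫ (v i).left)
      infer_instance
    · obtain ⟨i, y, rfl⟩ := hvs x
      refine ⟨i, (eqToHom (H.w_obj (ob (v i) (hvR i))).symm).left y, ?_⟩
      show ((eqToHom (H.w_obj (ob (v i) (hvR i))).symm) ≫ (eqToHom (H.w_obj (ob (v i) (hvR i))) ≫ v i)).left y = _
      refine congrArg (fun t : (Stk.sieveCat R).p.obj (ob (v i) (hvR i)) ⟶ U => t.left y) ?_
      exact (Category.assoc _ _ _).symm.trans ((congrArg (· ≫ _) (eqToHom_trans _ _)).trans (Category.id_comp _))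
  let A : AlgSt.SpQuotObj K₀ G aX :=
    { base := U, b := b, P := P, act := aP, π := π, cart := hcart, loc := hloc, φ := φ
      eqv := hextY fun a => by
        show (G ◁ e a) ≫ act ≫ φ = (G ◁ e a) ≫ (G ◁ φ) ≫ aX.act
        rw [reassoc_of% (hact a), hφ, ← MonoidalCategory.whiskerLeft_comp_assoc, hφ]
        exact (H.obj a).eqv }
  let eH : ∀ a, H.obj a ⟶ A := fun a =>
    { base := eqToHom (H.w_obj a) ≫ a.obj.hom
      wb := hb' a
      top := e a
      eqv := (hact a).symm
      cart := by
        refine IsPullback.of_map (Over.forget B) (heπ a) ?_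
        show IsPullback (e₀ a) (H.obj a).π.left π₀ ((yon S).map (eqToHom (H.w_obj a) ≫ a.obj.hom))
        exact (hg.sq a).of_iso (Iso.refl _) (Iso.refl _) ((yon S).mapIso (eqToIso (H.w_obj a))).symm (Iso.refl _)
          (by simp) (by simp [proj₀, eqToHom_map]) (by simp) (by simp [eqToHom_map])
      wφ := hφ a }
  exact ⟨⟨A, rfl, eH, fun a => IsHomLift.of_fac' _ _ (eH a) (H.w_obj a) rfl (by simp [eH, A, AlgSt.SpQuotObj.forget]),
    fun {a a'} g => AlgSt.SpQuotObj.hom_ext (by
      show (H.map g).base ≫ eqToHom (H.w_obj a') ≫ a'.obj.hom = eqToHom (H.w_obj a) ≫ a.obj.hom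
      rw [map_base H g]
      simp) (henat g)⟩⟩

/-- Quotient categories with sheaf torsors are stacks. -/
theorem isStack : Stk.IsStack (J S) (AlgSt.SpQuotSt K₀ G aX) :=
  ⟨isFibGrpd, fun _ _ hR => isStackFor_of_cones isFibGrpd (fun c => isUniversal hR c) (exists_cone hR)⟩

end Groth.Agent.AlgStLib.SpQuot
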