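import Groth.Prelude.Def_AlgSt6
import Groth.Agent.AlgSpDec.FppfFamily

/-!
# Torsors given as sheaves: trivialisations
-/

set_option backward.isDefEq.respectTransparency false
set_option backward.isDefEq.respectTransparency.types false

universe u

open CategoryTheory CategoryTheory.Limits MonoidalCategory CartesianMonoidalCategory AlgebraicGeometry AlgSp
open Groth.Agent.AlgSpLib Groth.Agent.AlgSpDec Groth.Agent.AlgSpPts

namespace Groth.Agent.AlgStLib

variable {S : Scheme.{u}} {B : Sp S} {G : Over B}

/-- The trivial torsor over `h_U` is the base change of `G`. -/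
theorem isPullback_trivial_left (T : Over B) :
    IsPullback (fst G T).left (snd G T).left G.hom T.hom := by
  have h := (AlgSt.isPullback_fst_snd' G T).map (Over.forget B)
  simpa using h

variable [GrpObj G] {K : Precoverage Scheme.{u}} {X : Over B} {aX : GAction G X}

/-- A torsor with a section over `h_U` becomes trivial there. -/
theorem isPullback_of_section (A : AlgSt.SpQuotObj K G aX) {U : Over S} (f : U ⟶ A.base)
    (s : (yon S).obj U ⟶ A.P.left) (hs : s ≫ A.π.left = (yon S).map f) :
    IsPullback ((G ◁ (Over.homMk s (by rw [← Over.w A.π, reassoc_of% hs]; rfl) :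
        Over.mk ((yon S).map f ≫ A.b) ⟶ A.P)) ≫ A.act.act).left
      (snd G (Over.mk ((yon S).map f ≫ A.b))).left A.π.left ((yon S).map f) := by
  have h := ((AlgSt.isPullback_whiskerLeft' (Over.homMk s (by rw [← Over.w A.π, reassoc_of% hs]; rfl) :
        Over.mk ((yon S).map f ≫ A.b) ⟶ A.P)).paste_horiz A.cart).map (Over.forget B)
  simpa [hs] using h

/-- The base change of a torsor to a scheme over which it has a section is the base change of the group. -/
theorem exists_isPullback_of_section (A : AlgSt.SpQuotObj K G aX) {U : Over S} (f : U ⟶ A.base)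
    (s : (yon S).obj U ⟶ A.P.left) (hs : s ≫ A.π.left = (yon S).map f) :
    ∃ (Q : Sp S) (a : Q ⟶ A.P.left) (p : Q ⟶ (yon S).obj U) (c : Q ⟶ G.left),
      IsPullback a p A.π.left ((yon S).map f) ∧ IsPullback c p G.hom ((yon S).map f ≫ A.b) :=
  ⟨_, _, _, _, isPullback_of_section A f s hs, isPullback_trivial_left (Over.mk ((yon S).map f ≫ A.b))⟩

/-- An fppf torsor has sections over the members of an fppf covering by schemes. -/
theorem exists_sections_cover {A : AlgSt.SpQuotObj Scheme.fppfPrecoverage G aX} :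
    ∃ (ι : Type u) (U : ι → Over S) (f : ∀ i, U i ⟶ A.base) (s : ∀ i, (yon S).obj (U i) ⟶ A.P.left),
      (∀ i, s i ≫ A.π.left = (yon S).map (f i)) ∧
      IsFppfCover (fun i => (yon S).obj (U i)) (fun i => (yon S).map (f i)) := by
  obtain ⟨R, hR, hs⟩ := A.loc
  obtain ⟨ι, Z, g', rfl⟩ := Presieve.exists_eq_ofArrows R
  replace hR := (Scheme.ofArrows_mem_precoverage_iff (P := @Flat ⊓ @LocallyOfFinitePresentation)).1 hR
  choose idx hx using hR.1
  let g : ∀ t : A.base.left, Z (idx t) ⟶ A.base.left := fun t => g' (idx t)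
  have hg : ∀ t, Presieve.ofArrows Z g' (g t) := fun t => ⟨idx t⟩
  choose s hs using fun t => hs (g t) (hg t)
  refine ⟨_, fun t => Over.mk (g t ≫ A.base.hom), fun t => Over.homMk (g t), s, hs, fun t => ?_, fun x => ?_⟩
  · have := hR.2 (idx t)
    exact ⟨locP_of_repWith ((repWith_yon_map_iff (P := @Flat) _).2 this.1),
      locP_of_repWith ((repWith_yon_map_iff (P := @LocallyOfFinitePresentation) _).2 this.2)⟩
  · obtain ⟨t, rfl⟩ : ∃ t : A.base.left, Points.ofPt (𝟙 ((yon S).obj A.base)) t = x :=
      surjective_ofPt (repWith_id _ A.base) x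
    obtain ⟨w, hw⟩ := hx t
    refine ⟨t, Points.ofPt (𝟙 _) w, ?_⟩
    rw [Points.map_ofPt, Category.id_comp]
    refine (Eq.trans ?_ (congrArg (Points.ofPt (𝟙 _)) hw))
    have := ofPt_comp (Over.homMk (g t) : Over.mk (g t ≫ A.base.hom) ⟶ A.base) (𝟙 _) w
    rw [Category.comp_id] at this
    exact this

/-- An fppf torsor under a group algebraic space over an algebraic space is an algebraic space. -/
theorem isAlgSpace_torsor (hB : IsAlgSpace B) (hG : IsAlgSpace G.left)
    (A : AlgSt.SpQuotObj Scheme.fppfPrecoverage G aX) : IsAlgSpace A.P.left := by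
  obtain ⟨ι, U, f, s, hs, hcov⟩ := exists_sections_cover (A := A)
  refine isAlgSpace_of_fppf_local (IsAlgSpace.yon_obj A.base) (fun i => IsAlgSpace.yon_obj (U i)) _ hcov A.π.left
    fun i => ?_
  obtain ⟨Q, a, p, c, h1, h2⟩ := exists_isPullback_of_section A (f i) (s i) (hs i)
  exact (isAlgSpace_of_isPullback h2 hG (IsAlgSpace.yon_obj _) hB).of_iso h1.isoPullback

end Groth.Agent.AlgStLib
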