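import Groth.Prelude.Def_AlgSt6
import Groth.Agent.AlgStLib.SpTorsor
import Groth.Agent.AlgStLib.SpQuotStack
import Groth.Agent.AlgStLib.OfSp
import Groth.Agent.FibBase.FpMaps

/-!
# The canonical cover of a quotient stack with sheaf torsors
-/

set_option backward.isDefEq.respectTransparency false
set_option backward.isDefEq.respectTransparency.types false

universe u

open CategoryTheory CategoryTheory.Functor CategoryTheory.Limits MonoidalCategory CartesianMonoidalCategory MonObj
open Opposite AlgebraicGeometry AlgSp Groth.Agent.AlgSpLib Groth.Agent.FibBase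

namespace Groth.Agent.AlgStLib.SpQuot

variable {S : Scheme.{u}} {B : Sp S} {G : Over B} [GrpObj G] {X : Over B} {aX : GAction G X}

local notation "K₀" => Scheme.fppfPrecoverage

/-- The unit section of the trivial torsor. -/
noncomputable abbrev unitSec (T : Over B) : T ⟶ G ⊗ T := lift (toUnit _ ≫ η[G]) (𝟙 _)

theorem whiskerLeft_unitSec_act (T : Over B) :
    (G ◁ unitSec (G := G) T) ≫ (AlgSt.spLeftMul G T).act = 𝟙 _ := by
  apply CartesianMonoidalCategory.hom_ext
  · simp [AlgSt.spLeftMul, comp_mul, Hom.one_def]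
  · simp [AlgSt.spLeftMul]

theorem unitSec_nat {T T' : Over B} (f : T' ⟶ T) : f ≫ unitSec (G := G) T = unitSec (G := G) T' ≫ (G ◁ f) := by
  apply CartesianMonoidalCategory.hom_ext <;> simp

/-- The action extended from a section is equivariant. -/
theorem act_equivariant {A : Over B} (aA : GAction G A) {T : Over B} (s : T ⟶ A) :
    (AlgSt.spLeftMul G T).act ≫ (G ◁ s) ≫ aA.act = (G ◁ ((G ◁ s) ≫ aA.act)) ≫ aA.act := by
  have hμ : fst (G ⊗ G) A ≫ μ[G] = (fst _ _ ≫ fst G G) * (fst _ _ ≫ snd G G) := by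
    rw [Hom.mul_def, ← comp_lift, lift_fst_snd, Category.comp_id]
  have h : (AlgSt.spLeftMul G T).act ≫ (G ◁ s) = (G ◁ (G ◁ s)) ≫ (α_ G G A).inv ≫ (μ[G] ▷ A) := by
    apply CartesianMonoidalCategory.hom_ext
    · simp only [AlgSt.spLeftMul, Category.assoc, lift_fst, lift_snd, lift_fst_assoc, lift_snd_assoc, comp_lift, comp_mul, whiskerLeft_fst, whiskerLeft_snd, whiskerLeft_fst_assoc, whiskerLeft_snd_assoc, whiskerRight_fst, whiskerRight_snd, whiskerRight_fst_assoc, whiskerRight_snd_assoc, associator_inv_fst_fst, associator_inv_fst_snd, associator_inv_snd, associator_inv_fst_fst_assoc, associator_inv_fst_snd_assoc, associator_inv_snd_assoc, hμ]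
    · simp only [AlgSt.spLeftMul, Category.assoc, lift_fst, lift_snd, lift_fst_assoc, lift_snd_assoc, comp_lift, comp_mul, whiskerLeft_fst, whiskerLeft_snd, whiskerLeft_fst_assoc, whiskerLeft_snd_assoc, whiskerRight_fst, whiskerRight_snd, whiskerRight_fst_assoc, whiskerRight_snd_assoc, associator_inv_fst_fst, associator_inv_fst_snd, associator_inv_snd, associator_inv_fst_fst_assoc, associator_inv_fst_snd_assoc, associator_inv_snd_assoc]
  have hm : (G ◁ aA.act) ≫ aA.act = (α_ G G A).inv ≫ (μ[G] ▷ A) ≫ aA.act := by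
    rw [aA.mul_act, Iso.inv_hom_id_assoc]
  rw [MonoidalCategory.whiskerLeft_comp, Category.assoc, hm, reassoc_of% h]

/-- The image of a point under the canonical cover. -/
noncomputable abbrev Q (a : (AlgSt.ofSp X.left).obj) : AlgSt.SpQuotObj K₀ G aX :=
  (AlgSt.spQuotMap K₀ G aX).obj a

/-- The source of the points of a trivial torsor. -/
noncomputable abbrev src (a : (AlgSt.ofSp X.left).obj) : Over B := Over.mk (AlgSt.secYon a ≫ X.hom)

variable {A : AlgSt.SpQuotObj K₀ G aX}

/-- The section attached to a morphism out of a trivial torsor. -/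
noncomputable def secOfHom {a : (AlgSt.ofSp X.left).obj} (m : Q a ⟶ A) : src a ⟶ A.P := unitSec (src a) ≫ m.top

theorem secOfHom_π {a : (AlgSt.ofSp X.left).obj} (m : Q a ⟶ A) :
    secOfHom m ≫ A.π = AlgSt.bHom m.base m.wb := by
  refine (Category.assoc _ _ _).trans ((congrArg (_ ≫ ·) m.cart.w).trans ?_)
  exact (Category.assoc _ _ _).symm.trans ((congrArg (· ≫ _) (lift_snd _ _)).trans (Category.id_comp _))

theorem secOfHom_φ {a : (AlgSt.ofSp X.left).obj} (m : Q a ⟶ A) : secOfHom m ≫ A.φ = AlgSt.secOver a := by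
  refine (Category.assoc _ _ _).trans ((congrArg (_ ≫ ·) m.wφ).trans ?_)
  show unitSec (src a) ≫ (G ◁ AlgSt.secOver a) ≫ aX.act = _
  rw [← Category.assoc, ← unitSec_nat, Category.assoc]
  have : unitSec (G := G) X ≫ aX.act = 𝟙 X := by
    have h : unitSec (G := G) X = (λ_ X).inv ≫ (η[G] ▷ X) := by
      apply CartesianMonoidalCategory.hom_ext <;> simp [toUnit_unique ((λ_ X).inv ≫ fst _ _) (toUnit X)]
    rw [h, Category.assoc, aX.one_act, Iso.inv_hom_id]
  rw [this, Category.comp_id]

theorem hom_top {a : (AlgSt.ofSp X.left).obj} (m : Q a ⟶ A) : m.top = (G ◁ secOfHom m) ≫ A.act.act := by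
  rw [secOfHom, MonoidalCategory.whiskerLeft_comp, Category.assoc, ← m.eqv, ← Category.assoc]
  exact ((congrArg (· ≫ m.top) (whiskerLeft_unitSec_act (src a))).trans (Category.id_comp _)).symm

theorem hom_ext_sec {a : (AlgSt.ofSp X.left).obj} {m m' : Q a ⟶ A} (hb : m.base = m'.base)
    (hs : secOfHom m = secOfHom m') : m = m' :=
  AlgSt.SpQuotObj.hom_ext hb (by rw [hom_top m, hom_top m', hs])

theorem secOfHom_comp {a a' : (AlgSt.ofSp X.left).obj} (k : a' ⟶ a) (m : Q a ⟶ A) :
    (secOfHom ((AlgSt.spQuotMap K₀ G aX).map k ≫ m)).left = (yon S).map k.hom ≫ (secOfHom m).left := by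
  have h := unitSec_nat (G := G) (AlgSt.bHom k.hom (show (yon S).map k.hom ≫ AlgSt.secYon a ≫ X.hom =
    AlgSt.secYon a' ≫ X.hom by rw [← Category.assoc, AlgSt.secYon_comp]))
  exact congrArg CommaMorphism.left ((Category.assoc _ _ _).symm.trans
    ((congrArg (· ≫ m.top) h.symm).trans (Category.assoc _ _ _)))

/-- The morphism out of a trivial torsor attached to a section. -/
noncomputable def homOfSec {a : (AlgSt.ofSp X.left).obj} (t : a.base ⟶ A.base) (s : src a ⟶ A.P)
    (hπ : s.left ≫ A.π.left = (yon S).map t) (hφ : s ≫ A.φ = AlgSt.secOver a) : Q a ⟶ A :=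
  have wb : (yon S).map t ≫ A.b = AlgSt.secYon a ≫ X.hom := by
    rw [← hπ, Category.assoc]
    exact (congrArg (s.left ≫ ·) (Over.w A.π)).trans (Over.w s)
  { base := t
    wb := wb
    top := (G ◁ s) ≫ A.act.act
    eqv := act_equivariant A.act s
    cart := by
      have hs : s ≫ A.π = AlgSt.bHom t wb := Over.OverMorphism.ext hπ
      have h := (AlgSt.isPullback_whiskerLeft' (G := G) s).paste_horiz A.cart
      rw [hs] at h
      exact h
    wφ := by
      show ((G ◁ s) ≫ A.act.act) ≫ A.φ = (G ◁ AlgSt.secOver a) ≫ aX.act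
      rw [Category.assoc, A.eqv, ← MonoidalCategory.whiskerLeft_comp_assoc, hφ] }

theorem secOfHom_homOfSec {a : (AlgSt.ofSp X.left).obj} (t : a.base ⟶ A.base) (s : src a ⟶ A.P) (hπ hφ) :
    secOfHom (homOfSec t s hπ hφ) = s := by
  show unitSec (src a) ≫ (G ◁ s) ≫ A.act.act = s
  rw [← Category.assoc, ← unitSec_nat, Category.assoc]
  have : unitSec (G := G) A.P ≫ A.act.act = 𝟙 A.P := by
    have h : unitSec (G := G) A.P = (λ_ A.P).inv ≫ (η[G] ▷ A.P) := by
      apply CartesianMonoidalCategory.hom_ext <;> simp [toUnit_unique ((λ_ A.P).inv ≫ fst _ _) (toUnit A.P)]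
    rw [h, Category.assoc, A.act.one_act, Iso.inv_hom_id]
  rw [this, Category.comp_id]

variable {U : Over S} (y : FibCat.overCat U ⥤ᵇ AlgSt.SpQuotSt K₀ G aX)

/-- The torsor of a functor out of a slice. -/
abbrev tors : AlgSt.SpQuotObj K₀ G aX := y.obj (Over.mk (𝟙 U))

/-- The projection of the torsor. -/
noncomputable def torsπ : (tors y).P.left ⟶ (yon S).obj U :=
  (tors y).π.left ≫ (yon S).map (eqToHom (y.w_obj (Over.mk (𝟙 U))))

variable (p : (AlgSt.ofSp (tors y).P.left).obj)

/-- The underlying map of a point of the torsor. -/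
noncomputable def ptMap : (yon S).obj p.base ⟶ (tors y).P.left := (J S).uliftYonedaEquiv.symm p.sec

/-- The base of a point of the torsor. -/
noncomputable def ptBase : p.base ⟶ U := (yon S).preimage (ptMap y p ≫ torsπ y)

/-- The image of a point of the torsor in the space acted on. -/
noncomputable def ptX : (AlgSt.ofSp X.left).obj := (AlgSt.ofSpMap (tors y).φ.left).obj p

theorem secYon_ptX : AlgSt.secYon (ptX y p) = ptMap y p ≫ (tors y).φ.left := by
  apply (J S).uliftYonedaEquiv.injective
  rw [GrothendieckTopology.uliftYonedaEquiv_comp, Equiv.apply_symm_apply]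
  exact (congrArg ((tors y).φ.left.hom.app (op p.base)) (Equiv.apply_symm_apply (GrothendieckTopology.uliftYonedaEquiv.{u + 1} (J S)) p.sec)).symm

/-- A point of the torsor as a section. -/
noncomputable def ptSec : src (ptX y p) ⟶ (tors y).P :=
  Over.homMk (ptMap y p) (by
    show ptMap y p ≫ (tors y).P.hom = AlgSt.secYon (ptX y p) ≫ X.hom
    rw [secYon_ptX, Category.assoc, Over.w (tors y).φ])

/-- The morphism out of a trivial torsor attached to a point. -/
noncomputable def ptHom : Q (ptX y p) ⟶ tors y :=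
  homOfSec (ptBase y p ≫ eqToHom (y.w_obj (Over.mk (𝟙 U))).symm) (ptSec y p)
    (by
      show ptMap y p ≫ (tors y).π.left = (yon S).map (ptBase y p ≫ eqToHom _)
      rw [Functor.map_comp, ptBase, Functor.map_preimage, torsπ, Category.assoc, Category.assoc]
      refine congrArg (ptMap y p ≫ ·) ((Category.comp_id _).symm.trans (congrArg (_ ≫ ·) ?_))
      exact ((yon S).map_id _).symm.trans ((congrArg (yon S).map ((eqToHom_refl _ _).symm.trans
        (eqToHom_trans (y.w_obj (Over.mk (𝟙 U))) (y.w_obj (Over.mk (𝟙 U))).symm).symm)).trans ((yon S).map_comp _ _)))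
    (Over.OverMorphism.ext (secYon_ptX y p).symm)

theorem ptHom_lift : (AlgSt.SpQuotSt K₀ G aX).p.IsHomLift (ptBase y p) (ptHom y p) :=
  IsHomLift.of_fac' _ _ (ptHom y p) rfl (y.w_obj _) (Category.id_comp _).symm

theorem exists_ptIso : ∃ e : y.obj (Over.mk (ptBase y p)) ≅ Q (ptX y p),
    (AlgSt.SpQuotSt K₀ G aX).p.IsHomLift (𝟙 p.base) e.hom ∧
      e.hom ≫ ptHom y p = y.map (toId (Over.mk (ptBase y p))) := by
  have := ptHom_lift y p
  have : (AlgSt.SpQuotSt K₀ G aX).p.IsHomLift (ptBase y p) (y.map (toId (Over.mk (ptBase y p)))) :=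
    overMap_isHomLift y (toId (Over.mk (ptBase y p)))
  exact exists_iso_of_lifts (hp := isFibGrpd) (ptBase y p) _ _

/-- A point of the torsor as an object of the fibre product with the cover. -/
noncomputable def ptObj : (FibCat.fp y (AlgSt.spQuotMap K₀ G aX)).obj :=
  ⟨⟨Over.mk (ptBase y p), ptX y p, (exists_ptIso y p).choose⟩, (exists_ptIso y p).choose_spec.1⟩

variable {p} {p' : (AlgSt.ofSp (tors y).P.left).obj} (f : p ⟶ p')

theorem ptMap_comp : (yon S).map f.hom ≫ ptMap y p' = ptMap y p := by
  apply (J S).uliftYonedaEquiv.injective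
  rw [← uliftYonedaEquiv_precomp, ptMap, ptMap, Equiv.apply_symm_apply, Equiv.apply_symm_apply]
  exact f.map_sec

theorem ptBase_comp : f.hom ≫ ptBase y p' = ptBase y p :=
  (yon S).map_injective (by rw [Functor.map_comp, ptBase, ptBase, Functor.map_preimage, Functor.map_preimage,
    ← Category.assoc, ptMap_comp y f])

theorem ptHom_comp : (AlgSt.spQuotMap K₀ G aX).map ((AlgSt.ofSpMap (tors y).φ.left).map f) ≫ ptHom y p' = ptHom y p :=
  hom_ext_sec ((congrArg (f.hom ≫ ·) rfl).trans
    ((Category.assoc _ _ _).symm.trans (congrArg (· ≫ _) (ptBase_comp y f))))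
    (Over.OverMorphism.ext (by
      rw [secOfHom_comp, ptHom, secOfHom_homOfSec, ptHom, secOfHom_homOfSec]
      exact ptMap_comp y f))

/-- A morphism of points as a morphism in the fibre product. -/
noncomputable def ptObjMap : ptObj y p ⟶ ptObj y p' :=
  ObjectProperty.homMk
    { fst := Over.homMk f.hom (ptBase_comp y f)
      snd := (AlgSt.ofSpMap (tors y).φ.left).map f
      w := by
        show y.map (Over.homMk f.hom _) ≫ (exists_ptIso y p').choose.hom =
          (exists_ptIso y p).choose.hom ≫ (AlgSt.spQuotMap K₀ G aX).map ((AlgSt.ofSpMap (tors y).φ.left).map f)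
        have h1 := (exists_ptIso y p).choose_spec
        have h2 := (exists_ptIso y p').choose_spec
        have := h1.1
        have := h2.1
        have := ptHom_lift y p'
        let g : Over.mk (ptBase y p) ⟶ Over.mk (ptBase y p') := Over.homMk f.hom (ptBase_comp y f)
        let k := (AlgSt.spQuotMap K₀ G aX).map ((AlgSt.ofSpMap (tors y).φ.left).map f)
        have : (AlgSt.SpQuotSt K₀ G aX).p.IsHomLift f.hom (y.map g) := overMap_isHomLift y g
        have : (AlgSt.SpQuotSt K₀ G aX).p.IsHomLift f.hom k := IsHomLift.map (AlgSt.SpQuotSt K₀ G aX).p k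
        have : (AlgSt.SpQuotSt K₀ G aX).p.IsHomLift f.hom (y.map g ≫ (exists_ptIso y p').choose.hom) :=
          IsHomLift.comp_lift_id_right' _ f.hom (y.map g) p'.base (exists_ptIso y p').choose.hom
        have : (AlgSt.SpQuotSt K₀ G aX).p.IsHomLift f.hom ((exists_ptIso y p).choose.hom ≫ k) :=
          IsHomLift.comp_lift_id_left' _ p.base (exists_ptIso y p).choose.hom f.hom k
        have := isSC (hp := isFibGrpd) (ptBase y p') (ptHom y p')
        refine IsStronglyCartesian.ext (AlgSt.SpQuotSt K₀ G aX).p (ptBase y p') (ptHom y p') f.hom ?_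
        show (y.map g ≫ _) ≫ _ = ((exists_ptIso y p).choose.hom ≫ k) ≫ _
        rw [Category.assoc, h2.2, Category.assoc, ptHom_comp, h1.2, ← y.toFunctor.map_comp]
        exact congrArg y.map (Over.OverMorphism.ext (ptBase_comp y f)) }

/-- The functor from the torsor to the fibre product with the cover. -/
noncomputable def coverFun : AlgSt.ofSp (tors y).P.left ⥤ᵇ FibCat.fp y (AlgSt.spQuotMap K₀ G aX) where
  toFunctor :=
    { obj := fun p => ptObj y p
      map := fun f => ptObjMap y f
      map_id := fun p => ObjectProperty.hom_ext _ (CategoricalPullback.hom_ext (Over.OverMorphism.ext rfl)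
        ((AlgSt.ofSpMap (tors y).φ.left).toFunctor.map_id p))
      map_comp := fun f g => ObjectProperty.hom_ext _ (CategoricalPullback.hom_ext (Over.OverMorphism.ext rfl)
        ((AlgSt.ofSpMap (tors y).φ.left).toFunctor.map_comp f g)) }
  w := rfl

theorem ptIso_inv_comp : (exists_ptIso y p).choose.inv ≫ y.map (toId (Over.mk (ptBase y p))) = ptHom y p := by
  exact (congrArg (_ ≫ ·) (exists_ptIso y p).choose_spec.2.symm).trans (Iso.inv_hom_id_assoc _ _)

/-- The fibre product with the cover is the torsor. -/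
theorem coverFun_isEquivOver : FibCat.IsEquivOver (coverFun y) := by
  refine isEquivOver_of_exists_iso _ ⟨fun {p p'} m => ?_⟩ ⟨fun {p p'} f g h => ?_⟩ fun θ => ?_
  · let h := m.hom.fst
    let k := m.hom.snd
    have hhk : k.hom = h.left := by
      have := FibCat.fp_isHomLift_snd y (AlgSt.spQuotMap K₀ G aX) m
      have e := IsHomLift.fac' (AlgSt.ofSp X.left).p ((FibCat.fp y (AlgSt.spQuotMap K₀ G aX)).p.map m) k
      exact e.trans ((congrArg (_ ≫ ·) (Category.comp_id _)).trans (Category.id_comp _))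
    have hb : h.left ≫ ptBase y p' = ptBase y p := Over.w h
    have key : (AlgSt.spQuotMap K₀ G aX).map k ≫ ptHom y p' = ptHom y p := by
      have w : y.map h ≫ (exists_ptIso y p').choose.hom = (exists_ptIso y p).choose.hom ≫
          (AlgSt.spQuotMap K₀ G aX).map k := m.hom.w
      rw [← (exists_ptIso y p).choose.inv_hom_id_assoc ((AlgSt.spQuotMap K₀ G aX).map k), ← w, Category.assoc,
        Category.assoc, (exists_ptIso y p').choose_spec.2, ← y.toFunctor.map_comp]
      refine Eq.trans (congrArg (_ ≫ y.map ·) ?_) (ptIso_inv_comp y)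
      exact Over.OverMorphism.ext hb
    have hs : (yon S).map h.left ≫ ptMap y p' = ptMap y p := by
      have e := congrArg (fun t => (secOfHom t).left) key
      rw [secOfHom_comp] at e
      rw [ptHom, secOfHom_homOfSec, ptHom, secOfHom_homOfSec] at e
      rw [← hhk]
      exact e
    refine ⟨⟨h.left, ?_⟩, ObjectProperty.hom_ext _ (CategoricalPullback.hom_ext (Over.OverMorphism.ext rfl)
      (Stk.EltObj.hom_ext hhk.symm))⟩
    have e := congrArg (J S).uliftYonedaEquiv hs
    rw [← uliftYonedaEquiv_precomp] at e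
    exact ((congrArg ((tors y).P.left.obj.map h.left.op) (Equiv.apply_symm_apply _ p'.sec)).symm.trans e).trans
      (Equiv.apply_symm_apply _ p.sec)
  · exact Stk.EltObj.hom_ext (congrArg (fun t => t.hom.fst.left) h)
  · obtain ⟨⟨a, x, i⟩, hi⟩ := θ
    have hi' : (AlgSt.SpQuotSt K₀ G aX).p.IsHomLift (𝟙 a.left) i.hom := hi
    have hx : x.base = a.left := IsHomLift.codomain_eq (AlgSt.SpQuotSt K₀ G aX).p (𝟙 a.left) i.hom
    obtain ⟨W, sec⟩ := x
    obtain rfl : W = a.left := hx
    let m : Q ⟨a.left, sec⟩ ⟶ tors y := i.inv ≫ y.map (toId a)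
    have hm : m.base = a.hom ≫ eqToHom (y.w_obj (Over.mk (𝟙 U))).symm := by
      have : (AlgSt.SpQuotSt K₀ G aX).p.IsHomLift a.hom (y.map (toId a)) := overMap_isHomLift y (toId a)
      have := IsHomLift.lift_id_inv (AlgSt.SpQuotSt K₀ G aX).p a.left i
      have hl : (AlgSt.SpQuotSt K₀ G aX).p.IsHomLift a.hom (i.inv ≫ y.map (toId a)) :=
        IsHomLift.comp_lift_id_left' _ a.left i.inv a.hom (y.map (toId a))
      exact (IsHomLift.fac' (AlgSt.SpQuotSt K₀ G aX).p a.hom (i.inv ≫ y.map (toId a))).trans (Category.id_comp _)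
    let q : (AlgSt.ofSp (tors y).P.left).obj := ⟨a.left, (J S).uliftYonedaEquiv (secOfHom m).left⟩
    have hq : ptMap y q = (secOfHom m).left := Equiv.symm_apply_apply _ _
    have hqb : ptBase y q = a.hom := (yon S).map_injective (by
      rw [ptBase, Functor.map_preimage, hq, torsπ, ← Category.assoc]
      refine (congrArg (· ≫ _) (congrArg CommaMorphism.left (secOfHom_π m))).trans ?_
      show (yon S).map m.base ≫ _ = _
      rw [← Functor.map_comp, hm, Category.assoc, eqToHom_trans, eqToHom_refl]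
      exact congrArg (yon S).map (Category.comp_id _))
    have hqx : ptX y q = ⟨a.left, sec⟩ := congrArg (Stk.EltObj.mk a.left) ((J S).uliftYonedaEquiv.symm.injective (by
      show AlgSt.secYon (ptX y q) = AlgSt.secYon ⟨a.left, sec⟩
      rw [secYon_ptX, hq, ← Over.comp_left, secOfHom_φ]
      rfl))
    let β : Over.mk (ptBase y q) ≅ a := Over.isoMk (Iso.refl _) ((Category.id_comp _).trans hqb.symm)
    refine ⟨q, fpIsoMk β (eqToIso hqx) ?_, ?_⟩
    · show y.map β.hom ≫ i.hom = (exists_ptIso y q).choose.hom ≫ (AlgSt.spQuotMap K₀ G aX).map (eqToHom hqx)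
      have key : (AlgSt.spQuotMap K₀ G aX).map (eqToHom hqx) ≫ m = ptHom y q := by
        refine hom_ext_sec ?_ (Over.OverMorphism.ext ?_)
        · show (eqToHom hqx).hom ≫ m.base = ptBase y q ≫ _
          rw [hm, hqb, show (eqToHom hqx).hom = 𝟙 a.left from (eqToHom_map (Stk.EltObj.forget X.left.obj) hqx).trans (eqToHom_refl _ _)]
          exact Category.id_comp _
        · rw [secOfHom_comp, ptHom, secOfHom_homOfSec,
            show (eqToHom hqx).hom = 𝟙 a.left from (eqToHom_map (Stk.EltObj.forget X.left.obj) hqx).trans (eqToHom_refl _ _)]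
          exact (congrArg (· ≫ _) ((yon S).map_id _)).trans ((Category.id_comp _).trans hq.symm)
      have hc : (exists_ptIso y q).choose.hom ≫ ptHom y q = y.map (toId (Over.mk (ptBase y q))) :=
        (exists_ptIso y q).choose_spec.2
      replace hc := ((congrArg ((exists_ptIso y q).choose.hom ≫ ·) key).trans hc)
      rw [← Category.assoc] at hc
      have h3 : ((exists_ptIso y q).choose.hom ≫ (AlgSt.spQuotMap K₀ G aX).map (eqToHom hqx) ≫ i.inv) ≫ y.map (toId a) =
          y.map β.hom ≫ y.map (toId a) := by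
        rw [Category.assoc, Category.assoc, ← y.toFunctor.map_comp]
        exact ((Category.assoc _ _ _).symm.trans hc).trans (congrArg y.map (Over.OverMorphism.ext
          (((Category.id_comp _).trans hqb.symm).symm)))
      have := (exists_ptIso y q).choose_spec.1
      have := IsHomLift.lift_id_inv (AlgSt.SpQuotSt K₀ G aX).p a.left i
      have : (AlgSt.SpQuotSt K₀ G aX).p.IsHomLift a.hom (y.map (toId a)) := overMap_isHomLift y (toId a)
      have := isSC (hp := isFibGrpd) a.hom (y.map (toId a))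
      have hl1 : (AlgSt.SpQuotSt K₀ G aX).p.IsHomLift (𝟙 a.left) (y.map β.hom) := overMap_isHomLift y β.hom
      have hl0 : (AlgSt.SpQuotSt K₀ G aX).p.IsHomLift (𝟙 a.left) ((AlgSt.spQuotMap K₀ G aX).map (eqToHom hqx)) := by
        rw [eqToHom_map]; exact IsHomLift.of_fac' (AlgSt.SpQuotSt K₀ G aX).p _ _ rfl rfl ((eqToHom_map (AlgSt.SpQuotSt K₀ G aX).p _).trans (by simp))
      have hl2 : (AlgSt.SpQuotSt K₀ G aX).p.IsHomLift (𝟙 a.left)
          ((exists_ptIso y q).choose.hom ≫ (AlgSt.spQuotMap K₀ G aX).map (eqToHom hqx) ≫ i.inv) := inferInstance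
      rw [← IsStronglyCartesian.ext (AlgSt.SpQuotSt K₀ G aX).p a.hom (y.map (toId a)) (𝟙 a.left) h3]
      simp
    · exact fp_isHomLift (F := y) (G := AlgSt.spQuotMap K₀ G aX) (𝟙 a.left) _ (h := IsHomLift.map (Over.forget U) β.hom)

theorem spMapOfOver_coverFun :
    AlgSt.spMapOfOver (BasedFunctor.comp (coverFun y) (FibCat.fpFst y (AlgSt.spQuotMap K₀ G aX))) = torsπ y := by
  refine SheafGlue.hom_ext_points fun W x => (J S).uliftYonedaEquiv.injective ?_
  rw [GrothendieckTopology.uliftYonedaEquiv_comp, GrothendieckTopology.uliftYonedaEquiv_comp]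
  let p : (AlgSt.ofSp (tors y).P.left).obj := ⟨W, (J S).uliftYonedaEquiv x⟩
  have h : (yon S).map (ptBase y p) = x ≫ torsπ y := by
    rw [ptBase, Functor.map_preimage, ptMap, Equiv.symm_apply_apply]
  have h' := congrArg (J S).uliftYonedaEquiv h
  rw [GrothendieckTopology.uliftYonedaEquiv_comp, GrothendieckTopology.uliftYonedaEquiv_uliftYoneda_map] at h'
  refine Eq.trans ?_ h'
  exact ULift.ext _ _ (Category.id_comp _)

/-- A property local on the base and satisfied by the group is satisfied by the projection of every torsor. -/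
theorem property_torsπ (hB : IsAlgSpace B) (hG : IsAlgSpace G.left) {P : MorphismProperty (Sp S)}
    (hPb : StableBC P) (hloc : IsLocalOnBase IsFppfCover P) (hP : P G.hom)
    (A : AlgSt.SpQuotObj K₀ G aX) : P A.π.left := by
  obtain ⟨I, V, f, s, hs, hcov⟩ := exists_sections_cover (A := A)
  choose Qi a q c h1 h2 using fun i => exists_isPullback_of_section A (f i) (s i) (hs i)
  exact (hloc _ _ (IsAlgSpace.yon_obj A.base) (fun i => IsAlgSpace.yon_obj (V i)) hcov A.π.left
    (isAlgSpace_torsor hB hG A) Qi q a (fun i => isAlgSpace_of_isPullback (h2 i) hG (IsAlgSpace.yon_obj _) hB) h1).2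
    fun i => hPb hG hB (isAlgSpace_of_isPullback (h2 i) hG (IsAlgSpace.yon_obj _) hB) (IsAlgSpace.yon_obj _)
      _ _ _ _ (h2 i) hP

/-- The canonical cover of a quotient stack has the properties of the group. -/
theorem repByAlgSpWith_spQuotMap (hB : IsAlgSpace B) (hG : IsAlgSpace G.left) {P : MorphismProperty (Sp S)}
    (hPb : StableBC P) (hloc : IsLocalOnBase IsFppfCover P) (hP : P G.hom) :
    AlgSt.RepByAlgSpWith P (AlgSt.spQuotMap K₀ G aX) := fun U y =>
  ⟨⟨(tors y).P.left, isAlgSpace_torsor hB hG (tors y)⟩, coverFun y, coverFun_isEquivOver y, by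
    rw [spMapOfOver_coverFun, torsπ]
    exact hPb (isAlgSpace_torsor hB hG (tors y)) (IsAlgSpace.yon_obj _) (isAlgSpace_torsor hB hG (tors y))
      (IsAlgSpace.yon_obj _) _ ((yon S).map (eqToHom (y.w_obj (Over.mk (𝟙 U))).symm)) _ (𝟙 _)
      (IsPullback.of_horiz_isIso ⟨by
        rw [Category.id_comp, Category.assoc, ← Functor.map_comp, eqToHom_trans, eqToHom_refl]
        exact (Category.comp_id _).symm.trans (congrArg (_ ≫ ·) ((yon S).map_id _).symm)⟩) (property_torsπ hB hG hPb hloc hP (tors y))⟩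

end Groth.Agent.AlgStLib.SpQuot
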