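import Groth.Agent.AlgStLib.QuasiCompactImm
import Groth.Agent.SpecQuot.Basic
import Mathlib.RingTheory.Spectrum.Prime.Topology
import Mathlib.AlgebraicGeometry.ResidueField

/-!
# Spaces of points of quasi-compact stacks with quasi-compact diagonal are spectral
-/

set_option backward.isDefEq.respectTransparency false
set_option backward.isDefEq.respectTransparency.types false

universe u w

open CategoryTheory CategoryTheory.Functor CategoryTheory.Limits AlgebraicGeometry Opposite AlgSp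

namespace Groth.Agent.AlgStLib

open Groth.Agent.FibBase Groth.Agent.AlgSpLib

variable {S : Scheme.{u}} {𝒳 𝒴 𝒵 : AlgSt.Cat S}

local notation "K₀" => Scheme.fppfPrecoverage

theorem spectralSpace_of_isAffine (X : Scheme.{u}) [IsAffine X] : SpectralSpace ↥X where

/-- A functor out of a stack quasi-compact over the base into one with quasi-compact diagonal. -/
theorem isQuasiCompactMor_of_comp_qc (h𝒳 : AlgSt.IsAlgStack K₀ 𝒳) (h𝒴 : AlgSt.IsAlgStack K₀ 𝒴)
    (h𝒵 : Stk.IsStack (QuotSh.J K₀ S) 𝒵) (hΔ : AlgSt.RepByAlgSp1 (FibCat.diag (FibCat.toSelf 𝒵)))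
    {f : 𝒳 ⥤ᵇ 𝒴} {g : 𝒴 ⥤ᵇ 𝒵} (h : AlgSt.IsQuasiCompactMor K₀ (BasedFunctor.comp f g))
    (hg : AlgSt.RepByAlgSpWith IsQuasiCompactMor (FibCat.diag g)) : AlgSt.IsQuasiCompactMor K₀ f := by
  have hfp := isAlgStack_fp h𝒳 h𝒴 h𝒵 hΔ (BasedFunctor.comp f g) g
  let e₀ : BasedFunctor.comp (BasedFunctor.id 𝒳) (BasedFunctor.comp f g) ≅ BasedFunctor.comp f g := Iso.refl _
  have hgr : AlgSt.RepByAlgSpWith IsQuasiCompactMor (FibCat.fpLift (BasedFunctor.id 𝒳) f e₀) :=
    repByAlgSpWith_graph e₀ hg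
  have hc : AlgSt.IsQuasiCompactMor K₀ (FibCat.fpLift (BasedFunctor.id 𝒳) f e₀) :=
    (repByAlgSpWith_isQuasiCompactMor_iff h𝒳 hfp.isStack hfp.diag (repByAlgSp1_of_repByAlgSpWith hgr)).1 hgr
  exact isQuasiCompactMor_of_iso (Iso.refl _)
    (isQuasiCompactMor_comp hfp h𝒴.isStack h𝒴.diag hc (isQuasiCompactMor_fpSnd g h))

theorem isQuasiCompactMor_of_qc_diag [QuasiSeparatedSpace S] (h𝒳 : AlgSt.IsAlgStack K₀ 𝒳)
    (h𝒴 : AlgSt.IsAlgStack K₀ 𝒴) (f : 𝒳 ⥤ᵇ 𝒴) (hq : AlgSt.IsQuasiCompact 𝒳)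
    (hΔ : AlgSt.RepByAlgSpWith IsQuasiCompactMor (FibCat.diag (FibCat.toSelf 𝒴))) :
    AlgSt.IsQuasiCompactMor K₀ f := by
  refine isQuasiCompactMor_of_comp_qc h𝒳 h𝒴 isStack_selfOver repByAlgSpWith_diag_toSelf_selfOver ?_ hΔ
  rw [eq_toSelf (BasedFunctor.comp f (FibCat.toSelf 𝒴))]
  exact isQuasiCompactMor_toSelf h𝒳 hq

/-- The saturation of the image of a quasi-compact chart is the image of an affine scheme. -/
theorem exists_affine_saturation [QuasiSeparatedSpace S] (h𝒳 : AlgSt.IsAlgStack K₀ 𝒳)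
    (hΔ : AlgSt.RepByAlgSpWith IsQuasiCompactMor (FibCat.diag (FibCat.toSelf 𝒳))) {U W : Over S}
    [CompactSpace U.left] [CompactSpace W.left] (x : FibCat.overCat U ⥤ᵇ 𝒳) (z : FibCat.overCat W ⥤ᵇ 𝒳) :
    ∃ (T : Over S) (k : T ⟶ U), IsAffine T.left ∧
      AlgSt.Points.ofChart x ⁻¹' Set.range (AlgSt.Points.ofChart z) = Set.range k.left := by
  have hz : AlgSt.IsQuasiCompactMor K₀ z :=
    isQuasiCompactMor_of_qc_diag (isAlgStack_overCat W) h𝒳 z (isQuasiCompact_overCat W) hΔ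
  obtain ⟨T, y, hT, -, hy⟩ := hz (FibCat.overCat U) (isAlgStack_overCat U) (isQuasiCompact_overCat U) x
  obtain ⟨k, ⟨ek⟩⟩ := exists_mapB (BasedFunctor.comp y (FibCat.fpFst x z))
  have hk : ∀ s : ↥T.left, AlgSt.Points.map (FibCat.fpFst x z) (AlgSt.Points.ofChart y s) = ptAt U (k.left s) := by
    intro s
    rw [ofChart_eq_map, ← pts_map_comp, ← pts_map_congr ek, ← map_overMap_ptAt]
    rfl
  refine ⟨T, k, hT, Set.ext fun t => ⟨fun ⟨w, hw⟩ => ?_, ?_⟩⟩
  · obtain ⟨p, hp, -⟩ := exists_pts_fp (isFibGrpd_overCat W) h𝒳.isStack.1 (isFibGrpd_overCat U) z x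
      (ptAt U t) (ptAt W w) (by rw [← ofChart_eq_map, ← ofChart_eq_map]; exact hw.symm)
    obtain ⟨s, rfl⟩ := ofChart_surjective (fp_isFibGrpd (isFibGrpd_overCat U) (isFibGrpd_overCat W) h𝒳.isStack.1) hy p
    rw [hk] at hp
    refine ⟨s, ?_⟩
    have := congrArg (toSch U) hp
    rwa [toSch_ptAt, toSch_ptAt] at this
  · rintro ⟨s, rfl⟩
    obtain ⟨w, hw⟩ := ptAt_surjective W (AlgSt.Points.map (FibCat.fpSnd x z) (AlgSt.Points.ofChart y s))
    refine ⟨w, ?_⟩
    rw [ofChart_eq_map, ofChart_eq_map, hw, ← hk, ← pts_map_comp, ← pts_map_comp]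
    exact (pts_map_congr (FibCat.fpIso x z) _).symm

theorem isSpectralMap_of_affine {T U : Over S} (k : T ⟶ U) [IsAffine T.left] [IsAffine U.left] :
    IsSpectralMap k.left :=
  { toContinuous := k.left.continuous
    isCompact_preimage_of_isOpen := fun s ho hc => k.left.isCompact_preimage (U := ⟨s, ho⟩) hc }

/-- The image of an affine chart is spectral. -/
theorem spectralSpace_range_chart [QuasiSeparatedSpace S] (h𝒳 : AlgSt.IsAlgStack K₀ 𝒳)
    (hΔ : AlgSt.RepByAlgSpWith IsQuasiCompactMor (FibCat.diag (FibCat.toSelf 𝒳))) {U : Over S} [IsAffine U.left]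
    {x : FibCat.overCat U ⥤ᵇ 𝒳} (hx : AlgSt.RepByAlgSpWith (LocP @Smooth) x) :
    IsOpen (Set.range (AlgSt.Points.ofChart x)) ∧ SpectralSpace ↥(Set.range (AlgSt.Points.ofChart x)) := by
  have := spectralSpace_of_isAffine U.left
  have hf := h𝒳.isStack.1
  have ho := isOpenMap_ofChart hf (repByAlgSpWith_flat_of_smooth hx) (repByAlgSpWith_lfp_of_smooth hx)
  have hfibre : ∀ A : Set (AlgSt.Points 𝒳),
      Set.rangeFactorization (AlgSt.Points.ofChart x) ⁻¹' (Subtype.val ⁻¹' A) = AlgSt.Points.ofChart x ⁻¹' A :=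
    fun A => rfl
  refine ⟨ho.isOpen_range, ?_⟩
  refine SpecQuot.spectralSpace_quot (f := Set.rangeFactorization (AlgSt.Points.ofChart x))
    (continuous_ofChart hf h𝒳.atlas x).rangeFactorization (ho.subtype_mk _)
    Set.rangeFactorization_surjective (fun V hV hc => ?_) fun u => ?_
  · let W : U.left.Opens := ⟨V, hV⟩
    have : CompactSpace (W : Scheme.{u}) := isCompact_iff_compactSpace.1 hc
    let ι : Over.mk (W.ι ≫ U.hom) ⟶ U := Over.homMk W.ι rfl
    obtain ⟨T, k, hT, e⟩ := @exists_affine_saturation _ _ _ h𝒳 hΔ U (Over.mk (W.ι ≫ U.hom)) _ this x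
      (BasedFunctor.comp (AlgSt.overMap ι) x)
    have he : AlgSt.Points.ofChart x '' V = Set.range (AlgSt.Points.ofChart (BasedFunctor.comp (AlgSt.overMap ι) x)) := by
      ext p
      constructor
      · rintro ⟨v, hv, rfl⟩
        exact ⟨(⟨v, hv⟩ : W), ofChart_overMap ι x _⟩
      · rintro ⟨v, rfl⟩
        exact ⟨ι.left v, v.2, (ofChart_overMap ι x v).symm⟩
    have key : Set.rangeFactorization (AlgSt.Points.ofChart x) '' V =
        Subtype.val ⁻¹' (AlgSt.Points.ofChart x '' V) := by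
      ext p
      constructor
      · rintro ⟨v, hv, rfl⟩; exact ⟨v, hv, rfl⟩
      · rintro ⟨v, hv, hp⟩; exact ⟨v, hv, Subtype.ext hp⟩
    rw [key, hfibre, he, e]
    exact isCompact_range k.left.continuous
  · let ι : Over.mk (U.left.fromSpecResidueField u ≫ U.hom) ⟶ U := Over.homMk (U.left.fromSpecResidueField u) rfl
    have : CompactSpace (Over.mk (U.left.fromSpecResidueField u ≫ U.hom)).left :=
      inferInstanceAs (CompactSpace (Spec (U.left.residueField u)))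
    obtain ⟨T, k, hT, e⟩ := @exists_affine_saturation _ _ _ h𝒳 hΔ U _ _ this x (BasedFunctor.comp (AlgSt.overMap ι) x)
    have hr : Set.range ι.left = {u} := Scheme.range_fromSpecResidueField u
    have he : ({AlgSt.Points.ofChart x u} : Set (AlgSt.Points 𝒳)) =
        Set.range (AlgSt.Points.ofChart (BasedFunctor.comp (AlgSt.overMap ι) x)) := by
      ext p
      constructor
      · rintro rfl
        obtain ⟨v, hv⟩ : u ∈ Set.range ι.left := by rw [hr]; rfl
        exact ⟨v, (ofChart_overMap ι x v).trans (congrArg _ hv)⟩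
      · rintro ⟨v, rfl⟩
        have hv : ι.left v ∈ ({u} : Set ↥U.left) := by rw [← hr]; exact Set.mem_range_self v
        exact (ofChart_overMap ι x v).trans (congrArg _ hv)
    have key : ({Set.rangeFactorization (AlgSt.Points.ofChart x) u} : Set (Set.range (AlgSt.Points.ofChart x))) =
        Subtype.val ⁻¹' {AlgSt.Points.ofChart x u} := by
      ext p
      exact Subtype.ext_iff
    rw [key, hfibre, he, e]
    have := spectralSpace_of_isAffine T.left
    exact SpecQuot.consCompact_range (isSpectralMap_of_affine k)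

/-- Quasi-compact stacks with quasi-compact diagonal have spectral spaces of points. -/
theorem spectralSpace_points [QuasiSeparatedSpace S] (h𝒳 : AlgSt.IsAlgStack K₀ 𝒳)
    (hqc : AlgSt.IsQuasiCompact 𝒳)
    (hΔ : AlgSt.RepByAlgSpWith IsQuasiCompactMor (FibCat.diag (FibCat.toSelf 𝒳))) :
    SpectralSpace (AlgSt.Points 𝒳) := by
  obtain ⟨U, x, hU, hx, hx'⟩ := hqc
  obtain ⟨-, hsp⟩ := spectralSpace_range_chart h𝒳 hΔ (x := x) hx
  have hu := (ofChart_surjective h𝒳.isStack.1 hx').range_eq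
  let e : AlgSt.Points 𝒳 ≃ₜ ↥(Set.range (AlgSt.Points.ofChart x)) :=
    (Homeomorph.Set.univ _).symm.trans (Homeomorph.setCongr hu.symm)
  have : CompactSpace (AlgSt.Points 𝒳) := e.symm.compactSpace
  exact e.isOpenEmbedding.spectralSpace

/-- Stacks with quasi-compact diagonal are locally spectral. -/
theorem locally_spectral [QuasiSeparatedSpace S] (h𝒳 : AlgSt.IsAlgStack K₀ 𝒳)
    (hΔ : AlgSt.RepByAlgSpWith IsQuasiCompactMor (FibCat.diag (FibCat.toSelf 𝒳))) :
    (∀ p : AlgSt.Points 𝒳, ∃ W : Set (AlgSt.Points 𝒳), IsOpen W ∧ p ∈ W ∧ SpectralSpace ↥W) ∧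
      QuasiSober (AlgSt.Points 𝒳) ∧ T0Space (AlgSt.Points 𝒳) := by
  have h1 : ∀ p : AlgSt.Points 𝒳, ∃ W : Set (AlgSt.Points 𝒳), IsOpen W ∧ p ∈ W ∧ SpectralSpace ↥W := by
    intro p
    obtain ⟨V, x, hx, hx'⟩ := h𝒳.atlas
    obtain ⟨t, rfl⟩ := ofChart_surjective h𝒳.isStack.1 hx' p
    obtain ⟨A, hA, ht, -⟩ := exists_isAffineOpen_mem_and_subset (X := V.left) (x := t) (U := ⊤) trivial
    let k : Over.mk (A.ι ≫ V.hom) ⟶ V := Over.homMk A.ι rfl
    have : IsAffine (Over.mk (A.ι ≫ V.hom)).left := hA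
    have hsm : AlgSt.RepByAlgSpWith (LocP @Smooth) (BasedFunctor.comp (AlgSt.overMap k) x) :=
      repByAlgSpWith_locP_comp (isFibGrpd_overCat _) (isFibGrpd_overCat _) (repByAlgSpWith_overMap stableBC_locP
        (locP_of_repWith ((repWith_yon_map_iff _ _).2 (inferInstanceAs (Smooth A.ι))))) hx
    obtain ⟨ho, hs⟩ := spectralSpace_range_chart h𝒳 hΔ hsm
    exact ⟨_, ho, ⟨(⟨t, ht⟩ : A), ofChart_overMap k x _⟩, hs⟩
  choose W hW hpW hWs using h1
  refine ⟨fun p => ⟨W p, hW p, hpW p, hWs p⟩, ?_, ?_⟩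
  · have : ∀ s : Set.range W, QuasiSober ↥(s : Set (AlgSt.Points 𝒳)) := by
      rintro ⟨_, p, rfl⟩; exact (hWs p).toQuasiSober
    refine quasiSober_of_open_cover (Set.range W) (by rintro ⟨_, p, rfl⟩; exact hW p) ?_
    rw [Set.top_eq_univ]
    exact Set.eq_univ_of_forall fun p => ⟨W p, ⟨p, rfl⟩, hpW p⟩
  · exact T0Space.of_open_cover fun p => ⟨W p, hpW p, hW p, (hWs p).toT0Space⟩

end Groth.Agent.AlgStLib
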