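import Groth.Agent.AlgStLib.LocQDescent

/-!
# Universal topological properties of functors representable by algebraic spaces
-/

set_option backward.isDefEq.respectTransparency false
set_option backward.isDefEq.respectTransparency.types false

universe u

open CategoryTheory CategoryTheory.Functor CategoryTheory.Limits AlgebraicGeometry Opposite AlgSp Topology

namespace Groth.Agent.AlgStLib

open Groth.Agent.FibBase Groth.Agent.AlgSpLib

variable {S : Scheme.{u}} {𝒳 𝒴 𝒵 : AlgSt.Cat S}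

local notation "K₀" => Scheme.fppfPrecoverage

/-- The points of a sheaf and of its category agree as spaces for an algebraic space. -/
theorem isHomeomorph_spPt {F : Sp S} (hF : IsAlgSpace F) :
    IsHomeomorph (spPt : AlgSt.Points (AlgSt.ofSp F) → AlgSp.Points F) := by
  have hA := (isAlgStack_ofSp ⟨F, hF⟩).atlas
  have hg : FibCat.IsFibGrpd (AlgSt.ofSp F).p := Stk.isFibGrpd_ofPsh _
  have key : ∀ (T : Over S) (g : (yon S).obj T ⟶ F) (s : ↥T.left),
      spPt (AlgSt.Points.ofChart (overOfMap g) s) = AlgSp.Points.ofPt g s := fun T g s => by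
    rw [ofChart_eq_map, spPt_map_overOfMap]
    show AlgSp.Points.map g (AlgSp.Points.ofPt (𝟙 _) s) = _
    rw [AlgSp.Points.map_ofPt, Category.id_comp]
  refine ⟨?_, ?_, spPt_bijective⟩
  · obtain ⟨T, p, hp, hp'⟩ := hF.atlas
    refine continuous_def.2 fun W hW => ?_
    have hsm : AlgSt.RepByAlgSpWith (LocP @Smooth) (overOfMap p) :=
      repByAlgSpWith_overOfMap stableBC_locP hF (locP_mono etale_le_smooth (locP_of_repWith hp))
    refine isOpen_of_chart hg (x := overOfMap p) (repByAlgSpWith_flat_of_smooth hsm)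
      (repByAlgSpWith_lfp_of_smooth hsm)
      (repByAlgSpWith_overOfMap stableBC_isSurjectiveMor hF (surjective_map_of_repWith hp')) ?_
    convert AlgSp.Points.isOpen_iff.1 hW T p using 1
    ext s; simp only [Set.mem_preimage, key]
  · intro O hO
    refine AlgSp.Points.isOpen_iff.2 fun T g => ?_
    convert hO.preimage (continuous_ofChart hg hA (overOfMap g)) using 1
    ext s
    simp only [Set.mem_preimage, ← key, spPt_bijective.1.mem_set_image]

/-- An equivalence over the base is a homeomorphism on points. -/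
theorem isHomeomorph_pts_map (h𝒳 : AlgSt.IsAlgStack K₀ 𝒳) (h𝒴 : AlgSt.IsAlgStack K₀ 𝒴) {F : 𝒳 ⥤ᵇ 𝒴}
    (h : FibCat.IsEquivOver F) : IsHomeomorph (AlgSt.Points.map F) := by
  obtain ⟨G, -, ⟨i⟩, ⟨j⟩⟩ := isEquivOver_inv h
  refine isHomeomorph_iff_exists_inverse.2
    ⟨continuous_pts_map h𝒴.isStack.1 h𝒴.atlas F, AlgSt.Points.map G, fun x => ?_, fun x => ?_,
      continuous_pts_map h𝒳.isStack.1 h𝒳.atlas G⟩
  · rw [← pts_map_comp, pts_map_congr i, pts_map_id]
  · rw [← pts_map_comp, pts_map_congr j, pts_map_id]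

/-- A property of maps of topological spaces. -/
def SpaceProp : Type (u + 2) :=
  ∀ {X Y : Type (u + 1)} [TopologicalSpace X] [TopologicalSpace Y], (X → Y) → Prop

/-- A property of maps unchanged by homeomorphisms and descending along open continuous surjections in a
weakly cartesian square. -/
structure SpaceProp.Good (Q : SpaceProp.{u}) : Prop where
  congr : ∀ {X Y X' Y' : Type (u + 1)} [TopologicalSpace X] [TopologicalSpace Y] [TopologicalSpace X']
    [TopologicalSpace Y'] (h₁ : X' → X) (h₂ : Y' → Y) (f : X → Y) (f' : X' → Y'), IsHomeomorph h₁ →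
      IsHomeomorph h₂ → (∀ x, f (h₁ x) = h₂ (f' x)) → (Q f ↔ Q f')
  descend : ∀ {T U X Z : Type (u + 1)} [TopologicalSpace T] [TopologicalSpace U] [TopologicalSpace X]
    [TopologicalSpace Z] (q' : T → X) (π' : T → U) (q : U → Z) (π : X → Z), Continuous q' → Continuous π →
      Continuous q → IsOpenMap q → Function.Surjective q → (∀ t, q (π' t) = π (q' t)) →
      (∀ a b, q a = π b → ∃ c, π' c = a ∧ q' c = b) → Q π' → Q π

variable {Q : SpaceProp.{u}} {P : MorphismProperty (Sp S)}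

/-- The equivalence of a scheme-based base change with an algebraic space, on points. -/
theorem iff_spMapOfOver (hQ : Q.Good) (h𝒳 : AlgSt.IsAlgStack K₀ 𝒳) (h𝒴 : AlgSt.IsAlgStack K₀ 𝒴) {f : 𝒳 ⥤ᵇ 𝒴}
    {U : Over S} (y : FibCat.overCat U ⥤ᵇ 𝒴) (F : AlgSp.Space S) (e : AlgSt.ofSp F.obj ⥤ᵇ FibCat.fp y f)
    (he : FibCat.IsEquivOver e) :
    Q (AlgSt.Points.map (FibCat.fpFst y f)) ↔
      Q (AlgSp.Points.map (AlgSt.spMapOfOver (BasedFunctor.comp e (FibCat.fpFst y f)))) := by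
  let a := AlgSt.spMapOfOver (BasedFunctor.comp e (FibCat.fpFst y f))
  have h₁ := isAlgStack_fp (isAlgStack_overCat U) h𝒳 h𝒴.isStack h𝒴.diag y f
  have hU := isAlgStack_ofSp ⟨(yon S).obj U, IsAlgSpace.yon_obj U⟩
  rw [hQ.congr (AlgSt.Points.map e) (AlgSt.Points.map (AlgSt.toOverCat U))
    (AlgSt.Points.map (FibCat.fpFst y f)) (AlgSt.Points.map (AlgSt.ofSpMap a))
    (isHomeomorph_pts_map (isAlgStack_ofSp F) h₁ he)
    (isHomeomorph_pts_map hU (isAlgStack_overCat U) (isEquivOver_toOverCat U))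
    (fun x => by rw [← pts_map_comp, pts_map_congr (isoSpMapOfOver _), pts_map_comp])]
  exact (hQ.congr spPt spPt (AlgSp.Points.map a) (AlgSt.Points.map (AlgSt.ofSpMap a))
    (isHomeomorph_spPt F.property) (isHomeomorph_spPt (IsAlgSpace.yon_obj U))
    (fun x => (spPt_map_ofSpMap a x).symm)).symm

/-- A universal property of base changes to schemes gives the universal property for stacks. -/
theorem univ_of_repByAlgSpWith (hQ : Q.Good) (hP : P = UnivSp fun _ _ a => Q (AlgSp.Points.map a))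
    (h𝒳 : AlgSt.IsAlgStack K₀ 𝒳) (h𝒴 : AlgSt.IsAlgStack K₀ 𝒴) {f : 𝒳 ⥤ᵇ 𝒴}
    (hf : AlgSt.RepByAlgSpWith P f) (h𝒵 : AlgSt.IsAlgStack K₀ 𝒵) (g : 𝒵 ⥤ᵇ 𝒴) :
    Q (AlgSt.Points.map (FibCat.fpFst g f)) := by
  obtain ⟨U, x, hx, hx'⟩ := h𝒵.atlas
  let π := FibCat.fpFst g f
  have hW := isAlgStack_fp h𝒵 h𝒳 h𝒴.isStack h𝒴.diag g f
  have hT := isAlgStack_fp (isAlgStack_overCat U) hW h𝒵.isStack h𝒵.diag x π
  have hV := isAlgStack_fp (isAlgStack_overCat U) h𝒳 h𝒴.isStack h𝒴.diag (BasedFunctor.comp x g) f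
  obtain ⟨F, e, he, ha⟩ := hf U (BasedFunctor.comp x g)
  rw [hP] at ha
  have hQa : Q (AlgSp.Points.map (AlgSt.spMapOfOver (BasedFunctor.comp e
      (FibCat.fpFst (BasedFunctor.comp x g) f)))) :=
    ha (IsAlgSpace.yon_obj U) (𝟙 _) (𝟙 _) _ (IsPullback.of_horiz_isIso ⟨by simp⟩)
  have h' : Q (AlgSt.Points.map (FibCat.fpFst x π)) :=
    (hQ.congr (AlgSt.Points.map (pasteVert x g f)) id (AlgSt.Points.map (FibCat.fpFst (BasedFunctor.comp x g) f))
      (AlgSt.Points.map (FibCat.fpFst x π)) (isHomeomorph_pts_map hT hV (pasteVert_isEquivOver x g f))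
      (Homeomorph.refl _).isHomeomorph
      (fun t => (pts_map_comp (pasteVert x g f) (FibCat.fpFst (BasedFunctor.comp x g) f) t).symm)).1
      ((iff_spMapOfOver hQ h𝒳 h𝒴 _ F e he).2 hQa)
  refine hQ.descend (AlgSt.Points.map (FibCat.fpSnd x π)) (AlgSt.Points.map (FibCat.fpFst x π))
    (AlgSt.Points.map x) (AlgSt.Points.map π) (continuous_pts_map hW.isStack.1 hW.atlas _)
    (continuous_pts_map h𝒵.isStack.1 h𝒵.atlas _) (continuous_pts_map h𝒵.isStack.1 h𝒵.atlas x) ?_ ?_ ?_ ?_ h'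
  · intro O hO
    convert isOpenMap_ofChart h𝒵.isStack.1 (repByAlgSpWith_flat_of_smooth hx) (repByAlgSpWith_lfp_of_smooth hx) _
      (hO.preimage (continuous_ofChart (isFibGrpd_overCat U) (isAlgStack_overCat U).atlas (BasedFunctor.id _)))
      using 1
    ext z
    refine ⟨?_, ?_⟩
    · rintro ⟨w, hw, rfl⟩
      obtain ⟨t, rfl⟩ := ptAt_surjective U w
      exact ⟨t, hw, rfl⟩
    · rintro ⟨t, ht, rfl⟩
      exact ⟨_, ht, rfl⟩
  · intro z
    obtain ⟨t, rfl⟩ := ofChart_surjective h𝒵.isStack.1 hx' z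
    exact ⟨_, (ofChart_eq_map x t).symm⟩
  · intro t
    rw [← pts_map_comp, pts_map_congr (FibCat.fpIso x π), pts_map_comp]
  · exact fun a b h => exists_pts_fp hW.isStack.1 h𝒵.isStack.1 (isFibGrpd_overCat U) π x a b h

/-- Conversely. -/
theorem repByAlgSpWith_of_univ (hQ : Q.Good) (hP : P = UnivSp fun _ _ a => Q (AlgSp.Points.map a))
    (h𝒳 : AlgSt.IsAlgStack K₀ 𝒳) (h𝒴 : AlgSt.IsAlgStack K₀ 𝒴) {f : 𝒳 ⥤ᵇ 𝒴} (hf : AlgSt.RepByAlgSp1 f)
    (h : ∀ (𝒵 : AlgSt.Cat S), AlgSt.IsAlgStack K₀ 𝒵 → ∀ g : 𝒵 ⥤ᵇ 𝒴, Q (AlgSt.Points.map (FibCat.fpFst g f))) :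
    AlgSt.RepByAlgSpWith P f := fun U y => by
  obtain ⟨F, e, he⟩ := hf U y
  refine ⟨F, e, he, ?_⟩
  rw [hP]
  intro Z Z' hZ ξ fst snd sq
  let q := FibCat.fpFst y f
  let a := AlgSt.spMapOfOver (BasedFunctor.comp e q)
  let ξ' := BasedFunctor.comp (AlgSt.ofSpMap ξ) (AlgSt.toOverCat U)
  have hZ' : IsAlgSpace Z' := isAlgSpace_of_isPullback sq F.property hZ (IsAlgSpace.yon_obj U)
  let g := BasedFunctor.comp ξ' y
  let sq' := sq.flip.map (sheafToPresheaf (J S) (Type (u + 1)))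
  let c₁ : AlgSt.ofSp Z' ⥤ᵇ FibCat.fp (AlgSt.ofSpMap ξ) (AlgSt.ofSpMap a) := pshCone sq'.w
  let i : BasedFunctor.comp e q ≅ BasedFunctor.comp (AlgSt.ofSpMap a) (AlgSt.toOverCat U) := isoSpMapOfOver _
  let c₂ : FibCat.fp (AlgSt.ofSpMap ξ) (AlgSt.ofSpMap a) ⥤ᵇ FibCat.fp ξ' q :=
    fpMap (F := ξ') (G := q) (F' := AlgSt.ofSpMap ξ) (G' := AlgSt.ofSpMap a) (a := BasedFunctor.id _)
      (b := e) (c := AlgSt.toOverCat U) (Iso.refl _) i.symm
  have := full_of_isEquivOver (isEquivOver_toOverCat U)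
  have := faithful_of_isEquivOver (isEquivOver_toOverCat U)
  let c := BasedFunctor.comp c₁ (BasedFunctor.comp c₂ (pasteVert ξ' y f))
  have hc : FibCat.IsEquivOver c := isEquivOver_comp (pshCone_isEquivOver sq')
    (isEquivOver_comp (fpMap_isEquivOver _ _ isEquivOver_id he) (pasteVert_isEquivOver ξ' y f))
  have hg := isAlgStack_fp (isAlgStack_ofSp ⟨Z, hZ⟩) h𝒳 h𝒴.isStack h𝒴.diag g f
  exact (hQ.congr spPt spPt (AlgSp.Points.map snd) (AlgSt.Points.map (AlgSt.ofSpMap snd))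
    (isHomeomorph_spPt hZ') (isHomeomorph_spPt hZ) (fun x => (spPt_map_ofSpMap snd x).symm)).2
    ((hQ.congr (AlgSt.Points.map c) id (AlgSt.Points.map (FibCat.fpFst g f)) (AlgSt.Points.map (AlgSt.ofSpMap snd))
      (isHomeomorph_pts_map (isAlgStack_ofSp ⟨Z', hZ'⟩) hg hc) (Homeomorph.refl _).isHomeomorph
      (fun x => (pts_map_comp c (FibCat.fpFst g f) x).symm)).1 (h _ (isAlgStack_ofSp ⟨Z, hZ⟩) g))

/-! ### The five instances -/

theorem good_isOpenMap : SpaceProp.Good.{u} (fun {_ _} _ _ f => IsOpenMap f) where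
  congr h₁ h₂ f f' e₁ e₂ w := by
    have hw : f ∘ h₁ = h₂ ∘ f' := funext w
    refine ⟨fun h O hO => ?_, fun h O hO => ?_⟩
    · rw [← e₂.bijective.injective.preimage_image (f' '' O), ← Set.image_comp, ← hw, Set.image_comp]
      exact (h _ (e₁.isOpenMap _ hO)).preimage e₂.continuous
    · rw [← Set.image_preimage_eq O e₁.bijective.surjective, ← Set.image_comp, hw, Set.image_comp]
      exact e₂.isOpenMap _ (h _ (hO.preimage e₁.continuous))
  descend q' π' q π hq' _ _ hqo hqs w hcart h O hO := by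
    have e : q ⁻¹' (π '' O) = π' '' (q' ⁻¹' O) := by
      ext a
      refine ⟨fun ⟨b, hb, hab⟩ => ?_, ?_⟩
      · obtain ⟨c, rfl, rfl⟩ := hcart a b hab.symm
        exact ⟨c, hb, rfl⟩
      · rintro ⟨c, hc, rfl⟩
        exact ⟨q' c, hc, (w c).symm⟩
    rw [← Set.image_preimage_eq (π '' O) hqs, e]
    exact hqo _ (h _ (hO.preimage hq'))

theorem good_isClosedMap : SpaceProp.Good.{u} (fun {_ _} _ _ f => IsClosedMap f) where
  congr h₁ h₂ f f' e₁ e₂ w := by
    have hw : f ∘ h₁ = h₂ ∘ f' := funext w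
    refine ⟨fun h O hO => ?_, fun h O hO => ?_⟩
    · rw [← e₂.bijective.injective.preimage_image (f' '' O), ← Set.image_comp, ← hw, Set.image_comp]
      exact (h _ (e₁.isClosedMap _ hO)).preimage e₂.continuous
    · rw [← Set.image_preimage_eq O e₁.bijective.surjective, ← Set.image_comp, hw, Set.image_comp]
      exact e₂.isClosedMap _ (h _ (hO.preimage e₁.continuous))
  descend q' π' q π hq' _ _ hqo hqs w hcart h O hO := by
    have e : q ⁻¹' (π '' O) = π' '' (q' ⁻¹' O) := by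
      ext a
      refine ⟨fun ⟨b, hb, hab⟩ => ?_, ?_⟩
      · obtain ⟨c, rfl, rfl⟩ := hcart a b hab.symm
        exact ⟨c, hb, rfl⟩
      · rintro ⟨c, hc, rfl⟩
        exact ⟨q' c, hc, (w c).symm⟩
    rw [← isOpen_compl_iff, ← Set.image_preimage_eq ((π '' O)ᶜ) hqs, Set.preimage_compl, e]
    exact hqo _ (h _ (hO.preimage hq')).isOpen_compl

theorem good_injective : SpaceProp.Good.{u} (fun {_ _} _ _ f => Function.Injective f) where
  congr h₁ h₂ f f' e₁ e₂ w := by
    refine ⟨fun h x y hxy => e₁.bijective.injective (h (by rw [w, w, hxy])), fun h x y hxy => ?_⟩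
    obtain ⟨x, rfl⟩ := e₁.bijective.surjective x
    obtain ⟨y, rfl⟩ := e₁.bijective.surjective y
    rw [w, w] at hxy
    rw [h (e₂.bijective.injective hxy)]
  descend q' π' q π _ _ _ _ hqs w hcart h x y hxy := by
    obtain ⟨a, ha⟩ := hqs (π x)
    obtain ⟨c, hc, rfl⟩ := hcart a x ha
    obtain ⟨d, hd, rfl⟩ := hcart a y (ha.trans hxy)
    rw [h (hc.trans hd.symm)]

theorem good_isQuotientMap : SpaceProp.Good.{u} (fun {_ _} _ _ f => IsQuotientMap f) where
  congr h₁ h₂ f f' e₁ e₂ w := by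
    have hw : f ∘ h₁ = h₂ ∘ f' := funext w
    refine ⟨fun h => ?_, fun h => ?_⟩
    · have h' : IsQuotientMap ((e₂.homeomorph h₂).symm ∘ (f ∘ h₁)) :=
        (e₂.homeomorph h₂).symm.isQuotientMap.comp (h.comp e₁.isQuotientMap)
      rw [hw] at h'
      convert h' using 1
      funext x
      exact ((e₂.homeomorph h₂).symm_apply_apply _).symm
    · have h' : IsQuotientMap ((h₂ ∘ f') ∘ (e₁.homeomorph h₁).symm) :=
        (e₂.isQuotientMap.comp h).comp (e₁.homeomorph h₁).symm.isQuotientMap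
      rw [← hw] at h'
      convert h' using 1
      funext x
      exact (congrArg f ((e₁.homeomorph h₁).apply_symm_apply x)).symm
  descend q' π' q π hq' hπ hq hqo hqs w hcart h := by
    have h1 : IsQuotientMap (q ∘ π') := (hqo.isQuotientMap hq hqs).comp h
    rw [show q ∘ π' = π ∘ q' from funext w] at h1
    exact IsQuotientMap.of_comp hq' hπ h1

theorem good_isHomeomorph : SpaceProp.Good.{u} (fun {_ _} _ _ f => IsHomeomorph f) where
  congr h₁ h₂ f f' e₁ e₂ w := by
    have hw : f ∘ h₁ = h₂ ∘ f' := funext w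
    refine ⟨fun h => ?_, fun h => ?_⟩
    · have h' := (e₂.homeomorph h₂).symm.isHomeomorph.comp (h.comp e₁)
      rw [hw] at h'
      convert h' using 1
      funext x
      exact ((e₂.homeomorph h₂).symm_apply_apply _).symm
    · have h' := (e₂.comp h).comp (e₁.homeomorph h₁).symm.isHomeomorph
      rw [← hw] at h'
      convert h' using 1
      funext x
      exact (congrArg f ((e₁.homeomorph h₁).apply_symm_apply x)).symm
  descend q' π' q π hq' hπ hq hqo hqs w hcart h := by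
    obtain ⟨-, ho, hb⟩ := h
    refine ⟨hπ, ?_, ?_, fun z => ?_⟩
    · exact good_isOpenMap.descend q' π' q π hq' hπ hq hqo hqs w hcart ho
    · exact good_injective.descend q' π' q π hq' hπ hq hqo hqs w hcart hb.injective
    · obtain ⟨a, rfl⟩ := hqs z
      obtain ⟨c, rfl⟩ := hb.surjective a
      exact ⟨q' c, (w c).symm⟩

end Groth.Agent.AlgStLib
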