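import Groth.Agent.AlgStLib.QuasiCompact
import Groth.Agent.AlgStLib.SepUnivClosed
import Groth.Agent.AlgStLib.UnivPts

/-!
# Universally closed functors
-/

set_option linter.style.haveILetI false
set_option linter.unusedSectionVars false
set_option backward.isDefEq.respectTransparency false
set_option backward.isDefEq.respectTransparency.types false

universe u

open CategoryTheory CategoryTheory.Functor CategoryTheory.Limits AlgebraicGeometry Opposite AlgSp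

namespace Groth.Agent.AlgStLib

open Groth.Agent.FibBase Groth.Agent.AlgSpLib

variable {S : Scheme.{u}} {𝒳 𝒴 𝒵 𝒲 : AlgSt.Cat S}

local notation "K₀" => Scheme.fppfPrecoverage
local notation "UC" => AlgSt.IsUnivClosed K₀

theorem pts_map_comp' (F : 𝒳 ⥤ᵇ 𝒴) (G : 𝒴 ⥤ᵇ 𝒵) :
    AlgSt.Points.map (BasedFunctor.comp F G) = AlgSt.Points.map G ∘ AlgSt.Points.map F :=
  funext (pts_map_comp F G)

/-- A functor equivalent to a closed one is closed. -/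
theorem isClosedMap_of_comp_surjective {F : 𝒳 ⥤ᵇ 𝒴} {G : 𝒴 ⥤ᵇ 𝒵} (hF : Continuous (AlgSt.Points.map F))
    (hs : AlgSt.IsSurjective F) (h : IsClosedMap (AlgSt.Points.map (BasedFunctor.comp F G))) :
    IsClosedMap (AlgSt.Points.map G) := fun C hC => by
  have := h _ (hC.preimage hF)
  rwa [pts_map_comp', Set.image_comp, Set.image_preimage_eq _ hs] at this

theorem univClosed_of_iso (h𝒴 : AlgSt.IsAlgStack K₀ 𝒴) (h𝒳 : AlgSt.IsAlgStack K₀ 𝒳) {f f' : 𝒳 ⥤ᵇ 𝒴} (i : f ≅ f')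
    (h : UC f) : UC f' := fun 𝒯 h𝒯 g => by
  let m := fpMap (F := g) (G := f) (F' := g) (G' := f') (a := BasedFunctor.id _) (b := BasedFunctor.id _)
    (c := BasedFunctor.id _) (Iso.refl _) i.symm
  have hm : FibCat.IsEquivOver m := fpMap_isEquivOver _ _ isEquivOver_id isEquivOver_id
  have hh := isHomeomorph_pts_map (isAlgStack_fp h𝒯 h𝒳 h𝒴.isStack h𝒴.diag g f')
    (isAlgStack_fp h𝒯 h𝒳 h𝒴.isStack h𝒴.diag g f) hm
  change IsClosedMap (AlgSt.Points.map (BasedFunctor.comp m (FibCat.fpFst g f)))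
  rw [pts_map_comp']
  exact (h 𝒯 h𝒯 g).comp hh.isClosedMap

theorem univClosed_fpFst (h𝒳 : AlgSt.IsAlgStack K₀ 𝒳) (h𝒴 : AlgSt.IsAlgStack K₀ 𝒴) (h𝒵 : AlgSt.IsAlgStack K₀ 𝒵)
    (g : 𝒵 ⥤ᵇ 𝒴) {f : 𝒳 ⥤ᵇ 𝒴} (h : UC f) : UC (FibCat.fpFst g f) := fun 𝒯 h𝒯 t => by
  have hgf := isAlgStack_fp h𝒵 h𝒳 h𝒴.isStack h𝒴.diag g f
  have hh := isHomeomorph_pts_map (isAlgStack_fp h𝒯 hgf h𝒵.isStack h𝒵.diag t (FibCat.fpFst g f))
    (isAlgStack_fp h𝒯 h𝒳 h𝒴.isStack h𝒴.diag (BasedFunctor.comp t g) f) (pasteVert_isEquivOver t g f)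
  change IsClosedMap (AlgSt.Points.map (BasedFunctor.comp (pasteVert t g f) (FibCat.fpFst (BasedFunctor.comp t g) f)))
  rw [pts_map_comp']
  exact (h 𝒯 h𝒯 (BasedFunctor.comp t g)).comp hh.isClosedMap

theorem univClosed_of_isEquivOver (h𝒳 : AlgSt.IsAlgStack K₀ 𝒳) (h𝒴 : AlgSt.IsAlgStack K₀ 𝒴)
    {e : 𝒳 ⥤ᵇ 𝒴} (he : FibCat.IsEquivOver e) : UC e := fun 𝒯 h𝒯 g => by
  haveI : (BasedFunctor.id 𝒴).toFunctor.Full := inferInstanceAs (𝟭 _).Full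
  haveI : (BasedFunctor.id 𝒴).toFunctor.Faithful := inferInstanceAs (𝟭 _).Faithful
  let m := fpMap (F := g) (G := BasedFunctor.id 𝒴) (F' := g) (G' := e) (a := BasedFunctor.id _) (b := e)
    (c := BasedFunctor.id _) (Iso.refl _) (Iso.refl _)
  have hm : FibCat.IsEquivOver m := fpMap_isEquivOver _ _ isEquivOver_id he
  have hq := isEquivOver_comp hm (fpFst_id_isEquivOver g)
  exact (isHomeomorph_pts_map (isAlgStack_fp h𝒯 h𝒳 h𝒴.isStack h𝒴.diag g e) h𝒯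
    (F := FibCat.fpFst g e) hq).isClosedMap

theorem univClosed_comp (h𝒳 : AlgSt.IsAlgStack K₀ 𝒳) (h𝒴 : AlgSt.IsAlgStack K₀ 𝒴) (h𝒵 : AlgSt.IsAlgStack K₀ 𝒵)
    {f : 𝒳 ⥤ᵇ 𝒴} {g : 𝒴 ⥤ᵇ 𝒵} (hf : UC f) (hg : UC g) : UC (BasedFunctor.comp f g) := fun 𝒯 h𝒯 t => by
  have hP := isAlgStack_fp h𝒯 h𝒴 h𝒵.isStack h𝒵.diag t g
  have hW := isAlgStack_fp hP h𝒳 h𝒴.isStack h𝒴.diag (FibCat.fpSnd t g) f
  have hT := isAlgStack_fp h𝒯 h𝒳 h𝒵.isStack h𝒵.diag t (BasedFunctor.comp f g)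
  have hh := isHomeomorph_pts_map hW hT (pasteHor_isEquivOver t f g)
  refine isClosedMap_of_comp_surjective hh.continuous hh.surjective ?_
  rw [show BasedFunctor.comp (pasteHor t f g) (FibCat.fpFst t (BasedFunctor.comp f g)) =
      BasedFunctor.comp (FibCat.fpFst (FibCat.fpSnd t g) f) (FibCat.fpFst t g) from rfl, pts_map_comp']
  exact (hg 𝒯 h𝒯 t).comp (hf _ hP (FibCat.fpSnd t g))

/-- Universal closedness of a composite passes to the second functor when the first is surjective. -/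
theorem univClosed_of_comp_surjective (h𝒳 : AlgSt.IsAlgStack K₀ 𝒳) (h𝒴 : AlgSt.IsAlgStack K₀ 𝒴)
    (h𝒵 : AlgSt.IsAlgStack K₀ 𝒵) {f : 𝒳 ⥤ᵇ 𝒴} {g : 𝒴 ⥤ᵇ 𝒵} (hs : AlgSt.IsSurjective f)
    (h : UC (BasedFunctor.comp f g)) : UC g := fun 𝒯 h𝒯 t => by
  have hP := isAlgStack_fp h𝒯 h𝒴 h𝒵.isStack h𝒵.diag t g
  have hW := isAlgStack_fp hP h𝒳 h𝒴.isStack h𝒴.diag (FibCat.fpSnd t g) f
  refine isClosedMap_of_comp_surjective (F := FibCat.fpFst (FibCat.fpSnd t g) f)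
    (continuous_pts_map hP.isStack.1 hP.atlas _)
    (pts_surjective_fpFst h𝒳.isStack.1 h𝒴.isStack.1 hP.isStack.1 (FibCat.fpSnd t g) hs) ?_
  rw [show BasedFunctor.comp (FibCat.fpFst (FibCat.fpSnd t g) f) (FibCat.fpFst t g) =
      BasedFunctor.comp (pasteHor t f g) (FibCat.fpFst t (BasedFunctor.comp f g)) from rfl, pts_map_comp']
  exact (h 𝒯 h𝒯 t).comp (isHomeomorph_pts_map hW (isAlgStack_fp h𝒯 h𝒳 h𝒵.isStack h𝒵.diag t (BasedFunctor.comp f g))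
    (pasteHor_isEquivOver t f g)).isClosedMap

/-- A universally closed functor followed by a fully faithful one is detected after composition. -/
theorem univClosed_of_comp_equiv (h𝒳 : AlgSt.IsAlgStack K₀ 𝒳) (h𝒴 : AlgSt.IsAlgStack K₀ 𝒴)
    (h𝒵 : AlgSt.IsAlgStack K₀ 𝒵) {f : 𝒳 ⥤ᵇ 𝒴} {t : 𝒴 ⥤ᵇ 𝒵} (ht : FibCat.IsEquivOver t)
    (h : UC (BasedFunctor.comp f t)) : UC f := fun 𝒯 h𝒯 g => by
  have := full_of_isEquivOver ht
  have := faithful_of_isEquivOver ht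
  let m := fpMap (F := BasedFunctor.comp g t) (G := BasedFunctor.comp f t) (F' := g) (G' := f)
    (a := BasedFunctor.id _) (b := BasedFunctor.id _) (c := t) (Iso.refl _) (Iso.refl _)
  have hm : FibCat.IsEquivOver m := fpMap_isEquivOver _ _ isEquivOver_id isEquivOver_id
  change IsClosedMap (AlgSt.Points.map (BasedFunctor.comp m
    (FibCat.fpFst (BasedFunctor.comp g t) (BasedFunctor.comp f t))))
  rw [pts_map_comp']
  exact (h 𝒯 h𝒯 _).comp (isHomeomorph_pts_map (isAlgStack_fp h𝒯 h𝒳 h𝒴.isStack h𝒴.diag g f)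
    (isAlgStack_fp h𝒯 h𝒳 h𝒵.isStack h𝒵.diag _ _) hm).isClosedMap

/-- A functor represented by universally closed morphisms is universally closed. -/
theorem univClosed_of_repByAlgSpWith (h𝒳 : AlgSt.IsAlgStack K₀ 𝒳) (h𝒴 : AlgSt.IsAlgStack K₀ 𝒴) {f : 𝒳 ⥤ᵇ 𝒴}
    (h : AlgSt.RepByAlgSpWith IsUnivClosedMor f) : UC f := fun _ h𝒵 g =>
  univ_of_repByAlgSpWith good_isClosedMap rfl h𝒳 h𝒴 h h𝒵 g

/-- A representable universally closed functor is represented by universally closed morphisms. -/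
theorem repByAlgSpWith_of_univClosed (h𝒳 : AlgSt.IsAlgStack K₀ 𝒳) (h𝒴 : AlgSt.IsAlgStack K₀ 𝒴) {f : 𝒳 ⥤ᵇ 𝒴}
    (hr : AlgSt.RepByAlgSp1 f) (h : UC f) : AlgSt.RepByAlgSpWith IsUnivClosedMor f :=
  repByAlgSpWith_of_univ good_isClosedMap rfl h𝒳 h𝒴 hr h

end Groth.Agent.AlgStLib
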