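import Groth.Agent.AlgStLib.Small
import Groth.Agent.AlgStLib.Pts
import Groth.Agent.AlgStLib.Stack

/-!
# Substacks cut out by monomorphisms
-/

set_option backward.isDefEq.respectTransparency false
set_option backward.isDefEq.respectTransparency.types false

universe u

open CategoryTheory CategoryTheory.Functor CategoryTheory.Limits AlgebraicGeometry Opposite AlgSp

namespace Groth.Agent.AlgStLib

open Groth.Agent.FibBase Groth.Agent.AlgSpLib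

variable {S : Scheme.{u}} {𝒳 𝒵 : AlgSt.Cat S} {Q : 𝒳.obj → Prop}

theorem isHomLift_fullSub_iff {x y : (AlgSt.fullSub 𝒳 Q).obj} {a b : Over S} (f : a ⟶ b) (φ : x ⟶ y) :
    (AlgSt.fullSub 𝒳 Q).p.IsHomLift f φ ↔ 𝒳.p.IsHomLift f φ.hom :=
  ⟨fun _ => IsHomLift.of_fac 𝒳.p f φ.hom (IsHomLift.domain_eq (AlgSt.fullSub 𝒳 Q).p f φ)
      (IsHomLift.codomain_eq (AlgSt.fullSub 𝒳 Q).p f φ) (IsHomLift.fac (AlgSt.fullSub 𝒳 Q).p f φ),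
    fun _ => IsHomLift.of_fac (AlgSt.fullSub 𝒳 Q).p f φ (IsHomLift.domain_eq 𝒳.p f φ.hom)
      (IsHomLift.codomain_eq 𝒳.p f φ.hom) (IsHomLift.fac 𝒳.p f φ.hom)⟩

/-- A full subcategory stable under passage to the source of morphisms is fibred in groupoids. -/
theorem isFibGrpd_fullSub (h𝒳 : FibCat.IsFibGrpd 𝒳.p) (hQ : ∀ ⦃y x : 𝒳.obj⦄, (y ⟶ x) → Q x → Q y) :
    FibCat.IsFibGrpd (AlgSt.fullSub 𝒳 Q).p := by
  refine ⟨fun {x V} f => ?_, fun {y x} φ => ?_⟩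
  · obtain ⟨y, φ, hφ⟩ := h𝒳.exists_lift (x := x.obj) f
    exact ⟨⟨y, hQ φ x.property⟩, ObjectProperty.homMk φ, (isHomLift_fullSub_iff _ _).2 hφ⟩
  · have := h𝒳.isStronglyCartesian φ.hom
    have : (AlgSt.fullSub 𝒳 Q).p.IsHomLift ((AlgSt.fullSub 𝒳 Q).p.map φ) φ :=
      (isHomLift_fullSub_iff _ _).2 (show 𝒳.p.IsHomLift (𝒳.p.map φ.hom) φ.hom from inferInstance)
    refine { universal_property' := fun {a'} g φ' hφ' => ?_ }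
    have hφ2 : 𝒳.p.IsHomLift (g ≫ 𝒳.p.map φ.hom) φ'.hom := (isHomLift_fullSub_iff (g ≫ 𝒳.p.map φ.hom) φ').1 hφ'
    obtain ⟨χ, ⟨hχ, e⟩, huniq⟩ := Functor.IsStronglyCartesian.universal_property 𝒳.p (𝒳.p.map φ.hom) φ.hom g
      (g ≫ 𝒳.p.map φ.hom) rfl φ'.hom
    exact ⟨ObjectProperty.homMk χ, ⟨(isHomLift_fullSub_iff _ _).2 hχ, ObjectProperty.hom_ext _ e⟩,
      fun χ' ⟨h₁, h₂⟩ => ObjectProperty.hom_ext _ (huniq χ'.hom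
        ⟨(isHomLift_fullSub_iff _ _).1 h₁, congrArg (fun k => k.hom) h₂⟩)⟩

/-- The essential image of a functor over the base. -/
def ImageProp (i : 𝒵 ⥤ᵇ 𝒳) : 𝒳.obj → Prop := fun x => ∃ z, Nonempty (i.obj z ≅ x)

theorem closedUnderIso_imageProp (i : 𝒵 ⥤ᵇ 𝒳) : ObjectProperty.IsClosedUnderIsomorphisms (ImageProp i) :=
  ⟨fun e ⟨z, ⟨j⟩⟩ => ⟨z, ⟨j ≪≫ e⟩⟩⟩

theorem imageProp_of_hom (h𝒵 : FibCat.IsFibGrpd 𝒵.p) (h𝒳 : FibCat.IsFibGrpd 𝒳.p) (i : 𝒵 ⥤ᵇ 𝒳)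
    ⦃y x : 𝒳.obj⦄ (φ : y ⟶ x) (h : ImageProp i x) : ImageProp i y := by
  obtain ⟨z, ⟨j⟩⟩ := h
  let G : 𝒳.p.obj y ⟶ 𝒵.p.obj z := 𝒳.p.map (φ ≫ j.inv) ≫ eqToHom (i.w_obj z)
  obtain ⟨z', ψ, hψ⟩ := h𝒵.exists_lift (x := z) G
  have h₁ : 𝒳.p.IsHomLift G (φ ≫ j.inv) := IsHomLift.of_fac 𝒳.p G _ rfl (i.w_obj z) (Category.id_comp _).symm
  have h₂ : 𝒳.p.IsHomLift G (i.map ψ) := i.preserves_isHomLift G ψ
  obtain ⟨k, -, -⟩ := exists_iso_of_lifts (hp := h𝒳) G (i.map ψ) (φ ≫ j.inv)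
  exact ⟨z', ⟨k.symm⟩⟩

/-- The functor to the essential image. -/
def toImage (i : 𝒵 ⥤ᵇ 𝒳) : 𝒵 ⥤ᵇ AlgSt.fullSub 𝒳 (ImageProp i) where
  toFunctor := ObjectProperty.lift _ i.toFunctor fun z => ⟨z, ⟨Iso.refl _⟩⟩
  w := i.w

theorem toImage_isEquivOver (h𝒵 : FibCat.IsFibGrpd 𝒵.p) (i : 𝒵 ⥤ᵇ 𝒳) [i.toFunctor.Full] [i.toFunctor.Faithful] :
    FibCat.IsEquivOver (toImage i) := by
  refine isEquivOver_of_exists_iso _ ⟨fun t => ⟨i.toFunctor.preimage t.hom,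
    ObjectProperty.hom_ext _ (i.toFunctor.map_preimage t.hom)⟩⟩
    ⟨fun h => i.toFunctor.map_injective (congrArg (fun k => k.hom) h)⟩ fun η => ?_
  obtain ⟨z, ⟨j⟩⟩ := η.property
  let G : 𝒳.p.obj η.obj ⟶ 𝒵.p.obj z := 𝒳.p.map j.inv ≫ eqToHom (i.w_obj z)
  obtain ⟨z', ψ, hψ⟩ := h𝒵.exists_lift (x := z) G
  have : IsIso ψ := Groth.Agent.FibBase.isIso_of_lift (p := 𝒵.p) (hp := h𝒵) G ψ
  have := i.preserves_isHomLift G ψ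
  have h₁ : 𝒳.p.IsHomLift (inv G) j.hom :=
    IsHomLift.of_fac 𝒳.p (inv G) j.hom (i.w_obj z) rfl (by simp [G, Functor.map_inv])
  have h₂ : 𝒳.p.IsHomLift (G ≫ inv G) (i.map ψ ≫ j.hom) := inferInstance
  rw [IsIso.hom_inv_id] at h₂
  exact ⟨z', ObjectProperty.isoMk _ (i.toFunctor.mapIso (asIso ψ) ≪≫ j), (isHomLift_fullSub_iff _ _).2 h₂⟩

theorem range_subIncl_image (h𝒵 : FibCat.IsFibGrpd 𝒵.p) (i : 𝒵 ⥤ᵇ 𝒳) [i.toFunctor.Full] [i.toFunctor.Faithful] :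
    Set.range (AlgSt.Points.map (AlgSt.subIncl 𝒳 (ImageProp i))) = Set.range (AlgSt.Points.map i) := by
  have hb := pts_bijective_of_isEquivOver (toImage_isEquivOver h𝒵 i)
  have key : ∀ x, AlgSt.Points.map (AlgSt.subIncl 𝒳 (ImageProp i)) (AlgSt.Points.map (toImage i) x) =
      AlgSt.Points.map i x := fun x => (pts_map_comp _ _ x).symm
  ext t
  constructor
  · rintro ⟨w, rfl⟩
    obtain ⟨x, rfl⟩ := hb.2 w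
    exact ⟨x, (key x).symm⟩
  · rintro ⟨x, rfl⟩
    exact ⟨_, key x⟩

/-- Two iso-closed properties with the same essential image agree. -/
theorem eq_imageProp_of_factor {i : 𝒵 ⥤ᵇ 𝒳} (hQ : ObjectProperty.IsClosedUnderIsomorphisms Q)
    (i' : 𝒵 ⥤ᵇ AlgSt.fullSub 𝒳 Q) (hi' : FibCat.IsEquivOver i')
    (e : BasedFunctor.comp i' (AlgSt.subIncl 𝒳 Q) ≅ i) : Q = ImageProp i := by
  funext x
  refine propext ⟨fun hx => ?_, fun ⟨z, ⟨j⟩⟩ => hQ.of_iso ((isoApp e z) ≪≫ j) (i'.obj z).property⟩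
  obtain ⟨g, -, -, ⟨k⟩⟩ := isEquivOver_inv hi'
  exact ⟨g.obj ⟨x, hx⟩, ⟨(isoApp e _).symm ≪≫ (ObjectProperty.ι Q).mapIso (isoApp k ⟨x, hx⟩)⟩⟩

end Groth.Agent.AlgStLib

namespace Groth.Agent.AlgStLib

open Groth.Agent.FibBase Groth.Agent.AlgSpLib

variable {S : Scheme.{u}} {𝒳 𝒵 : AlgSt.Cat S} {P : MorphismProperty (Sp S)}

theorem subIncl_image_iff (h𝒵 : FibCat.IsFibGrpd 𝒵.p) (i : 𝒵 ⥤ᵇ 𝒳) [i.toFunctor.Full] [i.toFunctor.Faithful] :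
    AlgSt.RepByAlgSpWith P (AlgSt.subIncl 𝒳 (ImageProp i)) ↔ AlgSt.RepByAlgSpWith P i :=
  repByAlgSpWith_iff_of_square (f := AlgSt.subIncl 𝒳 (ImageProp i)) (f' := i) (a := toImage i)
    (b := BasedFunctor.id _) (toImage_isEquivOver h𝒵 i) isEquivOver_id (Iso.refl _)

theorem isAlgStack_image {K : Precoverage Scheme.{u}} (h𝒵 : AlgSt.IsAlgStack K 𝒵) (i : 𝒵 ⥤ᵇ 𝒳)
    [i.toFunctor.Full] [i.toFunctor.Faithful] : AlgSt.IsAlgStack K (AlgSt.fullSub 𝒳 (ImageProp i)) :=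
  (isAlgStack_iff_of_isEquivOver (toImage_isEquivOver h𝒵.isStack.1 i)).1 h𝒵

theorem exists_unique_substack (h𝒵 : AlgSt.IsAlgStack Scheme.fppfPrecoverage 𝒵)
    (h𝒳 : AlgSt.IsAlgStack Scheme.fppfPrecoverage 𝒳) (i : 𝒵 ⥤ᵇ 𝒳) (hi : AlgSt.IsImm i) :
    ∃ Q : 𝒳.obj → Prop,
      (AlgSt.IsLocClosedSubstack 𝒳 Q Scheme.fppfPrecoverage ∧
        (∃ i' : 𝒵 ⥤ᵇ AlgSt.fullSub 𝒳 Q, FibCat.IsEquivOver i' ∧
          Nonempty (BasedFunctor.comp i' (AlgSt.subIncl 𝒳 Q) ≅ i)) ∧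
        (AlgSt.IsClosedImm i → AlgSt.IsClosedSubstack 𝒳 Q Scheme.fppfPrecoverage) ∧
        (AlgSt.IsOpenImm i → AlgSt.IsOpenSubstack 𝒳 Q Scheme.fppfPrecoverage)) ∧
      ∀ Q' : 𝒳.obj → Prop, AlgSt.IsLocClosedSubstack 𝒳 Q' Scheme.fppfPrecoverage →
        (∃ i' : 𝒵 ⥤ᵇ AlgSt.fullSub 𝒳 Q', FibCat.IsEquivOver i' ∧
          Nonempty (BasedFunctor.comp i' (AlgSt.subIncl 𝒳 Q') ≅ i)) → Q' = Q := by
  obtain ⟨_, _⟩ := full_faithful_of_isMono h𝒳.isStack.1 (isMono_of_isImm hi)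
  have hc := closedUnderIso_imageProp i
  have ha := isAlgStack_image h𝒵 i
  exact ⟨ImageProp i, ⟨⟨hc, ha, (subIncl_image_iff h𝒵.isStack.1 i).2 hi⟩,
    ⟨toImage i, toImage_isEquivOver h𝒵.isStack.1 i, ⟨Iso.refl _⟩⟩,
    fun h => ⟨hc, ha, (subIncl_image_iff h𝒵.isStack.1 i).2 h⟩,
    fun h => ⟨hc, ha, (subIncl_image_iff h𝒵.isStack.1 i).2 h⟩⟩,
    fun Q' hQ' ⟨i', hi', ⟨e⟩⟩ => eq_imageProp_of_factor hQ'.1 i' hi' e⟩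

end Groth.Agent.AlgStLib
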