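import Groth.Agent.AlgStLib.OverSpace
import Groth.Agent.FibBase.Yoneda

/-!
# Objects as functors from slices; faithfulness of representable functors
-/

set_option backward.isDefEq.respectTransparency false
set_option backward.isDefEq.respectTransparency.types false

universe v₂ u₂ v u

open CategoryTheory CategoryTheory.Functor CategoryTheory.Limits AlgebraicGeometry Opposite AlgSp

namespace Groth.Agent.AlgStLib

open Groth.Agent.FibBase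

section General

variable {C : Type u} [Category.{v} C] {𝒳 : BasedCategory.{v₂, u₂} C}

/-- Every 2-morphism into a category fibred in groupoids is invertible. -/
theorem isIso_of_isFibGrpd {𝒜 : BasedCategory.{v, max u v} C} (h : FibCat.IsFibGrpd 𝒳.p) {G H : 𝒜 ⥤ᵇ 𝒳}
    (α : G ⟶ H) : Nonempty (G ≅ H) := by
  have : ∀ a, IsIso (α.toNatTrans.app a) := fun a => by
    have := BasedNatTrans.isHomLift α (a := a) rfl
    exact isIso_of_lift (p := 𝒳.p) (hp := h) (𝟙 (𝒜.p.obj a)) _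
  exact ⟨BasedNatIso.mkNatIso (NatIso.ofComponents (fun a => asIso (α.toNatTrans.app a))
    (fun f => α.toNatTrans.naturality f)) (fun a => BasedNatTrans.isHomLift α rfl)⟩

/-- Two functors from a slice agreeing at the identity are isomorphic. -/
theorem exists_iso_of_eval (h : FibCat.IsFibGrpd 𝒳.p) {U : C} (G H : FibCat.overCat U ⥤ᵇ 𝒳)
    (t : G.obj (Over.mk (𝟙 U)) ⟶ H.obj (Over.mk (𝟙 U))) (ht : 𝒳.p.IsHomLift (𝟙 U) t) : Nonempty (G ≅ H) :=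
  isIso_of_isFibGrpd h (homOfEval (preserves_of_isFibGrpd h H) t ht)

/-- Every object is the value at the identity of a functor from a slice. -/
theorem exists_overCat_obj (h : FibCat.IsFibGrpd 𝒳.p) {U : C} (x : 𝒳.obj) (hx : 𝒳.p.obj x = U) :
    ∃ (G : FibCat.overCat U ⥤ᵇ 𝒳) (e : G.obj (Over.mk (𝟙 U)) ≅ x), 𝒳.p.IsHomLift (𝟙 U) e.hom := by
  have := isFibered_of_isFibGrpd h
  obtain ⟨e⟩ := ofObj_iso (𝒳 := 𝒳) (⟨x, hx⟩ : 𝒳.p.Fiber U)
  exact ⟨ofObj ⟨x, hx⟩, ofFiberIso e, ofFiberIso_lift e⟩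

theorem exists_point_of_hom (h : FibCat.IsFibGrpd 𝒳.p) {U : C} (G : FibCat.overCat U ⥤ᵇ 𝒳) {z : 𝒳.obj}
    (e : G.obj (Over.mk (𝟙 U)) ≅ z) (he : 𝒳.p.IsHomLift (𝟙 U) e.hom) {x : 𝒳.obj} (V : Over U) (φ : x ⟶ z)
    [𝒳.p.IsHomLift V.hom φ] :
    ∃ i : G.obj V ≅ x, 𝒳.p.IsHomLift (𝟙 V.left) i.hom ∧ G.map (toId V) ≫ e.hom = i.hom ≫ φ := by
  have := overMap_isHomLift G (toId V)
  have : 𝒳.p.IsHomLift V.hom (G.map (toId V) ≫ e.hom) :=
    IsHomLift.comp_lift_id_right' 𝒳.p (toId V).left (G.map (toId V)) U e.hom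
  obtain ⟨i, hi, w⟩ := exists_iso_of_lifts (p := 𝒳.p) V.hom φ (G.map (toId V) ≫ e.hom)
  exact ⟨i, hi, w.symm⟩

end General

variable {S : Scheme.{u}} {𝒳 𝒴 : AlgSt.Cat S}

theorem isFibGrpd_overCat (U : Over S) : FibCat.IsFibGrpd (FibCat.overCat U).p := (isFibSet_overForget U).1

theorem isFibGrpd_selfOver : FibCat.IsFibGrpd (FibCat.selfOver (Over S)).p := isFibGrpd_id

theorem faithful_of_repByAlgSp1 (h𝒴 : FibCat.IsFibGrpd 𝒴.p) (f : 𝒳 ⥤ᵇ 𝒴) (hf : AlgSt.RepByAlgSp1 f) :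
    f.toFunctor.Faithful := by
  refine ⟨fun {x z} φ φ' h => ?_⟩
  let U := 𝒳.p.obj z
  obtain ⟨y, e, he⟩ := exists_overCat_obj h𝒴 (U := U) (f.obj z) (f.w_obj z)
  have hfp : (FibCat.fp y f).p.Faithful := (isFibSetoid_iff.1 (isFibSetoid_of_repByAlgSp (hf U y))).2
  let V : Over U := Over.mk (𝒳.p.map φ)
  have : 𝒴.p.IsHomLift V.hom (f.map φ) := f.preserves_isHomLift (𝒳.p.map φ) φ
  obtain ⟨i, hi, w⟩ := exists_point_of_hom h𝒴 y e he V (f.map φ)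
  let oz : (FibCat.fp y f).obj := ⟨⟨Over.mk (𝟙 U), z, e⟩, he⟩
  let ox : (FibCat.fp y f).obj := ⟨⟨V, x, i⟩, hi⟩
  let m : ox ⟶ oz := ObjectProperty.homMk ⟨toId V, φ, w⟩
  let m' : ox ⟶ oz := ObjectProperty.homMk ⟨toId V, φ', w.trans (congrArg (fun t => i.hom ≫ t) h)⟩
  exact congrArg (fun t => t.hom.snd)
    (hfp.map_injective (show (FibCat.fp y f).p.map m = (FibCat.fp y f).p.map m' from rfl))

theorem repByAlgSp1_of_repByAlgSp (hX : AlgSt.RepByAlgSp 𝒳) (hY : AlgSt.RepByAlgSp 𝒴) (f : 𝒳 ⥤ᵇ 𝒴) :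
    AlgSt.RepByAlgSp1 f := by
  obtain ⟨F, a, ha⟩ := hX
  obtain ⟨G, b, hb⟩ := hY
  obtain ⟨b', hb', -, ⟨i⟩⟩ := isEquivOver_inv hb
  let k : AlgSt.ofSp F.obj ⥤ᵇ AlgSt.ofSp G.obj := BasedFunctor.comp a (BasedFunctor.comp f b')
  refine (repByAlgSp1_iff_of_square (f' := k) ha hb (whiskerLeftIso (BasedFunctor.comp a f) i)).2 ?_
  refine repByAlgSp1_of_iso (isoOfSpMap k).symm (repByAlgSp1_of_repBySp ?_)
  exact (repBySp_hom_iff (spHom k)).2 fun U ξ F' fst snd sq =>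
    Groth.Agent.AlgSpLib.isAlgSpace_of_isPullback sq F.property (IsAlgSpace.yon_obj U) G.property

theorem forall_repByAlgSp1_iff (h𝒳 : FibCat.IsFibGrpd 𝒳.p) :
    (∀ (U : Over S) (x : FibCat.overCat U ⥤ᵇ 𝒳), AlgSt.RepByAlgSp1 x) ↔
      ∀ (𝒰 : AlgSt.Cat S), FibCat.IsFibGrpd 𝒰.p → AlgSt.RepByAlgSp 𝒰 → ∀ (x : 𝒰 ⥤ᵇ 𝒳), AlgSt.RepByAlgSp1 x := by
  refine ⟨fun h 𝒰 h𝒰 hr x U y => ?_, fun h U x => h _ (isFibGrpd_overCat U) (repByAlgSp_overCat U) x⟩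
  refine repByAlgSp_of_equiv (fpSwap x y) (fpSwap_isEquivOver x y) ?_
  exact repByAlgSp_fp (isFibGrpd_overCat U) h𝒳 y x (h U y) hr

end Groth.Agent.AlgStLib
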